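import Groth.Agent.AlgSpBasic.LocP
import Mathlib.RingTheory.Smooth.StandardSmoothOfFree
import Mathlib.RingTheory.Etale.Kaehler
import Mathlib.RingTheory.Kaehler.Polynomial

/-!
# Smoothness descends along surjective smooth morphisms on the source
-/

set_option autoImplicit false
set_option linter.style.haveILetI false
set_option backward.isDefEq.respectTransparency.types false
universe u

open CategoryTheory AlgebraicGeometry TensorProduct KaehlerDifferential

namespace Groth.AlgSp2

open Groth.AlgSpBasic

theorem mapBaseChange_injective_of_smooth (A B C : Type u) [CommRing A] [CommRing B] [CommRing C]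
    [Algebra A B] [Algebra B C] [Algebra A C] [IsScalarTower A B C] [Algebra.Smooth B C] :
    Function.Injective (mapBaseChange A B C) := by
  rw [injective_iff_map_eq_zero]
  intro x hx
  obtain ⟨x, rfl⟩ := (Algebra.H1Cotangent.exact_δ_mapBaseChange A B C x).mp hx
  rw [Subsingleton.elim x 0, map_zero]

theorem smooth_of_smooth_ff_of_basis (A B C : Type u) [CommRing A] [CommRing B] [CommRing C]
    [Algebra A B] [Algebra B C] [Algebra A C] [IsScalarTower A B C] [Algebra.Smooth B C]
    [Module.FaithfullyFlat B C] [Algebra.Smooth A C] [Algebra.FinitePresentation A B]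
    {κ : Type u} [Finite κ] (a : κ → B) (b : Module.Basis κ B Ω[B⁄A]) (hb : ∀ i, b i = D A B (a i)) :
    Algebra.Smooth A B := by
  letI : Algebra (MvPolynomial κ A) B := (MvPolynomial.aeval a).toAlgebra
  have : IsScalarTower A (MvPolynomial κ A) B :=
    .of_algebraMap_eq' (MvPolynomial.aeval a).comp_algebraMap.symm
  letI : Algebra (MvPolynomial κ A) C :=
    ((algebraMap B C).comp (algebraMap (MvPolynomial κ A) B)).toAlgebra
  have : IsScalarTower (MvPolynomial κ A) B C := .of_algebraMap_eq' rfl
  have : IsScalarTower A (MvPolynomial κ A) C := .of_algebraMap_eq' <| by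
    rw [IsScalarTower.algebraMap_eq A B C, IsScalarTower.algebraMap_eq A (MvPolynomial κ A) B]; rfl
  have : Algebra.FinitePresentation (MvPolynomial κ A) B :=
    .of_restrict_scalars_finitePresentation A _ _
  have : Algebra.FinitePresentation (MvPolynomial κ A) C :=
    .trans (MvPolynomial κ A) B C
  have hX : ∀ i, algebraMap (MvPolynomial κ A) B (MvPolynomial.X i) = a i :=
    fun i => MvPolynomial.aeval_X a i
  have : Algebra.FormallyUnramified (MvPolynomial κ A) B := by
    refine ⟨subsingleton_of_forall_eq 0 fun z => ?_⟩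
    obtain ⟨w, rfl⟩ := KaehlerDifferential.map_surjective A (MvPolynomial κ A) B z
    have : KaehlerDifferential.map A (MvPolynomial κ A) B B = 0 := b.ext fun i => by
      rw [hb, KaehlerDifferential.map_D, LinearMap.zero_apply, Algebra.algebraMap_self_apply,
        ← hX, Derivation.map_algebraMap]
    rw [this, LinearMap.zero_apply]
  let b₁ := (KaehlerDifferential.mvPolynomialBasis A κ).baseChange C
  let b₂ := b.baseChange C
  have hinj : Function.Injective (mapBaseChange A (MvPolynomial κ A) C) := by
    have : mapBaseChange A (MvPolynomial κ A) C =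
        mapBaseChange A B C ∘ₗ (b₁.equiv b₂ (Equiv.refl κ)).toLinearMap := by
      refine b₁.ext fun i => ?_
      rw [LinearMap.comp_apply, LinearEquiv.coe_coe, Module.Basis.equiv_apply]
      simp only [b₁, b₂, Equiv.refl_apply, Module.Basis.baseChange_apply, mvPolynomialBasis_apply, hb,
        mapBaseChange_tmul, one_smul, map_D]
      rw [IsScalarTower.algebraMap_apply (MvPolynomial κ A) B C, hX]
    rw [this, LinearMap.coe_comp]
    exact (mapBaseChange_injective_of_smooth A B C).comp (LinearEquiv.injective _)
  haveI : Subsingleton (Algebra.H1Cotangent (MvPolynomial κ A) C) := by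
    refine subsingleton_of_forall_eq 0 fun z => ?_
    have hz : Algebra.H1Cotangent.δ A (MvPolynomial κ A) C z = 0 :=
      hinj (by rw [map_zero]; exact (Algebra.H1Cotangent.exact_δ_mapBaseChange A _ C).apply_apply_eq_zero z)
    obtain ⟨w, rfl⟩ := (Algebra.H1Cotangent.exact_map_δ A (MvPolynomial κ A) C z).1 hz
    rw [Subsingleton.elim w 0, map_zero]
  haveI : Module.Projective C Ω[C⁄MvPolynomial κ A] := by
    have hb' : Function.Bijective (KaehlerDifferential.map (MvPolynomial κ A) B C C) :=
      ⟨by
        rw [injective_iff_map_eq_zero]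
        intro x hx
        obtain ⟨y, rfl⟩ :=
          (KaehlerDifferential.exact_mapBaseChange_map (MvPolynomial κ A) B C x).mp hx
        rw [Subsingleton.elim y 0, map_zero],
        KaehlerDifferential.map_surjective (MvPolynomial κ A) B C⟩
    exact Module.Projective.of_equiv (LinearEquiv.ofBijective _ hb').symm
  haveI : Algebra.FormallySmooth (MvPolynomial κ A) C := ⟨inferInstance, inferInstance⟩
  haveI : Algebra.Smooth (MvPolynomial κ A) C := ⟨inferInstance, inferInstance⟩
  have : Module.Flat (MvPolynomial κ A) C := inferInstance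
  have : Module.Flat (MvPolynomial κ A) B := FlatMor2.flat_of_tower (S := C)
  have : Algebra.Etale (MvPolynomial κ A) B := .of_formallyUnramified_of_flat
  have : Algebra.Smooth A (MvPolynomial κ A) := ⟨inferInstance, inferInstance⟩
  exact Algebra.Smooth.comp A (MvPolynomial κ A) B

theorem smooth_of_smooth_faithfullyFlat (A B C : Type u) [CommRing A] [CommRing B] [CommRing C]
    [Algebra A B] [Algebra B C] [Algebra A C] [IsScalarTower A B C] [Algebra.Smooth B C]
    [Module.FaithfullyFlat B C] [Algebra.Smooth A C] : Algebra.Smooth A B := by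
  have : Algebra.FinitePresentation A B :=
    SourceDescent.finitePresentation_of_smooth_surjective A B C
      PrimeSpectrum.comap_surjective_of_faithfullyFlat
  refine ⟨(Algebra.smoothLocus_eq_univ_iff).1 (Set.eq_univ_of_forall fun p => ?_), inferInstance⟩
  have : Module.Flat C (C ⊗[B] Ω[B⁄A]) :=
    by
      obtain ⟨l, hl⟩ := Module.projective_lifting_property (KaehlerDifferential.map A B C C)
        LinearMap.id (KaehlerDifferential.map_surjective A B C)
      obtain ⟨e, he, -⟩ := (KaehlerDifferential.exact_mapBaseChange_map A B C).splitSurjectiveEquiv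
        (mapBaseChange_injective_of_smooth A B C) ⟨l, hl⟩
      refine Module.Flat.of_retract (mapBaseChange A B C)
        (LinearMap.fst C _ _ ∘ₗ e.toLinearMap) ?_
      ext x
      simp [he]
  have : Module.Flat B Ω[B⁄A] := Module.Flat.of_flat_tensorProduct _ _ C
  have : Module.Projective B Ω[B⁄A] := Module.Flat.projective_of_finitePresentation
  let Bp := Localization.AtPrime p.asIdeal
  let l₂ : Ω[B⁄A] →ₗ[B] Ω[Bp⁄A] := KaehlerDifferential.map A A B Bp
  have : Module.Flat Bp Ω[Bp⁄A] :=
    .of_linearEquiv (KaehlerDifferential.tensorKaehlerEquivOfFormallyEtale A B Bp).symm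
  have : Module.FinitePresentation Bp Ω[Bp⁄A] :=
    FinitePresentation.of_isBaseChange l₂
      (IsLocalizedModule.isBaseChange p.asIdeal.primeCompl Bp l₂)
  obtain ⟨κ, a, b, hb⟩ := Module.exists_basis_of_span_of_flat _
    (span_range_map_derivation_of_isLocalization A B Bp p.asIdeal.primeCompl)
  let e : (κ →₀ B) →ₗ[B] Ω[B⁄A] := Finsupp.linearCombination B fun i : κ ↦ D A B (a i)
  let l₁ : (κ →₀ B) →ₗ[B] (κ →₀ Bp) := Finsupp.mapRange.linearMap (Algebra.linearMap B Bp)
  let eₚ : (κ →₀ Bp) →ₗ[Bp] Ω[Bp⁄A] :=
    IsLocalizedModule.mapExtendScalars p.asIdeal.primeCompl l₁ l₂ Bp e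
  have : eₚ = b.repr.symm := by
    ext i
    trans IsLocalizedModule.map p.asIdeal.primeCompl l₁ l₂ e <| l₁ <| Finsupp.single i 1
    · simp [eₚ, -IsLocalizedModule.map_apply, l₁]
    · simp [l₂, e, hb]
  have heₚ : Function.Bijective eₚ := this ▸ b.repr.symm.bijective
  have : Finite κ := Module.Finite.finite_basis b
  obtain ⟨g, hg, h⟩ := Module.FinitePresentation.exists_notMem_bijective e p.asIdeal l₁ l₂ heₚ
  let B' := Localization.Away g
  let l₁ₜ : (κ →₀ B) →ₗ[B] (κ →₀ B') := Finsupp.mapRange.linearMap (Algebra.linearMap B _)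
  let l₂ₜ : Ω[B⁄A] →ₗ[B] Ω[B'⁄A] := KaehlerDifferential.map A A B B'
  rw [← IsLocalizedModule.map_bijective_iff_localizedModuleMap_bijective l₁ₜ l₂ₜ] at h
  let eₜ' : (κ →₀ B') →ₗ[B'] Ω[B'⁄A] :=
    IsLocalizedModule.mapExtendScalars (Submonoid.powers g) l₁ₜ l₂ₜ B' e
  let b' : Module.Basis κ B' Ω[B'⁄A] := .ofRepr (LinearEquiv.ofBijective eₜ' h).symm
  have : Algebra.Smooth A (B' ⊗[B] C) := by
    letI : Algebra C (B' ⊗[B] C) := Algebra.TensorProduct.rightAlgebra
    have : IsScalarTower A C (B' ⊗[B] C) := .of_algebraMap_eq fun x => by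
      rw [Algebra.TensorProduct.algebraMap_apply, IsScalarTower.algebraMap_apply A B C,
        IsScalarTower.algebraMap_apply A B B']
      simp [RingHom.algebraMap_toAlgebra, Algebra.algebraMap_eq_smul_one, TensorProduct.smul_tmul]
    have : Algebra.Smooth B B' := ⟨inferInstance, IsLocalization.Away.finitePresentation g⟩
    have : Algebra.Smooth C (B' ⊗[B] C) :=
      .of_equiv (AlgEquiv.ofRingEquiv (f := (Algebra.TensorProduct.comm B C B').toRingEquiv)
        (fun x => by simp [RingHom.algebraMap_toAlgebra]))
    exact Algebra.Smooth.comp A C (B' ⊗[B] C)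
  have : Algebra.FinitePresentation B B' := IsLocalization.Away.finitePresentation g
  have : Algebra.FinitePresentation A B' := .trans A B B'
  have hb' : ∀ i, b' i = D A B' (algebraMap B B' (a i)) := fun i => by
    simp +zetaDelta [IsLocalizedModule.map_linearCombination]
  have hs := smooth_of_smooth_ff_of_basis A B' (B' ⊗[B] C) _ b' hb'
  exact (Algebra.basicOpen_subset_smoothLocus_iff_smooth.2 hs) hg

theorem smooth_of_comp_surjective_smooth {W X Z : Scheme.{u}} (χ : W ⟶ X) (h : X ⟶ Z)
    [Surjective χ] [Smooth χ] [Smooth (χ ≫ h)] : Smooth h :=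
  SourceDescent.of_comp_surjective_of_ring @Smooth @Smooth (fun _ _ f (_ : Smooth f) => f.isOpenMap)
    (fun {A B C} f g hg hs hfg => by
      algebraize [f.hom, g.hom, g.hom.comp f.hom]
      have : Algebra.Smooth B C := hg.toAlgebra
      have : Algebra.Smooth A C := hfg.toAlgebra
      have : Module.FaithfullyFlat B C := .of_comap_surjective hs
      exact RingHom.smooth_algebraMap.2 (smooth_of_smooth_faithfullyFlat A B C))
    χ h inferInstance inferInstance

theorem smooth_of_comp_surjective {W X Z : Scheme.{u}} (χ : W ⟶ X) (h : X ⟶ Z)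
    [Surjective χ] [Etale χ] [Smooth (χ ≫ h)] : Smooth h :=
  smooth_of_comp_surjective_smooth χ h

instance : EtaleLocal @Smooth.{u} where
  of_etale _ _ f _ := inferInstance
  localAtTarget := inferInstance
  of_comp_surjective _ _ _ χ h _ _ (_ : Smooth (χ ≫ h)) := smooth_of_comp_surjective χ h

instance flat_descendsAlong :
    MorphismProperty.DescendsAlong @Flat.{u} (@Surjective ⊓ @Flat ⊓ @QuasiCompact) :=
  HasRingHomProperty.descendsAlong_flat <| by
    refine .mk _ RingHom.Flat.respectsIso fun R S T _ _ _ _ _ h h' ↦ ?_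
    rw [RingHom.flat_algebraMap_iff] at h' ⊢
    rw [RingHom.faithfullyFlat_algebraMap_iff] at h
    exact Module.Flat.of_flat_tensorProduct R T S

instance flat_isLocalAtTarget_fppf :
    MorphismProperty.IsLocalAtTarget @Flat.{u} Scheme.fppfPrecoverage :=
  isLocalAtTarget_fppf _

instance : EtaleLocal @Flat.{u} where
  of_etale _ _ f _ := inferInstance
  localAtTarget := inferInstance
  of_comp_surjective _ _ _ χ h _ _ (_ : Flat (χ ≫ h)) := FlatMor2.flat_of_comp_surjective χ h

end Groth.AlgSp2
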