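import Groth.Agent.AlgSpBasic.Topology
import Groth.Agent.AlgSpBasic.AlgSpace
import Mathlib.AlgebraicGeometry.Sites.Pretopology

/-!
# Maps out of a disjoint union of schemes into an fppf sheaf
-/

set_option autoImplicit false
set_option backward.isDefEq.respectTransparency.types false
universe u

open CategoryTheory CategoryTheory.Limits AlgebraicGeometry Opposite AlgSp

namespace Groth.AlgSp2

open Groth.AlgSpBasic

noncomputable section

variable {S : Scheme.{u}} {ι : Type u} (V : ι → Over S)

/-- The disjoint union of schemes over `S`. -/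
def sigmaObj : Over S := Over.mk (Sigma.desc fun i => (V i).hom)

/-- The inclusion into the disjoint union. -/
def sigmaIncl (i : ι) : V i ⟶ sigmaObj V :=
  Over.homMk (Sigma.ι (fun i => (V i).left) i) (Sigma.ι_desc _ _)

@[simp]
theorem sigmaIncl_left (i : ι) : (sigmaIncl V i).left = Sigma.ι (fun i => (V i).left) i := rfl

theorem bot_mem_of_isEmpty (Z : Over S) [IsEmpty Z.left] : ⊥ ∈ J S Z := by
  rw [GrothendieckTopology.mem_over_iff]
  refine GrothendieckTopology.superset_covering _ bot_le ?_
  exact Scheme.bot_mem_grothendieckTopology _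

theorem subsingleton_of_isEmpty (Q : Sp S) (Z : Over S) [IsEmpty Z.left] :
    Subsingleton (Q.obj.obj (op Z)) :=
  ⟨fun a b => (((isSheaf_iff_isSheaf_of_type _ _).1 Q.property) ⊥ (bot_mem_of_isEmpty Z)).isSeparatedFor.ext
    (t₁ := a) (t₂ := b) fun _ _ h => h.elim⟩

theorem sigmaIncl_mem : Sieve.ofArrows V (sigmaIncl V) ∈ J S (sigmaObj V) := by
  rw [GrothendieckTopology.mem_over_iff]
  let 𝒰 : Scheme.Cover (Scheme.precoverage (@Flat ⊓ @LocallyOfFinitePresentation))
      (∐ fun i => (V i).left) := (sigmaOpenCover fun i => (V i).left).changeProp fun i =>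
    ⟨(inferInstance : Flat ((sigmaOpenCover fun i => (V i).left).f i)),
      (inferInstance : LocallyOfFinitePresentation ((sigmaOpenCover fun i => (V i).left).f i))⟩
  refine GrothendieckTopology.superset_covering _ ?_ (Precoverage.generate_mem_toGrothendieck 𝒰.mem₀)
  rw [Sieve.generate_le_iff]
  rintro _ _ ⟨i⟩
  exact ⟨V i, sigmaIncl V i, 𝟙 _, Sieve.ofArrows_mk V (sigmaIncl V) i, by simp; rfl⟩

theorem exists_glue {Q : Sp S} (x : ∀ i, (yon S).obj (V i) ⟶ Q) :
    ∃! y : (yon S).obj (sigmaObj V) ⟶ Q, ∀ i, (yon S).map (sigmaIncl V i) ≫ y = x i := by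
  have h : Presieve.IsSheafFor Q.obj (Presieve.ofArrows V (sigmaIncl V)) := by
    rw [Presieve.isSheafFor_iff_generate]
    exact ((isSheaf_iff_isSheaf_of_type _ _).1 Q.property) _ (sigmaIncl_mem V)
  obtain ⟨t, ht, hu⟩ := (Presieve.isSheafFor_arrows_iff Q.obj (sigmaIncl V)).1 h
    (fun i => yEquiv (x i)) (fun i j Z gi gj e => by
      by_cases hij : i = j
      · subst hij
        rw [Over.OverMorphism.ext ((cancel_mono (Sigma.ι (fun i => (V i).left) i)).1
          (congrArg CommaMorphism.left e) : gi.left = gj.left)]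
      · have : IsEmpty Z.left :=
          isEmpty_of_commSq_sigmaι_of_ne (g := fun i => (V i).left) ⟨congrArg CommaMorphism.left e⟩ hij
        exact (subsingleton_of_isEmpty Q Z).elim _ _)
  refine ⟨yEquiv.symm t, fun i => yEquiv.injective ?_, fun y hy => yEquiv.injective ?_⟩
  · refine Eq.trans ((J S).uliftYonedaEquiv_naturality _ _).symm ?_
    rw [Equiv.apply_symm_apply]
    exact ht i
  · rw [Equiv.apply_symm_apply]
    refine hu _ fun i => ?_
    rw [← hy i]
    exact (J S).uliftYonedaEquiv_naturality _ _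

theorem sigma_hom_ext {Q : Sp S} {a b : (yon S).obj (sigmaObj V) ⟶ Q}
    (h : ∀ i, (yon S).map (sigmaIncl V i) ≫ a = (yon S).map (sigmaIncl V i) ≫ b) : a = b :=
  (exists_glue V fun i => (yon S).map (sigmaIncl V i) ≫ b).unique h fun _ => rfl

end

end Groth.AlgSp2
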