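import Groth.Prelude.Def_AlgSpCov
import Groth.Agent.AlgSpBasic.Points
import Groth.Agent.AlgSpBasic.LocP
import Mathlib.AlgebraicGeometry.Sites.Etale

/-!
# A property local on the source for schemes is local on the source for algebraic spaces
-/

set_option autoImplicit false
set_option backward.isDefEq.respectTransparency.types false
universe u

open CategoryTheory CategoryTheory.Limits AlgebraicGeometry Opposite AlgSp

namespace Groth.AlgSp2

open Groth.AlgSpBasic

variable {S : Scheme.{u}}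

/-- The family `{r, 𝟙}`. -/
def pairSchObj (A B : Scheme.{u}) : ULift.{u} Bool → Scheme.{u} := fun i => cond i.down A B

/-- The maps of `pairSchObj`. -/
def pairSchHom {A B : Scheme.{u}} (r : A ⟶ B) : ∀ i, pairSchObj A B i ⟶ B
  | ⟨true⟩ => r
  | ⟨false⟩ => 𝟙 B

theorem pairSch_mem {Q : MorphismProperty Scheme.{u}} [Q.ContainsIdentities] {A B : Scheme.{u}}
    (r : A ⟶ B) (hr : Q r) :
    Presieve.ofArrows (pairSchObj A B) (pairSchHom r) ∈ Scheme.precoverage Q B := by
  rw [Scheme.ofArrows_mem_precoverage_iff]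
  exact ⟨fun x => ⟨⟨false⟩, x, rfl⟩, fun i => match i with
    | ⟨true⟩ => hr
    | ⟨false⟩ => Q.id_mem B⟩

/-- The general criterion. -/
theorem isLocalOnSource_locP (P Q₀ : MorphismProperty Scheme.{u}) (K : Precoverage Scheme.{u})
    [P.IsLocalAtSource K] (τ : CovNotion S)
    (hτ : ∀ {ι : Type u} {X : Sp S} {Xi : ι → Sp S} (g : ∀ i, Xi i ⟶ X), τ Xi g →
      ∀ i, LocP Q₀ (g i))
    (hsingle : ∀ {A B : Scheme.{u}} (f : A ⟶ B), Etale f → Surjective f →
      Presieve.singleton f ∈ K B)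
    (hpair : ∀ {A B : Scheme.{u}} (r : A ⟶ B), Q₀ r →
      Presieve.ofArrows (pairSchObj A B) (pairSchHom r) ∈ K B)
    (hfam : ∀ {ι : Type u} {X : Sp S} {Xi : ι → Sp S} (g : ∀ i, Xi i ⟶ X),
      IsAlgSpace X → (∀ i, IsAlgSpace (Xi i)) → τ Xi g →
      ∀ {U : Over S} (a : (yon S).obj U ⟶ X), RepWith @Etale a →
      ∀ (W : ι → Over S) (ψ : ∀ i, (yon S).obj (W i) ⟶ Xi i),
        (∀ i, RepWith @Etale (ψ i)) → (∀ i, RepWith @Surjective (ψ i)) →
      ∀ (T : ι → Over S) (s : ∀ i, T i ⟶ W i) (r : ∀ i, T i ⟶ U),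
        (∀ i, IsPullback ((yon S).map (s i)) ((yon S).map (r i)) (ψ i ≫ g i) a) →
        (∀ i, Q₀ (r i).left) →
      Presieve.ofArrows (fun i => (T i).left) (fun i => (r i).left) ∈ K U.left) :
    IsLocalOnSource τ (LocP P) := by
  intro ι X Xi g hX hXi hg Y f hY
  constructor
  · intro hf i U' V a' b h' ha' hb comm
    obtain ⟨U₀, φ, hφ, hφs⟩ := hX.atlas
    obtain ⟨U, u₁, u₂, hU⟩ := exists_pullback_of_diag hY.diag (φ ≫ f) b
    have ha : RepWith @Etale ((yon S).map u₁ ≫ φ) :=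
      repWith_comp (repWith_of_isPullback hU.flip hb) hφ
    have hPh : P u₂.left := hf ((yon S).map u₁ ≫ φ) b u₂ ha hb (by rw [Category.assoc]; exact hU.w)
    obtain ⟨T, t₀, r₁, hT⟩ := exists_pullback_of_diag hX.diag φ (a' ≫ g i)
    have h₁ : RepWith @Etale ((yon S).map r₁) := repWith_of_isPullback hT hφ
    have h₁' : Etale r₁.left := repWith_fst_of_isPullback hT hφ
    have h₁s : Surjective r₁.left := repWith_fst_of_isPullback hT hφs
    have e : (yon S).map t₀ ≫ φ ≫ f = (yon S).map (r₁ ≫ h') ≫ b := by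
      rw [← Category.assoc, hT.w]
      simp only [Functor.map_comp, Category.assoc, comm]
    obtain ⟨r, hr⟩ := (yon S).map_surjective (hU.lift _ _ e)
    have e₁ : (yon S).map r ≫ (yon S).map u₁ = (yon S).map t₀ := by rw [hr, hU.lift_fst]
    have e₂ : r ≫ u₂ = r₁ ≫ h' :=
      (yon S).map_injective (by rw [Functor.map_comp, hr, hU.lift_snd])
    have hQ : Q₀ r.left := hτ g hg i ((yon S).map r₁ ≫ a') ((yon S).map u₁ ≫ φ) r
      (repWith_comp h₁ ha') ha
      (by rw [Category.assoc, ← hT.w, ← Category.assoc, e₁])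
    have h2 : P (r.left ≫ u₂.left) :=
      MorphismProperty.IsLocalAtSource.comp (hpair r.left hQ) r.left
        (Presieve.ofArrows.mk (f := pairSchHom r.left) ⟨true⟩) hPh
    rw [← Over.comp_left, e₂, Over.comp_left] at h2
    refine MorphismProperty.IsLocalAtSource.of_forall_comp (hsingle r₁.left h₁' h₁s) ?_
    rintro _ _ ⟨⟩
    exact h2
  · intro hf U V a b h ha hb comm
    choose W ψ hψ hψs using fun i => (hXi i).atlas
    choose T s r hT using fun i => exists_pullback_of_diag hX.diag (ψ i ≫ g i) a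
    have hs : ∀ i, RepWith @Etale ((yon S).map (s i) ≫ ψ i) := fun i =>
      repWith_comp (repWith_of_isPullback (hT i).flip ha) (hψ i)
    have hr : ∀ i, Q₀ (r i).left := fun i =>
      hτ g hg i _ a (r i) (hs i) ha (by rw [Category.assoc]; exact (hT i).w)
    refine MorphismProperty.IsLocalAtSource.of_forall_comp
      (hfam g hX hXi hg a ha W ψ hψ hψs T s r hT hr) ?_
    rintro _ _ ⟨i⟩
    rw [← Over.comp_left]
    refine hf i _ b (r i ≫ h) (hs i) hb ?_
    rw [Functor.map_comp, Category.assoc, Category.assoc, ← comm, ← reassoc_of% (hT i).w]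

variable {ι : Type u} {X : Sp S} {Xi : ι → Sp S}

theorem exists_mem_range_of_surj (g : ∀ i, Xi i ⟶ X)
    (hg : ∀ x : Points X, ∃ i, x ∈ Set.range (Points.map (g i)))
    {U : Over S} (a : (yon S).obj U ⟶ X)
    (W : ι → Over S) (ψ : ∀ i, (yon S).obj (W i) ⟶ Xi i)
    (hψs : ∀ i, RepWith @Surjective (ψ i))
    (T : ι → Over S) (s : ∀ i, T i ⟶ W i) (r : ∀ i, T i ⟶ U)
    (hT : ∀ i, IsPullback ((yon S).map (s i)) ((yon S).map (r i)) (ψ i ≫ g i) a)
    (x : ↥U.left) : ∃ i, x ∈ Set.range (r i).left := by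
  obtain ⟨i, y, hy⟩ := hg (Points.ofPt a x)
  obtain ⟨w, rfl⟩ := surjective_ofPt_of_repWith (hψs i) y
  rw [Points.map_ofPt] at hy
  obtain ⟨t, -, ht⟩ := (ofPt_eq_ofPt_iff (hT i) w x).1 hy
  exact ⟨i, t, ht⟩

/-- For coverings by `Q`-morphisms. -/
theorem isLocalOnSource_locP_precoverage (P Q : MorphismProperty Scheme.{u})
    [P.IsLocalAtSource (Scheme.precoverage Q)] [Q.ContainsIdentities]
    (hQ : ∀ ⦃A B : Scheme.{u}⦄ (f : A ⟶ B), Etale f → Q f) (τ : CovNotion S)
    (hτ : ∀ {ι : Type u} {X : Sp S} {Xi : ι → Sp S} (g : ∀ i, Xi i ⟶ X), τ Xi g →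
      (∀ i, LocP Q (g i)) ∧ ∀ x : Points X, ∃ i, x ∈ Set.range (Points.map (g i))) :
    IsLocalOnSource τ (LocP P) :=
  isLocalOnSource_locP P Q (Scheme.precoverage Q) τ (fun g h => (hτ g h).1)
    (fun f he hs => (Scheme.singleton_mem_precoverage_iff _ f).2 ⟨hs.surj, hQ f he⟩)
    (fun r hr => pairSch_mem r hr)
    (fun g _ _ hg _ a _ W ψ _ hψs T s r hT hr => by
      rw [Scheme.ofArrows_mem_precoverage_iff]
      exact ⟨exists_mem_range_of_surj g (hτ g hg).2 a W ψ hψs T s r hT, hr⟩)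

/-- fpqc coverings are jointly surjective. -/
theorem isFpqcCover_surj {g : ∀ i, Xi i ⟶ X} (hg : IsFpqcCover Xi g) (x : Points X) :
    ∃ i, x ∈ Set.range (Points.map (g i)) := by
  obtain ⟨T, φ, t, rfl⟩ := exists_ofPt x
  obtain ⟨i₀, y, rfl⟩ := T.left.affineCover.exists_eq t
  obtain ⟨m, W, c, -, -, hs, hl⟩ :=
    hg.2 (Over.mk (T.left.affineCover.f i₀ ≫ T.hom))
      (inferInstanceAs (IsAffine (T.left.affineCover.X i₀)))
      ((yon S).map (Over.homMk (T.left.affineCover.f i₀) rfl) ≫ φ)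
  obtain ⟨j, w, hw⟩ := hs y
  obtain ⟨i, l, hli⟩ := hl j
  refine ⟨i, Points.ofPt l w, ?_⟩
  rw [Points.map_ofPt, hli, ofPt_comp_yon, hw, ofPt_comp_yon]
  rfl

theorem isLocalOnSource_fpqc_locP (P : MorphismProperty Scheme.{u})
    [P.IsLocalAtSource Scheme.fpqcPrecoverage] :
    IsLocalOnSource (IsFpqcCover (S := S)) (LocP P) := by
  refine isLocalOnSource_locP P @Flat Scheme.fpqcPrecoverage _ (fun g h => h.1)
    (fun f he hs => Scheme.fppfPrecoverage_le_fpqcPrecoverage _
      (((Scheme.singleton_mem_precoverage_iff _ f).2) ⟨hs.surj, ⟨inferInstance, inferInstance⟩⟩)) ?_ ?_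
  · intro A B r hr
    refine ⟨?_, pairSch_mem r hr⟩
    refine (Scheme.presieve₀_mem_qcPrecoverage_iff
      (E := ⟨ULift.{u} Bool, pairSchObj A B, pairSchHom r⟩)).2 ⟨fun {U} hU => ?_⟩
    exact ⟨{⟨false⟩}, Set.finite_singleton _, fun j hj => hj ▸ U,
      by rintro j rfl; exact hU.isCompact,
      by simp [pairSchHom]; exact Set.image_id _⟩
  · intro ι X Xi g hX hXi hg U a _ W ψ hψ hψs T s r hT hr
    refine ⟨(Scheme.presieve₀_mem_qcPrecoverage_iff
      (E := ⟨ι, fun i => (T i).left, fun i => (r i).left⟩)).2 ⟨fun {U₀} hU₀ => ?_⟩, ?_⟩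
    swap
    · exact (Scheme.ofArrows_mem_precoverage_iff _).2
        ⟨exists_mem_range_of_surj g (isFpqcCover_surj hg) a W ψ hψs T s r hT, hr⟩
    let Z : Over S := Over.mk (U₀.ι ≫ U.hom)
    let z : Z ⟶ U := Over.homMk U₀.ι rfl
    obtain ⟨m, W₀, c, hW₀, -, hcs, hl⟩ := hg.2 Z hU₀ ((yon S).map z ≫ a)
    choose i l hli using hl
    choose W' w₁ w₂ hW' using fun j =>
      exists_pullback_of_diag (hXi (i j)).diag (l j) (ψ (i j))
    have he : ∀ j, Etale (w₁ j).left := fun j => repWith_fst_of_isPullback (hW' j).flip (hψ _)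
    have hw : ∀ j, Surjective (w₁ j).left := fun j =>
      repWith_fst_of_isPullback (hW' j).flip (hψs _)
    have e : ∀ j, (yon S).map (w₂ j) ≫ ψ (i j) ≫ g (i j) =
        (yon S).map (w₁ j ≫ c j ≫ z) ≫ a := fun j => by
      rw [← Category.assoc, ← (hW' j).w, Category.assoc, hli j, Functor.map_comp,
        Functor.map_comp, Category.assoc, Category.assoc]
    choose t ht using fun j => (yon S).map_surjective ((hT (i j)).lift _ _ (e j))
    have et : ∀ j, t j ≫ r (i j) = w₁ j ≫ c j ≫ z := fun j =>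
      (yon S).map_injective (by rw [Functor.map_comp, ht, (hT (i j)).lift_snd])
    refine IsCompactOpenCovered.of_comp (a := i) (fun j => ⇑(t j ≫ r (i j)).left)
      (fun j => ⇑(t j).left) (fun j => (t j).left.continuous)
      (fun j => by simp [Scheme.Hom.comp_base]) (fun k => (r k).left.continuous) U₀.2 ?_
    have hK : ∀ j, ∃ K : (W' j).left.Opens, IsCompact (K : Set (W' j).left) ∧
        (w₁ j).left '' (K : Set (W' j).left) = Set.univ := fun j => by
      have : IsAffine (W₀ j).left := hW₀ j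
      obtain ⟨K, hK, eK⟩ :=
        (w₁ j).left.isOpenMap.exists_opens_image_eq_of_prespectralSpace (w₁ j).left.continuous
          (by simp [Set.range_eq_univ.2 (hw j).surj]) isOpen_univ isCompact_univ
      exact ⟨K, hK, eK⟩
    choose K hKc hKe using hK
    refine ⟨Set.univ, Set.finite_univ, fun j _ => K j, fun j _ => hKc j, ?_⟩
    ext x
    simp only [Set.mem_iUnion, Set.mem_univ, exists_true_left, Set.mem_image, SetLike.mem_coe, et,
      Over.comp_left, Scheme.Hom.comp_apply]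
    constructor
    · rintro ⟨j, k, -, rfl⟩
      exact ((c j).left (((w₁ j)).left k)).2
    · intro hx
      obtain ⟨j, w, hwj⟩ := hcs ⟨x, hx⟩
      obtain ⟨k, hk, rfl⟩ := (hKe j).ge (Set.mem_univ w)
      exact ⟨j, k, hk, congrArg Subtype.val hwj⟩

end Groth.AlgSp2

namespace Groth.AlgSp2

open Groth.AlgSpBasic

variable {S : Scheme.{u}}

instance flatLFP_containsIdentities :
    (@Flat ⊓ @LocallyOfFinitePresentation : MorphismProperty Scheme.{u}).ContainsIdentities :=
  ⟨fun _ => ⟨inferInstance, inferInstance⟩⟩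

instance smooth_containsIdentities :
    MorphismProperty.ContainsIdentities @Smooth.{u} := ⟨fun _ => inferInstance⟩

theorem isLocalOnSource_fppf_locP (P : MorphismProperty Scheme.{u})
    [h : P.IsLocalAtSource Scheme.fppfPrecoverage] :
    IsLocalOnSource (IsFppfCover (S := S)) (LocP P) :=
  have : P.IsLocalAtSource (Scheme.precoverage (@Flat ⊓ @LocallyOfFinitePresentation)) := h
  isLocalOnSource_locP_precoverage P (@Flat ⊓ @LocallyOfFinitePresentation)
    (fun _ _ _ _ => ⟨inferInstance, inferInstance⟩) _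
    fun g hg => ⟨fun i U V a b h ha hb c => ⟨(hg.1 i).1 a b h ha hb c, (hg.1 i).2 a b h ha hb c⟩, hg.2⟩

theorem isLocalOnSource_smooth_locP (P : MorphismProperty Scheme.{u})
    [P.IsLocalAtSource (Scheme.precoverage @Smooth)] :
    IsLocalOnSource (IsSmCover (S := S)) (LocP P) :=
  isLocalOnSource_locP_precoverage P @Smooth (fun _ _ _ _ => inferInstance) _ fun _ hg => hg

theorem isLocalOnSource_etale_locP (P : MorphismProperty Scheme.{u})
    [h : P.IsLocalAtSource Scheme.etalePrecoverage] :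
    IsLocalOnSource (IsEtCover (S := S)) (LocP P) :=
  have : P.IsLocalAtSource (Scheme.precoverage @Etale) := h
  isLocalOnSource_locP_precoverage P @Etale (fun _ _ _ h => h) _
    fun _ hg => ⟨fun i => locP_of_isEtaleMor (hg.1 i), hg.2⟩

end Groth.AlgSp2
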