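import Groth.Prelude.Def_AlgSpCov
import Groth.Prelude.Def_AlgSpSub
import Groth.Agent.AlgSp2.SmoothDescent
import Groth.Agent.AlgSp2.LocPSource
import Groth.Agent.AlgSpBasic.AlgSpace
import Groth.Agent.Agf.SmoothRed
import Groth.Agent.Calg4.SmoothReduced
import Groth.Agent.FlatMor2.NoethFibre
import Mathlib.AlgebraicGeometry.Morphisms.UniversallyOpen

/-!
# Openness, reducedness, Noetherianness and fppf morphisms of algebraic spaces
-/

set_option autoImplicit false
set_option backward.isDefEq.respectTransparency.types false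
universe u

open CategoryTheory CategoryTheory.Limits AlgebraicGeometry Opposite AlgSp

namespace Groth.AlgSp2

open Groth.AlgSpBasic

noncomputable section

variable {S : Scheme.{u}} {X Y : Sp S}

theorem isReduced_of_smooth_morphism {A B : Scheme.{u}} (h : A ⟶ B) [Smooth h] [IsReduced B] :
    IsReduced A := by
  have : ∀ x : A, _root_.IsReduced (A.presheaf.stalk x) := by
    intro x
    obtain ⟨V, hV, hxV, -⟩ := TopologicalSpace.Opens.isBasis_iff_nbhd.mp B.isBasis_affineOpens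
      (show h x ∈ (⊤ : B.Opens) from trivial)
    obtain ⟨W, hW, hxW, hle⟩ := TopologicalSpace.Opens.isBasis_iff_nbhd.mp A.isBasis_affineOpens
      (show x ∈ h ⁻¹ᵁ V from hxV)
    have h₁ : (h.appLE V W hle).hom.Smooth :=
      HasRingHomProperty.appLE @Smooth h inferInstance ⟨V, hV⟩ ⟨W, hW⟩ hle
    algebraize [(h.appLE V W hle).hom]
    have : Algebra.Smooth Γ(B, V) Γ(A, W) := h₁.toAlgebra
    have : _root_.IsReduced Γ(A, W) := Groth.Calg4.isReduced_of_smooth Γ(B, V) Γ(A, W)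
    let ax : (W : Set A) := ⟨x, hxW⟩
    letI := TopCat.Presheaf.algebra_section_stalk A.presheaf ax
    have := hW.isLocalization_stalk ax
    exact isReduced_localizationPreserves (hW.primeIdealOf ax).asIdeal.primeCompl (A.presheaf.stalk x) ‹_›
  exact isReduced_of_isReduced_stalk A

/-- A common chart. -/
theorem exists_chart_pair (hX : IsAlgSpace X) (hY : IsAlgSpace Y) {f : X ⟶ Y} {U₀ V : Over S}
    {φ : (yon S).obj U₀ ⟶ X} (hφ : RepWith @Etale φ) (hφs : RepWith @Surjective φ)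
    {b : (yon S).obj V ⟶ Y} (hb : RepWith @Etale b) (hbs : RepWith @Surjective b) :
    ∃ (U : Over S) (u₁ : U ⟶ U₀) (u₂ : U ⟶ V), Etale u₁.left ∧
      RepWith @Etale ((yon S).map u₁ ≫ φ) ∧ RepWith @Surjective ((yon S).map u₁ ≫ φ) ∧
      ((yon S).map u₁ ≫ φ) ≫ f = (yon S).map u₂ ≫ b ∧
      (IsSurjectiveMor f → Surjective u₂.left) := by
  obtain ⟨U, u₁, u₂, hU⟩ := exists_pullback_of_diag hY.diag (φ ≫ f) b
  refine ⟨U, u₁, u₂, repWith_fst_of_isPullback hU.flip hb,
    repWith_comp (repWith_of_isPullback hU.flip hb) hφ,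
    repWith_comp (repWith_of_isPullback hU.flip hbs) hφs, by rw [Category.assoc]; exact hU.w,
    fun hs => ⟨fun v => ?_⟩⟩
  obtain ⟨x, hx⟩ := hs (Points.ofPt b v)
  obtain ⟨u, rfl⟩ := surjective_ofPt_of_repWith hφs x
  rw [Points.map_ofPt] at hx
  obtain ⟨w, -, hw⟩ := (ofPt_eq_ofPt_iff hU u v).1 hx
  exact ⟨w, hw⟩

theorem isReducedSp_of_flat_surjective (hX : IsAlgSpace X) (hY : IsAlgSpace Y) {f : X ⟶ Y}
    (hfl : LocP @Flat f) (hs : IsSurjectiveMor f) (hr : IsReducedSp X) : IsReducedSp Y := by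
  obtain ⟨U₀, φ, hφ, hφs, hU₀⟩ := hr
  obtain ⟨V, b, hb, hbs⟩ := hY.atlas
  obtain ⟨U, u₁, u₂, he, ha, -, comm, hsurj⟩ := exists_chart_pair (f := f) hX hY hφ hφs hb hbs
  have : IsReduced U₀.left := hU₀
  have : IsReduced U.left := isReduced_of_smooth_morphism u₁.left
  have : Flat u₂.left := hfl _ b u₂ ha hb comm
  have := hsurj hs
  exact ⟨V, b, hb, hbs, Groth.Agf.isReduced_of_flat_surjective u₂.left⟩

theorem isReducedSp_of_smooth (hX : IsAlgSpace X) (hY : IsAlgSpace Y) {f : X ⟶ Y}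
    (hf : LocP @Smooth f) (hr : IsReducedSp Y) : IsReducedSp X := by
  obtain ⟨V, b, hb, hbs, hV⟩ := hr
  obtain ⟨U₀, φ, hφ, hφs⟩ := hX.atlas
  obtain ⟨U, u₁, u₂, -, ha, has, comm, -⟩ := exists_chart_pair (f := f) hX hY hφ hφs hb hbs
  have : IsReduced V.left := hV
  have : Smooth u₂.left := hf _ b u₂ ha hb comm
  exact ⟨U, _, ha, has, isReduced_of_smooth_morphism u₂.left⟩

theorem isLocNoethSp_of_fppf_surjective (hX : IsAlgSpace X) (hY : IsAlgSpace Y) {f : X ⟶ Y}
    (hfp : LocP @LocallyOfFinitePresentation f) (hfl : LocP @Flat f) (hs : IsSurjectiveMor f)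
    (hr : IsLocNoethSp X) : IsLocNoethSp Y := by
  obtain ⟨U₀, φ, hφ, hφs, hU₀⟩ := hr
  obtain ⟨V, b, hb, hbs⟩ := hY.atlas
  obtain ⟨U, u₁, u₂, he, ha, -, comm, hsurj⟩ := exists_chart_pair (f := f) hX hY hφ hφs hb hbs
  have : IsLocallyNoetherian U₀.left := hU₀
  have : IsLocallyNoetherian U.left := LocallyOfFiniteType.isLocallyNoetherian u₁.left
  have : Flat u₂.left := hfl _ b u₂ ha hb comm
  have : LocallyOfFinitePresentation u₂.left := hfp _ b u₂ ha hb comm
  have := hsurj hs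
  exact ⟨V, b, hb, hbs, Groth.FlatMor2.isLocallyNoetherian_of_flat_surjective u₂.left⟩

theorem isOpenMor_of_fppf (hX : IsAlgSpace X) (hY : IsAlgSpace Y) {f : X ⟶ Y}
    (hfl : LocP @Flat f) (hfp : LocP @LocallyOfFinitePresentation f) : IsOpenMor f := by
  intro E hE
  obtain ⟨U₀, φ, hφ, hφs⟩ := hX.atlas
  obtain ⟨V, b, hb, hbs⟩ := hY.atlas
  obtain ⟨U, u₁, u₂, hU⟩ := exists_pullback_of_diag hY.diag (φ ≫ f) b
  have ha : RepWith @Etale ((yon S).map u₁ ≫ φ) :=
    repWith_comp (repWith_of_isPullback hU.flip hb) hφ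
  have comm : ((yon S).map u₁ ≫ φ) ≫ f = (yon S).map u₂ ≫ b := by rw [Category.assoc]; exact hU.w
  have : Flat u₂.left := hfl _ b u₂ ha hb comm
  have : LocallyOfFinitePresentation u₂.left := hfp _ b u₂ ha hb comm
  rw [← (isQuotientMap_ofPt hb hbs).isOpen_preimage]
  have key : Points.ofPt b ⁻¹' (Points.map f '' E) =
      u₂.left '' (Points.ofPt ((yon S).map u₁ ≫ φ) ⁻¹' E) := by
    ext v
    constructor
    · rintro ⟨x, hx, e⟩
      obtain ⟨u, rfl⟩ := surjective_ofPt_of_repWith hφs x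
      rw [Points.map_ofPt] at e
      obtain ⟨w, rfl, hw⟩ := (ofPt_eq_ofPt_iff hU u v).1 e
      exact ⟨w, by rw [Set.mem_preimage, ofPt_comp_yon]; exact hx, hw⟩
    · rintro ⟨w, hw, rfl⟩
      exact ⟨_, hw, by rw [Points.map_ofPt, comm, ofPt_comp_yon]⟩
  rw [key]
  exact u₂.left.isOpenMap _ (hE.preimage (Points.continuous_ofPt _))

theorem isOpenMor_comp {Z : Sp S} {f : X ⟶ Y} {g : Y ⟶ Z} (hf : IsOpenMor f) (hg : IsOpenMor g) :
    IsOpenMor (f ≫ g) := fun E hE => by
  have : Points.map (f ≫ g) '' E = Points.map g '' (Points.map f '' E) := by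
    rw [Set.image_image]
    exact Set.image_congr fun x _ => Points.map_comp f g x
  rw [this]
  exact hg _ (hf _ hE)

theorem isOpenMor_of_comp_cover {ι : Type u} {Xi : ι → Sp S} {g : ∀ i, Xi i ⟶ X}
    (hs : ∀ x : Points X, ∃ i, x ∈ Set.range (Points.map (g i))) {f : X ⟶ Y}
    (h : ∀ i, IsOpenMor (g i ≫ f)) : IsOpenMor f := by
  intro E hE
  have : Points.map f '' E = ⋃ i, Points.map (g i ≫ f) '' (Points.map (g i) ⁻¹' E) := by
    ext y
    constructor
    · rintro ⟨x, hx, rfl⟩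
      obtain ⟨i, z, rfl⟩ := hs x
      exact Set.mem_iUnion.2 ⟨i, z, hx, Points.map_comp _ _ z⟩
    · intro hy
      obtain ⟨i, z, hz, rfl⟩ := Set.mem_iUnion.1 hy
      exact ⟨_, hz, (Points.map_comp _ _ z).symm⟩
  rw [this]
  exact isOpen_iUnion fun i => h i _ (hE.preimage (Points.continuous_map _))

theorem isLocalOnSource_fppf_isOpenMor : IsLocalOnSource (IsFppfCover (S := S)) IsOpenMor :=
  fun _ _ _ _ hX hXi hg _ _ _ =>
    ⟨fun h i => isOpenMor_comp (isOpenMor_of_fppf (hXi i) hX (hg.1 i).1 (hg.1 i).2) h,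
      isOpenMor_of_comp_cover hg.2⟩

theorem isLocalOnSource_fppf_isUnivOpenMor :
    IsLocalOnSource (IsFppfCover (S := S)) IsUnivOpenMor := by
  intro ι X Xi g hX hXi hg Y f hY
  constructor
  · intro hf i Z Z' hZ a fst snd sq
    have sqX := IsPullback.of_hasPullback f a
    have hQ := isAlgSpace_of_isPullback sqX hY.diag hX hZ
    let l : Z' ⟶ pullback f a :=
      pullback.lift (fst ≫ g i) snd (by rw [Category.assoc]; exact sq.w)
    have sq' : IsPullback fst l (g i) (pullback.fst f a) := by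
      refine IsPullback.of_bot ?_ (pullback.lift_fst _ _ _).symm sqX
      rw [show l ≫ pullback.snd f a = snd from pullback.lift_snd _ _ _]
      exact sq
    have hZ' := isAlgSpace_of_isPullback sq hY.diag (hXi i) hZ
    have hl : IsOpenMor l := isOpenMor_of_fppf hZ' hQ
      (locP_of_isPullback (hXi i) hX hQ sq' (hg.1 i).1)
      (locP_of_isPullback (hXi i) hX hQ sq' (hg.1 i).2)
    rw [show snd = l ≫ pullback.snd f a from (pullback.lift_snd _ _ _).symm]
    exact isOpenMor_comp hl (hf hZ a _ _ sqX)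
  · intro hf Z Z' hZ a fst snd sq
    refine isOpenMor_of_comp_cover (Xi := fun i => pullback (g i) fst)
      (g := fun i => pullback.snd (g i) fst) (fun x => ?_) fun i => ?_
    · obtain ⟨i, z, hz⟩ := hg.2 (Points.map fst x)
      obtain ⟨w, -, hw⟩ :=
        Groth.AlgSpBasic.exists_point_of_isPullback (IsPullback.of_hasPullback (g i) fst) z x hz
      exact ⟨i, w, hw⟩
    · exact hf i hZ a _ _ ((IsPullback.of_hasPullback (g i) fst).paste_vert sq)

/-- An fppf covering is an fpqc covering. -/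
theorem isFpqcCover_of_isFppfCover {ι : Type u} {Xi : ι → Sp S} {g : ∀ i, Xi i ⟶ X}
    (hX : IsAlgSpace X) (hXi : ∀ i, IsAlgSpace (Xi i)) (hg : IsFppfCover Xi g) :
    IsFpqcCover Xi g := by
  refine ⟨fun i => (hg.1 i).1, fun Z hZ h => ?_⟩
  have key : ∀ z : Z.left, ∃ (W : Over S) (c : W ⟶ Z), IsAffine W.left ∧ Flat c.left ∧
      IsOpenMap c.left ∧ z ∈ Set.range c.left ∧
      ∃ (i : ι) (l : (yon S).obj W ⟶ Xi i), l ≫ g i = (yon S).map c ≫ h := by
    intro z
    obtain ⟨i, y, hy⟩ := hg.2 (Points.ofPt h z)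
    have sq := IsPullback.of_hasPullback (g i) h
    have hP := isAlgSpace_of_isPullback sq hX.diag (hXi i) (IsAlgSpace.yon_obj Z)
    obtain ⟨w, -, hw⟩ := Groth.AlgSpBasic.exists_point_of_isPullback sq y (Points.ofScheme Z z)
      (hy.trans (Points.ofPt_eq_map_ofScheme h z))
    obtain ⟨T, ψ, hψ, hψs⟩ := hP.atlas
    obtain ⟨t, rfl⟩ := surjective_ofPt_of_repWith hψs w
    obtain ⟨χ, hχ⟩ := (yon S).map_surjective (ψ ≫ pullback.snd (g i) h)
    have e : ψ ≫ pullback.snd (g i) h = (yon S).map χ ≫ 𝟙 _ := by rw [Category.comp_id, hχ]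
    have hfl : Flat χ.left := locP_of_isPullback (hXi i) hX (IsAlgSpace.yon_obj Z) sq (hg.1 i).1
      ψ (𝟙 _) χ hψ (repWith_id _ Z) e
    have hfp : LocallyOfFinitePresentation χ.left :=
      locP_of_isPullback (hXi i) hX (IsAlgSpace.yon_obj Z) sq (hg.1 i).2
        ψ (𝟙 _) χ hψ (repWith_id _ Z) e
    obtain ⟨k, s, hs⟩ := T.left.affineCover.exists_eq t
    let W : Over S := Over.mk (T.left.affineCover.f k ≫ T.hom)
    let j : W ⟶ T := Over.homMk (T.left.affineCover.f k) rfl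
    have : Flat (j ≫ χ).left := by
      rw [Over.comp_left]
      exact (inferInstance : Flat (T.left.affineCover.f k ≫ χ.left))
    have : LocallyOfFinitePresentation (j ≫ χ).left := by
      rw [Over.comp_left]
      exact (inferInstance : LocallyOfFinitePresentation (T.left.affineCover.f k ≫ χ.left))
    refine ⟨W, j ≫ χ, inferInstanceAs (IsAffine (T.left.affineCover.X k)), inferInstance,
      (j ≫ χ).left.isOpenMap, ⟨s, ?_⟩, i, (yon S).map j ≫ ψ ≫ pullback.fst (g i) h, ?_⟩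
    · apply (Points.schemeHomeo Z).injective
      rw [Points.map_ofPt, ← hχ, Points.ofPt_eq_map_ofScheme] at hw
      change Points.schemeHomeo Z ((j.left ≫ χ.left) s) = _
      rw [Scheme.Hom.comp_apply, show j.left s = t from hs]
      exact (Points.map_yon_map_apply χ t).symm.trans hw
    · rw [Category.assoc, Category.assoc, pullback.condition, Functor.map_comp, Category.assoc,
        hχ, Category.assoc]
  choose W c hW hc ho hz i l hl using key
  have : IsAffine Z.left := hZ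
  obtain ⟨s, hs⟩ := isCompact_univ.elim_finite_subcover (fun z => Set.range (c z).left)
    (fun z => (ho z).isOpen_range) fun z _ => Set.mem_iUnion.2 ⟨z, hz z⟩
  refine ⟨s.card, fun k => W (s.equivFin.symm k), fun k => c (s.equivFin.symm k),
    fun k => hW _, fun k => hc _, fun z => ?_, fun k => ⟨i _, l _, hl _⟩⟩
  obtain ⟨z', hz', h'⟩ := Set.mem_iUnion₂.1 (hs (Set.mem_univ z))
  exact ⟨s.equivFin ⟨z', hz'⟩,
    Eq.mpr (congrArg (fun x : {x // x ∈ s} => z ∈ Set.range ⇑(c x.1).left)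
      (s.equivFin.symm_apply_apply ⟨z', hz'⟩)) h'⟩

end

end Groth.AlgSp2
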