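import Groth.Agent.AlgSp2.AffineDescent

/-!
# Being affine, integral, finite, a closed immersion, finite locally free are fpqc local on the base
-/

set_option autoImplicit false
set_option backward.isDefEq.respectTransparency.types false
universe u

open CategoryTheory CategoryTheory.Limits AlgebraicGeometry Opposite AlgSp

namespace Groth.AlgSp2

open Groth.AlgSpBasic

noncomputable section

variable {S : Scheme.{u}}

theorem isPullback_sigmaIncl {ι : Type u} {V W : ι → Over S} (p : ∀ i, V i ⟶ W i)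
    (q : sigmaObj V ⟶ sigmaObj W) (hq : ∀ i, sigmaIncl V i ≫ q = p i ≫ sigmaIncl W i) (j : ι) :
    IsPullback (sigmaIncl V j) (p j) q (sigmaIncl W j) := by
  refine IsPullback.of_map (Over.forget S) (hq j) ?_
  refine (IsOpenImmersion.isPullback (p j).left (Sigma.ι (fun i => (V i).left) j)
    (Sigma.ι (fun i => (W i).left) j) q.left (congrArg CommaMorphism.left (hq j)) ?_).flip
  have e : ∀ (k : ι) (v : ↥(V k).left), q.left (Sigma.ι (fun i => (V i).left) k v) =
      Sigma.ι (fun i => (W i).left) k ((p k).left v) := fun k v => by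
    rw [← Scheme.Hom.comp_apply (p k).left (Sigma.ι (fun i => (W i).left) k)]
    exact (Scheme.Hom.comp_apply _ q.left v).symm.trans
      (congrArg (fun m : (V k).left ⟶ (sigmaObj W).left => m v)
        (congrArg CommaMorphism.left (hq k)))
  ext x
  obtain ⟨k, v, rfl⟩ := (sigmaOpenCover fun i => (V i).left).exists_eq x
  constructor
  · rintro ⟨w, hw⟩
    have hjk : j = k := by
      by_contra h
      exact ((disjoint_opensRange_sigmaι (fun i => (W i).left) j k h).le_bot
        (show q.left (Sigma.ι (fun i => (V i).left) k v) ∈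
          (Sigma.ι (fun i => (W i).left) j).opensRange ⊓ (Sigma.ι (fun i => (W i).left) k).opensRange
          from ⟨⟨w, hw⟩, ⟨(p k).left v, (e k v).symm⟩⟩)).elim
    subst hjk
    exact ⟨v, rfl⟩
  · rintro ⟨w, hw⟩
    have hjk : j = k := by
      by_contra h
      exact ((disjoint_opensRange_sigmaι (fun i => (V i).left) j k h).le_bot
        (show Sigma.ι (fun i => (V i).left) k v ∈
          (Sigma.ι (fun i => (V i).left) j).opensRange ⊓ (Sigma.ι (fun i => (V i).left) k).opensRange
          from ⟨⟨w, hw⟩, ⟨v, rfl⟩⟩)).elim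
    subst hjk
    exact ⟨(p j).left v, (e j v).symm⟩

theorem isFpqcCover_sigmaIncl {ι : Type u} [Finite ι] (W : ι → Over S) [∀ i, IsAffine (W i).left] :
    IsFpqcCover (fun i => (yon S).obj (W i)) (fun i => (yon S).map (sigmaIncl W i)) := by
  have hC : IsAffine (sigmaObj W).left := inferInstanceAs (IsAffine (∐ fun i => (W i).left))
  refine ⟨fun i => locP_of_repWith ((repWith_yon_map_iff _ _).2
    (inferInstanceAs (Flat (Sigma.ι (fun i => (W i).left) i)))), fun Z hZ h => ?_⟩
  obtain ⟨k, rfl⟩ := (yon S).map_surjective h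
  have := Fintype.ofFinite ι
  let e := (Fintype.equivFin ι).symm
  refine ⟨Fintype.card ι, fun j => Over.mk (pullback.fst k.left (sigmaIncl W (e j)).left ≫ Z.hom),
    fun j => Over.homMk (pullback.fst k.left (sigmaIncl W (e j)).left) rfl,
    fun j => inferInstanceAs (IsAffine (pullback k.left (sigmaIncl W (e j)).left)),
    fun j => ?_, fun z => ?_, fun j => ⟨e j, (yon S).map (Over.homMk
      (pullback.snd k.left (sigmaIncl W (e j)).left) ?_), ?_⟩⟩
  · have : Flat (sigmaIncl W (e j)).left := inferInstanceAs (Flat (Sigma.ι (fun i => (W i).left) _))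
    exact inferInstanceAs (Flat (pullback.fst k.left (sigmaIncl W (e j)).left))
  · obtain ⟨i, w, hw⟩ := (sigmaOpenCover fun i => (W i).left).exists_eq (k.left z)
    obtain ⟨j, rfl⟩ := e.surjective i
    obtain ⟨a, ha, -⟩ := Scheme.Pullback.exists_preimage_pullback (f := k.left)
      (g := (sigmaIncl W (e j)).left) z w hw.symm
    exact ⟨j, a, ha⟩
  · change pullback.snd k.left (sigmaIncl W (e j)).left ≫ (W (e j)).hom =
      pullback.fst k.left (sigmaIncl W (e j)).left ≫ Z.hom
    rw [← Over.w (sigmaIncl W (e j)), ← pullback.condition_assoc, Over.w k]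
  · rw [← Functor.map_comp, ← Functor.map_comp]
    congr 1
    exact Over.OverMorphism.ext pullback.condition.symm

theorem exists_affine_iso_of_affCover {Q : Sp S} (hQ : IsAlgSpace Q) {Z : Over S} [IsAffine Z.left]
    (π : Q ⟶ (yon S).obj Z) (𝒲 : AffCover (T := Z))
    (H : ∀ j, ∃ (V : Over S) (vq : (yon S).obj V ⟶ Q) (p : V ⟶ 𝒲.W j),
      IsPullback vq ((yon S).map p) π ((yon S).map (𝒲.c j)) ∧ IsAffine V.left) :
    ∃ U : Over S, IsAffine U.left ∧ Nonempty (Q ≅ (yon S).obj U) := by
  choose V vq p sq hV using H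
  have := 𝒲.affine
  let W' : ULift.{u} (Fin 𝒲.m) → Over S := fun j => 𝒲.W j.down
  let V' : ULift.{u} (Fin 𝒲.m) → Over S := fun j => V j.down
  have : IsAffine (sigmaObj W').left := inferInstanceAs (IsAffine (∐ fun j => (W' j).left))
  have : IsAffine (sigmaObj V').left := inferInstanceAs (IsAffine (∐ fun j => (V' j).left))
  let c : sigmaObj W' ⟶ Z := Over.homMk (Sigma.desc fun j => (𝒲.c j.down).left) (by
    apply Sigma.hom_ext
    intro j
    change _ ≫ Sigma.desc _ ≫ Z.hom = _ ≫ Sigma.desc _
    rw [Sigma.ι_desc_assoc, Sigma.ι_desc, Over.w (𝒲.c j.down)])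
  have hc : ∀ j, sigmaIncl W' j ≫ c = 𝒲.c j.down := fun j =>
    Over.OverMorphism.ext (Sigma.ι_desc _ _)
  have : Surjective c.left := ⟨fun z => by
    obtain ⟨j, w, hw⟩ := 𝒲.surj z
    refine ⟨Sigma.ι (fun j => (W' j).left) ⟨j⟩ w, ?_⟩
    rw [← hw, ← hc ⟨j⟩, Over.comp_left, Scheme.Hom.comp_apply]
    rfl⟩
  have : Flat c.left := by
    refine (IsZariskiLocalAtSource.iff_of_openCover (P := @Flat) (f := c.left)
      (sigmaOpenCover fun j => (W' j).left)).2 fun j => ?_
    change Flat (Sigma.ι (fun j => (W' j).left) j ≫ Sigma.desc fun j => (𝒲.c j.down).left)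
    rw [Sigma.ι_desc]
    exact 𝒲.flat _
  obtain ⟨q, hq, -⟩ := exists_glue V' fun j => (yon S).map (p j.down ≫ sigmaIncl W' j)
  obtain ⟨q, rfl⟩ := (yon S).map_surjective q
  have hq' : ∀ j, sigmaIncl V' j ≫ q = p j.down ≫ sigmaIncl W' j := fun j =>
    (yon S).map_injective (by rw [Functor.map_comp]; exact hq j)
  obtain ⟨v, hv, -⟩ := exists_glue V' fun j => vq j.down
  have hw : v ≫ π = (yon S).map q ≫ (yon S).map c := sigma_hom_ext V' fun j => by
    rw [← Category.assoc, hv, ← Functor.map_comp, ← Functor.map_comp, ← Category.assoc, hq',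
      Category.assoc, hc, Functor.map_comp]
    exact (sq j.down).w
  let g : ∀ j, (yon S).obj (V' j) ⟶ pullback π ((yon S).map c) := fun j =>
    pullback.lift (vq j.down) ((yon S).map (p j.down ≫ sigmaIncl W' j)) (by
      rw [← Functor.map_comp, Category.assoc, hc, Functor.map_comp]
      exact (sq j.down).w)
  have hg : ∀ j, IsPullback (g j) ((yon S).map (p j.down)) (pullback.snd π ((yon S).map c))
      ((yon S).map (sigmaIncl W' j)) := fun j => by
    refine IsPullback.of_right ?_ (by rw [pullback.lift_snd, Functor.map_comp])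
      (IsPullback.of_hasPullback π ((yon S).map c))
    rw [pullback.lift_fst, ← Functor.map_comp, hc]
    exact sq j.down
  have hP : IsAlgSpace (pullback π ((yon S).map c)) :=
    isAlgSpace_of_isPullback (IsPullback.of_hasPullback _ _) (IsAlgSpace.yon_obj Z).diag hQ
      (IsAlgSpace.yon_obj _)
  have : ∀ j, IsAffine (W' j).left := fun j => 𝒲.affine j.down
  have hcov : IsFpqcCover (fun j => (yon S).obj (V' j)) g :=
    isFpqcCover_baseChange (IsAlgSpace.yon_obj _) hP (fun _ => IsAlgSpace.yon_obj _) hg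
      (isFpqcCover_sigmaIncl W')
  let ψ : (yon S).obj (sigmaObj V') ⟶ pullback π ((yon S).map c) :=
    pullback.lift v ((yon S).map q) hw
  have hψ : ∀ j, (yon S).map (sigmaIncl V' j) ≫ ψ = g j := fun j => by
    apply pullback.hom_ext
    · rw [Category.assoc, pullback.lift_fst, pullback.lift_fst, hv]
    · rw [Category.assoc, pullback.lift_snd, pullback.lift_snd, hq]
  have : IsIso ψ := (MorphismProperty.isomorphisms.iff ψ).1
    ((isLocalOnBase_fpqc_isomorphisms _ g hP (fun _ => IsAlgSpace.yon_obj _) hcov ψ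
      (IsAlgSpace.yon_obj _) (fun j => (yon S).obj (V' j)) (fun _ => 𝟙 _)
      (fun j => (yon S).map (sigmaIncl V' j)) (fun _ => IsAlgSpace.yon_obj _) (fun j => by
        refine IsPullback.of_bot ?_ (by rw [hψ, Category.id_comp]) (hg j)
        rw [Category.id_comp, pullback.lift_snd]
        exact (isPullback_sigmaIncl (fun j => p j.down) q hq' j).map (yon S))).2
      fun _ => MorphismProperty.isomorphisms.infer_property _)
  refine exists_affine_iso_of_isPullback hQ c
    ((IsPullback.of_hasPullback π ((yon S).map c)).of_iso (asIso ψ).symm (Iso.refl _) (Iso.refl _)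
      (Iso.refl _) (fst' := v) (snd' := (yon S).map q) (f' := π) (g' := (yon S).map c) ?_ ?_ (by simp) (by simp))
  · simpa [IsIso.eq_inv_comp, ψ] using pullback.lift_fst v ((yon S).map q) hw
  · simpa [IsIso.eq_inv_comp, ψ] using pullback.lift_snd v ((yon S).map q) hw

theorem isLocalOnBase_fpqc_isAffineMor :
    IsLocalOnBase (IsFpqcCover (S := S)) IsAffineMor := by
  intro ι Y Yi g hY hYi hg X f hX Xi p q hXi hsq
  refine ⟨fun h i Z hZ a => ?_, fun hp Z hZ a => ?_⟩
  · obtain ⟨W, w, fst, sq, hW⟩ := h hZ (a ≫ g i)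
    refine ⟨W, w, (hsq i).lift fst ((yon S).map w ≫ a) (by rw [Category.assoc]; exact sq.w), ?_, hW⟩
    exact IsPullback.of_right (by rw [(hsq i).lift_fst]; exact sq) ((hsq i).lift_snd _ _ _) (hsq i)
  · obtain ⟨𝒲, hl⟩ := (isFpqcCover_iff.1 hg).2 Z hZ a
    have hQ : IsAlgSpace (pullback f a) :=
      isAlgSpace_of_isPullback (IsPullback.of_hasPullback _ _) hY.diag hX (IsAlgSpace.yon_obj _)
    have H : ∀ j, ∃ (V : Over S) (vq : (yon S).obj V ⟶ pullback f a) (p : V ⟶ 𝒲.W j),
        IsPullback vq ((yon S).map p) (pullback.snd f a) ((yon S).map (𝒲.c j)) ∧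
          IsAffine V.left := fun j => by
      obtain ⟨i, l, hl⟩ := hl j
      obtain ⟨V, w, fst, sq, hV⟩ := hp i (𝒲.affine j) l
      have big := sq.paste_horiz (hsq i)
      rw [hl] at big
      refine ⟨V, pullback.lift (fst ≫ q i) ((yon S).map (w ≫ 𝒲.c j))
        (by rw [Functor.map_comp, Category.assoc]; exact big.w), w, ?_, hV⟩
      refine IsPullback.of_right ?_ (by rw [pullback.lift_snd, Functor.map_comp])
        (IsPullback.of_hasPullback f a)
      rw [pullback.lift_fst]
      exact big
    have : IsAffine Z.left := hZ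
    obtain ⟨U, hU, ⟨e⟩⟩ := exists_affine_iso_of_affCover hQ (pullback.snd f a) 𝒲 H
    obtain ⟨i, hi⟩ := (yon S).map_surjective (e.inv ≫ pullback.snd f a)
    exact ⟨U, i, e.inv ≫ pullback.fst f a, (IsPullback.of_hasPullback f a).of_iso e (Iso.refl _)
      (Iso.refl _) (Iso.refl _) (by simp) (by simp [hi]) (by simp) (by simp), hU⟩

end

end Groth.AlgSp2
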