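import Groth.Agent.AlgSp2.AffineRep
import Groth.Agent.AlgSp2.AffineDescentLocal
import Groth.Agent.EtaleBase.FpqcDescent
import Groth.Agent.AlgSpBasic.LocPInst
import Groth.Prelude.Def_AlgSpMor5
import Mathlib.AlgebraicGeometry.Morphisms.LocalFlatDescent

/-!
# Representable affine properties are fpqc local on the base
-/

set_option autoImplicit false
set_option backward.isDefEq.respectTransparency.types false
universe u

open CategoryTheory CategoryTheory.Limits AlgebraicGeometry Opposite AlgSp

namespace Groth.AlgSp2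

open Groth.AlgSpBasic Groth.EtaleBase

noncomputable section

variable {S : Scheme.{u}} {X Y : Sp S} {f : X ⟶ Y}

theorem affineTest_of_repWith {P : MorphismProperty Scheme.{u}} (hP : P ≤ @IsAffineHom)
    (h : RepWith P f) {Z : Over S} (hZ : IsAffine Z.left) (g : (yon S).obj Z ⟶ Y) :
    ∃ (W : Over S) (i : W ⟶ Z) (fst : (yon S).obj W ⟶ X),
      IsPullback fst ((yon S).map i) f g ∧ IsAffine W.left ∧ P i.left := by
  obtain ⟨W, i, fst, sq⟩ := h.rep g
  have hp := h.property g fst i sq
  have : IsAffineHom i.left := hP _ hp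
  exact ⟨W, i, fst, sq, isAffine_of_isAffineHom i.left, hp⟩

theorem isAffineMor_of_repWith {P : MorphismProperty Scheme.{u}} (hP : P ≤ @IsAffineHom)
    (h : RepWith P f) : IsAffineMor f := fun _ hZ g => by
  obtain ⟨W, i, fst, sq, hW, -⟩ := affineTest_of_repWith hP h hZ g
  exact ⟨W, i, fst, sq, hW⟩

/-- A property tested on affine schemes holds on all schemes. -/
theorem repWith_of_affineTest {P : MorphismProperty Scheme.{u}} [P.IsStableUnderBaseChange]
    [IsZariskiLocalAtTarget P] (hX : IsAlgSpace X) (hY : IsAlgSpace Y)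
    (h : ∀ ⦃Z : Over S⦄, IsAffine Z.left → ∀ g : (yon S).obj Z ⟶ Y,
      ∃ (W : Over S) (i : W ⟶ Z) (fst : (yon S).obj W ⟶ X),
        IsPullback fst ((yon S).map i) f g ∧ IsAffine W.left ∧ P i.left) :
    RepWith P f := by
  have hf : IsAffineMor f := fun Z hZ g => by
    obtain ⟨W, i, fst, sq, hW, -⟩ := h hZ g
    exact ⟨W, i, fst, sq, hW⟩
  refine repWith_of_representable (repWith_isAffineHom_of_isAffineMor hX hY hf).rep
    fun U V g fst snd sq => ?_
  refine IsZariskiLocalAtTarget.of_openCover (P := P) U.left.affineCover fun k => ?_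
  let Z : Over S := Over.mk (U.left.affineCover.f k ≫ U.hom)
  let z : Z ⟶ U := Over.homMk (U.left.affineCover.f k) rfl
  obtain ⟨W, i, fst', sq', -, hP⟩ :=
    h (inferInstanceAs (IsAffine (U.left.affineCover.X k)) : IsAffine Z.left) ((yon S).map z ≫ g)
  obtain ⟨a, ha⟩ := (yon S).map_surjective (sq.lift fst' ((yon S).map (i ≫ z))
    (by rw [Functor.map_comp, Category.assoc]; exact sq'.w))
  have hsq : IsPullback ((yon S).map a) ((yon S).map i) ((yon S).map snd) ((yon S).map z) := by
    refine IsPullback.of_right ?_ ?_ sq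
    · rw [ha, IsPullback.lift_fst]; exact sq'
    · rw [ha, IsPullback.lift_snd, Functor.map_comp]
  have hsch := isPullback_left (isPullback_of_yon hsq)
  change P (pullback.snd snd.left z.left)
  rw [← hsch.isoPullback_inv_snd, P.cancel_left_of_respectsIso]
  exact hP

theorem isLocalOnBase_fpqc_repWith_affine (P : MorphismProperty Scheme.{u})
    [P.IsStableUnderBaseChange] [IsZariskiLocalAtTarget P] [P.DescendsAlong Fpqc]
    (hP : P ≤ @IsAffineHom) : IsLocalOnBase (IsFpqcCover (S := S)) (RepWith P) := by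
  intro ι Y Yi g hY hYi hg X f hX Xi p q hXi hsq
  refine ⟨fun h i => repWith_of_isPullback (hsq i) h, fun hp => ?_⟩
  have hf : IsAffineMor f := (isLocalOnBase_fpqc_isAffineMor Yi g hY hYi hg f hX Xi p q hXi hsq).2
    fun i => isAffineMor_of_repWith hP (hp i)
  refine repWith_of_affCover (repWith_isAffineHom_of_isAffineMor hX hY hf).rep fun T hT φ => ?_
  obtain ⟨𝒲, hl⟩ := (isFpqcCover_iff.1 hg).2 T hT φ
  refine ⟨𝒲, fun j V fst snd sqV => ?_⟩
  obtain ⟨i, l, hl⟩ := hl j
  rw [← hl] at sqV
  refine (hp i).property l ((hsq i).lift fst ((yon S).map snd ≫ l)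
    (by rw [sqV.w, Category.assoc])) snd ?_
  refine IsPullback.of_right ?_ ((hsq i).lift_snd _ _ _) (hsq i)
  rw [IsPullback.lift_fst]
  exact sqV

theorem isLocalOnBase_congr {τ : CovNotion S} {P Q : MorphismProperty (Sp S)}
    (h : ∀ ⦃X Y : Sp S⦄ (f : X ⟶ Y), IsAlgSpace X → IsAlgSpace Y → (P f ↔ Q f))
    (hQ : IsLocalOnBase τ Q) : IsLocalOnBase τ P := by
  intro ι Y Yi g hY hYi hg X f hX Xi p q hXi hsq
  rw [h f hX hY, hQ Yi g hY hYi hg f hX Xi p q hXi hsq]
  exact forall_congr' fun i => (h (p i) (hXi i) (hYi i)).symm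

theorem isIntegralMor_iff (hX : IsAlgSpace X) (hY : IsAlgSpace Y) :
    IsIntegralMor f ↔ RepWith @IsIntegralHom f :=
  ⟨fun h => repWith_of_affineTest hX hY h,
    fun h _ hZ g => affineTest_of_repWith (fun _ _ k (_ : IsIntegralHom k) => inferInstance) h hZ g⟩

theorem isFiniteMor_iff (hX : IsAlgSpace X) (hY : IsAlgSpace Y) :
    IsFiniteMor f ↔ RepWith @IsFinite f :=
  ⟨fun h => repWith_of_affineTest hX hY h,
    fun h _ hZ g => affineTest_of_repWith (fun _ _ k (_ : IsFinite k) => inferInstance) h hZ g⟩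

theorem isLocalOnBase_fpqc_isIntegralMor : IsLocalOnBase (IsFpqcCover (S := S)) IsIntegralMor :=
  isLocalOnBase_congr (fun _ _ _ hX hY => isIntegralMor_iff hX hY)
    (isLocalOnBase_fpqc_repWith_affine _ fun _ _ k (_ : IsIntegralHom k) => inferInstance)

theorem isLocalOnBase_fpqc_isFiniteMor : IsLocalOnBase (IsFpqcCover (S := S)) IsFiniteMor :=
  isLocalOnBase_congr (fun _ _ _ hX hY => isFiniteMor_iff hX hY)
    (isLocalOnBase_fpqc_repWith_affine _ fun _ _ k (_ : IsFinite k) => inferInstance)

theorem isLocalOnBase_fpqc_repWith_isClosedImmersion :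
    IsLocalOnBase (IsFpqcCover (S := S)) (RepWith @IsClosedImmersion) :=
  isLocalOnBase_fpqc_repWith_affine _ fun _ _ k (_ : IsClosedImmersion k) => inferInstance

theorem finLocFree_eq : (finLocFree : MorphismProperty Scheme.{u}) =
    (@IsFinite ⊓ (@Flat ⊓ @LocallyOfFinitePresentation) : MorphismProperty Scheme.{u}) := rfl

instance finLocFree_isZariskiLocalAtTarget : IsZariskiLocalAtTarget (finLocFree.{u}) := by
  rw [finLocFree_eq]
  infer_instance

instance finLocFree_descendsAlong : MorphismProperty.DescendsAlong finLocFree.{u} Fpqc.{u} where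
  of_isPullback sq hf h :=
    ⟨MorphismProperty.of_isPullback_of_descendsAlong (P := @IsFinite) (Q := Fpqc) sq hf h.1,
      MorphismProperty.of_isPullback_of_descendsAlong (P := @Flat) (Q := Fpqc) sq hf h.2.1,
      MorphismProperty.of_isPullback_of_descendsAlong (P := @LocallyOfFinitePresentation)
        (Q := Fpqc) sq hf h.2.2⟩

theorem isLocalOnBase_fpqc_isFinLocFreeMor : IsLocalOnBase (IsFpqcCover (S := S)) IsFinLocFreeMor :=
  isLocalOnBase_fpqc_repWith_affine finLocFree fun _ _ k hk => by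
    have : IsFinite k := hk.1
    exact (inferInstance : IsAffineHom k)

end

end Groth.AlgSp2
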