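import Groth.Prelude.Def_AlgSpCov
import Groth.Agent.AlgSpBasic.LocP
import Groth.Agent.AlgSp2.SmoothDescent
import Groth.Agent.EtaleBase.FpqcDescent
import Mathlib.RingTheory.Unramified.LocalStructure

/-!
# Properties defined on etale charts are fpqc local on the base
-/

set_option autoImplicit false
set_option backward.isDefEq.respectTransparency.types false
universe u

open CategoryTheory CategoryTheory.Limits AlgebraicGeometry Opposite AlgSp

namespace Groth.AlgSp2

open Groth.AlgSpBasic Groth.EtaleBase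

variable {S : Scheme.{u}}

/-- Descent along finitely many affines flat and jointly surjective over each member of an open
cover. -/
theorem prop_of_fpqc_family {P : MorphismProperty Scheme.{u}} [P.IsStableUnderBaseChange]
    [IsZariskiLocalAtTarget P] [P.DescendsAlong Fpqc] {A B : Scheme.{u}} (h : A ⟶ B)
    (H : ∀ k, ∃ (m : ℕ) (W : Fin m → Scheme.{u}) (c : ∀ j, W j ⟶ B.affineCover.X k),
      (∀ j, IsAffine (W j)) ∧ (∀ j, Flat (c j)) ∧ (∀ z, ∃ j, z ∈ Set.range (c j)) ∧
      ∀ j, P (pullback.snd h (c j ≫ B.affineCover.f k))) : P h := by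
  rw [IsZariskiLocalAtTarget.iff_of_openCover (P := P) B.affineCover]
  intro k
  obtain ⟨m, W, c, hW, hc, hs, hP⟩ := H k
  let d : (∐ W) ⟶ B.affineCover.X k := Sigma.desc c
  have : Surjective d := ⟨fun z => by
    obtain ⟨j, w, hw⟩ := hs z
    exact ⟨Sigma.ι W j w, by rw [← Scheme.Hom.comp_apply, Sigma.ι_desc, hw]⟩⟩
  have : Flat d := by
    rw [IsZariskiLocalAtSource.iff_of_openCover (P := @Flat) (sigmaOpenCover _)]
    intro j
    rw [show (sigmaOpenCover W).f j ≫ d = c j from Sigma.ι_desc _ _]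
    exact hc j
  change P (pullback.snd h (B.affineCover.f k))
  refine MorphismProperty.of_isPullback_of_descendsAlong (P := P) (Q := Fpqc)
    (IsPullback.of_hasPullback (pullback.snd h (B.affineCover.f k)) d).flip
    ⟨⟨inferInstance, inferInstance⟩, inferInstance⟩ ?_
  rw [IsZariskiLocalAtTarget.iff_of_openCover (P := P) (sigmaOpenCover _)]
  intro j
  have hp := (IsPullback.of_hasPullback (pullback.snd (pullback.snd h (B.affineCover.f k)) d)
    (Sigma.ι W j)).paste_horiz (IsPullback.of_hasPullback (pullback.snd h (B.affineCover.f k)) d)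
  rw [show Sigma.ι W j ≫ d = c j from Sigma.ι_desc _ _] at hp
  have hp' := hp.paste_horiz (IsPullback.of_hasPullback h (B.affineCover.f k))
  change P (pullback.snd (pullback.snd (pullback.snd h (B.affineCover.f k)) d) (Sigma.ι W j))
  rw [← hp'.isoPullback_hom_snd, P.cancel_left_of_respectsIso]
  exact hP j

theorem isLocalOnBase_fpqc_locP (P : MorphismProperty Scheme.{u}) [EtaleLocal P]
    [IsZariskiLocalAtTarget P] [P.DescendsAlong Fpqc] :
    IsLocalOnBase (IsFpqcCover (S := S)) (LocP P) := by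
  intro ι Y Yi g hY hYi hg X f hX Xi p q hXi hsq
  refine ⟨fun h i => locP_of_isPullback hX hY (hYi i) (hsq i) h, fun hp => ?_⟩
  intro U V a b h ha hb comm
  refine prop_of_fpqc_family h.left fun k => ?_
  let Z : Over S := Over.mk (V.left.affineCover.f k ≫ V.hom)
  let z : Z ⟶ V := Over.homMk (V.left.affineCover.f k) rfl
  obtain ⟨m, W, c, hW, hc, hs, hl⟩ :=
    hg.2 Z (inferInstanceAs (IsAffine (V.left.affineCover.X k))) ((yon S).map z ≫ b)
  refine ⟨m, fun j => (W j).left, fun j => (c j).left, hW, hc, hs, fun j => ?_⟩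
  obtain ⟨i, l, hl⟩ := hl j
  -- `N = V ×_Y W` and its section
  obtain ⟨N, n₁, n₂, hN⟩ := exists_pullback_of_diag hY.diag b ((yon S).map (c j ≫ z) ≫ b)
  have hn : Etale n₂.left := repWith_fst_of_isPullback hN hb
  obtain ⟨s, hs'⟩ := (yon S).map_surjective
    (hN.lift ((yon S).map (c j ≫ z)) (𝟙 _) (by rw [Category.id_comp]))
  have hs₁ : s ≫ n₁ = c j ≫ z :=
    (yon S).map_injective (by rw [Functor.map_comp, hs', hN.lift_fst])
  -- `M = U ×_V N`
  obtain ⟨M, m₁, m', hM⟩ :=
    exists_pullback_of_diag (IsAlgSpace.yon_obj V).diag ((yon S).map h) ((yon S).map n₁)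
  have hout : IsPullback ((yon S).map m₁) ((yon S).map (m' ≫ n₂)) (a ≫ f)
      ((yon S).map (c j ≫ z) ≫ b) := by
    rw [Functor.map_comp (yon S) m', comm]
    exact (hM.flip.paste_horiz hN.flip).flip
  -- `Q = X ×_Y W`
  have sqQ := IsPullback.of_hasPullback (p i) l
  have hQ := isAlgSpace_of_isPullback sqQ (hYi i).diag (hXi i) (IsAlgSpace.yon_obj (W j))
  have hPQ : LocP P (pullback.snd (p i) l) :=
    locP_of_isPullback (hXi i) (hYi i) (IsAlgSpace.yon_obj _) sqQ (hp i)
  have sqQ' : IsPullback (pullback.fst (p i) l ≫ q i) (pullback.snd (p i) l) f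
      ((yon S).map (c j ≫ z) ≫ b) := by
    rw [Functor.map_comp, Category.assoc, ← hl]
    exact sqQ.paste_horiz (hsq i)
  let σ : (yon S).obj M ⟶ pullback (p i) l :=
    sqQ'.lift ((yon S).map m₁ ≫ a) ((yon S).map (m' ≫ n₂))
      (by rw [Category.assoc]; exact hout.w)
  have hσ : IsPullback ((yon S).map m₁) σ a (pullback.fst (p i) l ≫ q i) := by
    refine IsPullback.of_bot ?_ (sqQ'.lift_fst _ _ _).symm sqQ'
    rw [sqQ'.lift_snd]
    exact hout
  have hm : P (m'.left ≫ n₂.left) := by
    rw [← Over.comp_left]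
    refine hPQ σ (𝟙 _) (m' ≫ n₂) (repWith_of_isPullback hσ ha) (repWith_id _ _) ?_
    rw [sqQ'.lift_snd, Category.comp_id]
  have hm' : P m'.left := EtaleLocal.of_comp_etale _ n₂.left hm
  have hsch := isPullback_left (isPullback_of_yon hM)
  have hp' := (IsPullback.of_hasPullback m'.left s.left).paste_horiz hsch
  change P (pullback.snd h.left ((c j).left ≫ z.left))
  rw [← Over.comp_left, ← hs₁, Over.comp_left, ← P.cancel_left_of_respectsIso hp'.isoPullback.hom,
    hp'.isoPullback_hom_snd]
  exact P.pullback_snd _ _ hm'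

end Groth.AlgSp2

namespace Groth.AlgSp2

open Groth.AlgSpBasic Groth.EtaleBase

section Instances

instance unramified_etaleLocal :
    EtaleLocal (@LocallyOfFiniteType ⊓ @FormallyUnramified : MorphismProperty Scheme.{u}) where
  of_etale _ _ f (_ : Etale f) := ⟨inferInstance, inferInstance⟩
  localAtTarget := isLocalAtTarget_fppf _
  of_comp_surjective _ _ _ χ h _ _ hh := by
    obtain ⟨h₁, h₂⟩ := hh
    exact ⟨SourceDescent.locallyOfFiniteType_of_comp_surjective χ h,
      SourceDescent.formallyUnramified_of_comp_surjective χ h⟩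

theorem locallyQuasiFinite_of_formallyUnramified {A B : Scheme.{u}} (f : A ⟶ B)
    [LocallyOfFiniteType f] [FormallyUnramified f] : LocallyQuasiFinite f := by
  rw [HasRingHomProperty.iff_appLE (P := @LocallyQuasiFinite)]
  intro U V e
  have h₁ := HasRingHomProperty.appLE @LocallyOfFiniteType f inferInstance U V e
  have h₂ := HasRingHomProperty.appLE @FormallyUnramified f inferInstance U V e
  algebraize [(f.appLE U.1 V.1 e).hom]
  have : Algebra.FiniteType Γ(B, U.1) Γ(A, V.1) := h₁
  have : Algebra.FormallyUnramified Γ(B, U.1) Γ(A, V.1) := h₂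
  exact RingHom.quasiFinite_algebraMap.2 inferInstance

instance quasiFinite_etaleLocal :
    EtaleLocal (@LocallyQuasiFinite ⊓ @LocallyOfFiniteType : MorphismProperty Scheme.{u}) where
  of_etale _ _ f (_ : Etale f) := ⟨locallyQuasiFinite_of_formallyUnramified f, inferInstance⟩
  localAtTarget := isLocalAtTarget_fppf _
  of_comp_surjective _ _ _ χ h _ _ hh := by
    obtain ⟨h₁, h₂⟩ := hh
    exact ⟨SourceDescent.locallyQuasiFinite_of_comp_surjective χ h,
      SourceDescent.locallyOfFiniteType_of_comp_surjective χ h⟩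

end Instances

theorem isLocalAtSource_precoverage (P Q : MorphismProperty Scheme.{u}) [P.IsStableUnderComposition]
    [IsZariskiLocalAtSource P] [IsZariskiLocalAtSource Q]
    (hQP : ∀ ⦃A B : Scheme.{u}⦄ (f : A ⟶ B), Q f → P f)
    (hdesc : ∀ ⦃A B C : Scheme.{u}⦄ (χ : A ⟶ B) (h : B ⟶ C), Q χ → Surjective χ →
      P (χ ≫ h) → P h) : P.IsLocalAtSource (Scheme.precoverage Q) where
  comp {X Y f R} hR U g hg hf := P.comp_mem _ _ (hQP g (hR.2 hg)) hf
  of_forall_comp {X Y f R} hR H := by
    obtain ⟨E, rfl⟩ := R.exists_eq_preZeroHypercover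
    have hR' : Presieve.ofArrows E.X E.f ∈ Scheme.precoverage Q X := hR
    rw [Scheme.ofArrows_mem_precoverage_iff] at hR'
    choose k y hy using hR'.1
    let d : (∐ fun x : X => E.X (k x)) ⟶ X := Sigma.desc fun x => E.f (k x)
    have hd : Surjective d := ⟨fun x =>
      ⟨Sigma.ι (fun x : X => E.X (k x)) x (y x), by
        rw [← Scheme.Hom.comp_apply, Sigma.ι_desc, hy]⟩⟩
    have hQd : Q d := by
      rw [IsZariskiLocalAtSource.iff_of_openCover (P := Q) (sigmaOpenCover _)]
      intro x
      rw [show (sigmaOpenCover fun x : X => E.X (k x)).f x ≫ d = E.f (k x) from Sigma.ι_desc _ _]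
      exact hR'.2 _
    refine hdesc d f hQd hd ?_
    rw [IsZariskiLocalAtSource.iff_of_openCover (P := P) (sigmaOpenCover _)]
    intro x
    rw [← Category.assoc,
      show (sigmaOpenCover fun x : X => E.X (k x)).f x ≫ d = E.f (k x) from Sigma.ι_desc _ _]
    exact H (Presieve.ofArrows.mk (k x))

instance flat_isLocalAtSource_fpqc :
    MorphismProperty.IsLocalAtSource @Flat.{u} Scheme.fpqcPrecoverage :=
  have := isLocalAtSource_precoverage @Flat.{u} @Flat (fun _ _ _ h => h)
    (fun _ _ _ χ h (_ : Flat χ) (_ : Surjective χ) (_ : Flat (χ ≫ h)) =>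
      FlatMor2.flat_of_comp_surjective χ h)
  { comp := fun hR => MorphismProperty.IsLocalAtSource.comp (K := Scheme.precoverage @Flat) hR.2
    of_forall_comp := fun hR =>
      MorphismProperty.IsLocalAtSource.of_forall_comp (K := Scheme.precoverage @Flat) hR.2 }

theorem isLocalAtSource_etale_of_etaleLocal (P : MorphismProperty Scheme.{u}) [EtaleLocal P]
    [IsZariskiLocalAtSource P] : P.IsLocalAtSource Scheme.etalePrecoverage :=
  isLocalAtSource_precoverage P @Etale (fun _ _ f h => EtaleLocal.of_etale f h)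
    fun _ _ _ χ h hχ hs => EtaleLocal.of_comp_surjective χ h hχ hs

end Groth.AlgSp2

namespace Groth.AlgSp2

open Groth.AlgSpBasic Groth.EtaleBase

variable {S : Scheme.{u}}

theorem isEtaleMor_iff_locP {X Y : Sp S} (hY : IsAlgSpace Y) {f : X ⟶ Y} :
    IsEtaleMor f ↔ LocP @Etale f :=
  ⟨locP_of_isEtaleMor, isEtaleMor_of_locP hY⟩

theorem isLocalOnBase_fpqc_isEtaleMor :
    IsLocalOnBase (IsFpqcCover (S := S)) IsEtaleMor := by
  intro ι Y Yi g hY hYi hg X f hX Xi p q hXi hsq
  rw [isEtaleMor_iff_locP hY, isLocalOnBase_fpqc_locP @Etale Yi g hY hYi hg f hX Xi p q hXi hsq]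
  exact forall_congr' fun i => (isEtaleMor_iff_locP (hYi i)).symm

end Groth.AlgSp2
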