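import Groth.Agent.AlgSp2.FpqcTop
import Groth.Agent.AlgSp2.LocPFpqc
import Groth.Agent.AlgSpBasic.DiagProps
import Mathlib.AlgebraicGeometry.Morphisms.FlatDescent

/-!
# Representable properties and properties of the diagonal are fpqc local on the base
-/

set_option autoImplicit false
set_option backward.isDefEq.respectTransparency.types false
universe u

open CategoryTheory CategoryTheory.Limits AlgebraicGeometry Opposite AlgSp

namespace Groth.AlgSp2

open Groth.AlgSpBasic Groth.EtaleBase

noncomputable section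

variable {S : Scheme.{u}}

theorem yEquiv_comp {F G : Sp S} {U : Over S} (x : (yon S).obj U ⟶ F) (f : F ⟶ G) :
    yEquiv (x ≫ f) = f.hom.app (op U) (yEquiv x) := by
  apply yEquiv.symm.injective
  rw [Equiv.symm_apply_apply]
  exact ((congrArg (· ≫ f) (yEquiv.symm_apply_apply x)).symm.trans
    ((J S).uliftYonedaEquiv_symm_naturality_right U f (yEquiv x)))

theorem isIso_of_bijective_comp {F G : Sp S} (f : F ⟶ G)
    (h : ∀ T : Over S, Function.Bijective fun a : (yon S).obj T ⟶ F => a ≫ f) : IsIso f := by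
  have : ∀ T : (Over S)ᵒᵖ, IsIso (f.hom.app T) := by
    rintro ⟨T⟩
    refine (isIso_iff_bijective _).2 ?_
    have e : f.hom.app (op T) = (yEquiv ∘ fun a : (yon S).obj T ⟶ F => a ≫ f) ∘
        yEquiv.symm := by
      funext x
      exact ((congrArg (f.hom.app (op T))
        (yEquiv.apply_symm_apply x)).symm.trans (yEquiv_comp _ f).symm)
    rw [show ⇑(f.hom.app (op T)) = _ from e]
    exact (yEquiv.bijective.comp (h T)).comp yEquiv.symm.bijective
  have : IsIso f.hom := NatIso.isIso_of_isIso_app _
  have : IsIso ((sheafToPresheaf (J S) _).map f) := ‹IsIso f.hom›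
  exact isIso_of_fully_faithful (sheafToPresheaf _ _) f

theorem isIso_of_repWith {F G : Sp S} {f : F ⟶ G}
    (h : RepWith (MorphismProperty.isomorphisms Scheme.{u}) f) : IsIso f := by
  refine isIso_of_bijective_comp f fun T => ⟨fun a b hab => ?_, fun g => ?_⟩
  · obtain ⟨V, snd, fst, sq⟩ := h.rep (a ≫ f)
    have : IsIso snd.left := h.property _ fst snd sq
    have : IsIso ((Over.forget S).map snd) := ‹IsIso snd.left›
    have : IsIso snd := isIso_of_reflects_iso snd (Over.forget S)
    have e := congrArg (fun k => k ≫ fst) ((cancel_mono ((yon S).map snd)).1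
      ((sq.lift_snd a (𝟙 _) (by simp)).trans
        (sq.lift_snd b (𝟙 _) (by rw [Category.id_comp]; exact hab.symm)).symm))
    simpa [sq.lift_fst] using e
  · obtain ⟨V, snd, fst, sq⟩ := h.rep g
    have : IsIso snd.left := h.property _ fst snd sq
    have : IsIso ((Over.forget S).map snd) := ‹IsIso snd.left›
    have : IsIso snd := isIso_of_reflects_iso snd (Over.forget S)
    refine ⟨(yon S).map (inv snd) ≫ fst, ?_⟩
    change ((yon S).map (inv snd) ≫ fst) ≫ f = g
    rw [Category.assoc, sq.w, ← Category.assoc, ← Functor.map_comp, IsIso.inv_hom_id,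
      (yon S).map_id, Category.id_comp]

/-- Descent for representable morphisms. -/
theorem repWith_of_affCover {P : MorphismProperty Scheme.{u}} [P.IsStableUnderBaseChange]
    [IsZariskiLocalAtTarget P] [P.DescendsAlong Fpqc] {F G : Sp S} {f : F ⟶ G}
    (hf : Representable f)
    (hcov : ∀ (T : Over S), IsAffine T.left → ∀ φ : (yon S).obj T ⟶ G,
      ∃ 𝒲 : AffCover (T := T), ∀ (j) (V : Over S) (fst : (yon S).obj V ⟶ F) (snd : V ⟶ 𝒲.W j),
        IsPullback fst ((yon S).map snd) f ((yon S).map (𝒲.c j) ≫ φ) → P snd.left) :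
    RepWith P f := by
  refine repWith_of_exists fun T g => ?_
  obtain ⟨V, snd, fst, sq⟩ := hf g
  refine ⟨V, fst, snd, sq, prop_of_fpqc_family snd.left fun k => ?_⟩
  let Z : Over S := Over.mk (T.left.affineCover.f k ≫ T.hom)
  let z : Z ⟶ T := Over.homMk (T.left.affineCover.f k) rfl
  obtain ⟨𝒲, h𝒲⟩ := hcov Z (inferInstanceAs (IsAffine (T.left.affineCover.X k))) ((yon S).map z ≫ g)
  refine ⟨𝒲.m, fun j => (𝒲.W j).left, fun j => (𝒲.c j).left, 𝒲.affine, 𝒲.flat, 𝒲.surj,
    fun j => ?_⟩
  obtain ⟨M, m₁, m₂, hM⟩ := exists_pullback_of_diag (IsAlgSpace.yon_obj T).diag ((yon S).map snd)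
    ((yon S).map (𝒲.c j ≫ z))
  have hP : P m₂.left := by
    refine h𝒲 j M ((yon S).map m₁ ≫ fst) m₂ ?_
    rw [← Category.assoc, ← Functor.map_comp]
    exact hM.paste_horiz sq
  have hsch := isPullback_left (isPullback_of_yon hM)
  change P (pullback.snd snd.left ((𝒲.c j).left ≫ z.left))
  rw [← Over.comp_left, ← P.cancel_left_of_respectsIso hsch.isoPullback.hom,
    hsch.isoPullback_hom_snd]
  exact hP

variable {X Y : Sp S}

theorem map_fst {C : Type*} [Category C] [HasPullbacks C] {X' Y' X Y : C} {f' : X' ⟶ Y'}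
    {f : X ⟶ Y} (a : X' ⟶ X) (b : Y' ⟶ Y) (w : f' ≫ b = a ≫ f) :
    pullback.map f' f' f f a a b w w ≫ pullback.fst f f = pullback.fst f' f' ≫ a :=
  pullback.lift_fst _ _ _

theorem map_snd {C : Type*} [Category C] [HasPullbacks C] {X' Y' X Y : C} {f' : X' ⟶ Y'}
    {f : X ⟶ Y} (a : X' ⟶ X) (b : Y' ⟶ Y) (w : f' ≫ b = a ≫ f) :
    pullback.map f' f' f f a a b w w ≫ pullback.snd f f = pullback.snd f' f' ≫ a :=
  pullback.lift_snd _ _ _

theorem isPullback_diagonal_map {X' Y' : Sp S} {f : X ⟶ Y} {g : Y' ⟶ Y} {f' : X' ⟶ Y'}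
    {g' : X' ⟶ X} (sq : IsPullback g' f' f g) :
    IsPullback g' (pullback.diagonal f') (pullback.diagonal f)
      (pullback.map f' f' f f g' g' g sq.w.symm sq.w.symm) := by
  have e : g' ≫ pullback.diagonal f =
      pullback.diagonal f' ≫ pullback.map f' f' f f g' g' g sq.w.symm sq.w.symm := by
    apply pullback.hom_ext
    · rw [Category.assoc, pullback.diagonal_fst, Category.comp_id, Category.assoc, map_fst, pullback.diagonal_fst_assoc]
    · rw [Category.assoc, pullback.diagonal_snd, Category.comp_id, Category.assoc, map_snd, pullback.diagonal_snd_assoc]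
  have hw : ∀ c : PullbackCone (pullback.diagonal f)
      (pullback.map f' f' f f g' g' g sq.w.symm sq.w.symm),
      (c.snd ≫ pullback.fst f' f') ≫ g' = c.fst ∧ (c.snd ≫ pullback.snd f' f') ≫ g' = c.fst :=
    fun c => by
    constructor
    · have h := c.condition =≫ pullback.fst f f
      rw [Category.assoc, Category.assoc, pullback.diagonal_fst, Category.comp_id, map_fst] at h
      rw [Category.assoc, h]
    · have h := c.condition =≫ pullback.snd f f
      rw [Category.assoc, Category.assoc, pullback.diagonal_snd, Category.comp_id, map_snd] at h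
      rw [Category.assoc, h]
  have heq : ∀ c : PullbackCone (pullback.diagonal f)
      (pullback.map f' f' f f g' g' g sq.w.symm sq.w.symm),
      c.snd ≫ pullback.fst f' f' = c.snd ≫ pullback.snd f' f' := fun c =>
    sq.hom_ext ((hw c).1.trans (hw c).2.symm)
      (by rw [Category.assoc, Category.assoc, pullback.condition])
  refine ⟨⟨e⟩, ⟨PullbackCone.IsLimit.mk _ (fun c => c.snd ≫ pullback.fst f' f') (fun c => (hw c).1)
    (fun c => ?_) (fun c m _ h₂ => ?_)⟩⟩
  · apply pullback.hom_ext
    · simp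
    · simpa using heq c
  · simpa using h₂ =≫ pullback.fst f' f'

theorem isLocalOnBase_fpqc_diagonal (P : MorphismProperty Scheme.{u}) [P.IsStableUnderBaseChange]
    [IsZariskiLocalAtTarget P] [P.DescendsAlong Fpqc] :
    IsLocalOnBase (IsFpqcCover (S := S)) fun _ _ f => RepWith P (pullback.diagonal f) := by
  intro ι Y Yi g hY hYi hg X f hX Xi p q hXi hsq
  refine ⟨fun h i => repWith_of_isPullback (isPullback_diagonal_map (hsq i)) h, fun hp => ?_⟩
  refine repWith_of_affCover (monoLFT_diagonal hX f).rep fun T hT φ => ?_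
  obtain ⟨m, W, c, hW, hc, hs, hl⟩ := hg.2 T hT (φ ≫ pullback.fst f f ≫ f)
  refine ⟨⟨m, W, c, hW, hc, hs⟩, fun j V fst snd sqV => ?_⟩
  obtain ⟨i, l, hl⟩ := hl j
  let x₁ : (yon S).obj (W j) ⟶ Xi i :=
    (hsq i).lift ((yon S).map (c j) ≫ φ ≫ pullback.fst f f) l (by
      rw [hl]; simp only [Category.assoc])
  let x₂ : (yon S).obj (W j) ⟶ Xi i :=
    (hsq i).lift ((yon S).map (c j) ≫ φ ≫ pullback.snd f f) l (by
      rw [hl]; simp only [Category.assoc, pullback.condition])
  let ψ : (yon S).obj (W j) ⟶ pullback (p i) (p i) :=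
    pullback.lift x₁ x₂ (by simp [x₁, x₂])
  have hψ : ψ ≫ pullback.map (p i) (p i) f f (q i) (q i) (g i) (hsq i).w.symm (hsq i).w.symm =
      (yon S).map (c j) ≫ φ := by
    apply pullback.hom_ext
    · rw [Category.assoc, map_fst, pullback.lift_fst_assoc, (hsq i).lift_fst, Category.assoc]
    · rw [Category.assoc, map_snd, pullback.lift_snd_assoc, (hsq i).lift_fst, Category.assoc]
  obtain ⟨V', snd', fst', sq'⟩ := (hp i).rep ψ
  have hP : P snd'.left := (hp i).property _ fst' snd' sq'
  have big := sq'.paste_horiz (isPullback_diagonal_map (hsq i))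
  rw [hψ] at big
  obtain ⟨e, he⟩ := (yon S).map_surjective (big.isoIsPullback _ _ sqV).inv
  have he' : e ≫ snd' = snd := (yon S).map_injective (by
    rw [Functor.map_comp, he, IsPullback.isoIsPullback_inv_snd])
  have : IsIso e := by
    have : IsIso ((yon S).map e) := by rw [he]; infer_instance
    exact isIso_of_fully_faithful (yon S) e
  have : IsIso e.left := (Over.forget S).map_isIso e
  rw [← he', Over.comp_left, P.cancel_left_of_respectsIso]
  exact hP

theorem mono_iff_repWith_diagonal {X Y : Sp S} (f : X ⟶ Y) :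
    Mono f ↔ RepWith (MorphismProperty.isomorphisms Scheme.{u}) (pullback.diagonal f) := by
  rw [← pullback.isIso_diagonal_iff]
  exact ⟨fun h => repWith_isIso _, fun h => isIso_of_repWith h⟩

theorem isLocalOnBase_fpqc_monomorphisms :
    IsLocalOnBase (IsFpqcCover (S := S)) (MorphismProperty.monomorphisms (Sp S)) := by
  intro ι Y Yi g hY hYi hg X f hX Xi p q hXi hsq
  refine (MorphismProperty.monomorphisms.iff f).trans ((mono_iff_repWith_diagonal f).trans
    ((isLocalOnBase_fpqc_diagonal (MorphismProperty.isomorphisms Scheme.{u}) Yi g hY hYi hg f hX Xi p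
      q hXi hsq).trans ?_))
  exact forall_congr' fun i =>
    (mono_iff_repWith_diagonal (p i)).symm.trans (MorphismProperty.monomorphisms.iff (p i)).symm

end

end Groth.AlgSp2
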