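import Groth.Agent.AlgSp2.MonoCriteria
import Groth.Agent.AlgSpBasic.AlgSpace
import Groth.Agent.AlgSpBasic.Compact
import Groth.Agent.AlgSpBasic.DiagProps

/-!
Decency is Zariski local on the base, descends along étale surjections, and follows from
quasi-separatedness.
-/

universe u v w

open CategoryTheory CategoryTheory.Limits AlgebraicGeometry Opposite

noncomputable section

namespace Groth.AlgSp2

open AlgSp

set_option backward.isDefEq.respectTransparency.types false in
instance quasiCompact_isZariskiLocalAtTarget : IsZariskiLocalAtTarget @QuasiCompact.{u} :=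
  inferInstance

theorem isPullback_of_comp_mono {C : Type v} [Category.{w} C] {A B D E E' : C} {fst : A ⟶ B}
    {snd : A ⟶ D} {f : B ⟶ E} {g : D ⟶ E} {m : E ⟶ E'} [Mono m] {f' : B ⟶ E'} {g' : D ⟶ E'}
    (sq : IsPullback fst snd f' g') (hf : f ≫ m = f') (hg : g ≫ m = g') :
    IsPullback fst snd f g := by
  subst hf hg
  refine ⟨⟨by rw [← cancel_mono m, Category.assoc, Category.assoc, sq.w]⟩,
    ⟨PullbackCone.IsLimit.mk _
      (fun s => sq.lift s.fst s.snd (by rw [← Category.assoc, s.condition, Category.assoc]))
      (fun s => sq.lift_fst _ _ _) (fun s => sq.lift_snd _ _ _)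
      (fun s l h₁ h₂ => sq.hom_ext (by rw [sq.lift_fst]; exact h₁) (by rw [sq.lift_snd]; exact h₂))⟩⟩

variable {S : Scheme.{u}} {F G : Sp S}

/-- Quasi-compactness of a representable map is tested on affine schemes. -/
theorem repWith_qc_of_affine {f : F ⟶ G} (hf : Representable f)
    (h : ∀ ⦃W V : Over S⦄ (g : (yon S).obj W ⟶ G) (fst : (yon S).obj V ⟶ F) (snd : V ⟶ W),
      IsAffine W.left → IsPullback fst ((yon S).map snd) f g → CompactSpace ↥V.left) :
    RepWith @QuasiCompact f := by
  have : MorphismProperty.RespectsIso @QuasiCompact.{u} :=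
    MorphismProperty.IsStableUnderBaseChange.respectsIso
  refine AlgSpBasic.repWith_of_representable hf fun W V g fst snd sq => ?_
  rw [IsZariskiLocalAtTarget.iff_of_openCover (P := @QuasiCompact) W.left.affineCover]
  intro i
  let j : Over.mk (W.left.affineCover.f i ≫ W.hom) ⟶ W := Over.homMk (W.left.affineCover.f i) rfl
  have : IsAffine (W.left.affineCover.X i) := inferInstance
  have hV := h ((yon S).map j ≫ g) ((yon S).map (pullback.fst snd j) ≫ fst) (pullback.snd snd j)
    this (((IsPullback.of_hasPullback snd j).map (yon S)).paste_horiz sq)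
  have hb := (IsPullback.of_hasPullback snd j).map (Over.forget S)
  have : CompactSpace ↥((Over.forget S).obj (pullback snd j)) := hV
  have : CompactSpace ↥(pullback snd.left (W.left.affineCover.f i)) :=
    hb.isoPullback.hom.homeomorph.compactSpace
  exact (quasiCompact_iff_compactSpace _).2 this

theorem representable_fieldPt {X : Sp S} (hX : IsAlgSpace X) (p : FieldPt X) :
    Representable p.toHom :=
  hX.representable_from_yon _

/-- Decency is local on an affine open covering of the base scheme. -/
theorem isDecent_of_affine_opens {T : Over S} {P : Sp S} (hP : IsAlgSpace P)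
    (snd : P ⟶ (yon S).obj T)
    (h : ∀ (Z : Over S) (ι : Z ⟶ T) (PZ : Sp S) (a : PZ ⟶ P) (b : PZ ⟶ (yon S).obj Z),
      IsAffine Z.left → IsOpenImmersion ι.left → IsPullback a b snd ((yon S).map ι) → IsDecent PZ) :
    IsDecent P := by
  intro x
  let zι : ∀ i, Over.mk (T.left.affineCover.f i ≫ T.hom) ⟶ T := fun i =>
    Over.homMk (T.left.affineCover.f i) rfl
  have hdec : ∀ i, IsDecent (pullback snd ((yon S).map (zι i))) := fun i =>
    h _ (zι i) _ _ _ (inferInstanceAs (IsAffine (T.left.affineCover.X i)))
      (inferInstanceAs (IsOpenImmersion (T.left.affineCover.f i))) (IsPullback.of_hasPullback _ _)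
  have hzm : ∀ i, Mono (zι i) := fun i =>
    (Over.forget S).mono_of_mono_map (inferInstanceAs (Mono (T.left.affineCover.f i)))
  have hmono : ∀ i, Mono (pullback.fst snd ((yon S).map (zι i))) := fun i => by
    have := hzm i
    exact mono_fst_of_isPullback (IsPullback.of_hasPullback _ _)
  obtain ⟨t, ht⟩ := (Points.schemeEquiv T).surjective (Points.map snd x)
  obtain ⟨i, z, hz⟩ := T.left.affineCover.exists_eq t
  obtain ⟨x', hx', -⟩ := exists_point_of_isPullback
    (IsPullback.of_hasPullback snd ((yon S).map (zι i)))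
    (x := x) (z := Points.schemeHomeo _ z) (by
      rw [← ht, Points.map_yon_map_apply]
      exact congrArg (Points.schemeHomeo T) hz.symm)
  obtain ⟨p, hp, hm, -⟩ := hdec i x'
  have := hmono i
  refine ⟨p.map (pullback.fst snd ((yon S).map (zι i))), by rw [← Points.map_mk, hp, hx'], ?_, ?_⟩
  · rw [FieldPt.toHom_map]; exact @mono_comp _ _ _ _ _ _ hm _ inferInstance
  -- quasi-compactness
  generalize hq' : p.map (pullback.fst snd ((yon S).map (zι i))) = q
  have hqm : Mono q.toHom := by
    rw [← hq', FieldPt.toHom_map]; exact @mono_comp _ _ _ _ _ _ hm _ inferInstance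
  clear hq' hp hm hx' x' hz z this p
  clear i
  have : MorphismProperty.RespectsIso @QuasiCompact.{u} :=
    MorphismProperty.IsStableUnderBaseChange.respectsIso
  refine AlgSpBasic.repWith_of_representable (representable_fieldPt hP q) fun W V g fstV sndV sq => ?_
  obtain ⟨γ, hγ⟩ := (yon S).map_surjective (g ≫ snd)
  obtain ⟨γq, hγq⟩ := (yon S).map_surjective (q.toHom ≫ snd)
  rw [IsZariskiLocalAtTarget.iff_of_openCover (P := @QuasiCompact)
    (T.left.affineCover.pullback₁ γ.left)]
  intro i
  change T.left.affineCover.I₀ at i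
  have : IsOpenImmersion (T.left.affineCover.f i) := inferInstance
  show QuasiCompact (pullback.snd sndV.left (pullback.fst γ.left (T.left.affineCover.f i)))
  let jW : Over.mk (pullback.fst γ.left (T.left.affineCover.f i) ≫ W.hom) ⟶ W :=
    Over.homMk (pullback.fst γ.left (T.left.affineCover.f i)) rfl
  have hb := (IsPullback.of_hasPullback sndV jW).map (Over.forget S)
  suffices QuasiCompact (pullback.snd sndV jW).left by
    rw [show (pullback.snd sndV.left (pullback.fst γ.left (T.left.affineCover.f i))) =
      hb.isoPullback.inv ≫ (pullback.snd sndV jW).left from hb.isoPullback_inv_snd.symm]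
    exact ((MorphismProperty.cancel_left_of_respectsIso @QuasiCompact hb.isoPullback.inv _).2 this :)
  rcases isEmpty_or_nonempty ↥(pullback sndV jW).left with hE | ⟨⟨v⟩⟩
  · infer_instance
  obtain ⟨fstV, rfl⟩ := (yon S).map_surjective fstV
  let kW : Over.mk (pullback.fst γ.left (T.left.affineCover.f i) ≫ W.hom) ⟶
      Over.mk (T.left.affineCover.f i ≫ T.hom) :=
    Over.homMk (pullback.snd γ.left (T.left.affineCover.f i)) (by
      change pullback.snd _ _ ≫ (_ ≫ _) = _ ≫ _
      rw [← Category.assoc, ← pullback.condition, Category.assoc, Over.w γ])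
  have hjk : jW ≫ γ = kW ≫ zι i := Over.OverMorphism.ext pullback.condition
  have hsq : fstV ≫ γq = sndV ≫ γ := (yon S).map_injective (by
    rw [Functor.map_comp, Functor.map_comp, hγ, hγq, reassoc_of% sq.w])
  -- `q` factors through the open `i`
  have hrange : Set.range γq.left ⊆ Set.range (T.left.affineCover.f i) := by
    rintro _ ⟨t', rfl⟩
    refine ⟨kW.left ((pullback.snd sndV jW).left v), ?_⟩
    have e : pullback.fst sndV jW ≫ fstV ≫ γq = pullback.snd sndV jW ≫ kW ≫ zι i := by
      rw [hsq, ← hjk, pullback.condition_assoc]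
    rw [Subsingleton.elim (α := ↥(Spec (CommRingCat.of q.K))) t'
      (fstV.left ((pullback.fst sndV jW).left v))]
    exact (congrArg (fun k : pullback sndV jW ⟶ T => k.left v) e).symm
  let γl : q.pt ⟶ Over.mk (T.left.affineCover.f i ≫ T.hom) :=
    Over.homMk (IsOpenImmersion.lift (T.left.affineCover.f i) γq.left hrange) (by
      change _ ≫ (_ ≫ _) = _
      rw [← Category.assoc, IsOpenImmersion.lift_fac]
      exact Over.w γq)
  have hl : γl ≫ zι i = γq := Over.OverMorphism.ext (IsOpenImmersion.lift_fac _ _ hrange)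
  have sqZ := IsPullback.of_hasPullback snd ((yon S).map (zι i))
  let pl := sqZ.lift q.toHom ((yon S).map γl) (by rw [← Functor.map_comp, hl, hγq])
  let gW := sqZ.lift ((yon S).map jW ≫ g) ((yon S).map kW)
    (by rw [Category.assoc, ← hγ, ← Functor.map_comp, ← Functor.map_comp, hjk])
  have := hmono i
  have hpl : pl ≫ pullback.fst snd ((yon S).map (zι i)) = q.toHom := sqZ.lift_fst _ _ _
  have hplm : Mono pl := mono_of_mono_fac hpl
  obtain ⟨p', hp', hm', hqc'⟩ := hdec i (Points.mk (ofHom pl))
  have : Mono (ofHom pl).toHom := by rw [toHom_ofHom]; exact hplm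
  obtain ⟨e, he⟩ := exists_iso_of_mono (ofHom pl) p' hqc'.rep hp'.symm
  have hplqc : RepWith @QuasiCompact pl := by
    rw [toHom_ofHom] at he
    rw [← he]
    exact ((MorphismProperty.cancel_left_of_respectsIso (RepWith @QuasiCompact)
      ((yon S).map e.hom) p'.toHom).2 hqc' :)
  have big := ((IsPullback.of_hasPullback sndV jW).map (yon S)).paste_horiz sq
  exact hplqc.property gW _ _ (isPullback_of_comp_mono big hpl (sqZ.lift_fst _ _ _))

/-- To be decent it suffices to be decent over affine schemes. -/
theorem isDecentMor_of_affine {X Y : Sp S} {f : X ⟶ Y} (hX : IsAlgSpace X) (hY : IsAlgSpace Y)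
    (h : ∀ (Z : Over S) (g : (yon S).obj Z ⟶ Y) (P : Sp S) (fst : P ⟶ X)
      (snd : P ⟶ (yon S).obj Z), IsAffine Z.left → IsPullback fst snd f g → IsDecent P) :
    IsDecentMor f := by
  intro T P g fst snd sq
  refine isDecent_of_affine_opens
    (AlgSpBasic.isAlgSpace_of_isPullback sq hY.diag hX (IsAlgSpace.yon_obj T)) snd
    fun Z ι PZ a b hZ _ sqZ => h Z ((yon S).map ι ≫ g) PZ (a ≫ fst) b hZ (sqZ.paste_horiz sq)

/-- A map from an affine scheme to a space quasi-separated over an affine scheme is quasi-compact. -/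
theorem repWith_qc_of_affine_of_qs {T A : Over S} [IsAffine T.left] [IsAffine A.left] {P : Sp S}
    (hP : IsAlgSpace P) (snd : P ⟶ (yon S).obj T)
    (hd : RepWith @QuasiCompact (pullback.diagonal snd)) (a : (yon S).obj A ⟶ P) :
    RepWith @QuasiCompact a := by
  refine repWith_qc_of_affine (hP.representable_from_yon a) fun W V g fst v hW sq => ?_
  obtain ⟨α, hα⟩ := (yon S).map_surjective (a ≫ snd)
  obtain ⟨β, hβ⟩ := (yon S).map_surjective (g ≫ snd)
  have sq₂ := (IsPullback.of_hasPullback α β).map (yon S)
  rw [hα, hβ] at sq₂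
  have hM := AlgSpBasic.repWith_mapDesc (P := @QuasiCompact) a g snd hd
  obtain ⟨j, hj⟩ := (yon S).map_surjective
    (sq.isoPullback.hom ≫ pullback.mapDesc a g snd ≫ sq₂.isoPullback.inv)
  have : MorphismProperty.RespectsIso (RepWith (S := S) @QuasiCompact) :=
    MorphismProperty.IsStableUnderBaseChange.respectsIso
  have hjq : RepWith @QuasiCompact ((yon S).map j) := by
    rw [hj]
    exact ((MorphismProperty.cancel_left_of_respectsIso (RepWith @QuasiCompact) sq.isoPullback.hom _).2
      ((MorphismProperty.cancel_right_of_respectsIso (RepWith @QuasiCompact) _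
        sq₂.isoPullback.inv).2 hM) :)
  have : QuasiCompact j.left := (repWith_yon_map_iff _ j).1 hjq
  have hb := (IsPullback.of_hasPullback α β).map (Over.forget S)
  have : CompactSpace ↥(pullback α β).left :=
    (have : CompactSpace ↥(pullback ((Over.forget S).map α) ((Over.forget S).map β)) :=
      (inferInstance : CompactSpace ↥(pullback α.left β.left))
    hb.isoPullback.hom.homeomorph.symm.compactSpace)
  exact QuasiCompact.compactSpace_of_compactSpace j.left

/-- A space quasi-separated over an affine scheme is decent. -/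
theorem isDecent_of_qs_affine {T : Over S} [IsAffine T.left] {P : Sp S} (hP : IsAlgSpace P)
    (snd : P ⟶ (yon S).obj T) (hd : RepWith @QuasiCompact (pullback.diagonal snd)) :
    IsDecent P := by
  intro x
  obtain ⟨U, φ, hφ, hs⟩ := hP.atlas
  obtain ⟨u, hu⟩ := AlgSpBasic.surjective_ofPt_of_repWith hs x
  obtain ⟨i, v, hv⟩ := U.left.affineCover.exists_eq u
  let A : Over S := Over.mk (U.left.affineCover.f i ≫ U.hom)
  let jA : A ⟶ U := Over.homMk (U.left.affineCover.f i) rfl
  have : IsAffine A.left := inferInstanceAs (IsAffine (U.left.affineCover.X i))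
  have : MorphismProperty.IsStableUnderComposition @Etale.{u} := ⟨fun f g hf hg => inferInstance⟩
  have ha : RepWith @Etale ((yon S).map jA ≫ φ) :=
    AlgSpBasic.repWith_comp ((repWith_yon_map_iff _ jA).2
      (inferInstanceAs (Etale (U.left.affineCover.f i)))) hφ
  have haq := repWith_qc_of_affine_of_qs hP snd hd ((yon S).map jA ≫ φ)
  have : Finite (Over.mk (A.left.fromSpecResidueField v ≫ A.hom)).left :=
    inferInstanceAs (Finite (Spec (CommRingCat.of (A.left.residueField v))))
  let q : FieldPt P := FieldPt.ofPt ((yon S).map jA ≫ φ) v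
  have hqc : RepWith @QuasiCompact q.toHom := by
    rw [FieldPt.toHom_ofPt]
    exact MorphismProperty.comp_mem _ _ _ (repWith_quasiCompact_of_unique _) haq
  have hqx : Points.mk q = x := by
    show Points.ofPt ((yon S).map jA ≫ φ) v = x
    rw [AlgSpBasic.ofPt_comp_yon]
    exact (congrArg (Points.ofPt φ) hv).trans hu
  obtain ⟨p, hp, hm, hpq⟩ :=
    exists_monoQC_of_qc hφ (representable_fieldPt hP) q hqc u (hu.trans hqx.symm)
  exact ⟨p, hp.trans hqx, hm, hpq⟩

/-- A quasi-separated morphism is decent. -/
theorem isDecentMor_of_qs {X Y : Sp S} {f : X ⟶ Y} (hX : IsAlgSpace X) (hY : IsAlgSpace Y)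
    (hf : IsQuasiSeparatedMor f) : IsDecentMor f := by
  refine isDecentMor_of_affine hX hY fun Z g P fst snd _ sq => isDecent_of_qs_affine
    (AlgSpBasic.isAlgSpace_of_isPullback sq hY.diag hX (IsAlgSpace.yon_obj Z)) snd ?_
  have : (RepWith (S := S) @QuasiCompact).diagonal.IsStableUnderBaseChange := inferInstance
  exact MorphismProperty.of_isPullback (P := (RepWith (S := S) @QuasiCompact).diagonal) sq hf

end Groth.AlgSp2
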