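import Groth.Agent.AlgSp2.MonoPoint

/-!
Criteria for representing points by (quasi-compact) monomorphisms from spectra of fields.
-/

universe u

open CategoryTheory CategoryTheory.Limits AlgebraicGeometry Opposite

noncomputable section

namespace Groth.AlgSp2

open AlgSp

section Scheme

/-- In `W ×_K W` with `W` locally quasi-finite over the field `K`, finitely many points lie over a
given pair of points. -/
theorem finite_pair_fibre {W B : Scheme.{u}} {K : Type u} [Field K]
    {f : W ⟶ Spec (CommRingCat.of K)} [LocallyQuasiFinite f] {fst snd : B ⟶ W}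
    (sq : IsPullback fst snd f f) (w w' : W) : {b : B | fst b = w ∧ snd b = w'}.Finite := by
  obtain ⟨i, x, hx⟩ := W.affineCover.exists_eq w
  let j := W.affineCover.f i
  have : CompactSpace ↥(W.affineCover.X i) := inferInstance
  have : QuasiCompact (j ≫ f) := quasiCompact_of_compactSpace_field _
  have : IsFinite (j ≫ f) := IsFinite.of_locallyQuasiFinite _
  have hM := (IsPullback.of_hasPullback j fst).flip.paste_horiz sq.flip
  have : IsFinite (pullback.snd j fst ≫ snd) :=
    MorphismProperty.of_isPullback (P := @IsFinite) hM.flip ‹_›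
  refine (((pullback.snd j fst ≫ snd).finite_preimage_singleton w').image
    (pullback.snd j fst)).subset ?_
  rintro b ⟨h₁, h₂⟩
  obtain ⟨z, -, hz⟩ := Scheme.exists_preimage_of_isPullback (IsPullback.of_hasPullback j fst) x b
    (hx.trans h₁.symm)
  exact ⟨z, by simpa [Scheme.Hom.comp_apply, hz] using h₂, hz⟩

end Scheme

variable {S : Scheme.{u}} {F G : Sp S}

instance isPreimmersion_resPt {U : Over S} (u : ↥U.left) : IsPreimmersion (resPt u).left :=
  inferInstanceAs (IsPreimmersion (U.left.fromSpecResidueField u))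

theorem mk_ofHom_resPt {U : Over S} (φ : (yon S).obj U ⟶ F) (u : ↥U.left) :
    Points.mk (ofHom ((yon S).map (resPt u) ≫ φ)) = Points.ofPt φ u := by
  refine (mk_ofHom_comp φ _).trans (congrArg (Points.ofPt φ) ?_)
  exact U.left.fromSpecResidueField_apply u _

theorem representable_resPt {U : Over S} {φ : (yon S).obj U ⟶ F} (hφ : Representable φ)
    (u : ↥U.left) : Representable ((yon S).map (resPt u) ≫ φ) :=
  MorphismProperty.comp_mem _ _ _ (representable_yon_map _) hφ

/-- A point with a finite fibre in `U ×_F U` over a pair is represented by a monomorphism. -/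
theorem exists_mono_of_finite_fibre {U R : Over S} {φ : (yon S).obj U ⟶ F}
    (hφ : RepWith @Etale φ) {s t : R ⟶ U}
    (sqR : IsPullback ((yon S).map t) ((yon S).map s) φ φ) {u u' : ↥U.left}
    (he : Points.ofPt φ u = Points.ofPt φ u')
    (hfin : {r : ↥R.left | s.left r = u ∧ t.left r = u'}.Finite) :
    ∃ p : FieldPt F, Points.mk p = Points.ofPt φ u ∧ Mono p.toHom := by
  have hr := representable_resPt hφ.rep u'
  obtain ⟨A, fst, snd, sq⟩ :=
    AlgSpBasic.exists_pullback_yon hr ((yon S).map (resPt u) ≫ φ)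
  obtain ⟨l, hl⟩ := (yon S).map_surjective
    (sqR.lift ((yon S).map (fst ≫ resPt u')) ((yon S).map (snd ≫ resPt u))
      (by simp only [Functor.map_comp, Category.assoc, sq.w]))
  have hl₁ : l ≫ t = fst ≫ resPt u' :=
    (yon S).map_injective (by rw [Functor.map_comp, hl, sqR.lift_fst])
  have hl₂ : l ≫ s = snd ≫ resPt u :=
    (yon S).map_injective (by rw [Functor.map_comp, hl, sqR.lift_snd])
  have hm' : ∀ v : ↥U.left, Mono (resPt v) := fun v =>
    (Over.forget S).mono_of_mono_map (inferInstanceAs (Mono (U.left.fromSpecResidueField v)))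
  have : Mono l := by
    constructor
    intro Z g₁ g₂ h
    have h₁ : g₁ ≫ fst = g₂ ≫ fst := by
      have := hm' u'
      rw [← cancel_mono (resPt u'), Category.assoc, Category.assoc, ← hl₁, reassoc_of% h]
    have h₂ : g₁ ≫ snd = g₂ ≫ snd := by
      have := hm' u
      rw [← cancel_mono (resPt u), Category.assoc, Category.assoc, ← hl₂, reassoc_of% h]
    exact (yon S).map_injective (sq.hom_ext (by rw [← Functor.map_comp, ← Functor.map_comp, h₁])
      (by rw [← Functor.map_comp, ← Functor.map_comp, h₂]))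
  have : Nonempty A.left := by
    obtain ⟨a, -⟩ := (AlgSpBasic.ofPt_eq_ofPt_iff sq (IsLocalRing.closedPoint _)
      (IsLocalRing.closedPoint _)).1
        (((ofPt_field _ _).trans (mk_ofHom_resPt φ u')).trans
          (he.symm.trans ((ofPt_field _ _).trans (mk_ofHom_resPt φ u)).symm))
    exact ⟨a⟩
  have : Finite A.left := by
    have := hfin.to_subtype
    let m : A.left → {r : ↥R.left | s.left r = u ∧ t.left r = u'} := fun a => ⟨l.left a, by
      rw [← Scheme.Hom.comp_apply, ← Over.comp_left, hl₂]
      exact U.left.fromSpecResidueField_apply u _, by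
      rw [← Scheme.Hom.comp_apply, ← Over.comp_left, hl₁]
      exact U.left.fromSpecResidueField_apply u' _⟩
    exact Finite.of_injective m fun a b h => l.left.injective (congrArg Subtype.val h)
  obtain ⟨p, c, hp, -, -, -, -, -, hmk⟩ :=
    @exists_mono_of_finite_pair _ _ _ _ hφ _ _ _ (resPt u') (isPreimmersion_resPt u') hr _ _ _ _ _ _ _ sq _ _
  exact ⟨p, hmk.trans ((mk_ofHom_resPt φ u').trans he.symm), hp⟩

/-- A point represented by a quasi-compact morphism from the spectrum of a field is represented by a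
quasi-compact monomorphism. -/
theorem exists_monoQC_of_qc {U : Over S} {φ : (yon S).obj U ⟶ F} (hφ : RepWith @Etale φ)
    (hrep : ∀ p : FieldPt F, Representable p.toHom) (q : FieldPt F)
    (hq : RepWith @QuasiCompact q.toHom) (u : ↥U.left) (he : Points.ofPt φ u = Points.mk q) :
    ∃ p : FieldPt F, Points.mk p = Points.mk q ∧ Mono p.toHom ∧ RepWith @QuasiCompact p.toHom := by
  have hr := representable_resPt hφ.rep u
  obtain ⟨A, fst, snd, sq⟩ := AlgSpBasic.exists_pullback_yon hr q.toHom
  have : QuasiCompact fst.left := hq.property _ _ _ sq.flip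
  have : CompactSpace ↥(Over.mk (U.left.fromSpecResidueField u ≫ U.hom)).left :=
    inferInstanceAs (CompactSpace (Spec (CommRingCat.of (U.left.residueField u))))
  have : CompactSpace ↥A.left := QuasiCompact.compactSpace_of_compactSpace fst.left
  have : LocallyQuasiFinite snd.left := locallyQuasiFinite_snd hφ (resPt u) sq
  have : QuasiCompact snd.left := quasiCompact_of_compactSpace_field (K := q.K) snd.left
  have : IsFinite snd.left :=
    IsFinite.of_locallyQuasiFinite (Y := Spec (CommRingCat.of q.K)) snd.left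
  have : Finite A.left := finite_of_isFinite (Y := Spec (CommRingCat.of q.K)) snd.left
  have : Nonempty A.left := by
    obtain ⟨a, -⟩ := (AlgSpBasic.ofPt_eq_ofPt_iff sq (IsLocalRing.closedPoint _)
      (IsLocalRing.closedPoint q.K)).1
        (((ofPt_field _ _).trans (mk_ofHom_resPt φ u)).trans
          (he.trans (Points.ofPt_toHom q _).symm))
    exact ⟨a⟩
  obtain ⟨p, c, hp, -, -, -, -, -, hmk⟩ :=
    @exists_mono_of_finite_pair _ _ _ _ hφ _ _ _ (resPt u) (isPreimmersion_resPt u) hr _ _ _ _ _ _ _ sq _ _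
  have hpq : Points.mk p = Points.mk q := hmk.trans ((mk_ofHom_resPt φ u).trans he)
  exact ⟨p, hpq, hp, repWith_quasiCompact_of_mk_eq p q (hrep p) hq hpq⟩

variable {U R : Over S} {φ : (yon S).obj U ⟶ F} {s t : R ⟶ U}
  {p : FieldPt F} {T : Over S} {c : T ⟶ p.pt} {k : T ⟶ U}

/-- The fibre of `U ×_F U` over a monomorphic point is covered by `T ×_p T`, `T` the fibre of `U`. -/
theorem exists_mem_pair (sqR : IsPullback ((yon S).map t) ((yon S).map s) φ φ)
    (hp : Representable p.toHom) (sqT : IsPullback ((yon S).map c) ((yon S).map k) p.toHom φ)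
    (r : ↥R.left) (hr : Points.ofPt ((yon S).map t ≫ φ) r = Points.mk p) :
    ∃ b : ↥(pullback c c).left, k.left ((pullback.fst c c).left b) = t.left r ∧
      k.left ((pullback.snd c c).left b) = s.left r ∧
      ∃ m : pullback c c ⟶ R, (yon S).map m ≫ (yon S).map t = (yon S).map (pullback.fst c c ≫ k) ∧
        (yon S).map m ≫ (yon S).map s = (yon S).map (pullback.snd c c ≫ k) ∧ m.left b = r := by
  obtain ⟨Z, zc, zr, sqZ⟩ := AlgSpBasic.exists_pullback_yon hp ((yon S).map t ≫ φ)
  obtain ⟨z, -, hz⟩ := (AlgSpBasic.ofPt_eq_ofPt_iff sqZ (IsLocalRing.closedPoint p.K) r).1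
    ((Points.ofPt_toHom p _).trans hr.symm)
  obtain ⟨jt, hjt⟩ := (yon S).map_surjective (sqT.lift ((yon S).map zc) ((yon S).map (zr ≫ t))
    (by rw [sqZ.w, Functor.map_comp, Category.assoc]))
  obtain ⟨js, hjs⟩ := (yon S).map_surjective (sqT.lift ((yon S).map zc) ((yon S).map (zr ≫ s))
    (by rw [sqZ.w, Functor.map_comp, Category.assoc, sqR.w]))
  have hc : jt ≫ c = js ≫ c := (yon S).map_injective (by
    rw [Functor.map_comp, Functor.map_comp, hjt, hjs, sqT.lift_fst, sqT.lift_fst])
  have hkt : jt ≫ k = zr ≫ t := (yon S).map_injective (by rw [Functor.map_comp, hjt, sqT.lift_snd])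
  have hks : js ≫ k = zr ≫ s := (yon S).map_injective (by rw [Functor.map_comp, hjs, sqT.lift_snd])
  obtain ⟨m, hm⟩ := (yon S).map_surjective
    (sqR.lift ((yon S).map (pullback.fst c c ≫ k)) ((yon S).map (pullback.snd c c ≫ k)) (by
      simp only [Functor.map_comp, Category.assoc, ← sqT.w]
      rw [← Functor.map_comp_assoc, ← Functor.map_comp_assoc, pullback.condition]))
  have hm₁ : (yon S).map m ≫ (yon S).map t = (yon S).map (pullback.fst c c ≫ k) := by
    rw [hm, sqR.lift_fst]
  have hm₂ : (yon S).map m ≫ (yon S).map s = (yon S).map (pullback.snd c c ≫ k) := by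
    rw [hm, sqR.lift_snd]
  have hlm : pullback.lift jt js hc ≫ m = zr := by
    refine (yon S).map_injective (sqR.hom_ext ?_ ?_)
    · rw [Functor.map_comp, Category.assoc, hm₁, ← Functor.map_comp, ← Functor.map_comp,
        pullback.lift_fst_assoc, hkt]
    · rw [Functor.map_comp, Category.assoc, hm₂, ← Functor.map_comp, ← Functor.map_comp,
        pullback.lift_snd_assoc, hks]
  refine ⟨(pullback.lift jt js hc).left z, ?_, ?_, m, hm₁, hm₂, ?_⟩
  · exact (congrArg (fun g : Z ⟶ U => g.left z)
      ((pullback.lift_fst_assoc jt js hc k).trans hkt)).trans (congrArg t.left hz)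
  · exact (congrArg (fun g : Z ⟶ U => g.left z)
      ((pullback.lift_snd_assoc jt js hc k).trans hks)).trans (congrArg s.left hz)
  · exact (congrArg (fun g : Z ⟶ R => g.left z) hlm).trans hz

/-- Over a monomorphic point, the fibre of `U ×_F U` over a pair of points is finite. -/
theorem finite_fibre_of_mono (hφ : RepWith @Etale φ)
    (sqR : IsPullback ((yon S).map t) ((yon S).map s) φ φ) (p : FieldPt F) [Mono p.toHom]
    (hp : Representable p.toHom) (u u' : ↥U.left) (hu' : Points.ofPt φ u' = Points.mk p) :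
    {r : ↥R.left | s.left r = u ∧ t.left r = u'}.Finite := by
  obtain ⟨T, c, k, sqT⟩ := AlgSpBasic.exists_pullback_yon hp φ
  have : Mono k := (yon S).mono_of_mono_map (mono_fst_of_isPullback sqT.flip)
  have : Etale c.left := hφ.property _ _ _ sqT.flip
  have : LocallyQuasiFinite c.left := locallyQuasiFinite_of_etale _
  have sqB := (IsPullback.of_hasPullback c c).map (Over.forget S)
  by_cases hne : ∃ w w' : ↥T.left, k.left w = u' ∧ k.left w' = u
  · obtain ⟨w, w', hw, hw'⟩ := hne
    obtain ⟨m, hm⟩ := (yon S).map_surjective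
      (sqR.lift ((yon S).map (pullback.fst c c ≫ k)) ((yon S).map (pullback.snd c c ≫ k)) (by
        simp only [Functor.map_comp, Category.assoc, ← sqT.w]
        rw [← Functor.map_comp_assoc, ← Functor.map_comp_assoc, pullback.condition]))
    have : LocallyQuasiFinite ((Over.forget S).map c) := ‹LocallyQuasiFinite c.left›
    refine ((@finite_pair_fibre _ _ p.K _ _ ‹LocallyQuasiFinite c.left› _ _ sqB w w').image m.left).subset ?_
    rintro r ⟨hs, ht⟩
    obtain ⟨b, hb₁, hb₂, m', hm₁, hm₂, hbr⟩ := exists_mem_pair sqR hp sqT r (by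
      rw [AlgSpBasic.ofPt_comp_yon, ht, hu'])
    refine ⟨b, ⟨k.left.injective (hb₁.trans (ht.trans hw.symm)),
      k.left.injective (hb₂.trans (hs.trans hw'.symm))⟩, ?_⟩
    have : m' = m := (yon S).map_injective (sqR.hom_ext
      (by rw [hm₁, hm, sqR.lift_fst]) (by rw [hm₂, hm, sqR.lift_snd]))
    rw [← this, hbr]
  · refine Set.Finite.subset Set.finite_empty ?_
    rintro r ⟨hs, ht⟩
    obtain ⟨b, hb₁, hb₂, -⟩ := exists_mem_pair sqR hp sqT r (by
      rw [AlgSpBasic.ofPt_comp_yon, ht, hu'])
    exact hne ⟨_, _, hb₁.trans ht, hb₂.trans hs⟩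

end Groth.AlgSp2
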