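import Groth.Agent.AlgSp2.FieldPts
import Mathlib.Algebra.Algebra.Epi
import Mathlib.RingTheory.TensorProduct.Free
import Mathlib.Algebra.Field.Subfield.Basic
import Mathlib.AlgebraicGeometry.Sites.Fpqc
import Mathlib.AlgebraicGeometry.Morphisms.Finite

/-!
If `r : Spec L ⟶ F` has self fibre product finite over `L`, then it factors as a finite field
extension followed by a monomorphism `Spec k ⟶ F`.
-/

universe u

open CategoryTheory CategoryTheory.Limits AlgebraicGeometry Opposite
open scoped TensorProduct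

noncomputable section

namespace Groth.AlgSp2

section Alg

variable {L : Type u} [Field L] {A A' : Type u} [CommRing A] [CommRing A'] [Algebra L A]
  [Algebra L A'] [Module.Finite L A] [Nontrivial A]

/-- The second algebra structure map, read in `A`. -/
abbrev secondMap (e : A' ≃+* A) : L →+* A := e.toRingHom.comp (algebraMap L A')

/-- The subfield on which the two algebra structures agree. -/
abbrev agreeField (e : A' ≃+* A) : Subfield L where
  carrier := {x | algebraMap L A x = secondMap e x}
  mul_mem' {x y} (hx : _ = _) (hy : _ = _) := show _ = _ by rw [map_mul, map_mul, hx, hy]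
  one_mem' := show _ = _ by rw [map_one, map_one]
  add_mem' {x y} (hx : _ = _) (hy : _ = _) := show _ = _ by rw [map_add, map_add, hx, hy]
  zero_mem' := show _ = _ by rw [map_zero, map_zero]
  neg_mem' {x} (hx : _ = _) := show _ = _ by rw [map_neg, map_neg, hx]
  inv_mem' x (hx : _ = _) := by
    rcases eq_or_ne x 0 with rfl | h
    · show _ = _
      simp
    · show _ = _
      have hu : IsUnit (algebraMap L A x) := (isUnit_iff_ne_zero.2 h).map _
      apply hu.mul_left_cancel
      rw [← map_mul, mul_inv_cancel₀ h, map_one, hx, ← map_mul, mul_inv_cancel₀ h, map_one]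

theorem exists_basis_agreeField (e : A' ≃+* A) (m : A →+* A' ⊗[L] A)
    (hgen : Submodule.span L (Set.range (secondMap (L := L) e)) = ⊤)
    (hmt : ∀ a : L, m (secondMap e a) = 1 ⊗ₜ secondMap e a)
    (hms : ∀ a, m (algebraMap L A a) = e.symm (algebraMap L A a) ⊗ₜ 1) :
    ∃ (n : ℕ) (a : Fin n → L) (bA : Module.Basis (Fin n) L A)
      (bL : Module.Basis (Fin n) (agreeField (L := L) e) L),
      (∀ i, bA i = secondMap e (a i)) ∧ ∀ i, bL i = a i := by
  obtain ⟨b, hb, hspan, hli⟩ := exists_linearIndependent L (Set.range (secondMap (L := L) e))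
  rw [hgen] at hspan
  let bA₀ : Module.Basis b L A := Module.Basis.mk hli (by rw [Subtype.range_coe]; exact hspan.ge)
  have : Finite b := Module.Finite.finite_basis bA₀
  obtain ⟨n, ⟨σ⟩⟩ := Finite.exists_equiv_fin b
  choose a ha using fun i : Fin n => hb (σ.symm i).2
  let bA := bA₀.reindex σ
  have hbA : ∀ i, bA i = secondMap e (a i) := fun i => by simp [bA, bA₀, ha]
  have hinj : Function.Injective (secondMap (L := L) e) := (secondMap (L := L) e).injective
  -- every element of `L` is a combination of the `a i` with coefficients in the agreement field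
  have key : ∀ x : L, ∃ c : Fin n → agreeField (L := L) e, x = ∑ i, (c i : L) * a i := by
    intro x
    let c : Fin n → L := fun i => bA.repr (secondMap e x) i
    have hx : secondMap e x = ∑ i, algebraMap L A (c i) * secondMap e (a i) := by
      conv_lhs => rw [← bA.sum_repr (secondMap e x)]
      simp [c, Algebra.smul_def, hbA]
    have hzero : ∑ i, (algebraMap L A' (c i) - e.symm (algebraMap L A (c i))) •
        Algebra.TensorProduct.basis A' bA i = 0 := by
      have h := congrArg m hx
      simp only [map_sum, map_mul, hmt, hms, Algebra.TensorProduct.tmul_mul_tmul, mul_one,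
        one_mul] at h
      rw [hx, TensorProduct.tmul_sum] at h
      simp only [sub_smul, Finset.sum_sub_distrib, Algebra.TensorProduct.basis_apply,
        TensorProduct.smul_tmul', smul_eq_mul, mul_one, hbA]
      rw [sub_eq_zero, ← h]
      refine Finset.sum_congr rfl fun i _ => ?_
      rw [← Algebra.smul_def (c i) (secondMap e (a i)), TensorProduct.tmul_smul,
        TensorProduct.smul_tmul', Algebra.smul_def, mul_one]
    have hc : ∀ i, c i ∈ agreeField (L := L) e := fun i => by
      have := Fintype.linearIndependent_iff.mp (Algebra.TensorProduct.basis A' bA).linearIndependent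
        _ hzero i
      show algebraMap L A (c i) = e (algebraMap L A' (c i))
      rw [sub_eq_zero.mp this, RingEquiv.apply_symm_apply]
    refine ⟨fun i => ⟨c i, hc i⟩, hinj ?_⟩
    rw [map_sum, hx]
    refine Finset.sum_congr rfl fun i _ => ?_
    rw [map_mul]
    exact congrArg (· * _) (hc i)
  have hli' : LinearIndependent (agreeField (L := L) e) a := by
    rw [Fintype.linearIndependent_iff]
    intro g hg i
    have h := congrArg (secondMap e) hg
    simp only [map_sum, map_zero, Subfield.smul_def, smul_eq_mul, map_mul] at h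
    have : ∑ j, (g j : L) • bA j = 0 := by
      rw [← h]
      refine Finset.sum_congr rfl fun j _ => ?_
      rw [Algebra.smul_def, hbA]
      exact congrArg (· * _) (g j).2
    exact Subtype.ext (Fintype.linearIndependent_iff.mp bA.linearIndependent _ this i)
  refine ⟨n, a, bA, Module.Basis.mk hli' fun x _ => ?_, hbA, fun i => by simp⟩
  obtain ⟨c, rfl⟩ := key x
  exact Submodule.sum_mem _ fun i _ => Submodule.smul_mem _ (c i)
    (Submodule.subset_span ⟨i, rfl⟩)

theorem exists_subfield_tensor_equiv (e : A' ≃+* A) (m : A →+* A' ⊗[L] A)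
    (hgen : Submodule.span L (Set.range (secondMap (L := L) e)) = ⊤)
    (hmt : ∀ a : L, m (secondMap e a) = 1 ⊗ₜ secondMap e a)
    (hms : ∀ a, m (algebraMap L A a) = e.symm (algebraMap L A a) ⊗ₜ 1) :
    ∃ (k : Subfield L) (_ : Module.Finite k L) (ψ : L ⊗[k] L ≃+* A),
      (∀ x, ψ (x ⊗ₜ 1) = algebraMap L A x) ∧ ∀ x, ψ (1 ⊗ₜ x) = secondMap e x := by
  obtain ⟨n, a, bA, bL, hbA, hbL⟩ := exists_basis_agreeField (L := L) e m hgen hmt hms
  let t : L →ₐ[agreeField (L := L) e] A := ⟨secondMap e, fun x => x.2.symm⟩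
  let ψ : L ⊗[agreeField (L := L) e] L →ₐ[L] A :=
    Algebra.TensorProduct.lift (Algebra.ofId L A) t fun _ _ => Commute.all _ _
  have hψ : ψ.toLinearMap = ((Algebra.TensorProduct.basis L bL).equiv bA (Equiv.refl _)).toLinearMap := by
    refine (Algebra.TensorProduct.basis L bL).ext fun i => ?_
    rw [LinearEquiv.coe_toLinearMap, Module.Basis.equiv_apply, Equiv.refl_apply, hbA]
    simp [ψ, Algebra.ofId_apply, hbL]
    rfl
  have hbij : Function.Bijective ψ := by
    have h : (ψ : L ⊗[agreeField (L := L) e] L → A) =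
        (Algebra.TensorProduct.basis L bL).equiv bA (Equiv.refl _) :=
      funext (LinearMap.congr_fun hψ)
    rw [h]
    exact LinearEquiv.bijective _
  refine ⟨agreeField (L := L) e, Module.Finite.of_basis bL, RingEquiv.ofBijective ψ hbij, fun x => ?_,
    fun x => ?_⟩
  · simp [ψ, Algebra.ofId_apply]
  · simp [ψ, Algebra.ofId_apply]
    rfl

end Alg

open AlgSp

/-- A copy of a ring carrying a second algebra structure. -/
def AltRing (A : Type u) : Type u := A

instance (A : Type u) [h : CommRing A] : CommRing (AltRing A) := h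

/-- A copy of a ring is isomorphic to it. -/
def AltRing.equiv (A : Type u) [CommRing A] : AltRing A ≃+* A := RingEquiv.refl A

variable {S : Scheme.{u}} {F : Sp S}

/-- Maps of sheaves descend along fppf covers of schemes. -/
theorem exists_desc_of_cover {T U : Over S} (c : T ⟶ U) [Flat c.left] [Surjective c.left]
    [LocallyOfFinitePresentation c.left] (r : (yon S).obj T ⟶ F)
    (h : ∀ ⦃Z : Over S⦄ (g₁ g₂ : Z ⟶ T), g₁ ≫ c = g₂ ≫ c →
      (yon S).map g₁ ≫ r = (yon S).map g₂ ≫ r) :
    ∃ q : (yon S).obj U ⟶ F, (yon S).map c ≫ q = r := by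
  have hs : Presieve.IsSheaf (J S) F.obj := (isSheaf_iff_isSheaf_of_type _ _).1 F.property
  have hmem : Sieve.generate (Presieve.singleton c) ∈ J S U := by
    rw [J_eq, GrothendieckTopology.mem_over_iff]
    refine GrothendieckTopology.superset_covering _ ?_
      (Precoverage.generate_mem_toGrothendieck c.left.singleton_mem_fppfPrecoverage)
    rw [Sieve.generate_le_iff]
    rintro _ _ ⟨⟩
    rw [Sieve.overEquiv_iff]
    exact ⟨T, Over.homMk (𝟙 _) (by simp), c, ⟨⟩, by apply Over.OverMorphism.ext; simp⟩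
  have hsf := (Presieve.isSheafFor_iff_generate _).2 (hs _ hmem)
  rw [Presieve.isSheafFor_singleton] at hsf
  have key : ∀ {Z : Over S} (g : Z ⟶ T), (J S).uliftYonedaEquiv ((yon S).map g ≫ r) =
      F.obj.map g.op ((J S).uliftYonedaEquiv r) := by
    intro Z g
    rw [GrothendieckTopology.uliftYonedaEquiv_naturality]
  obtain ⟨y, hy, -⟩ := hsf ((J S).uliftYonedaEquiv r) (fun {Z} p₁ p₂ hp => by
    rw [← key, ← key, h p₁ p₂ hp])
  refine ⟨(J S).uliftYonedaEquiv.symm y, ?_⟩
  apply (J S).uliftYonedaEquiv.injective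
  rw [← GrothendieckTopology.uliftYonedaEquiv_naturality, Equiv.apply_symm_apply, hy]

/-- A map of sheaves out of `h_U` that is injective on maps from schemes is a monomorphism. -/
theorem mono_of_injective {U : Over S} (q : (yon S).obj U ⟶ F)
    (h : ∀ ⦃W : Over S⦄ (a b : W ⟶ U), (yon S).map a ≫ q = (yon S).map b ≫ q → a = b) :
    Mono q := by
  constructor
  intro Z a b hab
  apply (sheafToPresheaf _ _).map_injective
  ext ⟨W⟩ z
  let z' : (yon S).obj W ⟶ Z := (J S).uliftYonedaEquiv.symm z
  obtain ⟨a', ha⟩ := (yon S).map_surjective (z' ≫ a)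
  obtain ⟨b', hb⟩ := (yon S).map_surjective (z' ≫ b)
  have hab' : a' = b' := h a' b' (by
    rw [ha, hb, Category.assoc, Category.assoc, hab])
  have : z' ≫ a = z' ≫ b := by rw [← ha, ← hb, hab']
  have h2 := congrArg (fun g => (J S).uliftYonedaEquiv g) this
  simp only [GrothendieckTopology.uliftYonedaEquiv_comp, z', Equiv.apply_symm_apply] at h2
  exact h2

/-- If `r : Spec L ⟶ F` has self fibre product finite over `L`, it factors as a finite extension
`Spec L ⟶ Spec k` followed by a monomorphism. -/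
theorem exists_mono_of_finite_self {L : Type u} [Field L] {str : Spec (CommRingCat.of L) ⟶ S}
    (r : (yon S).obj (Over.mk str) ⟶ F) {R : Over S} (π₁ π₂ : R ⟶ Over.mk str)
    (h : IsPullback ((yon S).map π₁) ((yon S).map π₂) r r) [hfin : IsFinite π₂.left] :
    ∃ (p : FieldPt F) (c : Over.mk str ⟶ p.pt), Mono p.toHom ∧ Surjective c.left ∧
      Flat c.left ∧ IsFinite c.left ∧ LocallyOfFinitePresentation c.left ∧
      (yon S).map c ≫ p.toHom = r := by
  have : IsAffine (Over.mk str).left := inferInstanceAs (IsAffine (Spec (CommRingCat.of L)))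
  have haff : IsAffine R.left := isAffine_of_isAffineHom π₂.left
  -- replace `R` by a spectrum
  obtain ⟨A, strA, P₁, P₂, hA, hfinA⟩ : ∃ (A : CommRingCat.{u}) (strA : Spec A ⟶ S)
      (P₁ P₂ : Over.mk strA ⟶ Over.mk str),
      IsPullback ((yon S).map P₁) ((yon S).map P₂) r r ∧ IsFinite P₂.left := by
    let e : Over.mk (R.left.isoSpec.inv ≫ R.hom) ≅ R := Over.isoMk R.left.isoSpec.symm rfl
    refine ⟨_, _, e.hom ≫ π₁, e.hom ≫ π₂, h.of_iso ((yon S).mapIso e.symm) (Iso.refl _) (Iso.refl _)
      (Iso.refl _) ?_ ?_ (by simp) (by simp), inferInstanceAs (IsFinite (R.left.isoSpec.inv ≫ π₂.left))⟩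
    · simp [← Functor.map_comp]
    · simp [← Functor.map_comp]
  obtain ⟨σ, hσ⟩ : ∃ σ : CommRingCat.of L ⟶ A, Spec.map σ = P₂.left :=
    ⟨Spec.preimage P₂.left, Spec.map_preimage _⟩
  obtain ⟨τ, hτ⟩ : ∃ τ : CommRingCat.of L ⟶ A, Spec.map τ = P₁.left :=
    ⟨Spec.preimage P₁.left, Spec.map_preimage _⟩
  let sL : L →+* A := σ.hom
  let tL : L →+* A := τ.hom
  letI : Algebra L A := sL.toAlgebra
  have : Module.Finite L A := by
    rw [← hσ, IsFinite.SpecMap_iff] at hfinA
    exact hfinA
  have : Nontrivial A := by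
    have d := hA.lift (𝟙 _) (𝟙 _) rfl
    obtain ⟨d, -⟩ := (yon S).map_surjective d
    exact PrimeSpectrum.nontrivial (d.left (IsLocalRing.closedPoint L))
  let A' := AltRing A
  letI : Algebra L A' := tL.toAlgebra
  let e : A' ≃+* A := AltRing.equiv A
  have ht : ∀ x, secondMap (L := L) e x = τ x := fun _ => rfl
  -- the images of the two maps generate
  have hgen : Submodule.span L (Set.range (secondMap (L := L) e)) = ⊤ := by
    let B : Subalgebra L A := Algebra.adjoin L (Set.range (secondMap (L := L) e))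
    have : Module.Finite B A := Module.Finite.of_restrictScalars_finite L _ _
    have hsurj := (Algebra.isEpi_iff_surjective_algebraMap_of_finite (R := B) (A := A)).1 (by
      rw [Algebra.isEpi_iff_forall_one_tmul_eq]
      intro x
      let i₁ : A →+* A ⊗[B] A := Algebra.TensorProduct.includeLeftRingHom
      let i₂ : A →+* A ⊗[B] A := (Algebra.TensorProduct.includeRight (R := B) (A := A)).toRingHom
      have hB : ∀ b : B, i₁ b.1 = i₂ b.1 := fun b => by
        change (b.1 : A) ⊗ₜ[B] (1 : A) = (1 : A) ⊗ₜ[B] b.1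
        rw [show (b.1 : A) = b • (1 : A) from (mul_one (b.1 : A)).symm, TensorProduct.smul_tmul]
      let g₁ : Over.mk (Spec.map (CommRingCat.ofHom i₁) ≫ strA) ⟶ Over.mk strA :=
        Over.homMk (Spec.map (CommRingCat.ofHom i₁)) rfl
      have hτσ : ∀ (ρ : CommRingCat.of L ⟶ A), (∀ x, ρ x ∈ B) →
          Spec.map (CommRingCat.ofHom i₁) ≫ Spec.map ρ = Spec.map (CommRingCat.ofHom i₂) ≫ Spec.map ρ := by
        intro ρ hρ
        rw [← Spec.map_comp, ← Spec.map_comp]
        congr 1
        ext x
        exact hB ⟨_, hρ x⟩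
      have h₁ := hτσ τ fun x => Algebra.subset_adjoin ⟨x, ht x⟩
      have h₂ := hτσ σ fun x => B.algebraMap_mem x
      have w₁ : Spec.map τ ≫ str = strA := by rw [hτ]; exact Over.w P₁
      let g₂ : Over.mk (Spec.map (CommRingCat.ofHom i₁) ≫ strA) ⟶ Over.mk strA :=
        Over.homMk (Spec.map (CommRingCat.ofHom i₂)) (by
          change Spec.map (CommRingCat.ofHom i₂) ≫ strA = Spec.map (CommRingCat.ofHom i₁) ≫ strA
          rw [← w₁, ← Category.assoc, ← Category.assoc, h₁])
      have e₁ : g₁ ≫ P₁ = g₂ ≫ P₁ := Over.OverMorphism.ext (by simpa [g₁, g₂, ← hτ] using h₁)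
      have e₂ : g₁ ≫ P₂ = g₂ ≫ P₂ := Over.OverMorphism.ext (by simpa [g₁, g₂, ← hσ] using h₂)
      have hg : g₁ = g₂ := (yon S).map_injective (hA.hom_ext
        (by rw [← Functor.map_comp, ← Functor.map_comp, e₁])
        (by rw [← Functor.map_comp, ← Functor.map_comp, e₂]))
      have := congrArg CommRingCat.Hom.hom (Spec.map_injective (congrArg CommaMorphism.left hg))
      exact (RingHom.congr_fun this x).symm)
    rw [eq_top_iff]
    rintro x -
    obtain ⟨⟨b, hb⟩, rfl⟩ := hsurj x
    have : (B : Subalgebra L A).toSubmodule ≤ Submodule.span L (Set.range (secondMap (L := L) e)) := by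
      rw [Algebra.adjoin_eq_span]
      refine Submodule.span_mono ?_
      rw [show Set.range (secondMap (L := L) e) =
        (MonoidHom.mrange (secondMap (L := L) e).toMonoidHom : Set A) from rfl, Submonoid.closure_eq]
    exact this hb
  -- the composition law
  let q₂ : A ⟶ CommRingCat.of (A' ⊗[L] A) :=
    CommRingCat.ofHom (RingHom.comp Algebra.TensorProduct.includeLeftRingHom e.symm.toRingHom)
  let q₁ : A ⟶ CommRingCat.of (A' ⊗[L] A) :=
    CommRingCat.ofHom (Algebra.TensorProduct.includeRight (R := L) (A := A') (B := A)).toRingHom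
  have hq : τ ≫ q₂ = σ ≫ q₁ := by
    ext x
    change (e.symm (secondMap (L := L) e x)) ⊗ₜ[L] (1 : A) = (1 : A') ⊗ₜ[L] algebraMap L A x
    rw [RingHom.comp_apply, RingEquiv.toRingHom_eq_coe, RingEquiv.coe_toRingHom, RingEquiv.symm_apply_apply]
    rw [Algebra.algebraMap_eq_smul_one, Algebra.algebraMap_eq_smul_one, TensorProduct.smul_tmul]
  let T : Over S := Over.mk (Spec.map q₂ ≫ strA)
  let Q₂ : T ⟶ Over.mk strA := Over.homMk (Spec.map q₂) rfl
  let Q₁ : T ⟶ Over.mk strA := Over.homMk (Spec.map q₁) (by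
    change Spec.map q₁ ≫ strA = Spec.map q₂ ≫ strA
    have w₁ : Spec.map τ ≫ str = strA := by rw [hτ]; exact Over.w P₁
    have w₂ : Spec.map σ ≫ str = strA := by rw [hσ]; exact Over.w P₂
    calc Spec.map q₁ ≫ strA = Spec.map (σ ≫ q₁) ≫ str :=
          (congrArg (Spec.map q₁ ≫ ·) w₂.symm).trans ((Category.assoc _ _ _).symm.trans
            (congrArg (· ≫ str) (Spec.map_comp σ q₁).symm))
      _ = Spec.map (τ ≫ q₂) ≫ str := by rw [hq]
      _ = Spec.map q₂ ≫ strA := (congrArg (· ≫ str) (Spec.map_comp τ q₂)).trans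
            ((Category.assoc _ _ _).trans (congrArg (Spec.map q₂ ≫ ·) w₁)))
  have hQ : Q₂ ≫ P₁ = Q₁ ≫ P₂ := Over.OverMorphism.ext (by
    change Spec.map q₂ ≫ P₁.left = Spec.map q₁ ≫ P₂.left
    rw [← hτ, ← hσ]
    exact (Spec.map_comp τ q₂).symm.trans ((congrArg Spec.map hq).trans (Spec.map_comp σ q₁)))
  have hw : (yon S).map (Q₁ ≫ P₁) ≫ r = (yon S).map (Q₂ ≫ P₂) ≫ r := by
    calc (yon S).map (Q₁ ≫ P₁) ≫ r = (yon S).map (Q₁ ≫ P₂) ≫ r := by
          simp only [Functor.map_comp, Category.assoc, hA.w]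
      _ = (yon S).map (Q₂ ≫ P₁) ≫ r := by rw [hQ]
      _ = (yon S).map (Q₂ ≫ P₂) ≫ r := by simp only [Functor.map_comp, Category.assoc, hA.w]
  obtain ⟨M, hM⟩ := (yon S).map_surjective (hA.lift _ _ hw)
  have hM₁ : M ≫ P₁ = Q₁ ≫ P₁ := (yon S).map_injective (by
    rw [Functor.map_comp, hM, hA.lift_fst])
  have hM₂ : M ≫ P₂ = Q₂ ≫ P₂ := (yon S).map_injective (by
    rw [Functor.map_comp, hM, hA.lift_snd])
  let m : A ⟶ CommRingCat.of (A' ⊗[L] A) := Spec.preimage M.left
  have hmt : τ ≫ m = τ ≫ q₁ := Spec.map_injective ((Spec.map_comp τ m).trans (by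
    refine Eq.trans ?_ ((congrArg CommaMorphism.left hM₁).trans
      ((congrArg (Spec.map q₁ ≫ ·) hτ.symm).trans (Spec.map_comp τ q₁).symm))
    rw [Spec.map_preimage, hτ]
    rfl))
  have hms : σ ≫ m = σ ≫ q₂ := Spec.map_injective ((Spec.map_comp σ m).trans (by
    refine Eq.trans ?_ ((congrArg CommaMorphism.left hM₂).trans
      ((congrArg (Spec.map q₂ ≫ ·) hσ.symm).trans (Spec.map_comp σ q₂).symm))
    rw [Spec.map_preimage, hσ]
    rfl))
  obtain ⟨k, hk, ψ, hψ₁, hψ₂⟩ := exists_subfield_tensor_equiv e m.hom hgen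
    (fun x => ConcreteCategory.congr_hom hmt x) (fun x => ConcreteCategory.congr_hom hms x)
  -- descend the structure morphism and `r`
  let c : Spec (CommRingCat.of L) ⟶ Spec (CommRingCat.of k) :=
    Spec.map (CommRingCat.ofHom (algebraMap k L))
  have hcfin : IsFinite c := by
    rw [IsFinite.SpecMap_iff]
    exact RingHom.finite_algebraMap.2 hk
  have hcfl : Flat c := by
    rw [Flat.SpecMap_iff]
    exact RingHom.flat_algebraMap_iff.2 inferInstance
  have hcfp : LocallyOfFinitePresentation c := by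
    rw [HasRingHomProperty.Spec_iff (P := @LocallyOfFinitePresentation)]
    exact RingHom.finitePresentation_algebraMap.2 (Algebra.FinitePresentation.of_finiteType.1 inferInstance)
  have hcs : Surjective c := ⟨fun x => ⟨IsLocalRing.closedPoint L, Subsingleton.elim _ _⟩⟩
  let φ : Spec (CommRingCat.of A) ⟶ Spec (CommRingCat.of (L ⊗[k] L)) :=
    Spec.map (CommRingCat.ofHom ψ.toRingHom)
  have hψiso : IsIso (CommRingCat.ofHom ψ.toRingHom) :=
    ψ.toCommRingCatIso.isIso_hom
  have hR : IsPullback P₂.left P₁.left c c := by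
    refine IsPullback.of_iso (IsPullback.of_hasPullback c c) ?_ (Iso.refl _) (Iso.refl _) (Iso.refl _)
      ?_ ?_ (by simp) (by simp)
    · exact (pullbackSpecIso k L L) ≪≫ (asIso φ).symm
    · rw [← hσ, ← cancel_epi (pullbackSpecIso k L L).inv]
      simp only [Iso.trans_hom, Iso.symm_hom, asIso_inv, Category.assoc, Iso.inv_hom_id_assoc,
        Iso.refl_hom, Category.comp_id]
      refine (IsIso.eq_inv_comp φ).2 ?_
      refine (congrArg (φ ≫ ·) (pullbackSpecIso_inv_fst k L L)).trans ?_
      refine (Spec.map_comp _ _).symm.trans (congrArg Spec.map ?_)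
      ext x
      exact hψ₁ x
    · rw [← hτ, ← cancel_epi (pullbackSpecIso k L L).inv]
      simp only [Iso.trans_hom, Iso.symm_hom, asIso_inv, Category.assoc, Iso.inv_hom_id_assoc,
        Iso.refl_hom, Category.comp_id]
      refine (IsIso.eq_inv_comp φ).2 ?_
      refine (congrArg (φ ≫ ·) (pullbackSpecIso_inv_snd k L L)).trans ?_
      refine (Spec.map_comp _ _).symm.trans (congrArg Spec.map ?_)
      ext x
      exact hψ₂ x
  have : EffectiveEpi c := inferInstance
  have hdesc : ∀ {Z : Scheme.{u}} (g₁ g₂ : Z ⟶ Spec (CommRingCat.of L)),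
      g₁ ≫ c = g₂ ≫ c → g₁ ≫ str = g₂ ≫ str := by
    intro Z g₁ g₂ hg
    have w₁ : P₁.left ≫ str = strA := Over.w P₁
    have w₂ : P₂.left ≫ str = strA := Over.w P₂
    calc g₁ ≫ str = (hR.lift g₁ g₂ hg ≫ P₂.left) ≫ str :=
          congrArg (· ≫ str) (hR.lift_fst g₁ g₂ hg).symm
      _ = hR.lift g₁ g₂ hg ≫ strA := (Category.assoc _ _ _).trans (congrArg (_ ≫ ·) w₂)
      _ = (hR.lift g₁ g₂ hg ≫ P₁.left) ≫ str :=
          (congrArg (_ ≫ ·) w₁.symm).trans (Category.assoc _ _ _).symm
      _ = g₂ ≫ str := congrArg (· ≫ str) (hR.lift_snd g₁ g₂ hg)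
  let strk : Spec (CommRingCat.of k) ⟶ S := EffectiveEpi.desc c str hdesc
  have hck : c ≫ strk = str := EffectiveEpi.fac c str hdesc
  let cO : Over.mk str ⟶ Over.mk strk := Over.homMk c hck
  have hpair : ∀ {Z : Over S} (g₁ g₂ : Z ⟶ Over.mk str), g₁ ≫ cO = g₂ ≫ cO →
      (yon S).map g₁ ≫ r = (yon S).map g₂ ≫ r := by
    intro Z g₁ g₂ hg
    have hg' : g₁.left ≫ c = g₂.left ≫ c := congrArg CommaMorphism.left hg
    let l : Z ⟶ Over.mk strA := Over.homMk (hR.lift g₁.left g₂.left hg') (by
      rw [← Over.w P₂, ← Category.assoc]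
      change (_ ≫ P₂.left) ≫ _ = _
      rw [hR.lift_fst]; exact Over.w g₁)
    have l₁ : l ≫ P₂ = g₁ := Over.OverMorphism.ext (hR.lift_fst _ _ _)
    have l₂ : l ≫ P₁ = g₂ := Over.OverMorphism.ext (hR.lift_snd _ _ _)
    rw [← l₁, ← l₂, Functor.map_comp, Functor.map_comp, Category.assoc, Category.assoc, hA.w]
  have : Flat cO.left := hcfl
  have : Surjective cO.left := hcs
  have : LocallyOfFinitePresentation cO.left := hcfp
  obtain ⟨q, hq'⟩ := exists_desc_of_cover cO r fun _ g₁ g₂ hg => hpair g₁ g₂ hg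
  have hmono : Mono q := by
    refine mono_of_injective q fun W a b hab => ?_
    -- lift `a` and `b` to `Spec L` on a cover of `W`
    let W₁ := pullback a cO
    let W₂ := pullback (pullback.fst a cO ≫ b) cO
    let d : W₂ ⟶ W := pullback.fst _ _ ≫ pullback.fst a cO
    let a' : W₂ ⟶ Over.mk str := pullback.fst _ _ ≫ pullback.snd a cO
    let b' : W₂ ⟶ Over.mk str := pullback.snd _ _
    have ea : d ≫ a = a' ≫ cO := by simp [d, a', pullback.condition]
    have eb : d ≫ b = b' ≫ cO := by simp [d, b', Category.assoc, pullback.condition]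
    have key : ∀ (u : W₂ ⟶ W) (u' v' : W₂ ⟶ Over.mk str), u ≫ a = u' ≫ cO → u ≫ b = v' ≫ cO →
        (yon S).map u' ≫ r = (yon S).map v' ≫ r := by
      intro u u' v' hu hv
      rw [← hq', ← Functor.map_comp_assoc, ← Functor.map_comp_assoc, ← hu, ← hv]
      simp only [Functor.map_comp, Category.assoc, hab]
    have hab' := key d a' b' ea eb
    obtain ⟨l, hl⟩ := (yon S).map_surjective (hA.lift _ _ hab')
    have la : l ≫ P₁ = a' := (yon S).map_injective (by rw [Functor.map_comp, hl, hA.lift_fst])
    have lb : l ≫ P₂ = b' := (yon S).map_injective (by rw [Functor.map_comp, hl, hA.lift_snd])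
    have hcc : a' ≫ cO = b' ≫ cO := Over.OverMorphism.ext (by
      rw [← la, ← lb]
      simp only [Over.comp_left, Category.assoc]
      exact congrArg (l.left ≫ ·) hR.w.symm)
    have hd : Flat d.left ∧ Surjective d.left := by
      have sq₁ := (IsPullback.of_hasPullback a cO).map (Over.forget S)
      have sq₂ := (IsPullback.of_hasPullback (pullback.fst a cO ≫ b) cO).map (Over.forget S)
      have : Flat (pullback.fst a cO).left := MorphismProperty.of_isPullback sq₁.flip hcfl
      have : Surjective (pullback.fst a cO).left := MorphismProperty.of_isPullback sq₁.flip hcs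
      have : Flat (pullback.fst (pullback.fst a cO ≫ b) cO).left :=
        MorphismProperty.of_isPullback sq₂.flip hcfl
      have : Surjective (pullback.fst (pullback.fst a cO ≫ b) cO).left :=
        MorphismProperty.of_isPullback sq₂.flip hcs
      exact ⟨inferInstanceAs (Flat (_ ≫ _)), inferInstanceAs (Surjective (_ ≫ _))⟩
    have := hd.1
    have := hd.2
    have : Epi d.left := Flat.epi_of_flat_of_surjective _
    apply Over.OverMorphism.ext
    rw [← cancel_epi d.left]
    exact congrArg CommaMorphism.left (ea.trans (hcc.trans eb.symm))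
  exact ⟨ofHom q, cO, by rw [toHom_ofHom]; exact hmono, hcs, hcfl, hcfin, hcfp,
    by rw [toHom_ofHom]; exact hq'⟩

end Groth.AlgSp2
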