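import Groth.Agent.AlgSp2.FieldPts
import Groth.Agent.AlgSp2.SelfPullbackField
import Groth.Agent.AlgSpBasic.Points
import Mathlib.AlgebraicGeometry.Morphisms.QuasiFinite
import Mathlib.AlgebraicGeometry.Morphisms.FormallyUnramified
import Mathlib.AlgebraicGeometry.Morphisms.FlatDescent
import Mathlib.RingTheory.Unramified.LocalStructure

/-!
Monomorphic field-valued points through an étale chart.
-/

universe u

open CategoryTheory CategoryTheory.Limits AlgebraicGeometry Opposite

noncomputable section

namespace Groth.AlgSp2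

open AlgSp

section Scheme

/-- Formally unramified morphisms locally of finite type are locally quasi-finite. -/
theorem locallyQuasiFinite_of_unramified {X Y : Scheme.{u}} (f : X ⟶ Y) [FormallyUnramified f]
    [LocallyOfFiniteType f] : LocallyQuasiFinite f := by
  refine ⟨fun {U} hU {V} hV e => ?_⟩
  have h₁ := f.formallyUnramified_appLE hU hV e
  have h₂ := LocallyOfFiniteType.finiteType_appLE f hU hV e
  letI := (f.appLE U V e).hom.toAlgebra
  have : Algebra.FormallyUnramified Γ(Y, U) Γ(X, V) := h₁
  have : Algebra.FiniteType Γ(Y, U) Γ(X, V) := h₂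
  exact (inferInstance : Algebra.QuasiFinite Γ(Y, U) Γ(X, V))

theorem locallyQuasiFinite_of_etale {X Y : Scheme.{u}} (f : X ⟶ Y) [Etale f] :
    LocallyQuasiFinite f :=
  locallyQuasiFinite_of_unramified f

/-- A monomorphism from a nonempty scheme into the spectrum of a field is an isomorphism. -/
theorem isIso_of_mono_to_field {X : Scheme.{u}} [Nonempty X] {K : Type u} [Field K]
    (f : X ⟶ Spec (CommRingCat.of K)) [Mono f] : IsIso f := by
  obtain ⟨x⟩ := ‹Nonempty X›
  let i := X.fromSpecResidueField x
  have hq : QuasiCompact (i ≫ f) := inferInstance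
  have hs : Surjective (i ≫ f) := ⟨fun y => ⟨IsLocalRing.closedPoint _, Subsingleton.elim _ _⟩⟩
  have hflat : Flat (i ≫ f) := by
    rw [← Spec.map_preimage (i ≫ f), Flat.SpecMap_iff]
    let φ : K →+* X.residueField x := (Spec.preimage (i ≫ f)).hom
    show RingHom.Flat φ
    let : Algebra K (X.residueField x) := φ.toAlgebra
    exact RingHom.flat_algebraMap_iff.2 inferInstance
  have hiso : IsIso (i ≫ f) := by
    refine MorphismProperty.of_isPullback_of_descendsAlong
      (P := MorphismProperty.isomorphisms Scheme.{u}) (Q := @Surjective ⊓ @Flat ⊓ @QuasiCompact)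
      (IsKernelPair.id_of_mono (i ≫ f)) ⟨⟨hs, hflat⟩, hq⟩ ?_
    show IsIso _
    infer_instance
  have : IsSplitEpi f := ⟨⟨⟨CategoryTheory.inv (i ≫ f) ≫ i, by simp⟩⟩⟩
  exact isIso_of_mono_of_isSplitEpi f

theorem quasiCompact_of_compactSpace_field {X : Scheme.{u}} [CompactSpace X] {K : Type u} [Field K]
    (f : X ⟶ Spec (CommRingCat.of K)) : QuasiCompact f :=
  (quasiCompact_iff_compactSpace f).2 inferInstance

/-- A morphism to the spectrum of a field with finitely many points which is locally quasi-finite is finite. -/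
theorem isFinite_of_finite {X : Scheme.{u}} [Finite X] {K : Type u} [Field K]
    (f : X ⟶ Spec (CommRingCat.of K)) [LocallyQuasiFinite f] : IsFinite f := by
  have := quasiCompact_of_compactSpace_field f
  exact IsFinite.of_locallyQuasiFinite f

theorem quasiCompact_of_comp_surjective {X Y Z : Scheme.{u}} (f : X ⟶ Y) (g : Y ⟶ Z) [Surjective f]
    [QuasiCompact (f ≫ g)] : QuasiCompact g := by
  refine ⟨fun U hU hc => ?_⟩
  have h := (QuasiCompact.isCompact_preimage (f := f ≫ g) U hU hc).image f.continuous
  rw [Scheme.Hom.comp_base, TopCat.coe_comp, Set.preimage_comp,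
    Set.image_preimage_eq _ f.surjective] at h
  exact h

theorem finite_of_isFinite {X Y : Scheme.{u}} [Finite Y] (f : X ⟶ Y) [IsFinite f] : Finite X := by
  rw [← Set.finite_univ_iff]
  exact Set.preimage_univ (f := f) ▸ f.finite_preimage Set.finite_univ

end Scheme

variable {S : Scheme.{u}} {F G : Sp S}

/-- A monomorphism of sheaves is injective on points. -/
theorem map_injective_of_mono (f : F ⟶ G) [Mono f] : Function.Injective (Points.map f) := by
  intro x y h
  induction x using Points.ind with | h p =>
  induction y using Points.ind with | h q =>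
  rw [Points.map_mk, Points.map_mk, Points.mk_eq_mk_iff, rel_iff] at h
  obtain ⟨Ω, i, w, a, b, e⟩ := h
  refine Points.sound ((rel_iff _ _).2 ⟨Ω, i, w, a, b, ?_⟩)
  rw [← cancel_mono f, Category.assoc, Category.assoc]
  rwa [FieldPt.toHom_map, FieldPt.toHom_map] at e

/-- The point of `Spec L` in a sheaf. -/
theorem ofPt_field {L : Type u} [Field L] {str : Spec (CommRingCat.of L) ⟶ S}
    (g : (yon S).obj (Over.mk str) ⟶ F) (t : ↥(Spec (CommRingCat.of L))) :
    Points.ofPt g t = Points.mk (ofHom g) := by
  have h := Points.ofPt_toHom (ofHom g) t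
  rwa [toHom_ofHom] at h

/-- Projection from `Z ×_F W` to `W`, for `Z → U` a preimmersion and `U → F` étale, is locally
quasi-finite. -/
theorem locallyQuasiFinite_snd {U W Z P : Over S} {φ : (yon S).obj U ⟶ F} (hφ : RepWith @Etale φ)
    (a : Z ⟶ U) [IsPreimmersion a.left] {g : (yon S).obj W ⟶ F} {fst : P ⟶ Z} {snd : P ⟶ W}
    (sq : IsPullback ((yon S).map fst) ((yon S).map snd) ((yon S).map a ≫ φ) g) :
    LocallyQuasiFinite snd.left := by
  obtain ⟨V, v₁, v₂, sqV⟩ := AlgSpBasic.exists_pullback_yon hφ.rep g
  have : Etale v₂.left := hφ.property g _ _ sqV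
  have := locallyQuasiFinite_of_etale v₂.left
  obtain ⟨l, hl⟩ := (yon S).map_surjective
    (sqV.lift ((yon S).map fst ≫ (yon S).map a) ((yon S).map snd) (by rw [Category.assoc, sq.w]))
  have hl₁ : (yon S).map l ≫ (yon S).map v₁ = (yon S).map fst ≫ (yon S).map a := by
    rw [hl, sqV.lift_fst]
  have hl₂ : l ≫ v₂ = snd := (yon S).map_injective (by rw [Functor.map_comp, hl, sqV.lift_snd])
  have sq' := AlgSpBasic.isPullback_left (AlgSpBasic.isPullback_of_yon
    (IsPullback.of_bot (by rw [← Functor.map_comp, hl₂]; exact sq) hl₁.symm sqV))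
  have : IsPreimmersion l.left := MorphismProperty.of_isPullback sq' ‹_›
  rw [← hl₂, Over.comp_left]
  infer_instance

/-- If `Spec κ(u) ×_F Spec L'` is nonempty and finite over `L'`, then the point is represented by a
monomorphism, through which `Spec κ(u)` is finite. -/
theorem exists_mono_of_finite_pair {U : Over S} {φ : (yon S).obj U ⟶ F} (hφ : RepWith @Etale φ)
    {L : Type u} [Field L] {str : Spec (CommRingCat.of L) ⟶ S} (a : Over.mk str ⟶ U)
    [IsPreimmersion a.left] (hr : Representable ((yon S).map a ≫ φ))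
    {L' : Type u} [Field L'] {str' : Spec (CommRingCat.of L') ⟶ S}
    {g : (yon S).obj (Over.mk str') ⟶ F} {A : Over S} {fst : A ⟶ Over.mk str}
    {snd : A ⟶ Over.mk str'}
    (sq : IsPullback ((yon S).map fst) ((yon S).map snd) ((yon S).map a ≫ φ) g)
    [Nonempty A.left] [Finite A.left] :
    ∃ (p : FieldPt F) (c : Over.mk str ⟶ p.pt), Mono p.toHom ∧ Surjective c.left ∧
      Flat c.left ∧ IsFinite c.left ∧ LocallyOfFinitePresentation c.left ∧
      (yon S).map c ≫ p.toHom = (yon S).map a ≫ φ ∧
      Points.mk p = Points.mk (ofHom ((yon S).map a ≫ φ)) := by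
  obtain ⟨R, π₁, π₂, sqR⟩ := AlgSpBasic.exists_pullback_yon hr ((yon S).map a ≫ φ)
  have hR : LocallyQuasiFinite π₂.left := locallyQuasiFinite_snd hφ a sqR
  have hA : LocallyQuasiFinite snd.left := locallyQuasiFinite_snd hφ a sq
  have : IsFinite snd.left := isFinite_of_finite (K := L') snd.left
  have hB := (IsPullback.of_hasPullback snd snd).map (Over.forget S)
  have : IsFinite (pullback.snd snd snd).left :=
    MorphismProperty.of_isPullback (P := @IsFinite) hB ‹_›
  have hBfin : Finite (pullback snd snd).left := finite_of_isFinite (pullback.snd snd snd).left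
  obtain ⟨m, hm⟩ := (yon S).map_surjective
    (sqR.lift ((yon S).map (pullback.fst snd snd ≫ fst)) ((yon S).map (pullback.snd snd snd ≫ fst)) (by
      simp only [Functor.map_comp, Category.assoc, sq.w]
      rw [← Functor.map_comp_assoc, ← Functor.map_comp_assoc, pullback.condition]))
  have hms : Function.Surjective m.left := by
    intro r
    obtain ⟨α⟩ := ‹Nonempty A.left›
    have hT := (IsPullback.of_hasPullback π₂ fst).map (Over.forget S)
    obtain ⟨z, hz₁, -⟩ := Scheme.exists_preimage_of_isPullback hT r α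
      (Subsingleton.elim (α := ↥(Spec (CommRingCat.of L))) _ _)
    obtain ⟨j, hj⟩ := (yon S).map_surjective
      (sq.lift ((yon S).map (pullback.fst π₂ fst ≫ π₁))
        ((yon S).map (pullback.snd π₂ fst ≫ snd)) (by
        simp only [Functor.map_comp, Category.assoc, sqR.w, ← sq.w]
        rw [← Functor.map_comp_assoc, ← Functor.map_comp_assoc, pullback.condition]
        simp only [Functor.map_comp, Category.assoc]))
    have hj₁ : j ≫ fst = pullback.fst π₂ fst ≫ π₁ :=
      (yon S).map_injective (by rw [Functor.map_comp, hj, sq.lift_fst])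
    have hj₂ : j ≫ snd = pullback.snd π₂ fst ≫ snd :=
      (yon S).map_injective (by rw [Functor.map_comp, hj, sq.lift_snd])
    have e : pullback.lift j (pullback.snd π₂ fst) hj₂ ≫ m = pullback.fst π₂ fst := by
      refine (yon S).map_injective (sqR.hom_ext ?_ ?_) <;>
        simp only [Functor.map_comp, Category.assoc, hm, sqR.lift_fst, sqR.lift_snd] <;>
        rw [← Functor.map_comp, ← Functor.map_comp, ← Functor.map_comp]
      · rw [pullback.lift_fst_assoc, hj₁]
      · rw [pullback.lift_snd_assoc, pullback.condition]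
    refine ⟨(pullback.lift j (pullback.snd π₂ fst) hj₂).left z, ?_⟩
    exact Eq.trans (congrArg (fun k : pullback π₂ fst ⟶ R => k.left z) e) hz₁
  have : Finite R.left := Finite.of_surjective _ hms
  have : IsFinite π₂.left := isFinite_of_finite (K := L) π₂.left
  obtain ⟨p, c, hp, hs, hfl, hfi, hfp, hc⟩ :=
    exists_mono_of_finite_self ((yon S).map a ≫ φ) π₁ π₂ sqR
  refine ⟨p, c, hp, hs, hfl, hfi, hfp, hc, ?_⟩
  rw [← hc]
  exact (mk_ofHom_precomp p c).symm

/-- The morphism `Spec κ(u) ⟶ U` over `S`. -/
abbrev resPt {U : Over S} (u : ↥U.left) :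
    Over.mk (U.left.fromSpecResidueField u ≫ U.hom) ⟶ U :=
  Over.homMk (U.left.fromSpecResidueField u) rfl

theorem mk_ofHom_comp {U : Over S} (φ : (yon S).obj U ⟶ F) {L : Type u} [Field L]
    {str : Spec (CommRingCat.of L) ⟶ S} (a : Over.mk str ⟶ U) :
    Points.mk (ofHom ((yon S).map a ≫ φ)) = Points.ofPt φ (a.left (IsLocalRing.closedPoint L)) := by
  rw [← ofPt_field _ (IsLocalRing.closedPoint L)]
  exact AlgSpBasic.ofPt_comp_yon a φ _

/-- An isomorphism between monomorphic field-valued points at the same point. -/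
theorem exists_iso_of_mono (p q : FieldPt F) [Mono p.toHom] [Mono q.toHom]
    (hq : Representable q.toHom) (h : Points.mk p = Points.mk q) :
    ∃ e : p.pt ≅ q.pt, (yon S).map e.hom ≫ q.toHom = p.toHom := by
  obtain ⟨E, e₁, e₂, sq⟩ := AlgSpBasic.exists_pullback_yon hq p.toHom
  rw [Points.mk_eq_mk_iff, rel_iff] at h
  obtain ⟨Ω, i, w, a, b, hab⟩ := h
  obtain ⟨l, -⟩ := (yon S).map_surjective (sq.lift ((yon S).map b) ((yon S).map a) hab.symm)
  have : Nonempty E.left := ⟨l.left (IsLocalRing.closedPoint Ω)⟩
  have : Mono e₁ := (yon S).mono_of_mono_map (mono_fst_of_isPullback sq)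
  have : Mono e₂ := (yon S).mono_of_mono_map (mono_fst_of_isPullback sq.flip)
  have : IsIso ((Over.forget S).map e₁) := isIso_of_mono_to_field (K := q.K) e₁.left
  have : IsIso e₁ := isIso_of_reflects_iso e₁ (Over.forget S)
  have : IsIso ((Over.forget S).map e₂) := isIso_of_mono_to_field (K := p.K) e₂.left
  have : IsIso e₂ := isIso_of_reflects_iso e₂ (Over.forget S)
  refine ⟨(asIso e₂).symm ≪≫ asIso e₁, ?_⟩
  simp only [Iso.trans_hom, Iso.symm_hom, asIso_inv, asIso_hom, Functor.map_comp, Functor.map_inv,
    Category.assoc, IsIso.inv_comp_eq]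
  exact sq.w

/-- A representable monomorphic field-valued point is quasi-compact if some field-valued point at the
same point is quasi-compact. -/
theorem repWith_quasiCompact_of_mk_eq (p q : FieldPt F) (hp : Representable p.toHom)
    (hq : RepWith @QuasiCompact q.toHom) (h : Points.mk p = Points.mk q) :
    RepWith @QuasiCompact p.toHom := by
  rw [Points.mk_eq_mk_iff, rel_iff] at h
  obtain ⟨Ω, i, w, a, b, hab⟩ := h
  have : Finite (Over.mk w).left := inferInstanceAs (Finite (Spec (CommRingCat.of Ω)))
  have : MorphismProperty.RespectsIso @QuasiCompact.{u} :=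
    MorphismProperty.IsStableUnderBaseChange.respectsIso
  have hb : RepWith @QuasiCompact ((yon S).map b) := repWith_quasiCompact_of_unique _
  have hz : RepWith @QuasiCompact ((yon S).map a ≫ p.toHom) := by
    rw [hab]; exact MorphismProperty.comp_mem _ _ _ hb hq
  refine AlgSpBasic.repWith_of_representable hp fun U V g fst snd sq => ?_
  obtain ⟨fst, rfl⟩ := (yon S).map_surjective fst
  have sqY := (IsPullback.of_hasPullback fst a).map (yon S)
  obtain ⟨snd', hs'⟩ : ∃ k, k = pullback.fst fst a ≫ snd := ⟨_, rfl⟩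
  have sqW := sqY.flip.paste_vert sq
  rw [← Functor.map_comp] at sqW
  have : QuasiCompact (pullback.fst fst a ≫ snd).left := hz.property g _ _ sqW
  have : Surjective (pullback.fst fst a).left :=
    MorphismProperty.of_isPullback (P := @Surjective)
      ((IsPullback.of_hasPullback fst a).map (Over.forget S)).flip
      (⟨fun y => ⟨IsLocalRing.closedPoint Ω,
        Subsingleton.elim (α := ↥(Spec (CommRingCat.of p.K))) _ _⟩⟩ : Surjective a.left)
  exact quasiCompact_of_comp_surjective (pullback.fst fst a).left snd.left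

end Groth.AlgSp2
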