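import Groth.Agent.AlgSp2.AffineCriteria
import Groth.Agent.AlgSpBasic.DiagBaseChange
import Groth.Agent.AlgSpBasic.QComp
import Groth.Agent.AlgSpBasic.Univ
import Groth.Agent.AlgSpBasic.LocPInst
import Mathlib.AlgebraicGeometry.Morphisms.Proper

/-!
# Finite, integral and finite locally free morphisms of algebraic spaces
-/

set_option autoImplicit false
set_option backward.isDefEq.respectTransparency.types false
universe u

open CategoryTheory CategoryTheory.Limits AlgebraicGeometry Opposite AlgSp

namespace Groth.AlgSp2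

open Groth.AlgSpBasic

noncomputable section

variable {S : Scheme.{u}} {X Y Z : Sp S} {f : X ⟶ Y}

theorem repWith_universallyClosed_iff (hf : Representable f) :
    RepWith @UniversallyClosed f ↔ IsUnivClosedMor f := by
  refine ⟨univSp_of_repWith fun _ _ k hk =>
    isClosedMap_map_of_repWith (fun _ _ φ (_ : UniversallyClosed φ) => φ.isClosedMap) hk, fun h => ?_⟩
  refine repWith_of_univSp universallyClosed_eq (fun A B k hk => topologically_of_map_yon k ?_) hf h
  exact (AlgSp.Points.schemeHomeo B).symm.isClosedMap.comp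
    (hk.comp (AlgSp.Points.schemeHomeo A).isClosedMap)

theorem repWith_isSeparated_iff (hf : Representable f) :
    IsSeparatedMor f ↔ RepWith @IsSeparated f :=
  repWith_diagonal_iff_of_representable @IsClosedImmersion @IsSeparated
    (fun _ _ g => isSeparated_iff g) hf

theorem repWith_iff_of_forall {P Q : MorphismProperty Scheme.{u}}
    (h : ∀ ⦃A B : Scheme.{u}⦄ (g : A ⟶ B), P g ↔ Q g) : RepWith P f ↔ RepWith Q f :=
  ⟨repWith_mono fun _ _ g hg => (h g).1 hg, repWith_mono fun _ _ g hg => (h g).2 hg⟩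

theorem isIntegralMor_iff_affine_univClosed (hX : IsAlgSpace X) (hY : IsAlgSpace Y) :
    IsIntegralMor f ↔ IsAffineMor f ∧ IsUnivClosedMor f := by
  rw [isIntegralMor_iff hX hY, repWith_iff_of_forall (Q := @UniversallyClosed ⊓ @IsAffineHom)
    (fun _ _ g => by rw [← IsIntegralHom.eq_universallyClosed_inf_isAffineHom]), repWith_inf_iff]
  exact ⟨fun h => ⟨isAffineMor_of_repWith le_rfl h.2, (repWith_universallyClosed_iff h.1.rep).1 h.1⟩,
    fun h => ⟨(repWith_universallyClosed_iff (repWith_isAffineHom_of_isAffineMor hX hY h.1).rep).2 h.2,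
      repWith_isAffineHom_of_isAffineMor hX hY h.1⟩⟩

theorem isProperMor_iff_repWith (hX : IsAlgSpace X) (hY : IsAlgSpace Y) (hf : Representable f) :
    IsProperMor f ↔ RepWith @IsProper f := by
  constructor
  · rintro ⟨h₁, ⟨h₂, h₃⟩, h₄⟩
    have a := (repWith_isSeparated_iff hf).1 h₁
    have b := repWith_of_locP hY hf h₂
    have c := (repWith_universallyClosed_iff hf).2 h₄
    exact ⟨hf, fun U V g fst snd sq =>
      have : IsSeparated snd.left := a.property g fst snd sq
      have : LocallyOfFiniteType snd.left := b.property g fst snd sq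
      have : UniversallyClosed snd.left := c.property g fst snd sq
      (IsProper.mk : IsProper snd.left)⟩
  · intro h
    exact ⟨(repWith_isSeparated_iff hf).2 (repWith_mono (Q := @IsSeparated) (fun _ _ k (hk : IsProper k) => inferInstance) h),
      ⟨locP_of_repWith (repWith_mono (Q := @LocallyOfFiniteType) (fun _ _ k (hk : IsProper k) => inferInstance) h),
        isQuasiCompactMor_of_repWith hX hY
          (repWith_mono (Q := @QuasiCompact) (fun _ _ k (hk : IsProper k) => inferInstance) h)⟩,
      (repWith_universallyClosed_iff hf).1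
        (repWith_mono (Q := @UniversallyClosed) (fun _ _ k (hk : IsProper k) => inferInstance) h)⟩

theorem isFiniteMor_iff_affine_proper (hX : IsAlgSpace X) (hY : IsAlgSpace Y) :
    IsFiniteMor f ↔ IsAffineMor f ∧ IsProperMor f := by
  rw [isFiniteMor_iff hX hY, repWith_iff_of_forall (Q := @IsProper ⊓ @IsAffineHom)
    (fun _ _ g => IsFinite.iff_isProper_and_isAffineHom), repWith_inf_iff]
  exact ⟨fun h => ⟨isAffineMor_of_repWith le_rfl h.2, (isProperMor_iff_repWith hX hY h.1.rep).2 h.1⟩,
    fun h => ⟨(isProperMor_iff_repWith hX hY (repWith_isAffineHom_of_isAffineMor hX hY h.1).rep).1 h.2,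
      repWith_isAffineHom_of_isAffineMor hX hY h.1⟩⟩

theorem finite_integral (hX : IsAlgSpace X) (hY : IsAlgSpace Y) :
    (IsFiniteMor f → IsIntegralMor f) ∧
      (IsIntegralMor f → LocP @LocallyOfFiniteType f → IsFiniteMor f) := by
  rw [isFiniteMor_iff hX hY, isIntegralMor_iff hX hY]
  refine ⟨repWith_mono (Q := @IsIntegralHom) fun _ _ k (_ : IsFinite k) => (inferInstance : IsIntegralHom k),
    fun h hl => ?_⟩
  have hl' := repWith_of_locP hY h.rep hl
  refine ⟨h.rep, fun U V g fst snd sq => ?_⟩
  have : IsIntegralHom snd.left := h.property g fst snd sq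
  have : LocallyOfFiniteType snd.left := hl'.property g fst snd sq
  exact (IsFinite.iff_isIntegralHom_and_locallyOfFiniteType snd.left).2 ⟨‹_›, ‹_›⟩

theorem finite_integral_of_comp_separated (hX : IsAlgSpace X) (hY : IsAlgSpace Y) (hZ : IsAlgSpace Z)
    {g : Y ⟶ Z} (hg : IsSeparatedMor g) :
    (IsFiniteMor (f ≫ g) → IsFiniteMor f) ∧ (IsIntegralMor (f ≫ g) → IsIntegralMor f) := by
  rw [isFiniteMor_iff hX hY, isIntegralMor_iff hX hY, isFiniteMor_iff hX hZ, isIntegralMor_iff hX hZ]
  exact ⟨fun h => repWith_of_comp_of_diagonal @IsFinite h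
      (repWith_mono (Q := @IsFinite)
        (fun _ _ k (_ : IsClosedImmersion k) => (inferInstance : IsFinite k)) hg),
    fun h => repWith_of_comp_of_diagonal @IsIntegralHom h
      (repWith_mono (Q := @IsIntegralHom)
        (fun _ _ k (_ : IsClosedImmersion k) => (inferInstance : IsIntegralHom k)) hg)⟩

theorem integral_finite_of_etale_cover {P : Sp S} (hX : IsAlgSpace X) (hY : IsAlgSpace Y)
    {V : Over S} {p : (yon S).obj V ⟶ Y} (hp : RepWith @Etale p) (hps : RepWith @Surjective p)
    {fst : P ⟶ X} {snd : P ⟶ (yon S).obj V} (sq : IsPullback fst snd f p) :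
    (IsIntegralMor snd → IsIntegralMor f) ∧ (IsFiniteMor snd → IsFiniteMor f) ∧
      (IsFinLocFreeMor snd → IsFinLocFreeMor f) := by
  have hcov := isFpqcCover_of_etale hY (V := fun _ : PUnit.{u + 1} => V) (fun _ => p) (fun _ => hp)
    fun y => ⟨⟨⟩, surjective_map_of_repWith hps y⟩
  have hP := isAlgSpace_of_isPullback sq hY.diag hX (IsAlgSpace.yon_obj _)
  exact
    ⟨fun h => (isLocalOnBase_fpqc_isIntegralMor _ _ hY (fun _ => IsAlgSpace.yon_obj _) hcov f hX
      (fun _ => P) (fun _ => snd) (fun _ => fst) (fun _ => hP) fun _ => sq).2 fun _ => h,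
    fun h => (isLocalOnBase_fpqc_isFiniteMor _ _ hY (fun _ => IsAlgSpace.yon_obj _) hcov f hX
      (fun _ => P) (fun _ => snd) (fun _ => fst) (fun _ => hP) fun _ => sq).2 fun _ => h,
    fun h => (isLocalOnBase_fpqc_isFinLocFreeMor _ _ hY (fun _ => IsAlgSpace.yon_obj _) hcov f hX
      (fun _ => P) (fun _ => snd) (fun _ => fst) (fun _ => hP) fun _ => sq).2 fun _ => h⟩

theorem lfp_of_isLocallyNoetherian {A B : Scheme.{u}} [IsLocallyNoetherian B] (g : A ⟶ B)
    [LocallyOfFiniteType g] : LocallyOfFinitePresentation g := by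
  rw [HasRingHomProperty.iff_appLE (P := @LocallyOfFinitePresentation)]
  intro U V e
  have := IsLocallyNoetherian.component_noetherian U
  exact RingHom.FinitePresentation.of_finiteType.1 (g.finiteType_appLE U.2 V.2 e)

theorem finLocFree_iff (hX : IsAlgSpace X) (hY : IsAlgSpace Y) :
    IsFinLocFreeMor f ↔
      IsFiniteMor f ∧ LocP @Flat f ∧ LocP @LocallyOfFinitePresentation f := by
  rw [isFiniteMor_iff hX hY]
  refine ⟨fun h => ⟨repWith_mono (fun _ _ k hk => hk.1) h,
    locP_of_repWith (repWith_mono (fun _ _ k hk => hk.2.1) h),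
    locP_of_repWith (repWith_mono (fun _ _ k hk => hk.2.2) h)⟩, fun ⟨h, hfl, hfp⟩ => ?_⟩
  exact ⟨h.rep, fun U V g fst snd sq => ⟨h.property g fst snd sq,
    (repWith_of_locP hY h.rep hfl).property g fst snd sq,
    (repWith_of_locP hY h.rep hfp).property g fst snd sq⟩⟩

theorem locP_lfp_of_isFiniteMor (hX : IsAlgSpace X) (hY : IsAlgSpace Y) (hN : IsLocNoethSp Y)
    (h : IsFiniteMor f) : LocP @LocallyOfFinitePresentation f := by
  rw [isFiniteMor_iff hX hY] at h
  obtain ⟨V, b, hb, hbs, hV⟩ := hN
  obtain ⟨U, snd, fst, sq⟩ := h.rep b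
  have := isLocallySurjective_of_etale b hb hbs
  have : IsFinite snd.left := h.property b fst snd sq
  have := (inferInstance : EtaleLocal @LocallyOfFinitePresentation).localAtTarget
  exact locP_of_repWith (repWith_of_isLocallySurjective f h.rep b fst _ sq
    ((repWith_yon_map_iff _ snd).2 (lfp_of_isLocallyNoetherian snd.left)))

end

end Groth.AlgSp2
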