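import Groth.Prelude.Def_AlgSpCov
import Groth.Agent.AlgSp2.SmoothDescent
import Groth.Agent.AlgSpBasic.Points

/-!
# Properties of morphisms of algebraic spaces local on source and target
-/

set_option autoImplicit false
set_option backward.isDefEq.respectTransparency.types false
universe u

open CategoryTheory CategoryTheory.Limits AlgebraicGeometry Opposite AlgSp

namespace Groth.AlgSp2

open Groth.AlgSpBasic

variable {S : Scheme.{u}} {X Y Z : Sp S}

theorem locP_id {Q : MorphismProperty Scheme.{u}} [EtaleLocal Q] (X : Sp S) : LocP Q (𝟙 X) := by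
  intro U V a b h ha hb comm
  exact EtaleLocal.of_etale _ (etale_of_repWith_comp h hb (by rwa [← comm, Category.comp_id]))

theorem isEtaleMor_id (X : Sp S) : IsEtaleMor (𝟙 X) := fun U φ hφ => by rwa [Category.comp_id]

theorem isEtaleMor_comp {f : X ⟶ Y} {g : Y ⟶ Z} (hf : IsEtaleMor f) (hg : IsEtaleMor g) :
    IsEtaleMor (f ≫ g) := fun U φ hφ => by
  rw [← Category.assoc]; exact hg _ (hf φ hφ)

theorem locP_smooth_of_isEtaleMor {f : X ⟶ Y} (h : IsEtaleMor f) : LocP @Smooth f :=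
  fun U V a b k ha hb comm => by
    have : Etale k.left := locP_of_isEtaleMor h a b k ha hb comm
    exact (inferInstance : Smooth k.left)

theorem isEtaleMor_of_isPullback {X' Y' : Sp S} (hX : IsAlgSpace X) (hY : IsAlgSpace Y)
    (hY' : IsAlgSpace Y') {f : X ⟶ Y} {g : Y' ⟶ Y} {fst : X' ⟶ X} {f' : X' ⟶ Y'}
    (sq : IsPullback fst f' f g) (hf : IsEtaleMor f) : IsEtaleMor f' :=
  isEtaleMor_of_locP hY' (locP_of_isPullback hX hY hY' sq (locP_of_isEtaleMor hf))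

/-- Cancellation for etale morphisms of algebraic spaces. -/
theorem isEtaleMor_of_comp (hX : IsAlgSpace X) (hY : IsAlgSpace Y) (hZ : IsAlgSpace Z)
    {f : X ⟶ Y} {g : Y ⟶ Z} (hfg : IsEtaleMor (f ≫ g)) (hg : IsEtaleMor g) : IsEtaleMor f := by
  refine isEtaleMor_of_locP hY (locP_of_comp_of_cancel' (Q := @Etale) ?_ hX hY hZ
    (locP_of_isEtaleMor hfg) (locP_of_isEtaleMor hg))
  intro A B C a b (hab : Etale (a ≫ b)) (hb : Etale b)
  exact Etale.of_comp a b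

theorem isPullback_id_left (f : X ⟶ Y) : IsPullback (𝟙 X) f f (𝟙 Y) :=
  IsPullback.of_horiz_isIso ⟨by simp⟩

theorem isSurjectiveMor_id (X : Sp S) : IsSurjectiveMor (𝟙 X) := fun x => ⟨x, by simp⟩

/-- The cover of `Y` by `g : Y' ⟶ Y` and the identity. -/
def pairObj (Y' Y : Sp S) : ULift.{u} Bool → Sp S := fun i => cond i.down Y' Y

/-- The maps of `pairObj`. -/
def pairHom {Y' Y : Sp S} (g : Y' ⟶ Y) : ∀ i, pairObj Y' Y i ⟶ Y
  | ⟨true⟩ => g
  | ⟨false⟩ => 𝟙 Y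

theorem isCover_pair {Y' Y : Sp S} {P : MorphismProperty (Sp S)} {g : Y' ⟶ Y} (hg : P g)
    (hid : P (𝟙 Y)) : IsCover P (pairObj Y' Y) (pairHom g) :=
  ⟨fun i => match i with
    | ⟨true⟩ => hg
    | ⟨false⟩ => hid, fun x => ⟨⟨false⟩, x, Points.map_id x⟩⟩

theorem isAlgSpace_pairObj {Y' Y : Sp S} (hY' : IsAlgSpace Y') (hY : IsAlgSpace Y) :
    ∀ i, IsAlgSpace (pairObj Y' Y i)
  | ⟨true⟩ => hY'
  | ⟨false⟩ => hY

theorem isCover_single {Y' Y : Sp S} {P : MorphismProperty (Sp S)} {g : Y' ⟶ Y} (hg : P g)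
    (hs : IsSurjectiveMor g) : IsCover P (fun _ : PUnit.{u+1} => Y') (fun _ => g) :=
  ⟨fun _ => hg, fun x => ⟨⟨⟩, hs x⟩⟩

section Smooth

variable {P : MorphismProperty (Sp S)}

theorem IsSmoothLocalST.localOnSource (hP : IsSmoothLocalST P) :
    IsLocalOnSource (IsSmCover (S := S)) P := by
  intro ι X Xi g hX hXi hg Y f hY
  refine ⟨fun h i => hP.precomp (hXi i) hX hY _ _ (hg.1 i) h, fun h =>
    (hP.locality hX hY f).2 fun x => ?_⟩
  obtain ⟨i, v, hv⟩ := hg.2 x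
  exact ⟨Xi i, Y, g i, 𝟙 Y, g i ≫ f, v, hXi i, hY, hg.1 i, locP_id Y,
    (Category.comp_id _).symm, hv, h i⟩

theorem IsSmoothLocalST.localOnBase (hP : IsSmoothLocalST P) :
    IsLocalOnBase (IsSmCover (S := S)) P := by
  intro ι Y Yi g hY hYi hg X f hX Xi p q hXi hsq
  refine ⟨fun h i => hP.baseChange hX hY (hXi i) (hYi i) f (g i) (p i) (q i) (hsq i) (hg.1 i) h,
    fun h => (hP.locality hX hY f).2 fun x => ?_⟩
  obtain ⟨i, y, hy⟩ := hg.2 (Points.map f x)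
  obtain ⟨v, hv, -⟩ := exists_point_of_isPullback (hsq i) x y hy.symm
  exact ⟨Xi i, Yi i, q i, g i, p i, v, hXi i, hYi i,
    locP_of_isPullback (hYi i) hY hX (hsq i).flip (hg.1 i), hg.1 i, (hsq i).w, hv, h i⟩

theorem IsSmoothLocalST.postcomp (hP : IsSmoothLocalST P) (hX : IsAlgSpace X) (hY : IsAlgSpace Y)
    (hZ : IsAlgSpace Z) {f : X ⟶ Y} {g : Y ⟶ Z} (hf : P f) (hg : LocP @Smooth g) : P (f ≫ g) :=
  (hP.locality hX hZ _).2 fun x =>
    ⟨X, Y, 𝟙 X, g, f, x, hX, hY, locP_id X, hg, Category.id_comp _, Points.map_id x, hf⟩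

theorem isSmoothLocalST_of (h1 : IsLocalOnSource (IsSmCover (S := S)) P)
    (h2 : IsLocalOnBase (IsSmCover (S := S)) P)
    (h3 : ∀ ⦃X Y Z : Space S⦄ (f : X ⟶ Y) (g : Y ⟶ Z), P f.hom → LocP @Smooth g.hom →
      P (f ≫ g).hom) : IsSmoothLocalST P where
  precomp X Y Z hX hY hZ f g hf hg :=
    (h1 _ _ hY (isAlgSpace_pairObj hX hY) (isCover_pair hf (locP_id Y)) g hZ).1 hg ⟨true⟩
  baseChange X Y X' Y' hX hY hX' hY' f g f' g' sq hg hf := by
    exact (h2 _ _ hY (isAlgSpace_pairObj hY' hY) (isCover_pair hg (locP_id Y)) f hX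
      (fun i => pairObj X' X i)
      (fun i => match i with | ⟨true⟩ => f' | ⟨false⟩ => f)
      (fun i => match i with | ⟨true⟩ => g' | ⟨false⟩ => 𝟙 X)
      (isAlgSpace_pairObj hX' hX)
      (fun i => match i with | ⟨true⟩ => sq | ⟨false⟩ => isPullback_id_left f)).1 hf ⟨true⟩
  locality X Y hX hY f := by
    refine ⟨fun hf x => ⟨X, Y, 𝟙 X, 𝟙 Y, f, x, hX, hY, locP_id X, locP_id Y, by simp,
      Points.map_id x, hf⟩, fun h => ?_⟩
    obtain ⟨T, φ, -, hφ⟩ := hX.atlas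
    choose U V a b h' v hU hV ha hb comm hv hh using fun t : T.left => h (Points.ofPt φ t)
    refine (h1 U a hX hU ⟨ha, fun x => ?_⟩ f hY).2 fun t => ?_
    · obtain ⟨t, rfl⟩ := surjective_ofPt_of_repWith hφ x
      exact ⟨t, v t, hv t⟩
    · rw [comm t]
      exact h3 (X := ⟨U t, hU t⟩) (Y := ⟨V t, hV t⟩) (Z := ⟨Y, hY⟩) (ObjectProperty.homMk (h' t))
        (ObjectProperty.homMk (b t)) (hh t) (hb t)

end Smooth

section EtaleSmooth

variable {P : MorphismProperty (Sp S)}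

theorem IsEtaleSmoothLocalST.localOnSource (hP : IsEtaleSmoothLocalST P) :
    IsLocalOnSource (IsEtCover (S := S)) P := by
  intro ι X Xi g hX hXi hg Y f hY
  refine ⟨fun h i => hP.precomp (hXi i) hX hY _ _ (hg.1 i) h, fun h =>
    (hP.locality hX hY f).2 fun x => ?_⟩
  obtain ⟨i, v, hv⟩ := hg.2 x
  exact ⟨Y, X, Xi i, 𝟙 Y, 𝟙 X, f, g i, v, hY, hX, hXi i, locP_id Y, isPullback_id_left f,
    hg.1 i, by rw [Category.comp_id]; exact hv, h i⟩

theorem IsEtaleSmoothLocalST.localOnBase (hP : IsEtaleSmoothLocalST P) :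
    IsLocalOnBase (IsSmCover (S := S)) P := by
  intro ι Y Yi g hY hYi hg X f hX Xi p q hXi hsq
  refine ⟨fun h i => hP.baseChange hX hY (hXi i) (hYi i) f (g i) (p i) (q i) (hsq i) (hg.1 i) h,
    fun h => (hP.locality hX hY f).2 fun x => ?_⟩
  obtain ⟨i, y, hy⟩ := hg.2 (Points.map f x)
  obtain ⟨v, hv, -⟩ := exists_point_of_isPullback (hsq i) x y hy.symm
  exact ⟨Yi i, Xi i, Xi i, g i, q i, p i, 𝟙 _, v, hYi i, hXi i, hXi i, hg.1 i, hsq i,
    isEtaleMor_id _, by rw [Category.id_comp]; exact hv, by rw [Category.id_comp]; exact h i⟩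

theorem IsEtaleSmoothLocalST.postcomp (hP : IsEtaleSmoothLocalST P) (hX : IsAlgSpace X)
    (hY : IsAlgSpace Y) (hZ : IsAlgSpace Z) {f : X ⟶ Y} {g : Y ⟶ Z} (hf : P f)
    (hg : IsEtaleMor g) : P (f ≫ g) := by
  have sq := IsPullback.of_hasPullback (f ≫ g) g
  have hW := isAlgSpace_of_isPullback sq hZ.diag hX hY
  refine (hP.locality hX hZ _).2 fun x => ⟨Y, _, X, g, _, _, pullback.lift (𝟙 X) f (by simp), x,
    hY, hW, hX, locP_smooth_of_isEtaleMor hg, sq, ?_, ?_, ?_⟩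
  · refine isEtaleMor_of_comp hX hW hX ?_ (isEtaleMor_of_isPullback hY hZ hX sq.flip hg)
    rw [pullback.lift_fst]; exact isEtaleMor_id X
  · rw [pullback.lift_fst]; exact Points.map_id x
  · rw [pullback.lift_snd]; exact hf

theorem IsEtaleSmoothLocalST.of_comp (hP : IsEtaleSmoothLocalST P) (hX : IsAlgSpace X)
    (hY : IsAlgSpace Y) (hZ : IsAlgSpace Z) {f : X ⟶ Y} {g : Y ⟶ Z} (hg : IsEtaleMor g)
    (h : P (f ≫ g)) : P f := by
  have sq := IsPullback.of_hasPullback (f ≫ g) g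
  have hW := isAlgSpace_of_isPullback sq hZ.diag hX hY
  have he : IsEtaleMor (pullback.lift (𝟙 X) f (by simp) : X ⟶ pullback (f ≫ g) g) := by
    refine isEtaleMor_of_comp hX hW hX ?_ (isEtaleMor_of_isPullback hY hZ hX sq.flip hg)
    rw [pullback.lift_fst]; exact isEtaleMor_id X
  have := hP.precomp hX hW hY _ (pullback.snd (f ≫ g) g) he
    (hP.baseChange hX hZ hW hY _ g _ _ sq (locP_smooth_of_isEtaleMor hg) h)
  rwa [pullback.lift_snd] at this

end EtaleSmooth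

end Groth.AlgSp2
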