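import Groth.Agent.AlgSp2.DecencyDescent
import Groth.Agent.AlgSpBasic.Topology
import Mathlib.AlgebraicGeometry.Morphisms.LocalFlatDescent
import Mathlib.AlgebraicGeometry.Sites.Fpqc

/-!
A quasi-compact flat surjective monomorphism of algebraic spaces is an isomorphism.
-/

universe u v w

open CategoryTheory CategoryTheory.Limits AlgebraicGeometry Opposite

noncomputable section

namespace Groth.AlgSp2

open AlgSp

theorem isPullback_comp_mono {C : Type v} [Category.{w} C] {A B D E E' : C} {fst : A ⟶ B}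
    {snd : A ⟶ D} {f : B ⟶ E} {g : D ⟶ E} (m : E ⟶ E') [Mono m]
    (sq : IsPullback fst snd f g) : IsPullback fst snd (f ≫ m) (g ≫ m) := by
  have hc : ∀ s : PullbackCone (f ≫ m) (g ≫ m), s.fst ≫ f = s.snd ≫ g := fun s => by
    rw [← cancel_mono m, Category.assoc, Category.assoc, s.condition]
  exact ⟨⟨sq.w_assoc m⟩, ⟨PullbackCone.IsLimit.mk _ (fun s => sq.lift s.fst s.snd (hc s))
    (fun s => sq.lift_fst _ _ _) (fun s => sq.lift_snd _ _ _)
    (fun s l h₁ h₂ => sq.hom_ext (by rw [sq.lift_fst]; exact h₁) (by rw [sq.lift_snd]; exact h₂))⟩⟩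

variable {S : Scheme.{u}}

/-- Maps out of `h_U` agreeing on the members of an open cover are equal. -/
theorem yon_hom_ext_of_openCover {U : Over S} {F : Sp S} (𝒰 : U.left.OpenCover)
    (a b : (yon S).obj U ⟶ F)
    (h : ∀ i, (yon S).map (Over.homMk (𝒰.f i) rfl : Over.mk (𝒰.f i ≫ U.hom) ⟶ U) ≫ a =
      (yon S).map (Over.homMk (𝒰.f i) rfl : Over.mk (𝒰.f i ≫ U.hom) ⟶ U) ≫ b) : a = b := by
  have hs : Presieve.IsSheaf (J S) F.obj := (isSheaf_iff_isSheaf_of_type _ _).1 F.property
  let R : Sieve U := Sieve.generate (Presieve.ofArrows _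
    fun i => (Over.homMk (𝒰.f i) rfl : Over.mk (𝒰.f i ≫ U.hom) ⟶ U))
  have hR : R ∈ J S U := by
    rw [J_eq, GrothendieckTopology.mem_over_iff]
    refine GrothendieckTopology.superset_covering _ ?_
      (Precoverage.generate_mem_toGrothendieck (Scheme.zariskiPrecoverage_le_fppfPrecoverage _ 𝒰.mem₀))
    rw [Sieve.generate_le_iff]
    rintro _ _ ⟨i⟩
    rw [Sieve.overEquiv_iff]
    exact Sieve.le_generate _ _ _ ⟨i⟩
  apply (J S).uliftYonedaEquiv.injective
  refine Presieve.IsSeparatedFor.ext (hs R hR).isSeparatedFor fun Z g hg => ?_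
  obtain ⟨_, k, _, ⟨i⟩, rfl⟩ := hg
  rw [GrothendieckTopology.uliftYonedaEquiv_naturality,
    GrothendieckTopology.uliftYonedaEquiv_naturality, Functor.map_comp, Category.assoc,
    Category.assoc, h i]

/-- A quasi-compact flat surjective monomorphism of algebraic spaces is an isomorphism. -/
theorem isIso_of_qc_flat_surjective_mono {X Y : Sp S} (hX : IsAlgSpace X) (hY : IsAlgSpace Y)
    (f : X ⟶ Y) (hqc : IsQuasiCompactMor f) (hflat : LocP @Flat f) (hsurj : IsSurjectiveMor f)
    [Mono f] : IsIso f := by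
  -- lifts of affine étale charts of `Y`
  have key : ∀ (T : Over S) (g : (yon S).obj T ⟶ Y), IsAffine T.left → RepWith @Etale g →
      ∃ l : (yon S).obj T ⟶ X, l ≫ f = g := by
    intro T g hT hg
    have sq := IsPullback.of_hasPullback f g
    have : Mono (pullback.snd f g) := mono_fst_of_isPullback sq.flip
    have hP : IsAlgSpace (pullback f g) :=
      AlgSpBasic.isAlgSpace_of_isPullback sq hY.diag hX (IsAlgSpace.yon_obj T)
    obtain ⟨V, a, hV, hae, has⟩ := AlgSpBasic.exists_affine_chart hP
      (hqc (IsAlgSpace.yon_obj T) (isQuasiCompactSp_yon T) g _ _ sq)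
    obtain ⟨α, hα⟩ := (yon S).map_surjective (a ≫ pullback.snd f g)
    have : MorphismProperty.IsStableUnderComposition @Etale.{u} :=
      ⟨fun _ _ _ _ => inferInstance⟩
    have hfl : Flat α.left := hflat (a ≫ pullback.fst f g) g α
      (AlgSpBasic.repWith_comp hae (AlgSpBasic.repWith_of_isPullback sq.flip hg)) hg
      (by rw [Category.assoc, sq.w, hα, Category.assoc])
    have hs : Surjective α.left := ⟨fun t => by
      obtain ⟨x, hx⟩ := hsurj (Points.ofPt g t)
      obtain ⟨p, -, hp⟩ := exists_point_of_isPullback sq (x := x) (z := Points.schemeHomeo T t)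
        (hx.trans (Points.ofPt_eq_map_ofScheme g t))
      obtain ⟨v, rfl⟩ := AlgSpBasic.surjective_ofPt_of_repWith has p
      refine ⟨v, (Points.schemeHomeo T).injective ?_⟩
      rw [← hp, Points.map_ofPt, ← hα, ← Points.map_yon_map_apply]
      exact (Points.ofPt_eq_map_ofScheme ((yon S).map α) v).symm⟩
    obtain ⟨R, r₁, r₂, sqR⟩ := AlgSpBasic.exists_pullback_yon hae.rep a
    have : Etale r₁.left := hae.property _ _ _ sqR.flip
    have sqR' := isPullback_comp_mono (pullback.snd f g) sqR
    rw [← hα] at sqR'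
    have hsch := AlgSpBasic.isPullback_left (AlgSpBasic.isPullback_of_yon sqR')
    have : IsAffine V.left := hV
    have : IsAffineHom α.left := inferInstance
    have : Etale α.left := MorphismProperty.of_isPullback_of_descendsAlong
      (P := @Etale) (Q := @Surjective ⊓ @Flat ⊓ @QuasiCompact) hsch
      ⟨⟨hs, hfl⟩, inferInstance⟩ ‹Etale r₁.left›
    have := AlgSpBasic.isLocallySurjective_of_etale ((yon S).map α)
      ((repWith_yon_map_iff _ α).2 ‹Etale α.left›) ((repWith_yon_map_iff _ α).2 hs)
    have : Epi (pullback.snd f g) := epi_of_epi_fac hα.symm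
    have : IsIso (pullback.snd f g) := isIso_of_mono_of_epi _
    exact ⟨CategoryTheory.inv (pullback.snd f g) ≫ pullback.fst f g, by
      rw [Category.assoc, pullback.condition, IsIso.inv_hom_id_assoc]⟩
  obtain ⟨U, φ, hφ, hφs⟩ := hY.atlas
  have := AlgSpBasic.isLocallySurjective_of_etale φ hφ hφs
  have : Epi f := by
    constructor
    intro Z b₁ b₂ h
    rw [← cancel_epi φ]
    refine yon_hom_ext_of_openCover U.left.affineCover _ _ fun i => ?_
    have : MorphismProperty.IsStableUnderComposition @Etale.{u} :=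
      ⟨fun _ _ _ _ => inferInstance⟩
    obtain ⟨l, hl⟩ := key _ ((yon S).map (Over.homMk (U.left.affineCover.f i) rfl :
        Over.mk (U.left.affineCover.f i ≫ U.hom) ⟶ U) ≫ φ)
      (inferInstanceAs (IsAffine (U.left.affineCover.X i)))
      (AlgSpBasic.repWith_comp ((repWith_yon_map_iff _ _).2
        (inferInstanceAs (Etale (U.left.affineCover.f i)))) hφ)
    rw [← Category.assoc, ← Category.assoc, ← hl, Category.assoc, Category.assoc, h]
  exact isIso_of_mono_of_epi f

end Groth.AlgSp2
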