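import Groth.Agent.AlgSp2.FpqcRep
import Groth.Agent.AlgSp2.LocPFpqc
import Groth.Agent.AlgSp2.Locality

/-!
# Etale monomorphisms of algebraic spaces are open immersions; open immersions and isomorphisms are
fpqc local on the base
-/

set_option autoImplicit false
set_option backward.isDefEq.respectTransparency.types false
universe u

open CategoryTheory CategoryTheory.Limits AlgebraicGeometry Opposite AlgSp

namespace Groth.AlgSp2

open Groth.AlgSpBasic Groth.EtaleBase

noncomputable section

variable {S : Scheme.{u}}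

theorem repWith_isOpenImmersion_of_mono_etale {X Y : Sp S} (hX : IsAlgSpace X) (hY : IsAlgSpace Y)
    {f : X ⟶ Y} [Mono f] (hf : LocP @Etale f) : RepWith @IsOpenImmersion f := by
  refine repWith_of_exists fun T g => ?_
  have sq := IsPullback.of_hasPullback f g
  have hQ := isAlgSpace_of_isPullback sq hY.diag hX (IsAlgSpace.yon_obj T)
  have : Mono (pullback.snd f g) := MorphismProperty.of_isPullback
    (P := MorphismProperty.monomorphisms _) sq ‹Mono f›
  have hs : LocP @Etale (pullback.snd f g) :=
    locP_of_isPullback hX hY (IsAlgSpace.yon_obj T) sq hf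
  obtain ⟨U, a, ha, has⟩ := hQ.atlas
  obtain ⟨h, hh⟩ := (yon S).map_surjective (a ≫ pullback.snd f g)
  have hhe : Etale h.left :=
    hs a (𝟙 _) h ha (repWith_id _ T) (by rw [Category.comp_id, hh])
  let W : T.left.Opens := ⟨Set.range h.left, h.left.isOpenMap.isOpen_range⟩
  let Tv : Over S := Over.mk (W.ι ≫ T.hom)
  let j : Tv ⟶ T := Over.homMk W.ι rfl
  have hr : Set.range h.left ⊆ Set.range W.ι := by rw [Scheme.Opens.range_ι]; rfl
  let l : U.left ⟶ W.toScheme := IsOpenImmersion.lift W.ι h.left hr
  let h' : U ⟶ Tv := Over.homMk l (by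
    change l ≫ W.ι ≫ T.hom = U.hom
    rw [← Category.assoc, IsOpenImmersion.lift_fac, Over.w h])
  have hj : h' ≫ j = h := Over.OverMorphism.ext (IsOpenImmersion.lift_fac _ _ _)
  have hl : Etale (l ≫ W.ι) := by rw [IsOpenImmersion.lift_fac]; exact hhe
  have hle : Etale h'.left := Etale.of_comp l W.ι
  have hls : Surjective h'.left := ⟨fun x => by
    obtain ⟨y, hy⟩ := x.2
    refine ⟨y, W.ι.isOpenEmbedding.injective ?_⟩
    change (l ≫ W.ι) y = _
    rw [IsOpenImmersion.lift_fac]
    exact hy⟩
  have : Sheaf.IsLocallySurjective ((yon S).map h') := isLocallySurjective_of_etale _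
    ((repWith_yon_map_iff _ h').2 hle) ((repWith_yon_map_iff _ h').2 hls)
  have : IsOpenImmersion j.left := inferInstanceAs (IsOpenImmersion W.ι)
  have : Mono ((Over.forget S).map j) := inferInstanceAs (Mono j.left)
  have : Mono j := (Over.forget S).mono_of_mono_map ‹_›
  have : Mono ((yon S).map j) := monomorphisms_repWith_mono
    ((repWith_yon_map_iff _ j).2 (inferInstanceAs (Mono j.left)))
  have e : a ≫ pullback.snd f g = (yon S).map h' ≫ (yon S).map j := by
    rw [← Functor.map_comp, hj, hh]
  let a' := pullback.lift a ((yon S).map h') e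
  have : Epi (pullback.snd (pullback.snd f g) ((yon S).map j)) :=
    epi_of_epi_fac (pullback.lift_snd a ((yon S).map h') e)
  have : Sheaf.IsLocallySurjective a := isLocallySurjective_of_etale a ha has
  have : Epi (pullback.fst (pullback.snd f g) ((yon S).map j)) :=
    epi_of_epi_fac (pullback.lift_fst a ((yon S).map h') e)
  have : IsIso (pullback.snd (pullback.snd f g) ((yon S).map j)) := isIso_of_mono_of_epi _
  have : IsIso (pullback.fst (pullback.snd f g) ((yon S).map j)) := isIso_of_mono_of_epi _
  refine ⟨Tv, CategoryTheory.inv (pullback.snd (pullback.snd f g) ((yon S).map j)) ≫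
    pullback.fst (pullback.snd f g) ((yon S).map j) ≫ pullback.fst f g, j, ?_,
    inferInstanceAs (IsOpenImmersion W.ι)⟩
  refine sq.of_iso ((asIso (pullback.fst (pullback.snd f g) ((yon S).map j))).symm ≪≫
    asIso (pullback.snd (pullback.snd f g) ((yon S).map j))) (Iso.refl _) (Iso.refl _) (Iso.refl _)
    ?_ ?_ (by simp) (by simp)
  · simp
  · simp only [Iso.trans_hom, Iso.symm_hom, asIso_inv, asIso_hom, Iso.refl_hom, Category.comp_id,
      Category.assoc]
    rw [IsIso.eq_inv_comp, pullback.condition]

theorem mono_of_repWith {P : MorphismProperty Scheme.{u}} {X Y : Sp S} {f : X ⟶ Y}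
    (hP : ∀ ⦃A B : Scheme.{u}⦄ (g : A ⟶ B), P g → Mono g) (h : RepWith P f) : Mono f :=
  monomorphisms_repWith_mono (repWith_mono hP h)

theorem isLocalOnBase_fpqc_repWith_isOpenImmersion :
    IsLocalOnBase (IsFpqcCover (S := S)) (RepWith @IsOpenImmersion) := by
  intro ι Y Yi g hY hYi hg X f hX Xi p q hXi hsq
  refine ⟨fun h i => repWith_of_isPullback (hsq i) h, fun hp => ?_⟩
  have : Mono f := (MorphismProperty.monomorphisms.iff f).1
    ((isLocalOnBase_fpqc_monomorphisms Yi g hY hYi hg f hX Xi p q hXi hsq).2 fun i =>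
      (MorphismProperty.monomorphisms.iff (p i)).2
        (mono_of_repWith (fun A B g (_ : IsOpenImmersion g) => inferInstance) (hp i)))
  refine repWith_isOpenImmersion_of_mono_etale hX hY
    ((isLocalOnBase_fpqc_locP @Etale Yi g hY hYi hg f hX Xi p q hXi hsq).2 fun i =>
      locP_of_repWith (repWith_mono (fun A B g (_ : IsOpenImmersion g) => ?_) (hp i)))
  exact (inferInstance : Etale g)

theorem isLocalOnBase_fpqc_isomorphisms :
    IsLocalOnBase (IsFpqcCover (S := S)) (MorphismProperty.isomorphisms (Sp S)) := by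
  intro ι Y Yi g hY hYi hg X f hX Xi p q hXi hsq
  refine ⟨fun h i => MorphismProperty.of_isPullback (P := MorphismProperty.isomorphisms _) (hsq i) h,
    fun hp => ?_⟩
  have hoi : RepWith @IsOpenImmersion f :=
    (isLocalOnBase_fpqc_repWith_isOpenImmersion Yi g hY hYi hg f hX Xi p q hXi hsq).2 fun i =>
      have : IsIso (p i) := hp i
      have : MorphismProperty.ContainsIdentities @IsOpenImmersion.{u} := ⟨fun _ => inferInstance⟩
      repWith_isIso _
  refine isIso_of_repWith (repWith_of_affCover hoi.rep fun T hT φ => ?_)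
  obtain ⟨m, W, c, hW, hc, hs, hl⟩ := hg.2 T hT φ
  refine ⟨⟨m, W, c, hW, hc, hs⟩, fun j V fst snd sqV => ?_⟩
  obtain ⟨i, l, hl⟩ := hl j
  have : IsIso (p i) := hp i
  rw [← hl] at sqV
  have sq2 : IsPullback ((hsq i).lift fst ((yon S).map snd ≫ l)
      (by rw [sqV.w, Category.assoc])) ((yon S).map snd) (p i) l := by
    refine IsPullback.of_right ?_ ((hsq i).lift_snd _ _ _) (hsq i)
    rw [(hsq i).lift_fst]
    exact sqV
  have : IsIso ((yon S).map snd) :=
    MorphismProperty.of_isPullback (P := MorphismProperty.isomorphisms _) sq2 (hp i)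
  have : IsIso snd := isIso_of_fully_faithful (yon S) snd
  exact (Over.forget S).map_isIso snd

end

end Groth.AlgSp2
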