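import Groth.Agent.AlgSp2.AffineRows
import Groth.Agent.AlgSp2.FppfProps

/-!
# Criteria for morphisms of algebraic spaces to be affine
-/

set_option autoImplicit false
set_option backward.isDefEq.respectTransparency.types false
universe u

open CategoryTheory CategoryTheory.Limits AlgebraicGeometry Opposite AlgSp

namespace Groth.AlgSp2

open Groth.AlgSpBasic Groth.EtaleBase

noncomputable section

variable {S : Scheme.{u}}

theorem isAffineMor_comp {X Y Z : Sp S} {f : X ⟶ Y} {g : Y ⟶ Z} (hf : IsAffineMor f)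
    (hg : IsAffineMor g) : IsAffineMor (f ≫ g) := fun T hT a => by
  obtain ⟨W, i, b, sq, hW⟩ := hg hT a
  obtain ⟨V, j, c, sq', hV⟩ := hf hW b
  exact ⟨V, j ≫ i, c, by rw [Functor.map_comp]; exact sq'.paste_vert sq, hV⟩

theorem isAffineMor_of_isPullback {X Y X' Y' : Sp S} {f : X ⟶ Y} {g : Y' ⟶ Y} {f' : X' ⟶ Y'}
    {g' : X' ⟶ X} (sq : IsPullback g' f' f g) (hf : IsAffineMor f) : IsAffineMor f' :=
  fun Z hZ a => by
    obtain ⟨W, w, fst, sq₁, hW⟩ := hf hZ (a ≫ g)
    refine ⟨W, w, sq.lift fst ((yon S).map w ≫ a) (by rw [Category.assoc]; exact sq₁.w), ?_, hW⟩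
    exact IsPullback.of_right (by rw [sq.lift_fst]; exact sq₁) (sq.lift_snd _ _ _) sq

theorem isFpqcCover_of_etale {ι : Type u} {Y : Sp S} (hY : IsAlgSpace Y) {V : ι → Over S}
    (b : ∀ i, (yon S).obj (V i) ⟶ Y) (hb : ∀ i, RepWith @Etale (b i))
    (hs : ∀ y : Points Y, ∃ i, y ∈ Set.range (Points.map (b i))) :
    IsFpqcCover (fun i => (yon S).obj (V i)) b :=
  isFpqcCover_of_isFppfCover hY (fun _ => IsAlgSpace.yon_obj _)
    ⟨fun i => ⟨locP_of_repWith (repWith_mono (fun _ _ k (_ : Etale k) => (inferInstance : Flat k)) (hb i)),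
      locP_of_repWith (repWith_mono
        (fun _ _ k (_ : Etale k) => (inferInstance : LocallyOfFinitePresentation k)) (hb i))⟩, hs⟩

theorem isAffineMor_of_affine_etale {X Y : Sp S} (hX : IsAlgSpace X) (hY : IsAlgSpace Y) {f : X ⟶ Y}
    (h : ∀ (V : Over S), IsAffine V.left → ∀ (b : (yon S).obj V ⟶ Y), RepWith @Etale b →
      ∀ (P : Sp S) (fst : P ⟶ X) (snd : P ⟶ (yon S).obj V), IsPullback fst snd f b →
        ∃ W : Over S, IsAffine W.left ∧ Nonempty ((yon S).obj W ≅ P)) :
    IsAffineMor f := by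
  obtain ⟨U, π, he, hs⟩ := hY.atlas
  let V : U.left.affineCover.I₀ → Over S := fun k => Over.mk (U.left.affineCover.f k ≫ U.hom)
  let j : ∀ k, V k ⟶ U := fun k => Over.homMk (U.left.affineCover.f k) rfl
  have hb : ∀ k, RepWith @Etale ((yon S).map (j k) ≫ π) := fun k =>
    repWith_comp ((repWith_yon_map_iff _ (j k)).2
      (inferInstanceAs (Etale (U.left.affineCover.f k)))) he
  refine (isLocalOnBase_fpqc_isAffineMor (fun k => (yon S).obj (V k)) (fun k => (yon S).map (j k) ≫ π)
    hY (fun _ => IsAlgSpace.yon_obj _) (isFpqcCover_of_etale hY _ hb fun y => ?_) f hX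
    (fun k => pullback f ((yon S).map (j k) ≫ π)) (fun k => pullback.snd _ _)
    (fun k => pullback.fst _ _)
    (fun k => isAlgSpace_of_isPullback (IsPullback.of_hasPullback _ _) hY.diag hX
      (IsAlgSpace.yon_obj _))
    fun k => IsPullback.of_hasPullback _ _).2 fun k => ?_
  · obtain ⟨u, rfl⟩ := surjective_ofPt_of_repWith hs y
    obtain ⟨k, v, rfl⟩ := U.left.affineCover.exists_eq u
    refine ⟨k, Points.schemeHomeo (V k) v, ?_⟩
    exact (Points.ofPt_eq_map_ofScheme _ _).symm.trans (ofPt_comp_yon _ _ _)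
  · obtain ⟨W, hW, ⟨e⟩⟩ := h (V k) (inferInstanceAs (IsAffine (U.left.affineCover.X k))) _ (hb k) _
      _ _ (IsPullback.of_hasPullback f ((yon S).map (j k) ≫ π))
    obtain ⟨w, hw⟩ := (yon S).map_surjective (e.hom ≫ pullback.snd f ((yon S).map (j k) ≫ π))
    intro Z hZ a
    obtain ⟨a, rfl⟩ := (yon S).map_surjective a
    have : IsAffine (V k).left := inferInstanceAs (IsAffine (U.left.affineCover.X k))
    obtain ⟨M, m₁, m₂, hM⟩ := exists_pullback_of_diag (IsAlgSpace.yon_obj (V k)).diag
      ((yon S).map w) ((yon S).map a)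
    refine ⟨M, m₂, (yon S).map m₁ ≫ e.hom, ?_, ?_⟩
    · exact hM.paste_horiz (IsPullback.of_horiz_isIso ⟨by rw [hw, Category.comp_id]⟩) |>.of_iso
        (Iso.refl _) (Iso.refl _) (Iso.refl _) (Iso.refl _) (by simp) (by simp) (by simp) (by simp)
    · have : IsAffineHom w.left := inferInstance
      have hs := isPullback_left (isPullback_of_yon hM)
      have : IsAffineHom m₂.left := MorphismProperty.of_isPullback (P := @IsAffineHom) hs ‹_›
      exact isAffine_of_isAffineHom m₂.left

theorem isAffineMor_of_etale_cover {X Y P : Sp S} (hX : IsAlgSpace X) (hY : IsAlgSpace Y)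
    {f : X ⟶ Y} {V : Over S} {p : (yon S).obj V ⟶ Y} (hp : RepWith @Etale p)
    (hps : RepWith @Surjective p) {fst : P ⟶ X} {snd : P ⟶ (yon S).obj V}
    (sq : IsPullback fst snd f p) (h : IsAffineMor snd) : IsAffineMor f :=
  (isLocalOnBase_fpqc_isAffineMor (fun _ : PUnit.{u + 1} => (yon S).obj V) (fun _ => p) hY
    (fun _ => IsAlgSpace.yon_obj _)
    (isFpqcCover_of_etale hY (V := fun _ : PUnit.{u + 1} => V) (fun _ => p) (fun _ => hp)
      fun y => ⟨⟨⟩, surjective_map_of_repWith hps y⟩)
    f hX (fun _ => P) (fun _ => snd) (fun _ => fst)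
    (fun _ => isAlgSpace_of_isPullback sq hY.diag hX (IsAlgSpace.yon_obj _)) fun _ => sq).2
    fun _ => h

theorem isAffineMor_of_comp {X Y B : Sp S} (g : X ⟶ Y) (q : Y ⟶ B)
    (hp : IsAffineMor (g ≫ q)) (hd : IsAffineMor (pullback.diagonal q)) : IsAffineMor g := by
  -- the graph, followed by the second projection
  let Γ : X ⟶ pullback (g ≫ q) q := pullback.lift (𝟙 X) g (by simp)
  have hsnd : IsAffineMor (pullback.snd (g ≫ q) q) :=
    isAffineMor_of_isPullback (IsPullback.of_hasPullback (g ≫ q) q) hp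
  let τ : pullback (g ≫ q) q ⟶ pullback q q :=
    pullback.lift (pullback.fst (g ≫ q) q ≫ g) (pullback.snd (g ≫ q) q)
      (by rw [Category.assoc, pullback.condition])
  have hsq : IsPullback g Γ (pullback.diagonal q) τ := by
    have hfst : ∀ s : PullbackCone (pullback.diagonal q) τ,
        (s.snd ≫ pullback.fst (g ≫ q) q) ≫ g = s.fst ∧ s.snd ≫ pullback.snd (g ≫ q) q = s.fst :=
      fun s => by
      have h₁ := s.condition =≫ pullback.fst q q
      have h₂ := s.condition =≫ pullback.snd q q
      rw [Category.assoc, Category.assoc, pullback.diagonal_fst, Category.comp_id,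
        pullback.lift_fst] at h₁
      rw [Category.assoc, Category.assoc, pullback.diagonal_snd, Category.comp_id,
        pullback.lift_snd] at h₂
      exact ⟨by rw [Category.assoc, h₁], h₂.symm⟩
    refine ⟨⟨?_⟩, ⟨PullbackCone.IsLimit.mk _ (fun s => s.snd ≫ pullback.fst (g ≫ q) q)
      (fun s => (hfst s).1) (fun s => ?_) fun s m _ h => ?_⟩⟩
    · apply pullback.hom_ext
      · rw [Category.assoc, pullback.diagonal_fst, Category.comp_id, Category.assoc,
          pullback.lift_fst, pullback.lift_fst_assoc, Category.id_comp]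
      · rw [Category.assoc, pullback.diagonal_snd, Category.comp_id, Category.assoc,
          pullback.lift_snd, pullback.lift_snd]
    · apply pullback.hom_ext
      · rw [Category.assoc, pullback.lift_fst, Category.comp_id]
      · rw [Category.assoc, pullback.lift_snd, (hfst s).1, (hfst s).2]
    · rw [← h, Category.assoc, pullback.lift_fst, Category.comp_id]
  have := isAffineMor_comp (isAffineMor_of_isPullback hsq hd) hsnd
  rwa [pullback.lift_snd] at this

end

end Groth.AlgSp2
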