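import Groth.Agent.AlgSp2.SigmaUniversal
import Groth.Agent.AlgSpBasic.Quotient
import Groth.Agent.AlgSpBasic.AffineMor
import Groth.Agent.HensPair.SigmaCouple
import Mathlib.CategoryTheory.Limits.Types.Coproducts
import Mathlib.CategoryTheory.Extensive

/-!
# Coproducts of fppf sheaves are van Kampen
-/

set_option autoImplicit false
set_option backward.isDefEq.respectTransparency.types false
universe u w v' u'

open CategoryTheory CategoryTheory.Limits AlgebraicGeometry AlgSp

namespace Groth.AlgSp2.SpExtensive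

open Groth.AlgSpBasic

noncomputable section

section Types

variable {ι : Type u} {F : Discrete ι ⥤ Type w}

theorem nonempty_isColimit_iff (c : Cocone F) :
    Nonempty (IsColimit c) ↔
      Function.Bijective (fun x : Σ i : ι, F.obj ⟨i⟩ => c.ι.app ⟨x.1⟩ x.2) := by
  have e := Cofan.nonempty_isColimit_iff_bijective_fromSigma
    (Cofan.mk c.pt fun i => c.ι.app ⟨i⟩ : Cofan fun i => F.obj ⟨i⟩)
  refine Iff.trans ?_ e
  refine (IsColimit.precomposeHomEquiv (Discrete.natIsoFunctor (F := F)).symm c).nonempty_congr.symm.trans ?_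
  exact (IsColimit.equivIsoColimit (Cocone.ext (Iso.refl _) fun j => by simp)).nonempty_congr

theorem isVanKampenColimit_types (c : Cocone F) (hc : IsColimit c) : IsVanKampenColimit c := by
  intro F' c' α f e hα
  have hb := (nonempty_isColimit_iff c).1 ⟨hc⟩
  have he : ∀ (i : ι) (z : F'.obj ⟨i⟩), f (c'.ι.app ⟨i⟩ z) = c.ι.app ⟨i⟩ (α.app ⟨i⟩ z) := fun i z =>
    (ConcreteCategory.congr_hom (NatTrans.congr_app e ⟨i⟩) z).symm
  rw [nonempty_isColimit_iff]
  constructor
  · rintro hb' ⟨i⟩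
    rw [Types.isPullback_iff]
    refine ⟨(NatTrans.congr_app e ⟨i⟩).symm, fun x y h => ?_, fun x y h => ?_⟩
    · exact eq_of_heq (Sigma.mk.inj_iff.1 (@hb'.1 ⟨i, x⟩ ⟨i, y⟩ h.1)).2
    · obtain ⟨⟨k, z⟩, rfl⟩ := hb'.2 x
      have h' : c.ι.app ⟨k⟩ (α.app ⟨k⟩ z) = c.ι.app ⟨i⟩ y := (he k z).symm.trans h
      obtain ⟨rfl, h''⟩ := Sigma.mk.inj_iff.1 (@hb.1 ⟨k, α.app ⟨k⟩ z⟩ ⟨i, y⟩ h')
      exact ⟨z, rfl, eq_of_heq h''⟩
  · intro H
    constructor
    · rintro ⟨k, z⟩ ⟨i, y⟩ h
      change c'.ι.app ⟨k⟩ z = c'.ι.app ⟨i⟩ y at h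
      have h' : c.ι.app ⟨k⟩ (α.app ⟨k⟩ z) = c.ι.app ⟨i⟩ (α.app ⟨i⟩ y) := by
        rw [← he, ← he, h]
      obtain ⟨rfl, h''⟩ := Sigma.mk.inj_iff.1 (@hb.1 ⟨k, α.app ⟨k⟩ z⟩ ⟨i, α.app ⟨i⟩ y⟩ h')
      rw [Types.ext_of_isPullback (H ⟨k⟩) h (eq_of_heq h'')]
    · intro x
      obtain ⟨⟨i, y⟩, hy⟩ := hb.2 (f x)
      obtain ⟨z, hz, -⟩ := Types.exists_of_isPullback (H ⟨i⟩) x y hy.symm
      exact ⟨⟨i, z⟩, hz⟩

theorem isVanKampenColimit_functor {C : Type u'} [Category.{v'} C]
    {F : Discrete ι ⥤ C ⥤ Type (max u w)} (c : Cocone F) (hc : IsColimit c) :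
    IsVanKampenColimit c :=
  isVanKampenColimit_of_evaluation F c fun x =>
    isVanKampenColimit_types _ (isColimitOfPreserves ((evaluation C (Type (max u w))).obj x) hc)

end Types

variable {S : Scheme.{u}} {ι : Type u}

/-- Coproducts of fppf sheaves are van Kampen. -/
theorem isVanKampenColimit_sp {F : Discrete ι ⥤ Sp S} (c : Cocone F) (hc : IsColimit c) :
    IsVanKampenColimit c := by
  let adj := sheafificationAdjunction (AlgSp.J S) (Type (u + 1))
  let Gl := presheafToSheaf (AlgSp.J S) (Type (u + 1))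
  let Gr := sheafToPresheaf (AlgSp.J S) (Type (u + 1))
  have : PreservesColimitsOfSize.{u, u} Gl := adj.leftAdjoint_preservesColimits
  apply (IsVanKampenColimit.precompose_isIso_iff
    (Functor.isoWhiskerLeft _ (asIso adj.counit) ≪≫ Functor.rightUnitor _).hom).mp
  refine ((isVanKampenColimit_functor.{u, u + 1} _ (colimit.isColimit (F ⋙ Gr))).map_reflective
    adj).of_iso (IsColimit.uniqueUpToIso ?_ ?_)
  · exact isColimitOfPreserves Gl (colimit.isColimit _)
  · exact (IsColimit.precomposeHomEquiv _ _).symm hc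

/-- The map from a coproduct of sheaves to the disjoint union of copies of the base. -/
theorem exists_component_map {F : ι → Sp S} (c : Cofan F) (hc : IsColimit c) :
    ∃ χ : c.pt ⟶ (yon S).obj (sigmaObj fun _ : ι => Over.mk (𝟙 S)), ∀ i,
      ∃ q : F i ⟶ (yon S).obj (Over.mk (𝟙 S)),
        IsPullback (c.inj i) q χ ((yon S).map (sigmaIncl (fun _ : ι => Over.mk (𝟙 S)) i)) := by
  let V : ι → Over S := fun _ => Over.mk (𝟙 S)
  have hT : IsTerminal ((yon S).obj (Over.mk (𝟙 S))) :=
    Over.mkIdTerminal.isTerminalObj (yon S) _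
  let χ : c.pt ⟶ (yon S).obj (sigmaObj V) :=
    Cofan.IsColimit.desc hc fun i => hT.from (F i) ≫ (yon S).map (sigmaIncl V i)
  refine ⟨χ, fun i => ⟨hT.from (F i), ?_⟩⟩
  exact (((isVanKampenColimit_sp _ (isColimitSigma V)) c
    (Discrete.natTrans fun j => hT.from _) χ (NatTrans.ext (funext fun ⟨j⟩ =>
      (Cofan.IsColimit.fac hc (fun i => hT.from (F i) ≫ (yon S).map (sigmaIncl V i)) j).symm)) (NatTrans.Equifibered.of_discrete _)).1 ⟨hc⟩) ⟨i⟩

/-- The inclusion into a coproduct of sheaves is open and closed. -/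
theorem repWith_inj {F : ι → Sp S} (c : Cofan F) (hc : IsColimit c) (i : ι) :
    RepWith (@IsOpenImmersion ⊓ @IsClosedImmersion) (c.inj i) := by
  obtain ⟨χ, hχ⟩ := exists_component_map c hc
  obtain ⟨q, sq⟩ := hχ i
  exact repWith_of_isPullback sq.flip ((repWith_yon_map_iff _ _).2
    ⟨(inferInstanceAs (IsOpenImmersion (Sigma.ι (fun _ : ι => S) i))),
      Groth.HensPair.isClosedImmersion_sigmaι (X := fun _ : ι => S) i⟩)

/-- Pullbacks of a coproduct along a scheme are disjoint unions of the pullbacks. -/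
theorem exists_pullback_glue {F : ι → Sp S} (c : Cofan F) (hc : IsColimit c) {Y : Sp S}
    (d : c.pt ⟶ Y) {Z : Over S} (b : (yon S).obj Z ⟶ Y) (W : ι → Over S) (w : ∀ i, W i ⟶ Z)
    (fst : ∀ i, (yon S).obj (W i) ⟶ F i)
    (sq : ∀ i, IsPullback (fst i) ((yon S).map (w i)) (c.inj i ≫ d) b) :
    ∃ fst' : (yon S).obj (sigmaObj W) ⟶ c.pt, IsPullback fst' ((yon S).map (sigmaOut w)) d b := by
  have sP := IsPullback.of_hasPullback d b
  let l : ∀ i, (yon S).obj (W i) ⟶ pullback d b := fun i =>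
    sP.lift (fst i ≫ c.inj i) ((yon S).map (w i)) (by rw [Category.assoc]; exact (sq i).w)
  have hl₁ : ∀ i, l i ≫ pullback.fst d b = fst i ≫ c.inj i := fun i => sP.lift_fst _ _ _
  have hl₂ : ∀ i, l i ≫ pullback.snd d b = (yon S).map (w i) := fun i => sP.lift_snd _ _ _
  have sl : ∀ i, IsPullback (l i) (fst i) (pullback.fst d b) (c.inj i) := fun i =>
    (IsPullback.of_bot (by rw [hl₂ i]; exact sq i) (hl₁ i).symm sP).flip
  obtain ⟨hP⟩ := (isVanKampenColimit_sp c hc).isUniversal (Cofan.mk (pullback d b) l)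
    (Discrete.natTrans fun j => fst j.as) (pullback.fst d b)
    (NatTrans.ext (funext fun ⟨j⟩ => (hl₁ j).symm))
    (NatTrans.Equifibered.of_discrete _) (fun ⟨j⟩ => sl j)
  let e : (yon S).obj (sigmaObj W) ≅ pullback d b :=
    (isColimitSigma W).coconePointUniqueUpToIso hP
  have he : ∀ i, (yon S).map (sigmaIncl W i) ≫ e.hom = l i := fun i =>
    IsColimit.comp_coconePointUniqueUpToIso_hom (isColimitSigma W) hP ⟨i⟩
  refine ⟨e.hom ≫ pullback.fst d b, IsPullback.of_iso sP e.symm (Iso.refl _) (Iso.refl _)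
    (Iso.refl _) (by simp) ?_ (by simp) (by simp)⟩
  simp only [Iso.symm_hom, Iso.refl_hom, Category.comp_id]
  rw [Iso.eq_inv_comp]
  refine (sigma_hom_ext W fun i => ?_).symm
  rw [← Category.assoc, he, hl₂, ← Functor.map_comp, sigmaIncl_out]

/-- An open covering by algebraic spaces gives an algebraic space. -/
theorem isAlgSpace_of_openCover {F : Sp S} (Fi : ι → Sp S) (f : ∀ i, Fi i ⟶ F)
    (halg : ∀ i, IsAlgSpace (Fi i)) (hopen : ∀ i, RepWith @IsOpenImmersion (f i)) (c : Cofan Fi)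
    (hc : IsColimit c) (hsurj : Sheaf.IsLocallySurjective (Cofan.IsColimit.desc hc f)) :
    IsAlgSpace F := by
  choose U p hp hps using fun i => (halg i).atlas
  have hu : ∀ i, RepWith @Etale (p i ≫ f i) := fun i =>
    repWith_comp (hp i) (repWith_mono (fun A B k (hk : IsOpenImmersion k) => (inferInstance : Etale k))
      (hopen i))
  obtain ⟨π, hπ, -⟩ := exists_glue U fun i => p i ≫ f i
  let cU : Cofan fun i => (yon S).obj (U i) :=
    Cofan.mk ((yon S).obj (sigmaObj U)) fun i => (yon S).map (sigmaIncl U i)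
  have hπe : ∀ (Z : Over S) (b : (yon S).obj Z ⟶ F), ∃ (W : Over S)
      (fst : (yon S).obj W ⟶ (yon S).obj (sigmaObj U)) (snd : W ⟶ Z),
      IsPullback fst ((yon S).map snd) π b ∧ Etale snd.left := by
    intro Z b
    have hex : ∀ i, ∃ (W : Over S) (fst : (yon S).obj W ⟶ (yon S).obj (U i)) (w : W ⟶ Z),
        IsPullback fst ((yon S).map w) (p i ≫ f i) b ∧ Etale w.left := fun i => by
      obtain ⟨W, w, fst, sq⟩ := (hu i).rep b
      exact ⟨W, fst, w, sq, (hu i).property b _ w sq⟩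
    choose W fst w sq hw using hex
    obtain ⟨fst', sq'⟩ := exists_pullback_glue (F := fun i => (yon S).obj (U i)) cU (isColimitSigma U)
      π b W w fst (fun i => by
        show IsPullback (fst i) _ ((yon S).map (sigmaIncl U i) ≫ π) b
        rw [hπ i]; exact sq i)
    exact ⟨_, fst', _, sq', etale_sigmaOut w hw⟩
  have he : RepWith @Etale π := by
    refine ⟨fun Z b => ?_, fun A B g fst snd sq => ?_⟩
    · obtain ⟨W, fst, snd, sq, -⟩ := hπe Z b
      exact ⟨W, snd, fst, sq⟩
    · obtain ⟨W, fst', snd', sq', h'⟩ := hπe _ g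
      obtain ⟨m, hm⟩ := (yon S).map_surjective (sq'.lift fst ((yon S).map snd) sq.w)
      have hmi : IsIso m := by
        have : IsIso ((yon S).map m) := by
          rw [hm]
          exact ⟨sq.lift fst' ((yon S).map snd') sq'.w,
            sq.hom_ext (by simp) (by simp), sq'.hom_ext (by simp) (by simp)⟩
        exact isIso_of_fully_faithful (yon S) m
      have e : m ≫ snd' = snd := (yon S).map_injective (by rw [Functor.map_comp, hm, sq'.lift_snd])
      rw [← e]
      show Etale (m.left ≫ snd'.left)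
      have : IsIso m.left := inferInstanceAs (IsIso ((Over.forget S).map m))
      infer_instance
  have hπs : Sheaf.IsLocallySurjective π := by
    rw [Sheaf.isLocallySurjective_iff_epi]
    have : Epi (Cofan.IsColimit.desc hc f) := (Sheaf.isLocallySurjective_iff_epi _).1 hsurj
    refine ⟨fun {Q} a b h => ?_⟩
    have h' : ∀ i, f i ≫ a = f i ≫ b := fun i => by
      have : Sheaf.IsLocallySurjective (p i) := isLocallySurjective_of_etale (p i) (hp i) (hps i)
      have : Epi (p i) := (Sheaf.isLocallySurjective_iff_epi _).1 inferInstance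
      rw [← cancel_epi (p i), ← Category.assoc, ← Category.assoc, ← hπ i, Category.assoc,
        Category.assoc, h]
    rw [← cancel_epi (Cofan.IsColimit.desc hc f)]
    exact Cofan.IsColimit.hom_ext hc _ _ fun i => by
      rw [← Category.assoc, Cofan.IsColimit.fac, h', ← Category.assoc, Cofan.IsColimit.fac]
  obtain ⟨R, t, s, sq⟩ := exists_pullback_yon he.rep π
  have : Etale s.left := repWith_fst_of_isPullback sq he
  have : Etale t.left := repWith_fst_of_isPullback sq.flip he
  exact (isAlgSpace_of_kernelPair sq).1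

/-- Coproducts of algebraic spaces are algebraic spaces. -/
theorem isAlgSpace_cofan_pt {F : ι → Sp S} (h : ∀ i, IsAlgSpace (F i)) (c : Cofan F)
    (hc : IsColimit c) : IsAlgSpace c.pt := by
  refine isAlgSpace_of_openCover F c.inj h
    (fun i => repWith_mono (fun A B k hk => hk.1) (repWith_inj c hc i)) c hc ?_
  have e : Cofan.IsColimit.desc hc c.inj = 𝟙 c.pt :=
    Cofan.IsColimit.hom_ext hc _ _ fun i => by simp
  rw [e]
  infer_instance

end

end Groth.AlgSp2.SpExtensive
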