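import Groth.Agent.AlgSp2.GeometricFibre
import Mathlib.FieldTheory.IsAlgClosed.AlgebraicClosure

/-!
Field-valued points with finite fibres in affine étale charts are quasi-compact; locally separated
algebraic spaces are decent.
-/

universe u

open CategoryTheory CategoryTheory.Limits AlgebraicGeometry Opposite

noncomputable section

namespace Groth.AlgSp2

open AlgSp

variable {S : Scheme.{u}} {X : Sp S}

/-- A field-valued point with finite fibres in affine étale charts is quasi-compact. -/
theorem repWith_qc_of_finite_fibres (hX : IsAlgSpace X) (q : FieldPt X)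
    (hfin : ∀ ⦃A P : Over S⦄ (a : (yon S).obj A ⟶ X) (e : P ⟶ A) (c : P ⟶ q.pt), IsAffine A.left →
      RepWith @Etale a → IsPullback ((yon S).map e) ((yon S).map c) a q.toHom → Finite P.left) :
    RepWith @QuasiCompact q.toHom := by
  refine repWith_qc_of_affine (representable_fieldPt hX q) fun W V g fstV sndV hW sq => ?_
  obtain ⟨fstV, rfl⟩ := (yon S).map_surjective fstV
  obtain ⟨U, φ, hφ, hφs⟩ := hX.atlas
  obtain ⟨W', wU, wW, sqW⟩ := AlgSpBasic.exists_pullback_yon hφ.rep g
  have : Etale wW.left := hφ.property _ _ _ sqW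
  have : Surjective wW.left := hφs.property _ _ _ sqW
  let Wi : U.left.affineCover.I₀ → Scheme.{u} :=
    fun i => pullback wU.left (U.left.affineCover.f i)
  let ι := Σ i : U.left.affineCover.I₀, (Wi i).affineCover.I₀
  let oW' : ∀ k : ι, (Wi k.1).affineCover.X k.2 ⟶ W'.left :=
    fun k => (Wi k.1).affineCover.f k.2 ≫ pullback.fst wU.left (U.left.affineCover.f k.1)
  have hcov : Set.univ ⊆ ⋃ k : ι, Set.range (oW' k ≫ wW.left) := by
    intro t _
    obtain ⟨t', rfl⟩ := wW.left.surjective t
    obtain ⟨i, y, hy⟩ := U.left.affineCover.exists_eq (wU.left t')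
    obtain ⟨y', hy', -⟩ := Scheme.Pullback.exists_preimage_pullback t' y hy.symm
    obtain ⟨k, z, hz⟩ := (Wi i).affineCover.exists_eq y'
    refine Set.mem_iUnion.2 ⟨⟨i, k⟩, z, ?_⟩
    simp [oW', hz, hy']
  have hopen : ∀ k, IsOpen (Set.range (oW' k ≫ wW.left)) := fun k => by
    have : IsOpenImmersion (oW' k) := inferInstanceAs (IsOpenImmersion (_ ≫ _))
    have : Etale (oW' k ≫ wW.left) := inferInstance
    exact (oW' k ≫ wW.left).isOpenMap.isOpen_range
  have : CompactSpace ↥W.left := inferInstance
  obtain ⟨t, ht⟩ := isCompact_univ.elim_finite_subcover _ hopen hcov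
  let O : ι → Over S := fun k => Over.mk ((oW' k ≫ wW.left) ≫ W.hom)
  let oW : ∀ k, O k ⟶ W := fun k => Over.homMk (oW' k ≫ wW.left) rfl
  have hV : Set.univ ⊆ ⋃ k ∈ t, Set.range (pullback.fst sndV (oW k)).left := by
    intro v _
    obtain ⟨k, hk, z, hz⟩ := Set.mem_iUnion₂.1 (ht (Set.mem_univ (sndV.left v)))
    obtain ⟨p, hp, -⟩ := Scheme.exists_preimage_of_isPullback
      ((IsPullback.of_hasPullback sndV (oW k)).map (Over.forget S)) v z hz.symm
    exact Set.mem_iUnion₂.2 ⟨k, hk, p, hp⟩
  refine ⟨?_⟩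
  rw [← Set.eq_univ_of_univ_subset hV]
  refine t.finite_toSet.isCompact_biUnion fun k _ => ?_
  suffices CompactSpace ↥(pullback sndV (oW k)).left from
    isCompact_range (pullback.fst sndV (oW k)).left.continuous
  -- the piece is the base change of a finite fibre over an affine chart
  obtain ⟨i, k⟩ := k
  let A : Over S := Over.mk (U.left.affineCover.f i ≫ U.hom)
  let aU : A ⟶ U := Over.homMk (U.left.affineCover.f i) rfl
  have hA : IsAffine A.left := inferInstanceAs (IsAffine (U.left.affineCover.X i))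
  have : MorphismProperty.IsStableUnderComposition @Etale.{u} := ⟨fun f g hf hg => inferInstance⟩
  have ha : RepWith @Etale ((yon S).map aU ≫ φ) :=
    AlgSpBasic.repWith_comp ((repWith_yon_map_iff _ aU).2
      (inferInstanceAs (Etale (U.left.affineCover.f i)))) hφ
  obtain ⟨P, e, c, sqP⟩ := AlgSpBasic.exists_pullback_yon ha.rep q.toHom
  have : Finite P.left := hfin _ e c hA ha sqP
  let kA : O ⟨i, k⟩ ⟶ A :=
    Over.homMk ((Wi i).affineCover.f k ≫ pullback.snd wU.left (U.left.affineCover.f i)) (by
      change (_ ≫ _) ≫ _ ≫ _ = ((_ ≫ _) ≫ _) ≫ _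
      simp only [Category.assoc]
      rw [show pullback.snd wU.left (U.left.affineCover.f i) ≫ U.left.affineCover.f i ≫ U.hom =
        pullback.fst wU.left (U.left.affineCover.f i) ≫ wU.left ≫ U.hom from by
          rw [← Category.assoc, ← pullback.condition, Category.assoc], Over.w wU]
      rw [← Over.w wW])
  let oWO : O ⟨i, k⟩ ⟶ W' := Over.homMk (oW' ⟨i, k⟩) (by
    change _ = (_ ≫ _) ≫ _
    simp only [oW', Category.assoc, Over.w wW])
  have hk₁ : kA ≫ aU = oWO ≫ wU := Over.OverMorphism.ext (by
    change ((Wi i).affineCover.f k ≫ pullback.snd _ _) ≫ U.left.affineCover.f i = oW' ⟨i, k⟩ ≫ wU.left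
    simp only [oW', Category.assoc]
    exact congrArg ((Wi i).affineCover.f k ≫ ·) pullback.condition.symm)
  have hk₂ : oW ⟨i, k⟩ = oWO ≫ wW := Over.OverMorphism.ext rfl
  have hcomm : (yon S).map (oW ⟨i, k⟩) ≫ g = (yon S).map kA ≫ (yon S).map aU ≫ φ := by
    rw [← Functor.map_comp_assoc, hk₁, hk₂, Functor.map_comp_assoc, Functor.map_comp_assoc, sqW.w]
  have big : IsPullback ((yon S).map (pullback.fst sndV (oW ⟨i, k⟩)) ≫ (yon S).map fstV)
      ((yon S).map (pullback.snd sndV (oW ⟨i, k⟩))) q.toHom
      ((yon S).map kA ≫ (yon S).map aU ≫ φ) :=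
    hcomm ▸ ((IsPullback.of_hasPullback sndV (oW ⟨i, k⟩)).map (yon S)).paste_horiz sq
  obtain ⟨l, hl⟩ := (yon S).map_surjective (sqP.lift
    ((yon S).map (pullback.snd sndV (oW ⟨i, k⟩)) ≫ (yon S).map kA)
    ((yon S).map (pullback.fst sndV (oW ⟨i, k⟩)) ≫ (yon S).map fstV)
    (by rw [Category.assoc]; exact big.w.symm))
  have hsq := AlgSpBasic.isPullback_left (AlgSpBasic.isPullback_of_yon
    (IsPullback.of_bot (h₁₁ := (yon S).map (pullback.snd sndV (oW ⟨i, k⟩)))
      (v₁₁ := (yon S).map l) (v₁₂ := (yon S).map kA)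
      (by
        have := big.flip
        rwa [show (yon S).map (pullback.fst sndV (oW ⟨i, k⟩)) ≫ (yon S).map fstV =
          (yon S).map l ≫ (yon S).map c by rw [hl, sqP.lift_snd]] at this)
      (by rw [hl, sqP.lift_fst]) sqP))
  have : QuasiCompact (pullback.snd sndV (oW ⟨i, k⟩)).left :=
    MorphismProperty.of_isPullback (P := @QuasiCompact) hsq.flip
      (inferInstance : QuasiCompact e.left)
  have : CompactSpace ↥(O ⟨i, k⟩).left :=
    inferInstanceAs (CompactSpace ↥((Wi i).affineCover.X k))
  exact QuasiCompact.compactSpace_of_compactSpace (pullback.snd sndV (oW ⟨i, k⟩)).left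

/-- A locally separated algebraic space is decent. -/
theorem isDecent_of_locallySeparated (hX : IsAlgSpace X)
    (hls : RepWith @IsImmersion (Limits.diag X)) : IsDecent X := by
  intro x
  obtain ⟨U, φ, hφ, hφs⟩ := hX.atlas
  obtain ⟨u, hu⟩ := AlgSpBasic.surjective_ofPt_of_repWith hφs x
  let Ω : Type u := AlgebraicClosure (U.left.residueField u)
  let δ : Spec (CommRingCat.of Ω) ⟶ Spec (U.left.residueField u) :=
    Spec.map (CommRingCat.ofHom (algebraMap (U.left.residueField u) Ω))
  let w := (δ ≫ U.left.fromSpecResidueField u) ≫ U.hom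
  let aΩ : Over.mk w ⟶ U := Over.homMk (δ ≫ U.left.fromSpecResidueField u) rfl
  let q : FieldPt X := ofHom ((yon S).map aΩ ≫ φ)
  have hqx : Points.mk q = x := by
    refine (mk_ofHom_comp φ aΩ).trans ((congrArg (Points.ofPt φ) ?_).trans hu)
    exact U.left.fromSpecResidueField_apply u _
  have hq : RepWith @QuasiCompact q.toHom := by
    refine repWith_qc_of_finite_fibres hX q fun A P a e c hA ha sqP => ?_
    have hc : Etale c.left := ha.property _ _ _ sqP
    have := locallyQuasiFinite_of_etale c.left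
    have hH := finite_geometricFibre_of_locallySeparated hls ha (w := w) q.toHom
    have hsec : ∀ z : P.left, ∃ σ : Over.mk w ⟶ P, σ ≫ c = 𝟙 _ ∧
        σ.left (IsLocalRing.closedPoint Ω) = z := by
      intro z
      let j := P.left.fromSpecResidueField z
      have : LocallyQuasiFinite (j ≫ c.left) :=
        MorphismProperty.comp_mem @LocallyQuasiFinite j c.left inferInstance ‹_›
      have : IsFinite (j ≫ c.left) :=
        @isFinite_of_finite (Spec (P.left.residueField z)) inferInstance Ω _ (j ≫ c.left) ‹_›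
      obtain ⟨ρ, hρ⟩ : ∃ ρ : CommRingCat.of Ω ⟶ P.left.residueField z, Spec.map ρ = j ≫ c.left :=
        ⟨Spec.preimage _, Spec.map_preimage _⟩
      have hρf : ρ.hom.Finite := by
        rw [← IsFinite.SpecMap_iff, hρ]; assumption
      let : Algebra Ω (P.left.residueField z) := ρ.hom.toAlgebra
      have : Module.Finite Ω (P.left.residueField z) := hρf
      have hbij : Function.Bijective ρ.hom :=
        IsAlgClosed.algebraMap_bijective_of_isIntegral (k := Ω) (K := P.left.residueField z)
      have : IsIso ρ := (ConcreteCategory.isIso_iff_bijective ρ).2 hbij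
      refine ⟨Over.homMk (Spec.map (CategoryTheory.inv ρ) ≫ j) ?_, ?_, ?_⟩
      · change (_ ≫ _) ≫ P.hom = _
        rw [← Over.w c, Category.assoc, ← Category.assoc j]
        change Spec.map (CategoryTheory.inv ρ) ≫ (j ≫ c.left) ≫ w = w
        have e₁ : Spec.map (CategoryTheory.inv ρ) ≫ j ≫ c.left = 𝟙 _ := by
          rw [← hρ]
          exact (Spec.map_comp _ _).symm.trans
            ((congrArg Spec.map (IsIso.hom_inv_id ρ)).trans (Spec.map_id _))
        exact (Category.assoc _ _ _).symm.trans ((congrArg (· ≫ w) e₁).trans (Category.id_comp w))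
      · apply Over.OverMorphism.ext
        change (Spec.map (CategoryTheory.inv ρ) ≫ j) ≫ c.left = 𝟙 _
        rw [Category.assoc, ← hρ]
        exact (Spec.map_comp _ _).symm.trans
          ((congrArg Spec.map (IsIso.hom_inv_id ρ)).trans (Spec.map_id _))
      · exact P.left.fromSpecResidueField_apply z _
    choose σ hσ₁ hσ₂ using hsec
    have : Finite {h : Over.mk w ⟶ A | (yon S).map h ≫ a = q.toHom} := hH.to_subtype
    refine Finite.of_injective
      (fun z => (⟨σ z ≫ e, ?_⟩ : {h : Over.mk w ⟶ A | (yon S).map h ≫ a = q.toHom})) ?_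
    · show (yon S).map (σ z ≫ e) ≫ a = q.toHom
      rw [Functor.map_comp, Category.assoc, sqP.w, ← Functor.map_comp_assoc, hσ₁]
      exact (congrArg (· ≫ q.toHom) ((yon S).map_id _)).trans (Category.id_comp _)
    · intro z z' h
      have h' : σ z ≫ e = σ z' ≫ e := congrArg Subtype.val h
      have : σ z = σ z' := (yon S).map_injective (sqP.hom_ext
        (by rw [← Functor.map_comp, ← Functor.map_comp, h'])
        (by rw [← Functor.map_comp, ← Functor.map_comp, hσ₁, hσ₁]))
      rw [← hσ₂ z, ← hσ₂ z', this]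
  obtain ⟨p, hp, hm, hpq⟩ :=
    exists_monoQC_of_qc hφ (representable_fieldPt hX) q hq u (hu.trans hqx.symm)
  exact ⟨p, hp.trans hqx, hm, hpq⟩

end Groth.AlgSp2
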