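import Groth.Agent.AlgSp2.AffineDescent
import Groth.Agent.AlgSpBasic.Topology

/-!
# Morphisms out of sheaves descend along étale coverings
-/

set_option autoImplicit false
set_option backward.isDefEq.respectTransparency.types false
universe u

open CategoryTheory CategoryTheory.Limits AlgebraicGeometry Opposite AlgSp

namespace Groth.AlgSp2

open Groth.AlgSpBasic

variable {S : Scheme.{u}}

/-- A natural assignment on scheme-valued points is a morphism of sheaves. -/
theorem exists_hom_of_natural {G Q : Sp S}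
    (y : ∀ T : Over S, ((yon S).obj T ⟶ G) → ((yon S).obj T ⟶ Q))
    (hy : ∀ (T T' : Over S) (g : T' ⟶ T) (x : (yon S).obj T ⟶ G),
      y T' ((yon S).map g ≫ x) = (yon S).map g ≫ y T x) :
    ∃ φ : G ⟶ Q, ∀ (T : Over S) (x : (yon S).obj T ⟶ G), x ≫ φ = y T x := by
  let φ : G ⟶ Q := ⟨
    { app := fun T => ↾fun z => yEquiv (y (unop T) (yEquiv.symm z))
      naturality := fun T T' i => by
        ext z
        change yEquiv (y (unop T') (yEquiv.symm (G.obj.map i z))) =
          Q.obj.map i (yEquiv (y (unop T) (yEquiv.symm z)))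
        have e : yEquiv.symm (G.obj.map i z) = (yon S).map i.unop ≫ yEquiv.symm z := by
          apply yEquiv.injective
          rw [Equiv.apply_symm_apply]
          refine Eq.trans ?_ ((J S).uliftYonedaEquiv_naturality _ _)
          rw [Equiv.apply_symm_apply]
          rfl
        rw [e, hy]
        exact ((J S).uliftYonedaEquiv_naturality _ _).symm }⟩
  refine ⟨φ, fun T x => yEquiv.injective ?_⟩
  rw [yEquiv_comp]
  change yEquiv (y T (yEquiv.symm (yEquiv x))) = _
  rw [Equiv.symm_apply_apply]

section Scheme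

variable {Q : Sp S} {W T : Over S} (c : W ⟶ T) [Surjective c.left] [Flat c.left]
  [LocallyOfFinitePresentation c.left]

/-- Maps out of a scheme are determined on an fppf covering. -/
theorem hom_ext_of_fppf {l l' : (yon S).obj T ⟶ Q}
    (h : (yon S).map c ≫ l = (yon S).map c ≫ l') : l = l' := by
  have hs : Presieve.IsSheaf (J S) Q.obj := (isSheaf_iff_isSheaf_of_type _ _).1 Q.property
  have hR := (Presieve.isSheafFor_iff_generate _).2 (hs _ (generate_singleton_mem c))
  refine yEquiv.injective (hR.isSeparatedFor.ext ?_)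
  rintro _ _ ⟨⟩
  refine ((J S).uliftYonedaEquiv_naturality l c).trans ?_
  rw [h]
  exact ((J S).uliftYonedaEquiv_naturality l' c).symm

/-- Maps out of a scheme glue along an fppf covering. -/
theorem exists_glue_of_fppf (x : (yon S).obj W ⟶ Q)
    (h : ∀ (Z : Over S) (p q : Z ⟶ W), p ≫ c = q ≫ c →
      (yon S).map p ≫ x = (yon S).map q ≫ x) :
    ∃ y : (yon S).obj T ⟶ Q, (yon S).map c ≫ y = x := by
  have hs : Presieve.IsSheaf (J S) Q.obj := (isSheaf_iff_isSheaf_of_type _ _).1 Q.property
  have hR := (Presieve.isSheafFor_iff_generate _).2 (hs _ (generate_singleton_mem c))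
  obtain ⟨t, ht, -⟩ := Presieve.isSheafFor_singleton.1 hR (yEquiv x) fun {Z} p q e => by
    refine ((J S).uliftYonedaEquiv_naturality x p).trans ?_
    rw [h Z p q e]
    exact ((J S).uliftYonedaEquiv_naturality x q).symm
  refine ⟨yEquiv.symm t, yEquiv.injective ?_⟩
  refine ((J S).uliftYonedaEquiv_naturality _ _).symm.trans ?_
  rw [Equiv.apply_symm_apply]
  exact ht

end Scheme

section Sheaf

variable {F G Q : Sp S} (a : F ⟶ G)

/-- Maps out of a sheaf are determined on a representable étale covering. -/
theorem hom_ext_of_etale (ha : RepWith @Etale a) (ha' : RepWith @Surjective a) {f g : G ⟶ Q}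
    (h : a ≫ f = a ≫ g) : f = g := by
  refine hom_ext_yon fun T x => ?_
  obtain ⟨W, snd, fst, sq⟩ := ha.rep x
  have : Etale snd.left := ha.property x fst snd sq
  have : Surjective snd.left := ha'.property x fst snd sq
  refine hom_ext_of_fppf snd ?_
  rw [← reassoc_of% sq.w, h, reassoc_of% sq.w]

/-- Maps out of a sheaf descend along a representable étale covering. -/
theorem exists_desc_of_etale (ha : RepWith @Etale a) (ha' : RepWith @Surjective a) (x : F ⟶ Q)
    (h : ∀ (Z : Over S) (p q : (yon S).obj Z ⟶ F), p ≫ a = q ≫ a → p ≫ x = q ≫ x) :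
    ∃ y : G ⟶ Q, a ≫ y = x := by
  have key : ∀ (T : Over S) (g : (yon S).obj T ⟶ G), ∃ y : (yon S).obj T ⟶ Q,
      ∀ (Z : Over S) (k : Z ⟶ T) (p : (yon S).obj Z ⟶ F),
        p ≫ a = (yon S).map k ≫ g → (yon S).map k ≫ y = p ≫ x := by
    intro T g
    obtain ⟨W, snd, fst, sq⟩ := ha.rep g
    have : Etale snd.left := ha.property g fst snd sq
    have : Surjective snd.left := ha'.property g fst snd sq
    obtain ⟨y, hy⟩ := exists_glue_of_fppf snd (fst ≫ x) fun Z p q e => by
      rw [← Category.assoc, ← Category.assoc]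
      refine h Z _ _ ?_
      rw [Category.assoc, Category.assoc, sq.w, ← Functor.map_comp_assoc, e,
        Functor.map_comp_assoc]
    refine ⟨y, fun Z k p hp => ?_⟩
    obtain ⟨V, snd', fst', sq'⟩ := ha.rep ((yon S).map k ≫ g)
    have : Etale snd'.left := ha.property _ fst' snd' sq'
    have : Surjective snd'.left := ha'.property _ fst' snd' sq'
    refine hom_ext_of_fppf snd' ?_
    obtain ⟨m, hm⟩ := (yon S).map_surjective (sq.lift fst' ((yon S).map (snd' ≫ k))
      (by rw [sq'.w, Functor.map_comp, Category.assoc]))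
    have hm2 : m ≫ snd = snd' ≫ k := (yon S).map_injective (by
      rw [Functor.map_comp, hm, sq.lift_snd])
    rw [← Functor.map_comp_assoc, ← hm2, Functor.map_comp_assoc, hy, hm, sq.lift_fst_assoc,
      ← Category.assoc]
    exact h V _ _ (by rw [sq'.w, Category.assoc, hp])
  choose y hy using key
  have huniq : ∀ (T : Over S) (g : (yon S).obj T ⟶ G) (y' : (yon S).obj T ⟶ Q),
      (∀ (Z : Over S) (k : Z ⟶ T) (p : (yon S).obj Z ⟶ F),
        p ≫ a = (yon S).map k ≫ g → (yon S).map k ≫ y' = p ≫ x) → y' = y T g := by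
    intro T g y' hy'
    obtain ⟨W, snd, fst, sq⟩ := ha.rep g
    have : Etale snd.left := ha.property g fst snd sq
    have : Surjective snd.left := ha'.property g fst snd sq
    exact hom_ext_of_fppf snd ((hy' W snd fst sq.w).trans (hy T g W snd fst sq.w).symm)
  obtain ⟨φ, hφ⟩ := exists_hom_of_natural y fun T T' k g => (huniq _ _ _ fun Z k' p hp => by
    rw [← Functor.map_comp_assoc]
    exact hy T g Z (k' ≫ k) p (by rw [hp, Functor.map_comp_assoc])).symm
  refine ⟨φ, hom_ext_yon fun T z => ?_⟩
  rw [← Category.assoc, hφ]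
  have := hy T (z ≫ a) T (𝟙 T) z (by rw [(yon S).map_id, Category.id_comp])
  rwa [(yon S).map_id, Category.id_comp] at this

end Sheaf

end Groth.AlgSp2
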