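import Groth.Agent.AlgSp2.AffineDescentCore
import Groth.Agent.AlgSp2.SigmaGlue

/-!
# Affine morphisms of algebraic spaces are fpqc local on the base
-/

set_option autoImplicit false
set_option backward.isDefEq.respectTransparency.types false
universe u

open CategoryTheory CategoryTheory.Limits AlgebraicGeometry Opposite AlgSp

namespace Groth.AlgSp2

open Groth.AlgSpBasic

noncomputable section

variable {S : Scheme.{u}}

theorem hom_ext_yon {P Q : Sp S} {a b : P ⟶ Q}
    (h : ∀ (T : Over S) (z : (yon S).obj T ⟶ P), z ≫ a = z ≫ b) : a = b := by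
  ext T x
  have := congrArg yEquiv (h (unop T) (yEquiv.symm x))
  rw [yEquiv_comp, yEquiv_comp, Equiv.apply_symm_apply] at this
  exact this

/-- A compatible assignment of `U`-points to the points of `Q` is a morphism. -/
theorem exists_hom_of_points {Q : Sp S} {U : Over S}
    (y : ∀ T : Over S, ((yon S).obj T ⟶ Q) → (T ⟶ U))
    (hy : ∀ (T T' : Over S) (g : T' ⟶ T) (x : (yon S).obj T ⟶ Q),
      y T' ((yon S).map g ≫ x) = g ≫ y T x) :
    ∃ φ : Q ⟶ (yon S).obj U, ∀ (T : Over S) (x : (yon S).obj T ⟶ Q),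
      x ≫ φ = (yon S).map (y T x) := by
  let φ : Q ⟶ (yon S).obj U := ⟨
    { app := fun T => ↾fun z => yEquiv ((yon S).map (y (unop T) (yEquiv.symm z)))
      naturality := fun T T' i => by
        ext z
        change yEquiv ((yon S).map (y (unop T') (yEquiv.symm (Q.obj.map i z)))) =
          ((yon S).obj U).obj.map i (yEquiv ((yon S).map (y (unop T) (yEquiv.symm z))))
        have e : yEquiv.symm (Q.obj.map i z) = (yon S).map i.unop ≫ yEquiv.symm z := by
          apply yEquiv.injective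
          rw [Equiv.apply_symm_apply]
          refine Eq.trans ?_ ((J S).uliftYonedaEquiv_naturality _ _)
          rw [Equiv.apply_symm_apply]
          rfl
        rw [e, hy, Functor.map_comp]
        exact ((J S).uliftYonedaEquiv_naturality _ _).symm }⟩
  refine ⟨φ, fun T x => yEquiv.injective ?_⟩
  rw [yEquiv_comp]
  change yEquiv ((yon S).map (y T (yEquiv.symm (yEquiv x)))) = _
  rw [Equiv.symm_apply_apply]

/-- A morphism out of a sheaf is fixed by descent along a faithfully flat affine morphism. -/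
theorem exists_hom_of_cover {Q : Sp S} {Z W V U : Over S} [IsAffine Z.left] [IsAffine W.left]
    {c : W ⟶ Z} [Flat c.left] [Surjective c.left] {π : Q ⟶ (yon S).obj Z}
    {vq : (yon S).obj V ⟶ Q} {p : V ⟶ W} {κ : V ⟶ U} {u : U ⟶ Z}
    (sq : IsPullback vq ((yon S).map p) π ((yon S).map c)) (hu : p ≫ c = κ ≫ u)
    (hκ : ∀ (T : Over S) (v₁ v₂ : T ⟶ V),
      (yon S).map v₁ ≫ vq = (yon S).map v₂ ≫ vq → v₁ ≫ κ = v₂ ≫ κ) :
    ∃ φ : Q ⟶ (yon S).obj U, vq ≫ φ = (yon S).map κ ∧ φ ≫ (yon S).map u = π := by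
  have key : ∀ (T : Over S) (x : (yon S).obj T ⟶ Q), ∃ y : T ⟶ U,
      (yon S).map (y ≫ u) = x ≫ π ∧
      (∀ (T' : Over S) (g : T' ⟶ T) (v : T' ⟶ V),
        (yon S).map g ≫ x = (yon S).map v ≫ vq → g ≫ y = v ≫ κ) ∧
      ∀ y' : T ⟶ U, (∀ (T' : Over S) (g : T' ⟶ T) (v : T' ⟶ V),
        (yon S).map g ≫ x = (yon S).map v ≫ vq → g ≫ y' = v ≫ κ) → y' = y := by
    intro T x
    obtain ⟨t, ht⟩ := (yon S).map_surjective (x ≫ π)
    let M : Over S := Over.mk (pullback.fst t.left c.left ≫ T.hom)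
    let q₁ : M ⟶ T := Over.homMk (pullback.fst t.left c.left) rfl
    let q₂ : M ⟶ W := Over.homMk (pullback.snd t.left c.left) (by
      change pullback.snd t.left c.left ≫ W.hom = pullback.fst t.left c.left ≫ T.hom
      rw [← Over.w c, ← pullback.condition_assoc, Over.w t])
    have hsurj : Surjective q₁.left := inferInstanceAs (Surjective (pullback.fst t.left c.left))
    have hflat : Flat q₁.left := inferInstanceAs (Flat (pullback.fst t.left c.left))
    have hqc : QuasiCompact q₁.left := inferInstanceAs (QuasiCompact (pullback.fst t.left c.left))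
    have hq : q₁ ≫ t = q₂ ≫ c := Over.OverMorphism.ext pullback.condition
    obtain ⟨v₀, hv₀⟩ := (yon S).map_surjective (sq.lift ((yon S).map q₁ ≫ x) ((yon S).map q₂)
      (by rw [Category.assoc, ← ht, ← Functor.map_comp, hq, Functor.map_comp]))
    have hv₀q : (yon S).map v₀ ≫ vq = (yon S).map q₁ ≫ x := by rw [hv₀, sq.lift_fst]
    have hv₀p : v₀ ≫ p = q₂ := (yon S).map_injective (by
      rw [Functor.map_comp, hv₀, sq.lift_snd])
    have hcomp : ∀ {M' : Scheme.{u}} (g₁ g₂ : M' ⟶ M.left), g₁ ≫ q₁.left = g₂ ≫ q₁.left →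
        g₁ ≫ (v₀ ≫ κ).left = g₂ ≫ (v₀ ≫ κ).left := by
      intro M' g₁ g₂ hg
      let T'' : Over S := Over.mk (g₁ ≫ M.hom)
      let f₁ : T'' ⟶ M := Over.homMk g₁ rfl
      let f₂ : T'' ⟶ M := Over.homMk g₂ (by
        change g₂ ≫ M.hom = g₁ ≫ M.hom
        rw [← Over.w q₁, reassoc_of% hg])
      have he : f₁ ≫ q₁ = f₂ ≫ q₁ := Over.OverMorphism.ext hg
      have := hκ T'' (f₁ ≫ v₀) (f₂ ≫ v₀) (by
        simp only [Functor.map_comp, Category.assoc, hv₀q]
        rw [← Category.assoc, ← Functor.map_comp, he, Functor.map_comp, Category.assoc])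
      rw [Category.assoc, Category.assoc] at this
      exact congrArg CommaMorphism.left this
    let y₀ := EffectiveEpi.desc q₁.left (v₀ ≫ κ).left hcomp
    have hy₀ : q₁.left ≫ y₀ = (v₀ ≫ κ).left := EffectiveEpi.fac _ _ _
    let y : T ⟶ U := Over.homMk y₀ ((cancel_epi q₁.left).1 (by
      rw [reassoc_of% hy₀, Over.w (v₀ ≫ κ)]; exact (Over.w q₁).symm))
    have hy : q₁ ≫ y = v₀ ≫ κ := Over.OverMorphism.ext hy₀
    have hyu : y ≫ u = t := by
      refine Over.OverMorphism.ext ((cancel_epi q₁.left).1 ?_)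
      rw [← Over.comp_left, ← Over.comp_left, reassoc_of% hy, ← hu, reassoc_of% hv₀p, hq]
    refine ⟨y, by rw [hyu, ht], fun T' g v h => ?_, fun y' hy' => ?_⟩
    · have hw : g ≫ t = (v ≫ p) ≫ c := (yon S).map_injective (by
        simp only [Functor.map_comp, Category.assoc]
        rw [ht, ← Category.assoc, h, Category.assoc, sq.w])
      let m : T' ⟶ M := Over.homMk (pullback.lift g.left (v ≫ p).left
        (congrArg CommaMorphism.left hw)) (by
          change pullback.lift _ _ _ ≫ pullback.fst t.left c.left ≫ T.hom = T'.hom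
          rw [pullback.lift_fst_assoc, Over.w g])
      have hm₁ : m ≫ q₁ = g := Over.OverMorphism.ext (pullback.lift_fst _ _ _)
      have hm₂ : m ≫ q₂ = v ≫ p := Over.OverMorphism.ext (pullback.lift_snd _ _ _)
      have hm : m ≫ v₀ = v := (yon S).map_injective (sq.hom_ext
        (by rw [Functor.map_comp, Category.assoc, hv₀q, ← Category.assoc, ← Functor.map_comp,
          hm₁, h])
        (by rw [← Functor.map_comp, ← Functor.map_comp, Category.assoc, hv₀p, hm₂]))
      rw [← hm₁, Category.assoc, hy, ← Category.assoc, hm]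
    · refine Over.OverMorphism.ext ((cancel_epi q₁.left).1 ?_)
      rw [← Over.comp_left, ← Over.comp_left, hy, hy' M q₁ v₀ hv₀q.symm]
  choose y hπ hy hu' using key
  obtain ⟨φ, hφ⟩ := exists_hom_of_points y fun T T' g x => by
    refine (hu' T' _ _ fun T'' g' v h => ?_).symm
    rw [← Category.assoc]
    refine hy T x T'' _ v ?_
    rw [Functor.map_comp, Category.assoc, h]
  refine ⟨φ, ?_, hom_ext_yon fun T x => ?_⟩
  · rw [hφ V vq]
    congr 1
    simpa using hy V vq V (𝟙 V) (𝟙 V) rfl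
  · rw [← Category.assoc, hφ, ← Functor.map_comp, hπ]

theorem isFpqcCover_of_flat_surjective {V U : Over S} [IsAffine V.left] [IsAffine U.left]
    (κ : V ⟶ U) [Flat κ.left] [Surjective κ.left] :
    IsFpqcCover (fun _ : PUnit.{u + 1} => (yon S).obj V) (fun _ => (yon S).map κ) := by
  refine ⟨fun _ => locP_of_repWith ((repWith_yon_map_iff _ κ).2 ‹Flat κ.left›), fun Z hZ h => ?_⟩
  obtain ⟨k, rfl⟩ := (yon S).map_surjective h
  let M : Over S := Over.mk (pullback.fst k.left κ.left ≫ Z.hom)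
  let q₂ : M ⟶ V := Over.homMk (pullback.snd k.left κ.left) (by
    change pullback.snd k.left κ.left ≫ V.hom = pullback.fst k.left κ.left ≫ Z.hom
    rw [← Over.w κ, ← pullback.condition_assoc, Over.w k])
  let q₁ : M ⟶ Z := Over.homMk (pullback.fst k.left κ.left) rfl
  refine ⟨1, fun _ => M, fun _ => q₁, fun _ => inferInstanceAs (IsAffine (pullback k.left κ.left)),
    fun _ => inferInstanceAs (Flat (pullback.fst k.left κ.left)),
    fun z => ⟨0, ((inferInstance : Surjective (pullback.fst k.left κ.left))).surj z⟩,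
    fun _ => ⟨⟨⟩, (yon S).map q₂, ?_⟩⟩
  rw [← Functor.map_comp, ← Functor.map_comp]
  congr 1
  exact Over.OverMorphism.ext pullback.condition.symm

theorem exists_affine_iso_of_isPullback {Q : Sp S} (hQ : IsAlgSpace Q) {Z W V : Over S}
    [IsAffine Z.left] [IsAffine W.left] [IsAffine V.left] (c : W ⟶ Z) [Flat c.left]
    [Surjective c.left] {π : Q ⟶ (yon S).obj Z} {vq : (yon S).obj V ⟶ Q} {p : V ⟶ W}
    (sq : IsPullback vq ((yon S).map p) π ((yon S).map c)) :
    ∃ U : Over S, IsAffine U.left ∧ Nonempty (Q ≅ (yon S).obj U) := by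
  algebraize [c.left.appTop.hom, p.left.appTop.hom, p.left.appTop.hom.comp c.left.appTop.hom]
  have : Module.Flat ↑Γ(Z.left, ⊤) ↑Γ(W.left, ⊤) :=
    (HasRingHomProperty.iff_of_isAffine (P := @Flat) (f := c.left)).1 ‹_›
  let hZ : Spec (CommRingCat.of ↑Γ(Z.left, ⊤)) ⟶ S := Z.left.isoSpec.inv ≫ Z.hom
  let eZ : specObj hZ ↑Γ(Z.left, ⊤) ≅ Z := Over.isoMk Z.left.isoSpec.symm (by
    change Z.left.isoSpec.inv ≫ Z.hom = Spec.map (CommRingCat.ofHom (RingHom.id _)) ≫ hZ
    rw [show CommRingCat.ofHom (RingHom.id ↑Γ(Z.left, ⊤)) = 𝟙 _ from rfl, Spec.map_id,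
      Category.id_comp])
  let eW : specObj hZ ↑Γ(W.left, ⊤) ≅ W := Over.isoMk W.left.isoSpec.symm (by
    change W.left.isoSpec.inv ≫ W.hom = Spec.map c.left.appTop ≫ Z.left.isoSpec.inv ≫ Z.hom
    rw [← Category.assoc (Spec.map c.left.appTop), Scheme.isoSpec_inv_naturality, Category.assoc,
      Over.w c])
  let eV : specObj hZ ↑Γ(V.left, ⊤) ≅ V := Over.isoMk V.left.isoSpec.symm (by
    change V.left.isoSpec.inv ≫ V.hom =
      Spec.map (c.left.appTop ≫ p.left.appTop) ≫ Z.left.isoSpec.inv ≫ Z.hom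
    rw [Spec.map_comp, Category.assoc, Scheme.isoSpec_inv_naturality_assoc c.left,
      Scheme.isoSpec_inv_naturality_assoc p.left, Over.w c, Over.w p])
  have hcomm₁ : specHom hZ (Algebra.ofId ↑Γ(Z.left, ⊤) ↑Γ(W.left, ⊤)) ≫ eZ.hom = eW.hom ≫ c := by
    ext : 1
    exact Scheme.isoSpec_inv_naturality c.left
  have hcomm₂ : specHom hZ (IsScalarTower.toAlgHom ↑Γ(Z.left, ⊤) ↑Γ(W.left, ⊤) ↑Γ(V.left, ⊤)) ≫
      eW.hom = eV.hom ≫ p := by
    ext : 1
    exact Scheme.isoSpec_inv_naturality p.left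
  have sq' : IsPullback ((yon S).map eV.hom ≫ vq)
      ((yon S).map (specHom hZ (IsScalarTower.toAlgHom ↑Γ(Z.left, ⊤) ↑Γ(W.left, ⊤) ↑Γ(V.left, ⊤))))
      (π ≫ (yon S).map eZ.inv)
      ((yon S).map (specHom hZ (Algebra.ofId ↑Γ(Z.left, ⊤) ↑Γ(W.left, ⊤)))) := by
    refine sq.of_iso ((yon S).mapIso eV.symm) (Iso.refl _) ((yon S).mapIso eW.symm)
      ((yon S).mapIso eZ.symm) ?_ ?_ (by simp) ?_
    · simp only [Functor.mapIso_hom, Iso.symm_hom, Iso.refl_hom, Category.comp_id]
      rw [← Category.assoc, ← Functor.map_comp, Iso.inv_hom_id, (yon S).map_id, Category.id_comp]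
    · simp only [Functor.mapIso_hom, Iso.symm_hom, ← Functor.map_comp]
      congr 1
      rw [Iso.comp_inv_eq, Category.assoc, Iso.eq_inv_comp]
      exact hcomm₂.symm
    · simp only [Functor.mapIso_hom, Iso.symm_hom, ← Functor.map_comp]
      congr 1
      rw [Iso.comp_inv_eq, Category.assoc, Iso.eq_inv_comp]
      exact hcomm₁.symm
  obtain ⟨U, κ, u, hU, hsqU, hκ⟩ := exists_descended hZ _ _ sq'
  have hc' : specHom hZ (Algebra.ofId ↑Γ(Z.left, ⊤) ↑Γ(W.left, ⊤)) = eW.hom ≫ c ≫ eZ.inv := by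
    rw [← reassoc_of% hcomm₁, Iso.hom_inv_id, Category.comp_id]
  have : IsIso eW.hom.left := (Over.forget S).map_isIso eW.hom
  have : IsIso eZ.inv.left := (Over.forget S).map_isIso eZ.inv
  have : Flat (specHom hZ (Algebra.ofId ↑Γ(Z.left, ⊤) ↑Γ(W.left, ⊤))).left := by
    rw [hc']
    exact inferInstanceAs (Flat (eW.hom.left ≫ c.left ≫ eZ.inv.left))
  have : Surjective (specHom hZ (Algebra.ofId ↑Γ(Z.left, ⊤) ↑Γ(W.left, ⊤))).left := by
    rw [hc']
    exact inferInstanceAs (Surjective (eW.hom.left ≫ c.left ≫ eZ.inv.left))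
  obtain ⟨φ, hφκ, hφu⟩ := exists_hom_of_cover sq' hsqU.w hκ
  have hsch := isPullback_left hsqU
  have : Flat κ.left := MorphismProperty.of_isPullback (P := @Flat) hsch ‹_›
  have : Surjective κ.left := MorphismProperty.of_isPullback (P := @Surjective) hsch ‹_›
  have hyon := hsqU.map (yon S)
  have sqφ : IsPullback ((yon S).map eV.hom ≫ vq) (𝟙 _) φ ((yon S).map κ) := by
    have hl : ∀ {P : Sp S} (a : P ⟶ Q) (b : P ⟶ (yon S).obj _), a ≫ φ = b ≫ (yon S).map κ →
        b ≫ (yon S).map eV.hom ≫ vq = a := by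
      intro P a b hab
      have hw : a ≫ π ≫ (yon S).map eZ.inv = (b ≫ (yon S).map (specHom hZ (IsScalarTower.toAlgHom
          ↑Γ(Z.left, ⊤) ↑Γ(W.left, ⊤) ↑Γ(V.left, ⊤)))) ≫
          (yon S).map (specHom hZ (Algebra.ofId ↑Γ(Z.left, ⊤) ↑Γ(W.left, ⊤))) := by
        rw [← hφu, reassoc_of% hab, Category.assoc, ← Functor.map_comp, ← Functor.map_comp, hsqU.w]
      have hb : sq'.lift a (b ≫ _) hw = b := hyon.hom_ext (sq'.lift_snd _ _ _) (by
        rw [← hφκ, ← Category.assoc, sq'.lift_fst, hab, hφκ])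
      exact (congrArg (· ≫ _) hb).symm.trans (sq'.lift_fst _ _ _)
    refine ⟨⟨by rw [Category.id_comp]; exact hφκ⟩, ⟨PullbackCone.IsLimit.mk _ (fun s => s.snd)
      (fun s => hl s.fst s.snd s.condition) (fun s => Category.comp_id _)
      (fun s m _ h => (Category.comp_id m).symm.trans h)⟩⟩
  have hiso : IsIso φ := (MorphismProperty.isomorphisms.iff φ).1
    ((isLocalOnBase_fpqc_isomorphisms (fun _ : PUnit.{u + 1} => (yon S).obj _) (fun _ => (yon S).map κ)
      (IsAlgSpace.yon_obj U) (fun _ => IsAlgSpace.yon_obj _) (isFpqcCover_of_flat_surjective κ)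
      φ hQ (fun _ => (yon S).obj _) (fun _ => 𝟙 _) _ (fun _ => IsAlgSpace.yon_obj _)
      (fun _ => sqφ)).2 fun _ => MorphismProperty.isomorphisms.infer_property _)
  exact ⟨U, hU, ⟨asIso φ⟩⟩

end

end Groth.AlgSp2
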