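import Groth.Agent.AlgSp2.DiscreteFibres
import Groth.Agent.AlgSp2.FiniteMor
import Groth.Agent.AlgSpBasic.SepLQFScheme
import Groth.Prelude.Def_AlgSpMor5
import Mathlib.AlgebraicGeometry.ZariskisMainTheorem

/-!
# Finite morphisms of algebraic spaces: proper and locally quasi-finite
-/

set_option autoImplicit false
set_option backward.isDefEq.respectTransparency.types false
set_option linter.unusedVariables false
universe u

open CategoryTheory CategoryTheory.Limits AlgebraicGeometry AlgSp

namespace Groth.AlgSp2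

open Groth.AlgSpBasic

noncomputable section

variable {S : Scheme.{u}} {X Y : Sp S} {f : X ⟶ Y}

theorem lqf_of_isFiniteMor (hX : IsAlgSpace X) (hY : IsAlgSpace Y) (h : IsFiniteMor f) :
    LocP (@LocallyQuasiFinite ⊓ @LocallyOfFiniteType) f :=
  locP_of_repWith (repWith_mono (fun A B g (hg : IsFinite g) =>
    (⟨inferInstance, inferInstance⟩ : LocallyQuasiFinite g ∧ LocallyOfFiniteType g))
    ((isFiniteMor_iff hX hY).1 h))

theorem isProperMor_of_isFiniteMor (hX : IsAlgSpace X) (hY : IsAlgSpace Y) (h : IsFiniteMor f) :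
    IsProperMor f := by
  have h' := (isFiniteMor_iff hX hY).1 h
  rw [isProperMor_iff_repWith hX hY h'.rep]
  exact repWith_mono (fun A B g (hg : IsFinite g) => (inferInstance : IsProper g)) h'

/-- A universally closed separated locally quasi-finite morphism is finite. -/
theorem isFiniteMor_of_univClosed_sep_lqf (hX : IsAlgSpace X) (hY : IsAlgSpace Y)
    (hu : IsUnivClosedMor f) (hs : IsSeparatedMor f)
    (hq : LocP (@LocallyQuasiFinite ⊓ @LocallyOfFiniteType) f) : IsFiniteMor f := by
  have hr := representable_of_separated_lqf hX hY hq hs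
  rw [isFiniteMor_iff hX hY]
  refine ⟨hr, fun U V g fst snd sq => ?_⟩
  have : IsSeparated snd.left := ((repWith_isSeparated_iff hr).1 hs).property g fst snd sq
  have : UniversallyClosed snd.left :=
    ((repWith_universallyClosed_iff hr).2 hu).property g fst snd sq
  obtain ⟨hlq, hlt⟩ := (repWith_of_locP hY hr hq).property g fst snd sq
  have : LocallyQuasiFinite snd.left := hlq
  have : LocallyOfFiniteType snd.left := hlt
  exact (IsFinite.iff_isProper_and_locallyQuasiFinite snd.left).2 ⟨IsProper.mk, ‹_›⟩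

theorem discreteFibres_iff (hX : IsAlgSpace X) (hY : IsAlgSpace Y)
    (hf : LocP @LocallyOfFiniteType f) :
    LocP (@LocallyQuasiFinite ⊓ @LocallyOfFiniteType) f ↔
      ∀ (k : FieldPt Y) (Xk : Sp S) (fst : Xk ⟶ X) (snd : Xk ⟶ (yon S).obj k.pt),
        IsPullback fst snd f k.toHom → DiscreteTopology (Points Xk) := by
  rw [lqf_iff_discrete_fibres hX hY hf]
  refine ⟨fun h k Xk fst snd sq => h k.K k.str k.toHom Xk fst snd sq,
    fun h k _ str y P fst snd sq => h ⟨k, str, yEquiv y⟩ P fst snd ?_⟩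
  have e : FieldPt.toHom ⟨k, str, yEquiv y⟩ = y := yEquiv.symm_apply_apply y
  rw [e]
  exact sq

theorem isFiniteMor_tfae (hX : IsAlgSpace X) (hY : IsAlgSpace Y) :
    [IsFiniteMor f,
      IsProperMor f ∧ LocP (@LocallyQuasiFinite ⊓ @LocallyOfFiniteType) f,
      IsProperMor f ∧
        ∀ (k : FieldPt Y) (Xk : Sp S) (fst : Xk ⟶ X) (snd : Xk ⟶ (yon S).obj k.pt),
          IsPullback fst snd f k.toHom → DiscreteTopology (Points Xk),
      IsUnivClosedMor f ∧ IsSeparatedMor f ∧ LocP @LocallyOfFiniteType f ∧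
        ∀ (k : FieldPt Y) (Xk : Sp S) (fst : Xk ⟶ X) (snd : Xk ⟶ (yon S).obj k.pt),
          IsPullback fst snd f k.toHom → DiscreteTopology (Points Xk)].TFAE := by
  tfae_have 1 → 2 := fun h => ⟨isProperMor_of_isFiniteMor hX hY h, lqf_of_isFiniteMor hX hY h⟩
  tfae_have 2 → 3 := fun h => ⟨h.1, (discreteFibres_iff hX hY h.1.2.1.1).1 h.2⟩
  tfae_have 3 → 4 := fun h => ⟨h.1.2.2, h.1.1, h.1.2.1.1, h.2⟩
  tfae_have 4 → 1 := fun h => isFiniteMor_of_univClosed_sep_lqf hX hY h.1 h.2.1
    ((discreteFibres_iff hX hY h.2.2.1).2 h.2.2.2)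
  tfae_finish

end

end Groth.AlgSp2
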