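import Groth.Agent.AlgSp2.Decency

/-!
Decency and monomorphic points descend along quasi-compact étale surjections; decency of morphisms
is étale local on the target.
-/

universe u

open CategoryTheory CategoryTheory.Limits AlgebraicGeometry Opposite

noncomputable section

namespace Groth.AlgSp2

open AlgSp

variable {S : Scheme.{u}} {X Y : Sp S}

theorem isQuasiCompactSp_yon (W : Over S) [CompactSpace ↥W.left] :
    IsQuasiCompactSp ((yon S).obj W) := by
  have : MorphismProperty.ContainsIdentities @Etale.{u} :=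
    ⟨fun Z => (inferInstance : Etale (𝟙 Z))⟩
  have : MorphismProperty.ContainsIdentities @Surjective.{u} :=
    ⟨fun Z => (inferInstance : Surjective (𝟙 Z))⟩
  exact ⟨W, 𝟙 _, AlgSp.repWith_id _ W, AlgSp.repWith_id _ W, inferInstance⟩

/-- A representable quasi-compact map composed with a quasi-compact morphism is quasi-compact, if
representable. -/
theorem repWith_qc_comp_mor {U : Over S} {q : (yon S).obj U ⟶ X} (hq : RepWith @QuasiCompact q)
    {f : X ⟶ Y} (hqf : Representable (q ≫ f)) (hf : IsQuasiCompactMor f) :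
    RepWith @QuasiCompact (q ≫ f) := by
  refine repWith_qc_of_affine hqf fun W V g fst snd hW sq => ?_
  obtain ⟨fst, rfl⟩ := (yon S).map_surjective fst
  have sqZ := IsPullback.of_hasPullback f g
  obtain ⟨V', a, he, hs, hV'⟩ := hf (IsAlgSpace.yon_obj W) (isQuasiCompactSp_yon W) g _ _ sqZ
  let ζ : (yon S).obj V ⟶ pullback f g :=
    sqZ.lift ((yon S).map fst ≫ q) ((yon S).map snd) (by rw [Category.assoc, sq.w])
  obtain ⟨Q, e₁, e₂, sqQ⟩ :=
    AlgSpBasic.exists_pullback_yon hq.rep (a ≫ pullback.fst f g)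
  have : QuasiCompact e₂.left := hq.property _ _ _ sqQ
  have : CompactSpace ↥Q.left := QuasiCompact.compactSpace_of_compactSpace e₂.left
  obtain ⟨αW, hαW⟩ := (yon S).map_surjective (a ≫ pullback.snd f g)
  obtain ⟨m, hm⟩ := (yon S).map_surjective
    (sq.lift ((yon S).map e₁) ((yon S).map (e₂ ≫ αW)) (by
      rw [Functor.map_comp, hαW, reassoc_of% sqQ.w, Category.assoc, Category.assoc,
        ← pullback.condition]))
  have hm₁ : m ≫ fst = e₁ := (yon S).map_injective (by rw [Functor.map_comp, hm, sq.lift_fst])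
  have hm₂ : m ≫ snd = e₂ ≫ αW :=
    (yon S).map_injective (by rw [Functor.map_comp, hm, sq.lift_snd])
  refine ⟨?_⟩
  suffices Function.Surjective m.left by
    rw [← this.range_eq]
    exact isCompact_range m.left.continuous
  intro v
  obtain ⟨v', hv'⟩ := AlgSpBasic.surjective_ofPt_of_repWith hs (Points.ofPt ζ v)
  obtain ⟨E, ev', ev, sqE⟩ := AlgSpBasic.exists_pullback_yon hs.rep ζ
  obtain ⟨z, -, hz⟩ := (AlgSpBasic.ofPt_eq_ofPt_iff sqE v' v).1 hv'
  have w₁ : ((yon S).map ev ≫ (yon S).map fst) ≫ q =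
      (yon S).map ev' ≫ a ≫ pullback.fst f g := by
    rw [reassoc_of% sqE.w, Category.assoc, show ζ ≫ pullback.fst f g = _ from sqZ.lift_fst _ _ _]
  obtain ⟨n, hn⟩ := (yon S).map_surjective (sqQ.lift _ _ w₁)
  have hn₁ : n ≫ e₁ = ev ≫ fst := (yon S).map_injective (by
    rw [Functor.map_comp, hn, sqQ.lift_fst, Functor.map_comp])
  have hn₂ : n ≫ e₂ = ev' := (yon S).map_injective (by rw [Functor.map_comp, hn, sqQ.lift_snd])
  have hev : ev' ≫ αW = ev ≫ snd := (yon S).map_injective (by
    rw [Functor.map_comp, Functor.map_comp, hαW, reassoc_of% sqE.w,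
      show ζ ≫ pullback.snd f g = _ from sqZ.lift_snd _ _ _])
  have e : n ≫ m = ev := (yon S).map_injective (sq.hom_ext
    (by rw [← Functor.map_comp, ← Functor.map_comp, Category.assoc, hm₁, hn₁])
    (by rw [← Functor.map_comp, ← Functor.map_comp, Category.assoc, hm₂, reassoc_of% hn₂, hev]))
  exact ⟨n.left z, (congrArg (fun k : E ⟶ V => k.left z) e).trans hz⟩

/-- Decency descends along quasi-compact surjective morphisms. -/
theorem isDecent_of_qc_surjective {f : X ⟶ Y} (hY : IsAlgSpace Y)
    (hq : IsQuasiCompactMor f) (hs : IsSurjectiveMor f) (hX : IsDecent X) : IsDecent Y := by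
  intro y
  obtain ⟨x, rfl⟩ := hs y
  obtain ⟨q, hqx, -, hqc⟩ := hX x
  have hq' : RepWith @QuasiCompact (q.map f).toHom := by
    rw [FieldPt.toHom_map]
    exact repWith_qc_comp_mor hqc (hY.representable_from_yon _) hq
  obtain ⟨U, φ, hφ, hφs⟩ := hY.atlas
  obtain ⟨u, hu⟩ := AlgSpBasic.surjective_ofPt_of_repWith hφs (Points.mk (q.map f))
  obtain ⟨p, hp, hm, hpq⟩ := exists_monoQC_of_qc hφ (representable_fieldPt hY) _ hq' u hu
  exact ⟨p, by rw [hp, ← Points.map_mk, hqx], hm, hpq⟩

/-- Monomorphic points descend along quasi-compact étale surjective morphisms. -/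
theorem exists_mono_of_qc_etale_surjective {f : X ⟶ Y} (hXs : IsAlgSpace X) (hY : IsAlgSpace Y)
    (hq : IsQuasiCompactMor f) (he : IsEtaleMor f) (hs : IsSurjectiveMor f)
    (hX : ∀ x : Points X, ∃ p : FieldPt X, Points.mk p = x ∧ Mono p.toHom) (y : Points Y) :
    ∃ q : FieldPt Y, Points.mk q = y ∧ Mono q.toHom := by
  obtain ⟨x, rfl⟩ := hs y
  obtain ⟨p, hp, hm⟩ := hX x
  obtain ⟨U, φ, hφ, hφs⟩ := hXs.atlas
  obtain ⟨u, hu⟩ := AlgSpBasic.surjective_ofPt_of_repWith hφs x
  let r := (yon S).map (resPt u) ≫ φ ≫ f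
  have hr : Representable r := hY.representable_from_yon _
  obtain ⟨A, fst, snd, sq⟩ := AlgSpBasic.exists_pullback_yon hr (p.toHom ≫ f)
  have sqP := IsPullback.of_hasPullback f r
  -- the fibre of `X` over the field is a finite discrete space
  obtain ⟨UP, e₁, e₂, sqU⟩ :=
    AlgSpBasic.exists_pullback_yon (hY.representable_from_yon (φ ≫ f)) r
  have : Etale e₂.left := (he φ hφ).property _ _ _ sqU
  have : LocallyQuasiFinite e₂.left := locallyQuasiFinite_of_etale _
  have : IsLocallyArtinian UP.left :=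
    IsLocallyArtinian.of_locallyQuasiFinite (Y := Spec (CommRingCat.of (U.left.residueField u)))
      e₂.left
  let w : (yon S).obj UP ⟶ pullback f r :=
    sqP.lift ((yon S).map e₁ ≫ φ) ((yon S).map e₂) (by rw [Category.assoc, sqU.w])
  have sqw : IsPullback ((yon S).map e₁) w φ (pullback.fst f r) :=
    IsPullback.of_bot (by rw [show w ≫ pullback.snd f r = _ from sqP.lift_snd _ _ _]; exact sqU)
      (sqP.lift_fst _ _ _).symm sqP
  have hwe : RepWith @Etale w := AlgSpBasic.repWith_of_isPullback sqw hφ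
  have hws : RepWith @Surjective w := AlgSpBasic.repWith_of_isPullback sqw hφs
  have : DiscreteTopology (Points (pullback f r)) := by
    rw [discreteTopology_iff_isOpen_singleton]
    intro z
    obtain ⟨v, rfl⟩ := AlgSpBasic.surjective_ofPt_of_repWith hws z
    simpa using AlgSpBasic.isOpenMap_ofPt_of_etale hwe _ (isOpen_discrete ({v} : Set UP.left))
  have : CompactSpace ↥(Over.mk (U.left.fromSpecResidueField u ≫ U.hom)).left :=
    inferInstanceAs (CompactSpace (Spec (CommRingCat.of (U.left.residueField u))))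
  obtain ⟨V, a, -, hVs, hV⟩ :=
    hq (IsAlgSpace.yon_obj _) (isQuasiCompactSp_yon _) r _ _ sqP
  have : CompactSpace (Points (pullback f r)) := AlgSpBasic.compactSpace_points hVs
  have : Finite (Points (pullback f r)) := finite_of_compact_of_discrete
  let l : (yon S).obj A ⟶ pullback f r :=
    sqP.lift ((yon S).map snd ≫ p.toHom) ((yon S).map fst) (by rw [Category.assoc, sq.w])
  have : Mono l := by
    refine mono_of_injective l fun Z g₁ g₂ h => ?_
    have h₁ := congrArg (· ≫ pullback.fst f r) h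
    have h₂ := congrArg (· ≫ pullback.snd f r) h
    simp only [Category.assoc, show l ≫ pullback.fst f r = _ from sqP.lift_fst _ _ _,
      show l ≫ pullback.snd f r = _ from sqP.lift_snd _ _ _] at h₁ h₂
    exact (yon S).map_injective (sq.hom_ext h₂
      ((cancel_mono p.toHom).1 (by simpa only [Category.assoc] using h₁)))
  have : Finite A.left := Finite.of_injective
    (fun a : A.left => Points.map l (Points.schemeEquiv A a))
    ((map_injective_of_mono l).comp (Points.schemeEquiv A).injective)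
  have hru : Points.mk (ofHom r) = Points.map f x := by
    refine (mk_ofHom_resPt (φ ≫ f) u).trans ?_
    rw [← Points.map_ofPt, hu]
  have : Nonempty A.left := by
    obtain ⟨a, -⟩ := (AlgSpBasic.ofPt_eq_ofPt_iff sq (IsLocalRing.closedPoint _)
      (IsLocalRing.closedPoint p.K)).1 ((ofPt_field _ _).trans (hru.trans
        ((congrArg (Points.map f) (hp.symm.trans (Points.ofPt_toHom p _).symm)).trans
          (Points.map_ofPt _ _ _))))
    exact ⟨a⟩
  obtain ⟨q, c, hqm, -, -, -, -, -, hmk⟩ :=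
    @exists_mono_of_finite_pair _ _ _ _ (he φ hφ) _ _ _ (resPt u) (isPreimmersion_resPt u) hr
      _ _ _ _ _ _ _ sq _ _
  exact ⟨q, hmk.trans hru, hqm⟩

/-- Being decent is étale local on the target of a morphism. -/
theorem isDecentMor_of_etale_surjective {f : X ⟶ Y} (hX : IsAlgSpace X) (hY : IsAlgSpace Y)
    {V : Over S} {p : (yon S).obj V ⟶ Y} (hp : RepWith @Etale p) (hps : RepWith @Surjective p)
    {X' : Sp S} {fst : X' ⟶ X} {snd : X' ⟶ (yon S).obj V} (hsq : IsPullback fst snd f p)
    (h : IsDecentMor snd) : IsDecentMor f := by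
  refine isDecentMor_of_affine hX hY fun T g P pf ps _ sqP => ?_
  obtain ⟨T', kV, π, sqT⟩ := AlgSpBasic.exists_pullback_yon hp.rep g
  have : Etale π.left := hp.property _ _ _ sqT
  have : Surjective π.left := hps.property _ _ _ sqT
  -- a quasi-compact open still surjecting
  let 𝒰 := T'.left.affineCover
  have hcov : Set.univ ⊆ ⋃ i, π.left '' ((𝒰.f i).opensRange : Set ↥T'.left) := by
    intro t _
    obtain ⟨t', rfl⟩ := π.left.surjective t
    obtain ⟨i, y, hy⟩ := 𝒰.exists_eq t'
    exact Set.mem_iUnion.2 ⟨i, t', ⟨y, hy⟩, rfl⟩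
  obtain ⟨s, hs⟩ := isCompact_univ.elim_finite_subcover _
    (fun i => π.left.isOpenMap _ (𝒰.f i).opensRange.isOpen) hcov
  let K : T'.left.Opens := ⨆ i ∈ s, (𝒰.f i).opensRange
  have hK : IsCompact (K : Set ↥T'.left) := by
    simp only [K, TopologicalSpace.Opens.coe_iSup]
    exact s.finite_toSet.isCompact_biUnion fun i _ => isCompact_range (𝒰.f i).continuous
  let ι : Over.mk (K.ι ≫ T'.hom) ⟶ T' := Over.homMk K.ι rfl
  let j := ι ≫ π
  have : CompactSpace ↥K.toScheme := isCompact_iff_compactSpace.1 hK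
  have hjq : QuasiCompact j.left := (quasiCompact_iff_compactSpace (K.ι ≫ π.left)).2 this
  have hjs : Surjective j.left := ⟨fun t => by
    have ht := hs (Set.mem_univ t)
    simp only [Set.mem_iUnion, Set.mem_image] at ht
    obtain ⟨i, hi, t', ht', rfl⟩ := ht
    exact ⟨⟨t', (le_biSup (fun i => (𝒰.f i).opensRange) hi) ht'⟩, rfl⟩⟩
  have sq₂ := IsPullback.of_hasPullback ps ((yon S).map j)
  let l : pullback ps ((yon S).map j) ⟶ X' :=
    hsq.lift (pullback.fst _ _ ≫ pf) (pullback.snd _ _ ≫ (yon S).map (ι ≫ kV)) (by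
      simp only [Category.assoc, sqP.w, reassoc_of% pullback.condition, j, Functor.map_comp, sqT.w])
  have hl : IsPullback l (pullback.snd ps ((yon S).map j)) snd ((yon S).map (ι ≫ kV)) := by
    refine IsPullback.of_right (h₁₂ := fst) ?_ (hsq.lift_snd _ _ _) hsq
    have e : (yon S).map (ι ≫ kV) ≫ p = (yon S).map j ≫ g := by
      simp only [j, Functor.map_comp, Category.assoc, sqT.w]
    rw [show l ≫ fst = _ from hsq.lift_fst _ _ _, e]
    exact sq₂.paste_horiz sqP
  have hdec := h _ _ _ hl
  have hπq : RepWith @QuasiCompact (pullback.fst ps ((yon S).map j)) :=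
    AlgSpBasic.repWith_of_isPullback sq₂.flip ((repWith_yon_map_iff _ j).2 hjq)
  have hπs : RepWith @Surjective (pullback.fst ps ((yon S).map j)) :=
    AlgSpBasic.repWith_of_isPullback sq₂.flip ((repWith_yon_map_iff _ j).2 hjs)
  have hP : IsAlgSpace P :=
    AlgSpBasic.isAlgSpace_of_isPullback sqP hY.diag hX (IsAlgSpace.yon_obj T)
  intro x
  obtain ⟨x', hx'⟩ := AlgSpBasic.surjective_map_of_repWith hπs x
  obtain ⟨q, hq, -, hqc⟩ := hdec x'
  have : MorphismProperty.IsStableUnderComposition @QuasiCompact.{u} := inferInstance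
  have hqπ : RepWith @QuasiCompact (q.map (pullback.fst ps ((yon S).map j))).toHom := by
    rw [FieldPt.toHom_map]
    exact AlgSpBasic.repWith_comp hqc hπq
  obtain ⟨U, φ, hφ, hφs⟩ := hP.atlas
  obtain ⟨u, hu⟩ := AlgSpBasic.surjective_ofPt_of_repWith hφs
    (Points.mk (q.map (pullback.fst ps ((yon S).map j))))
  obtain ⟨r, hr, hm, hrq⟩ := exists_monoQC_of_qc hφ (representable_fieldPt hP) _ hqπ u hu
  exact ⟨r, by rw [hr, ← Points.map_mk, hq, hx'], hm, hrq⟩

end Groth.AlgSp2
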