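import Groth.Agent.AlgSp2.SigmaUniversal
import Groth.Prelude.Def_AlgSpCov

/-!
# A criterion for a property to be fpqc local on the base
-/

set_option autoImplicit false
set_option backward.isDefEq.respectTransparency.types false
set_option linter.unusedVariables false
universe u

open CategoryTheory CategoryTheory.Limits AlgebraicGeometry AlgSp

namespace Groth.AlgSp2

open Groth.AlgSpBasic

theorem isLocalOnBase_fpqc_of_affine_criterion {S : Scheme.{u}} (P : MorphismProperty (Sp S))
    (h1 : ∀ ⦃ι : Type u⦄ [Finite ι] (Xi Yi : ι → Sp S) (fi : ∀ i, Xi i ⟶ Yi i)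
      (cX : Cofan Xi) (cY : Cofan Yi) (hcX : IsColimit cX) (hcY : IsColimit cY) (m : cX.pt ⟶ cY.pt),
      (∀ i, IsAlgSpace (Xi i)) → (∀ i, IsAlgSpace (Yi i)) → IsAlgSpace cX.pt → IsAlgSpace cY.pt →
      (∀ i, cX.inj i ≫ m = fi i ≫ cY.inj i) → (∀ i, P (fi i)) → P m)
    (h2 : ∀ ⦃X Y : Sp S⦄, IsAlgSpace X → IsAlgSpace Y → ∀ (f : X ⟶ Y),
      P f ↔ ∀ (Z : Over S), IsAffine Z.left → ∀ (g : (yon S).obj Z ⟶ Y) (W : Sp S)
        (fst : W ⟶ X) (snd : W ⟶ (yon S).obj Z), IsAlgSpace W → IsPullback fst snd f g → P snd)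
    (h3 : ∀ ⦃Z Z' : Over S⦄ (c : Z' ⟶ Z), IsAffine Z.left → IsAffine Z'.left → Surjective c.left →
      Flat c.left → ∀ ⦃X X' : Sp S⦄ (f : X ⟶ (yon S).obj Z) (fst : X' ⟶ X)
        (f' : X' ⟶ (yon S).obj Z'), IsAlgSpace X → IsAlgSpace X' →
        IsPullback fst f' f ((yon S).map c) → P f' → P f) :
    IsLocalOnBase (IsFpqcCover (S := S)) P := by
  intro ι Y Yi g hY hYi hg X f hX Xi p q hXi hsq
  constructor
  · intro hf i
    rw [h2 (hXi i) (hYi i)]
    exact fun Z hZ l W fst snd hW sq => (h2 hX hY f).1 hf Z hZ _ W _ snd hW (sq.paste_horiz (hsq i))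
  · intro hp
    rw [h2 hX hY]
    intro Z hZ t W fst snd hW sq
    obtain ⟨m, V, c, hV, hc, hs, hl⟩ := hg.2 Z hZ t
    let V' : ULift.{u} (Fin m) → Over S := fun k => V k.down
    have : ∀ k, IsAffine (V' k).left := fun k => hV k.down
    have hA : IsAffine (sigmaObj V').left := inferInstanceAs (IsAffine (∐ fun k => (V' k).left))
    let d : sigmaObj V' ⟶ Z := sigmaOut fun k => c k.down
    have hd : Surjective d.left := surjective_sigmaOut _ fun z =>
      let ⟨k, hk⟩ := hs z; ⟨⟨k⟩, hk⟩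
    have hdf : Flat d.left := by
      refine (IsZariskiLocalAtSource.iff_of_openCover (P := @Flat)
        (sigmaOpenCover fun k => (V' k).left)).2 fun k => ?_
      have e : (sigmaOpenCover fun k => (V' k).left).f k ≫ d.left = (c k.down).left :=
        congrArg CommaMorphism.left (sigmaIncl_out (fun k : ULift.{u} (Fin m) => c k.down) k)
      rw [e]
      exact hc k.down
    have s' := IsPullback.of_hasPullback snd ((yon S).map d)
    have hP' : IsAlgSpace (pullback snd ((yon S).map d)) :=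
      isAlgSpace_of_isPullback s' (IsAlgSpace.yon_obj Z).diag hW (IsAlgSpace.yon_obj _)
    have sk := fun k => IsPullback.of_hasPullback (pullback.snd snd ((yon S).map d))
      ((yon S).map (sigmaIncl V' k))
    have hPk : ∀ k, IsAlgSpace (pullback (pullback.snd snd ((yon S).map d))
        ((yon S).map (sigmaIncl V' k))) := fun k =>
      isAlgSpace_of_isPullback (sk k) (IsAlgSpace.yon_obj _).diag hP' (IsAlgSpace.yon_obj _)
    refine h3 d hZ hA hd hdf snd _ _ hW hP' s' ?_
    refine h1 _ _ (fun k => pullback.snd _ _) _ _ (isColimitSigmaBaseChange V' sk) (isColimitSigma V') _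
      hPk (fun k => IsAlgSpace.yon_obj _) hP' (IsAlgSpace.yon_obj _)
      (fun k => pullback.condition) fun k => ?_
    obtain ⟨i, l, hli⟩ := hl k.down
    have big := ((sk k).paste_horiz s').paste_horiz sq
    have e : (yon S).map (sigmaIncl V' k) ≫ (yon S).map d ≫ t = l ≫ g i := by
      rw [hli, ← Functor.map_comp_assoc, sigmaIncl_out]
    rw [Category.assoc ((yon S).map (sigmaIncl V' k)), e] at big
    refine (h2 (hXi i) (hYi i) (p i)).1 (hp i) (V' k) (hV _) l _
      ((hsq i).lift _ (pullback.snd _ _ ≫ l) (by rw [Category.assoc]; exact big.w)) _ (hPk k) ?_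
    refine IsPullback.of_right ?_ ((hsq i).lift_snd _ _ _) (hsq i)
    rw [(hsq i).lift_fst]
    exact big

end Groth.AlgSp2
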