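import Groth.Agent.AlgSp2.FpqcCoverBasic
import Groth.Agent.AlgSp2.MonoEtale
import Mathlib.RingTheory.Flat.Basic
import Mathlib.RingTheory.TensorProduct.Maps

/-!
# Effective fpqc descent for affine morphisms towards affine schemes: the core
-/

set_option autoImplicit false
set_option backward.isDefEq.respectTransparency.types false
universe u

open CategoryTheory CategoryTheory.Limits AlgebraicGeometry Opposite AlgSp TensorProduct

namespace Groth.AlgSp2

open Groth.AlgSpBasic

noncomputable section

section Ring

variable {A C R : Type u} [CommRing A] [CommRing C] [CommRing R] [Algebra A C] [Algebra A R]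
  [Algebra C R] [IsScalarTower A C R]

/-- Multiplication. -/
abbrev coactUnit : C ⊗[A] R →ₐ[A] R :=
  Algebra.TensorProduct.productMap (IsScalarTower.toAlgHom A C R) (AlgHom.id A R)

/-- Effective descent for algebras along a flat algebra. -/
theorem bijective_of_coaction [Module.Flat A C] (a : R →ₐ[A] C ⊗[A] R)
    (hlin : ∀ c : C, a (algebraMap C R c) = c ⊗ₜ 1)
    (hunit : ∀ r, coactUnit (a r) = r)
    (hco : ∀ r, Algebra.TensorProduct.map (AlgHom.id A C) a (a r) =
      Algebra.TensorProduct.map (AlgHom.id A C) Algebra.TensorProduct.includeRight (a r)) :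
    Function.Bijective (Algebra.TensorProduct.productMap (IsScalarTower.toAlgHom A C R)
      (AlgHom.equalizer a Algebra.TensorProduct.includeRight).val) := by
  set ι : R →ₐ[A] C ⊗[A] R := Algebra.TensorProduct.includeRight
  set B := AlgHom.equalizer a ι
  let ψ := Algebra.TensorProduct.productMap (IsScalarTower.toAlgHom A C R) B.val
  let s := LinearMap.lTensor C B.val.toLinearMap
  have hs : Function.Injective s :=
    Module.Flat.lTensor_preserves_injective_linearMap _ Subtype.val_injective
  have hmul : ∀ x, coactUnit (s x) = ψ x := by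
    intro x
    induction x with
    | zero => simp
    | tmul c b => simp [s, ψ]
    | add x y hx hy => simp [hx, hy]
  have has : ∀ x, a (ψ x) = s x := by
    intro x
    induction x with
    | zero => simp
    | tmul c b =>
      have hb : a b = (1 : C) ⊗ₜ[A] (b : R) := b.2
      simp [s, ψ, hlin, hb]
    | add x y hx hy => simp [hx, hy]
  refine ⟨fun x y h => hs ?_, fun r => ?_⟩
  · rw [← has, ← has]; exact congrArg a h
  · let d := a.toLinearMap - ι.toLinearMap
    have hd : a r ∈ LinearMap.ker (LinearMap.lTensor C d) := by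
      rw [LinearMap.mem_ker, LinearMap.lTensor_sub, LinearMap.sub_apply, sub_eq_zero]
      exact hco r
    obtain ⟨x, hx⟩ := (Module.Flat.lTensor_exact C (LinearMap.exact_subtype_ker_map d) (a r)).1 hd
    have hmem : ∀ k : LinearMap.ker d, (k : R) ∈ B := fun k => sub_eq_zero.1 k.2
    let j : LinearMap.ker d →ₗ[A] B := (LinearMap.ker d).subtype.codRestrict B.toSubmodule hmem
    refine ⟨LinearMap.lTensor C j x, ?_⟩
    rw [← hmul]
    conv_rhs => rw [← hunit r, ← hx]
    congr 1
    rw [← LinearMap.lTensor_comp_apply]
    rfl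

end Ring

variable {S : Scheme.{u}} {A : Type u} [CommRing A] (hZ : Spec (CommRingCat.of A) ⟶ S)

/-- The spectrum of an algebra, as a scheme over `S`. -/
def specObj (B : Type u) [CommRing B] [Algebra A B] : Over S :=
  Over.mk (Spec.map (CommRingCat.ofHom (algebraMap A B)) ≫ hZ)

instance (B : Type u) [CommRing B] [Algebra A B] : IsAffine (specObj hZ B).left :=
  inferInstanceAs (IsAffine (Spec (CommRingCat.of B)))

variable {B B' B'' : Type u} [CommRing B] [Algebra A B] [CommRing B'] [Algebra A B'] [CommRing B'']
  [Algebra A B'']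

/-- The morphism of spectra given by a morphism of algebras. -/
def specHom (f : B →ₐ[A] B') : specObj hZ B' ⟶ specObj hZ B :=
  Over.homMk (Spec.map (CommRingCat.ofHom f.toRingHom)) (by
    change Spec.map _ ≫ Spec.map _ ≫ hZ = Spec.map _ ≫ hZ
    rw [← Spec.map_comp_assoc]
    congr 2
    ext x
    exact f.commutes x)

@[reassoc]
theorem specHom_comp (f : B →ₐ[A] B') (g : B' →ₐ[A] B'') :
    specHom hZ g ≫ specHom hZ f = specHom hZ (g.comp f) := by
  ext : 1
  exact (Spec.map_comp _ _).symm

theorem specHom_id : specHom hZ (AlgHom.id A B) = 𝟙 _ := by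
  ext : 1
  exact Spec.map_id _

theorem specHom_injective : Function.Injective (specHom hZ (B := B) (B' := B')) := by
  intro f g h
  apply AlgHom.ext
  intro x
  exact congrArg (fun k => k x)
    (congrArg CommRingCat.Hom.hom (Spec.map_injective (congrArg CommaMorphism.left h)))

theorem exists_specHom (m : specObj hZ B' ⟶ specObj hZ B)
    (h : m ≫ specHom hZ (Algebra.ofId A B) = specHom hZ (Algebra.ofId A B')) :
    ∃ f : B →ₐ[A] B', m = specHom hZ f := by
  obtain ⟨φ, hφ⟩ := Spec.map_surjective m.left
  have h' : Spec.map φ ≫ Spec.map (CommRingCat.ofHom (Algebra.ofId A B).toRingHom) =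
      Spec.map (CommRingCat.ofHom (Algebra.ofId A B').toRingHom) := by
    rw [hφ]
    exact congrArg CommaMorphism.left h
  rw [← Spec.map_comp] at h'
  have h'' := congrArg CommRingCat.Hom.hom (Spec.map_injective h')
  refine ⟨⟨φ.hom, fun x => congrArg (fun k => k x) h''⟩, ?_⟩
  ext : 1
  exact hφ.symm

theorem isPullback_specHom (B B' : Type u) [CommRing B] [Algebra A B] [CommRing B'] [Algebra A B'] :
    IsPullback (specHom hZ (Algebra.TensorProduct.includeLeft : B →ₐ[A] B ⊗[A] B'))
      (specHom hZ (Algebra.TensorProduct.includeRight : B' →ₐ[A] B ⊗[A] B'))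
      (specHom hZ (Algebra.ofId A B)) (specHom hZ (Algebra.ofId A B')) := by
  have h := (IsPullback.of_hasPullback (Spec.map (CommRingCat.ofHom (algebraMap A B)))
    (Spec.map (CommRingCat.ofHom (algebraMap A B')))).of_iso (pullbackSpecIso A B B') (Iso.refl _)
    (Iso.refl _) (Iso.refl _)
    (fst' := (specHom hZ (Algebra.TensorProduct.includeLeft : B →ₐ[A] B ⊗[A] B')).left)
    (snd' := (specHom hZ (Algebra.TensorProduct.includeRight : B' →ₐ[A] B ⊗[A] B')).left)
    (f' := Spec.map (CommRingCat.ofHom (algebraMap A B)))
    (g' := Spec.map (CommRingCat.ofHom (algebraMap A B')))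
    ((Category.comp_id _).trans (pullbackSpecIso_hom_fst A B B').symm)
    ((Category.comp_id _).trans (pullbackSpecIso_hom_snd A B B').symm)
    ((Category.comp_id _).trans (Category.id_comp _).symm)
    ((Category.comp_id _).trans (Category.id_comp _).symm)
  refine IsPullback.of_map (Over.forget S) ?_ h
  rw [specHom_comp, specHom_comp]
  exact congrArg _ (Subsingleton.elim _ _)

variable (C R : Type u) [CommRing C] [Algebra A C] [CommRing R] [Algebra A R] [Algebra C R]
  [IsScalarTower A C R]

theorem exists_descended [Module.Flat A C] {Q : Sp S} {π : Q ⟶ (yon S).obj (specObj hZ A)}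
    {vq : (yon S).obj (specObj hZ R) ⟶ Q}
    (sq : IsPullback vq ((yon S).map (specHom hZ (IsScalarTower.toAlgHom A C R))) π
      ((yon S).map (specHom hZ (Algebra.ofId A C)))) :
    ∃ (U : Over S) (κ : specObj hZ R ⟶ U) (u : U ⟶ specObj hZ A), IsAffine U.left ∧
      IsPullback (specHom hZ (IsScalarTower.toAlgHom A C R)) κ (specHom hZ (Algebra.ofId A C)) u ∧
      ∀ (T : Over S) (v₁ v₂ : T ⟶ specObj hZ R),
        (yon S).map v₁ ≫ vq = (yon S).map v₂ ≫ vq → v₁ ≫ κ = v₂ ≫ κ := by
  let p := specHom hZ (IsScalarTower.toAlgHom A C R)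
  let c := specHom hZ (Algebra.ofId A C)
  let inl : C →ₐ[A] C ⊗[A] R := Algebra.TensorProduct.includeLeft
  let inr : R →ₐ[A] C ⊗[A] R := Algebra.TensorProduct.includeRight
  have hpc : p ≫ c = specHom hZ (Algebra.ofId A R) := by
    rw [specHom_comp]
    exact congrArg _ (Subsingleton.elim _ _)
  -- the descent datum
  obtain ⟨act, hact⟩ := (yon S).map_surjective (sq.lift ((yon S).map (specHom hZ inr) ≫ vq)
    ((yon S).map (specHom hZ inl)) (by
      rw [Category.assoc, sq.w, ← Functor.map_comp, ← Functor.map_comp, ← Functor.map_comp]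
      congr 1
      rw [hpc, specHom_comp, specHom_comp]
      exact congrArg _ (Subsingleton.elim _ _)))
  have hp : act ≫ p = specHom hZ inl :=
    (yon S).map_injective (by rw [Functor.map_comp, hact]; exact sq.lift_snd _ _ _)
  have hv : (yon S).map act ≫ vq = (yon S).map (specHom hZ inr) ≫ vq := by
    rw [hact, sq.lift_fst]
  obtain ⟨a, rfl⟩ := exists_specHom hZ act (by
    rw [← hpc, ← Category.assoc, hp, specHom_comp]
    exact congrArg _ (Subsingleton.elim _ _))
  have hlin : a.comp (IsScalarTower.toAlgHom A C R) = inl :=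
    specHom_injective hZ (by rw [← specHom_comp]; exact hp)
  have hunit : coactUnit.comp a = AlgHom.id A R := by
    refine specHom_injective hZ ?_
    rw [← specHom_comp, specHom_id]
    refine (yon S).map_injective (sq.hom_ext ?_ ?_)
    · rw [Functor.map_comp, Category.assoc, hv, ← Category.assoc, ← Functor.map_comp, specHom_comp,
        Algebra.TensorProduct.productMap_right, specHom_id]
    · rw [← Functor.map_comp, ← Functor.map_comp, Category.assoc, hp, Category.id_comp,
        specHom_comp, Algebra.TensorProduct.productMap_left]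
  have hco : (Algebra.TensorProduct.map (AlgHom.id A C) a).comp a =
      (Algebra.TensorProduct.map (AlgHom.id A C) inr).comp a := by
    refine specHom_injective hZ ?_
    rw [← specHom_comp, ← specHom_comp]
    refine (yon S).map_injective (sq.hom_ext ?_ ?_)
    · let r₂ : C ⊗[A] R →ₐ[A] C ⊗[A] (C ⊗[A] R) := Algebra.TensorProduct.includeRight
      have e₁ : (Algebra.TensorProduct.map (AlgHom.id A C) a).comp inr = r₂.comp a :=
        Algebra.TensorProduct.map_comp_includeRight _ _
      have e₂ : (Algebra.TensorProduct.map (AlgHom.id A C) inr).comp inr = r₂.comp inr :=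
        Algebra.TensorProduct.map_comp_includeRight _ _
      simp only [Functor.map_comp, Category.assoc, hv]
      simp only [← Category.assoc, ← Functor.map_comp, specHom_comp, e₁, e₂]
      rw [← specHom_comp, Functor.map_comp, Category.assoc, hv, ← Category.assoc,
        ← Functor.map_comp, specHom_comp]
    · rw [← Functor.map_comp, ← Functor.map_comp, Category.assoc, Category.assoc, hp, specHom_comp,
        specHom_comp]
      congr 2
      ext x
      simp [inl]
  -- the descended algebra
  let B := AlgHom.equalizer a inr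
  let ψ := Algebra.TensorProduct.productMap (IsScalarTower.toAlgHom A C R) B.val
  have hψ : Function.Bijective ψ := bijective_of_coaction a (fun x => AlgHom.congr_fun hlin x)
    (fun x => AlgHom.congr_fun hunit x) (fun x => AlgHom.congr_fun hco x)
  let e := AlgEquiv.ofBijective ψ hψ
  have hU : IsPullback p (specHom hZ B.val) c (specHom hZ (Algebra.ofId A B)) := by
    refine (isPullback_specHom hZ C B).of_iso
      ⟨specHom hZ e.symm.toAlgHom, specHom hZ e.toAlgHom, ?_, ?_⟩ (Iso.refl _) (Iso.refl _)
      (Iso.refl _) ?_ ?_ (by simp [c]) (by simp)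
    · rw [specHom_comp, ← specHom_id]
      exact congrArg _ (AlgHom.ext e.symm_apply_apply)
    · rw [specHom_comp, ← specHom_id]
      exact congrArg _ (AlgHom.ext e.apply_symm_apply)
    · simp only [Iso.refl_hom, Category.comp_id, p, specHom_comp]
      refine congrArg _ (AlgHom.ext fun x => ?_)
      change x ⊗ₜ[A] (1 : B) = e.symm (algebraMap C R x)
      rw [AlgEquiv.eq_symm_apply]
      simp [e, ψ]
    · simp only [Iso.refl_hom, Category.comp_id, specHom_comp]
      refine congrArg _ (AlgHom.ext fun x => ?_)
      change (1 : C) ⊗ₜ[A] x = e.symm (x : R)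
      rw [AlgEquiv.eq_symm_apply]
      simp [e, ψ]
  refine ⟨specObj hZ B, specHom hZ B.val, specHom hZ (Algebra.ofId A B), inferInstance, hU,
    fun T v₁ v₂ hv' => ?_⟩
  have hD := (isPullback_specHom hZ C R)
  have hw : (v₁ ≫ p) ≫ c = v₂ ≫ specHom hZ (Algebra.ofId A R) := by
    rw [← hpc]
    refine (yon S).map_injective ?_
    simp only [Functor.map_comp, Category.assoc]
    rw [← sq.w, ← Category.assoc, hv', Category.assoc]
  let d := hD.lift (v₁ ≫ p) v₂ hw
  have hd : d ≫ specHom hZ a = v₁ := by
    refine (yon S).map_injective (sq.hom_ext ?_ ?_)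
    · rw [Functor.map_comp, Category.assoc, hv, ← Category.assoc, ← Functor.map_comp,
        hD.lift_snd, hv']
    · rw [← Functor.map_comp, ← Functor.map_comp, Category.assoc, hp, hD.lift_fst]
  have hB : a.comp B.val = inr.comp B.val := AlgHom.ext fun x => x.2
  rw [← hd, Category.assoc, specHom_comp, hB, ← specHom_comp, ← Category.assoc, hD.lift_snd]

end

end Groth.AlgSp2
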