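import Groth.Agent.AlgSp2.AffineDescent
import Mathlib.AlgebraicGeometry.RelativeGluing

/-!
# Affine morphisms of algebraic spaces are representable
-/

set_option autoImplicit false
set_option backward.isDefEq.respectTransparency.types false
universe u

open CategoryTheory CategoryTheory.Limits AlgebraicGeometry Opposite AlgSp

namespace Groth.AlgSp2

open Groth.AlgSpBasic

noncomputable section

variable {S : Scheme.{u}}

/-- An open covering of a scheme is an fpqc covering of the sheaf it represents. -/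
theorem isFpqcCover_of_isOpenImmersion {ι : Type u} {G : Over S} {V : ι → Over S}
    (j : ∀ i, V i ⟶ G) (hj : ∀ i, IsOpenImmersion (j i).left)
    (hs : ∀ x : ↥G.left, ∃ i, x ∈ Set.range (j i).left) :
    IsFpqcCover (fun i => (yon S).obj (V i)) (fun i => (yon S).map (j i)) := by
  refine ⟨fun i => locP_of_repWith ((repWith_yon_map_iff _ _).2
    (have := hj i; (inferInstance : Flat (j i).left))), fun Z hZ h => ?_⟩
  obtain ⟨k, rfl⟩ := (yon S).map_surjective h
  choose i hi using fun z => hs (k.left z)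
  have hA : ∀ z : ↥Z.left, ∃ A : Z.left.Opens, IsAffineOpen A ∧ z ∈ A ∧
      ∀ a ∈ A, k.left a ∈ Set.range (j (i z)).left := fun z => by
    have := hj (i z)
    obtain ⟨A, hA, hzA, hAle⟩ := TopologicalSpace.Opens.isBasis_iff_nbhd.1 Z.left.isBasis_affineOpens
      (U := k.left ⁻¹ᵁ (j (i z)).left.opensRange) (x := z) (hi z)
    exact ⟨A, hA, hzA, fun a ha => hAle ha⟩
  choose A hA hzA hAr using hA
  have : IsAffine Z.left := hZ
  obtain ⟨t, ht⟩ := isCompact_univ.elim_finite_subcover (fun z => (A z : Set ↥Z.left))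
    (fun z => (A z).isOpen) fun z _ => Set.mem_iUnion.2 ⟨z, hzA z⟩
  let e := t.equivFin.symm
  let W : Fin t.card → Over S := fun r => Over.mk ((A (e r)).ι ≫ Z.hom)
  have hmem : ∀ r, Set.range ((A (e r)).ι ≫ k.left) ⊆ Set.range (j (i (e r))).left := fun r => by
    rintro _ ⟨a, rfl⟩
    exact hAr _ _ a.2
  refine ⟨t.card, W, fun r => Over.homMk (A (e r)).ι rfl,
    fun r => hA (e r), fun r => (inferInstance : Flat (A (e r)).ι), fun z => ?_,
    fun r => ⟨i (e r), (yon S).map (Over.homMk (have := hj (i (e r));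
      IsOpenImmersion.lift (j (i (e r))).left ((A (e r)).ι ≫ k.left) (hmem r)) ?_), ?_⟩⟩
  · obtain ⟨z', hz't, hz'⟩ := Set.mem_iUnion₂.1 (ht (Set.mem_univ z))
    refine ⟨t.equivFin ⟨z', hz't⟩, ⟨z, ?_⟩, rfl⟩
    simpa [e] using hz'
  · have := hj (i (e r))
    change IsOpenImmersion.lift _ _ _ ≫ (V (i (e r))).hom = (A (e r)).ι ≫ Z.hom
    rw [← Over.w (j (i (e r))), IsOpenImmersion.lift_fac_assoc, Category.assoc, Over.w k]
  · have := hj (i (e r))
    rw [← Functor.map_comp, ← Functor.map_comp]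
    congr 1
    exact Over.OverMorphism.ext (IsOpenImmersion.lift_fac _ _ _)

section Glue

variable {Q : Sp S} {U : Over S} (π : Q ⟶ (yon S).obj U) (𝒰 : Scheme.OpenCover.{u} U.left)

/-- A member of the cover, as a scheme over `S`. -/
abbrev coverObj (k : 𝒰.I₀) : Over S := Over.mk (𝒰.f k ≫ U.hom)

/-- The inclusion of a member of the cover. -/
abbrev coverHom (k : 𝒰.I₀) : coverObj 𝒰 k ⟶ U := Over.homMk (𝒰.f k) rfl

variable [Category.{u} 𝒰.I₀] [𝒰.LocallyDirected] (d : 𝒰.RelativeGluingData)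

/-- The map of a glueing piece to the member of the cover. -/
abbrev pieceApp (k : 𝒰.I₀) : d.functor.obj k ⟶ 𝒰.X k := d.natTrans.app k

theorem pieceApp_naturality {a b : 𝒰.I₀} (h : a ⟶ b) :
    d.functor.map h ≫ pieceApp 𝒰 d b = pieceApp 𝒰 d a ≫ 𝒰.trans h :=
  d.natTrans.naturality h

/-- A glueing piece, as a scheme over `S`. -/
abbrev pieceObj (k : 𝒰.I₀) : Over S := Over.mk (pieceApp 𝒰 d k ≫ 𝒰.f k ≫ U.hom)

/-- The map of a glueing piece to the cover. -/
abbrev pieceHom (k : 𝒰.I₀) : pieceObj 𝒰 d k ⟶ coverObj 𝒰 k := Over.homMk (pieceApp 𝒰 d k) rfl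

/-- The transition map of glueing pieces. -/
abbrev pieceTrans {a b : 𝒰.I₀} (h : a ⟶ b) : pieceObj 𝒰 d a ⟶ pieceObj 𝒰 d b :=
  Over.homMk (d.functor.map h) (by
    change d.functor.map h ≫ pieceApp 𝒰 d b ≫ 𝒰.f b ≫ U.hom =
      pieceApp 𝒰 d a ≫ 𝒰.f a ≫ U.hom
    rw [reassoc_of% (pieceApp_naturality 𝒰 d h), ← Category.assoc (𝒰.trans h),
      Scheme.Cover.trans_map])

variable [Quiver.IsThin 𝒰.I₀] [Small.{u} 𝒰.I₀]

/-- The glued scheme, over `S`. -/
abbrev glueObj : Over S := Over.mk (d.toBase ≫ U.hom)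

/-- The inclusion of a piece into the glued scheme. -/
abbrev glueIncl (k : 𝒰.I₀) : pieceObj 𝒰 d k ⟶ glueObj 𝒰 d :=
  Over.homMk (colimit.ι d.functor k) (by
    change colimit.ι d.functor k ≫ d.toBase ≫ U.hom = pieceApp 𝒰 d k ≫ 𝒰.f k ≫ U.hom
    rw [d.ι_toBase_assoc]
    rfl)

/-- The map of the glued scheme to the base. -/
abbrev glueBase : glueObj 𝒰 d ⟶ U := Over.homMk d.toBase rfl

theorem glueIncl_base (k : 𝒰.I₀) :
    glueIncl 𝒰 d k ≫ glueBase 𝒰 d = pieceHom 𝒰 d k ≫ coverHom 𝒰 k :=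
  Over.OverMorphism.ext (d.ι_toBase k)

variable (vq : ∀ k, (yon S).obj (pieceObj 𝒰 d k) ⟶ Q)

theorem exists_glued_point
    (sq : ∀ k, IsPullback (vq k) ((yon S).map (pieceHom 𝒰 d k)) π ((yon S).map (coverHom 𝒰 k)))
    (hm : ∀ {a b : 𝒰.I₀} (h : a ⟶ b), (yon S).map (pieceTrans 𝒰 d h) ≫ vq b = vq a)
    (T : Over S) (x : (yon S).obj T ⟶ Q) :
    ∃ y : T ⟶ glueObj 𝒰 d,
      (yon S).map (y ≫ glueBase 𝒰 d) = x ≫ π ∧
      (∀ (k : 𝒰.I₀) (T' : Over S) (g : T' ⟶ T) (v : T' ⟶ pieceObj 𝒰 d k),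
        (yon S).map g ≫ x = (yon S).map v ≫ vq k → g ≫ y = v ≫ glueIncl 𝒰 d k) ∧
      ∀ y' : T ⟶ glueObj 𝒰 d, (∀ (k : 𝒰.I₀) (T' : Over S) (g : T' ⟶ T)
        (v : T' ⟶ pieceObj 𝒰 d k),
        (yon S).map g ≫ x = (yon S).map v ≫ vq k → g ≫ y' = v ≫ glueIncl 𝒰 d k) → y' = y := by
  have hext : ∀ {T : Over S} {k : 𝒰.I₀} (a b : T ⟶ pieceObj 𝒰 d k),
      (yon S).map a ≫ vq k = (yon S).map b ≫ vq k →
      a.left ≫ pieceApp 𝒰 d k = b.left ≫ pieceApp 𝒰 d k → a = b :=
    fun a b h₁ h₂ => (yon S).map_injective ((sq _).hom_ext h₁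
      (by rw [← Functor.map_comp, ← Functor.map_comp]
          exact congrArg _ (Over.OverMorphism.ext h₂)))
  obtain ⟨t, ht⟩ := (yon S).map_surjective (x ≫ π)
  let 𝒱 : T.left.OpenCover := 𝒰.pullback₁ t.left
  let Tk : 𝒰.I₀ → Over S := fun k => Over.mk (pullback.fst t.left (𝒰.f k) ≫ T.hom)
  let q₁ : ∀ k, Tk k ⟶ T := fun k => Over.homMk (pullback.fst t.left (𝒰.f k)) rfl
  let q₂ : ∀ k, Tk k ⟶ coverObj 𝒰 k := fun k => Over.homMk (pullback.snd t.left (𝒰.f k)) (by
    change pullback.snd t.left (𝒰.f k) ≫ 𝒰.f k ≫ U.hom = pullback.fst t.left (𝒰.f k) ≫ T.hom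
    rw [← pullback.condition_assoc, Over.w t])
  have hq : ∀ k, q₁ k ≫ t = q₂ k ≫ coverHom 𝒰 k := fun k =>
    Over.OverMorphism.ext pullback.condition
  have hv : ∀ k, ∃ v : Tk k ⟶ pieceObj 𝒰 d k,
      (yon S).map v ≫ vq k = (yon S).map (q₁ k) ≫ x ∧
        v.left ≫ pieceApp 𝒰 d k = pullback.snd t.left (𝒰.f k) := fun k => by
    obtain ⟨v, hv⟩ := (yon S).map_surjective ((sq k).lift ((yon S).map (q₁ k) ≫ x)
      ((yon S).map (q₂ k))
      (by rw [Category.assoc, ← ht, ← Functor.map_comp, hq, Functor.map_comp]))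
    have e : v ≫ pieceHom 𝒰 d k = q₂ k :=
      (yon S).map_injective (by rw [Functor.map_comp, hv, IsPullback.lift_snd])
    exact ⟨v, by rw [hv, IsPullback.lift_fst], congrArg CommaMorphism.left e⟩
  choose v₀ hv₀q hv₀p using hv
  have hp : ∀ k, v₀ k ≫ pieceHom 𝒰 d k = q₂ k := fun k => Over.OverMorphism.ext (hv₀p k)
  have hcompat : ∀ {a b : 𝒰.I₀} (h : a ⟶ b),
      pullback.map t.left (𝒰.f a) t.left (𝒰.f b) (𝟙 _) (𝒰.trans h) (𝟙 _) (by simp) (by simp) ≫
        (v₀ b ≫ glueIncl 𝒰 d b).left = (v₀ a ≫ glueIncl 𝒰 d a).left := fun {a b} h => by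
    let r : Tk a ⟶ Tk b := Over.homMk
      (pullback.map t.left (𝒰.f a) t.left (𝒰.f b) (𝟙 _) (𝒰.trans h) (𝟙 _) (by simp) (by simp))
      (by
        change pullback.map _ _ _ _ _ _ _ _ _ ≫ pullback.fst t.left (𝒰.f b) ≫ T.hom =
          pullback.fst t.left (𝒰.f a) ≫ T.hom
        rw [pullback.lift_fst_assoc, Category.comp_id])
    have hr₁ : r ≫ q₁ b = q₁ a :=
      Over.OverMorphism.ext ((pullback.lift_fst _ _ _).trans (Category.comp_id _))
    have e : r ≫ v₀ b = v₀ a ≫ pieceTrans 𝒰 d h := hext _ _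
      (by rw [Functor.map_comp, Category.assoc, hv₀q, ← Category.assoc, ← Functor.map_comp, hr₁,
        Functor.map_comp, Category.assoc, hm h, hv₀q])
      (by
        rw [Over.comp_left, Over.comp_left, Category.assoc, Category.assoc, hv₀p]
        change r.left ≫ _ = (v₀ a).left ≫ d.functor.map h ≫ pieceApp 𝒰 d b
        rw [pieceApp_naturality, reassoc_of% (hv₀p a)]
        exact pullback.lift_snd _ _ _)
    have e' : pieceTrans 𝒰 d h ≫ glueIncl 𝒰 d b = glueIncl 𝒰 d a :=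
      Over.OverMorphism.ext (colimit.w d.functor h)
    change (r ≫ v₀ b ≫ glueIncl 𝒰 d b).left = _
    rw [reassoc_of% e, e']
  let y₀ : T.left ⟶ (glueObj 𝒰 d).left := Scheme.OpenCover.glueMorphismsOfLocallyDirected 𝒱
    (fun k => (v₀ k ≫ glueIncl 𝒰 d k).left) (fun {a b} h => hcompat h)
  have hy₀ : ∀ k, (q₁ k).left ≫ y₀ = (v₀ k ≫ glueIncl 𝒰 d k).left := fun k =>
    Scheme.OpenCover.map_glueMorphismsOfLocallyDirected 𝒱 _ _ k
  let y : T ⟶ glueObj 𝒰 d := Over.homMk y₀ (Scheme.Cover.hom_ext 𝒱 _ _ fun k => by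
    change (q₁ k).left ≫ y₀ ≫ (glueObj 𝒰 d).hom = (q₁ k).left ≫ T.hom
    rw [reassoc_of% hy₀, Over.w (v₀ k ≫ glueIncl 𝒰 d k)]
    rfl)
  have hy : ∀ k, q₁ k ≫ y = v₀ k ≫ glueIncl 𝒰 d k := fun k => Over.OverMorphism.ext (hy₀ k)
  have hyu : y ≫ glueBase 𝒰 d = t :=
    Over.OverMorphism.ext (Scheme.Cover.hom_ext 𝒱 _ _ fun k => by
      change (q₁ k ≫ y ≫ glueBase 𝒰 d).left = (q₁ k ≫ t).left
      rw [reassoc_of% hy, glueIncl_base, reassoc_of% hp, hq])
  refine ⟨y, by rw [hyu, ht], fun k T' g v h => ?_, fun y' hy' => ?_⟩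
  · have hw : g ≫ t = (v ≫ pieceHom 𝒰 d k) ≫ coverHom 𝒰 k := (yon S).map_injective (by
      simp only [Functor.map_comp, Category.assoc]
      rw [ht, ← Category.assoc, h, Category.assoc, (sq k).w])
    let mm : T' ⟶ Tk k := Over.homMk (pullback.lift g.left (v.left ≫ pieceApp 𝒰 d k)
      (congrArg CommaMorphism.left hw)) (by
        change pullback.lift _ _ _ ≫ pullback.fst t.left (𝒰.f k) ≫ T.hom = T'.hom
        rw [pullback.lift_fst_assoc, Over.w g])
    have hm₁' : mm ≫ q₁ k = g := Over.OverMorphism.ext (pullback.lift_fst _ _ _)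
    have e : mm ≫ v₀ k = v := hext _ _
      (by rw [Functor.map_comp, Category.assoc, hv₀q, ← Category.assoc, ← Functor.map_comp,
        hm₁', h])
      (by
        rw [Over.comp_left, Category.assoc, hv₀p]
        exact pullback.lift_snd _ _ _)
    rw [← hm₁', Category.assoc, hy, ← Category.assoc, e]
  · refine Over.OverMorphism.ext (Scheme.Cover.hom_ext 𝒱 _ _ fun k => ?_)
    change (q₁ k ≫ y').left = (q₁ k ≫ y).left
    rw [hy, hy' k _ (q₁ k) (v₀ k) (hv₀q k).symm]

theorem exists_iso_glued (P : MorphismProperty Scheme.{u}) [IsZariskiLocalAtTarget P]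
    (hQ : IsAlgSpace Q) (hV : ∀ k, P (pieceApp 𝒰 d k))
    (sq : ∀ k, IsPullback (vq k) ((yon S).map (pieceHom 𝒰 d k)) π ((yon S).map (coverHom 𝒰 k)))
    (hm : ∀ {a b : 𝒰.I₀} (h : a ⟶ b), (yon S).map (pieceTrans 𝒰 d h) ≫ vq b = vq a) :
    ∃ (G : Over S) (u : G ⟶ U) (e : Q ≅ (yon S).obj G),
      e.hom ≫ (yon S).map u = π ∧ P u.left := by
  choose y hπ hy hu' using exists_glued_point π 𝒰 d vq sq hm
  obtain ⟨φ, hφ⟩ := exists_hom_of_points y fun T T' g x => by
    refine (hu' T' _ _ fun k T'' g' v h => ?_).symm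
    rw [← Category.assoc]
    refine hy T x k T'' _ v ?_
    rw [Functor.map_comp, Category.assoc, h]
  have hφu : φ ≫ (yon S).map (glueBase 𝒰 d) = π :=
    hom_ext_yon fun T x => by rw [← Category.assoc, hφ, ← Functor.map_comp, hπ]
  have hφk : ∀ k, vq k ≫ φ = (yon S).map (glueIncl 𝒰 d k) := fun k => by
    rw [hφ]
    congr 1
    simpa using hy _ (vq k) k _ (𝟙 _) (𝟙 _) rfl
  have hoi : ∀ k, IsOpenImmersion (glueIncl 𝒰 d k).left := fun k =>
    inferInstanceAs (IsOpenImmersion (d.cover.f k))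
  have hs : ∀ x : ↥(glueObj 𝒰 d).left, ∃ i, x ∈ Set.range (glueIncl 𝒰 d i).left := fun x => by
    obtain ⟨k, a, ha⟩ := Scheme.IsLocallyDirected.ι_jointly_surjective d.functor x
    exact ⟨k, a, ha⟩
  have hcov : IsFpqcCover (fun k => (yon S).obj (pieceObj 𝒰 d k))
      (fun k => (yon S).map (glueIncl 𝒰 d k)) :=
    isFpqcCover_of_isOpenImmersion _ hoi hs
  have sqφ : ∀ k, IsPullback (vq k) (𝟙 _) φ ((yon S).map (glueIncl 𝒰 d k)) := fun k => by
    have hl : ∀ {P : Sp S} (a : P ⟶ Q) (b : P ⟶ (yon S).obj (pieceObj 𝒰 d k)),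
        a ≫ φ = b ≫ (yon S).map (glueIncl 𝒰 d k) → b ≫ vq k = a := by
      intro P a b hab
      have hw : a ≫ π = (b ≫ (yon S).map (pieceHom 𝒰 d k)) ≫ (yon S).map (coverHom 𝒰 k) := by
        rw [← hφu, reassoc_of% hab, Category.assoc, ← Functor.map_comp, ← Functor.map_comp,
          glueIncl_base]
      have : Mono (glueIncl 𝒰 d k).left := have := hoi k; inferInstance
      have : Mono (glueIncl 𝒰 d k) := Over.mono_of_mono_left _
      have hb : (sq k).lift a (b ≫ _) hw = b := (cancel_mono ((yon S).map (glueIncl 𝒰 d k))).1 (by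
        rw [← hφk, ← Category.assoc, IsPullback.lift_fst, hab, hφk])
      exact (congrArg (· ≫ vq k) hb).symm.trans ((sq k).lift_fst _ _ _)
    refine ⟨⟨by rw [Category.id_comp]; exact hφk k⟩, ⟨PullbackCone.IsLimit.mk _ (fun s => s.snd)
      (fun s => hl s.fst s.snd s.condition) (fun s => Category.comp_id _)
      (fun s m _ h => (Category.comp_id m).symm.trans h)⟩⟩
  have hiso : IsIso φ := (MorphismProperty.isomorphisms.iff φ).1
    ((isLocalOnBase_fpqc_isomorphisms _ (fun k => (yon S).map (glueIncl 𝒰 d k))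
      (IsAlgSpace.yon_obj _) (fun _ => IsAlgSpace.yon_obj _) hcov φ hQ
      (fun k => (yon S).obj (pieceObj 𝒰 d k))
      (fun _ => 𝟙 _) _ (fun _ => IsAlgSpace.yon_obj _) sqφ).2
      fun _ => MorphismProperty.isomorphisms.infer_property _)
  refine ⟨_, glueBase 𝒰 d, asIso φ, hφu, ?_⟩
  refine IsZariskiLocalAtTarget.of_openCover (P := P) 𝒰 fun k => ?_
  change P (pullback.snd d.toBase (𝒰.f k))
  have hk := (d.isPullback_natTrans_ι_toBase k).flip
  exact (congrArg (fun m => P m) hk.isoPullback_inv_snd).mp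
    ((P.cancel_left_of_respectsIso hk.isoPullback.inv _).2 (hV k))

omit d vq in
/-- A sheaf over a scheme which is a scheme with `P` over the members of a locally directed open
cover is a scheme, with `P` over it. -/
theorem exists_iso_of_prop_over_cover (P : MorphismProperty Scheme.{u}) [IsZariskiLocalAtTarget P]
    (hQ : IsAlgSpace Q)
    (H : ∀ k, ∃ (V : Over S) (w : V ⟶ coverObj 𝒰 k) (vq : (yon S).obj V ⟶ Q),
      IsPullback vq ((yon S).map w) π ((yon S).map (coverHom 𝒰 k)) ∧ P w.left) :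
    ∃ (G : Over S) (u : G ⟶ U) (e : Q ≅ (yon S).obj G),
      e.hom ≫ (yon S).map u = π ∧ P u.left := by
  choose V w vq sq hV using H
  let tr : ∀ {a b : 𝒰.I₀}, (a ⟶ b) → (coverObj 𝒰 a ⟶ coverObj 𝒰 b) := fun {a b} h =>
    Over.homMk (𝒰.trans h) (show 𝒰.trans h ≫ 𝒰.f b ≫ U.hom = 𝒰.f a ≫ U.hom by
      rw [← Category.assoc, Scheme.Cover.trans_map])
  have htr : ∀ {a b : 𝒰.I₀} (h : a ⟶ b), tr h ≫ coverHom 𝒰 b = coverHom 𝒰 a := fun h =>
    Over.OverMorphism.ext (Scheme.Cover.trans_map _ h)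
  have hm : ∀ {a b : 𝒰.I₀} (h : a ⟶ b), ∃ m : V a ⟶ V b,
      (yon S).map m ≫ vq b = vq a ∧ m ≫ w b = w a ≫ tr h := fun {a b} h => by
    obtain ⟨m, hm⟩ := (yon S).map_surjective ((sq b).lift (vq a) ((yon S).map (w a ≫ tr h))
      (by rw [← Functor.map_comp, Category.assoc, htr, Functor.map_comp]; exact (sq a).w))
    exact ⟨m, by rw [hm, IsPullback.lift_fst],
      (yon S).map_injective (by rw [Functor.map_comp, hm, IsPullback.lift_snd])⟩
  choose m hm₁ hm₂ using @hm
  have hext : ∀ {T : Over S} {k : 𝒰.I₀} (a b : T ⟶ V k),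
      (yon S).map a ≫ vq k = (yon S).map b ≫ vq k → a ≫ w k = b ≫ w k → a = b :=
    fun a b h₁ h₂ => (yon S).map_injective ((sq _).hom_ext h₁
      (by rw [← Functor.map_comp, h₂, Functor.map_comp]))
  let F : 𝒰.I₀ ⥤ Scheme.{u} :=
    { obj := fun k => (V k).left
      map := fun {a b} h => (m h).left
      map_id := fun a => by
        rw [show m (𝟙 a) = 𝟙 (V a) from hext _ _ (by simp [hm₁]) (by
          rw [hm₂, Category.id_comp]
          refine Eq.trans ?_ (Category.comp_id _)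
          congr 1
          exact Over.OverMorphism.ext (Scheme.Cover.trans_id 𝒰 a))]
        rfl
      map_comp := fun {a b c} f g => by
        rw [← Over.comp_left, show m (f ≫ g) = m f ≫ m g from hext _ _ (by simp [hm₁]) (by
          rw [hm₂, Category.assoc, hm₂, reassoc_of% hm₂]
          congr 1
          exact Over.OverMorphism.ext (Scheme.Cover.trans_comp 𝒰 f g))] }
  let d : 𝒰.RelativeGluingData :=
    { functor := F
      natTrans :=
        { app := fun k => (w k).left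
          naturality := fun a b h => congrArg CommaMorphism.left (hm₂ h) }
      equifibered := fun {a b} h => by
        refine isPullback_left (isPullback_of_yon (IsPullback.of_right ?_ ?_ (sq b)) :
          IsPullback (m h) (w a) (w b) (tr h))
        · rw [hm₁, ← Functor.map_comp, htr]; exact sq a
        · rw [← Functor.map_comp, ← Functor.map_comp, hm₂] }
  let e : ∀ k, V k ≅ Over.mk ((w k).left ≫ 𝒰.f k ≫ U.hom) := fun k =>
    Over.isoMk (Iso.refl _) ((Category.id_comp _).trans (Over.w (w k)))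
  refine exists_iso_glued π 𝒰 d (fun k => (yon S).map (show _ ⟶ V k from (e k).inv) ≫ vq k) P hQ hV
    (fun k => ?_) fun {a b} h => ?_
  · refine (sq k).of_iso ((yon S).mapIso (e k)) (Iso.refl _) (Iso.refl _) (Iso.refl _)
      ?_ ?_ (by simp) (by simp)
    · simp [← Functor.map_comp_assoc]
    · simp only [Functor.mapIso_hom, Iso.refl_hom, Category.comp_id, ← Functor.map_comp]
      congr 1
  · change (yon S).map (pieceTrans 𝒰 d h) ≫ (yon S).map (show _ ⟶ V b from (e b).inv) ≫ vq b =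
      (yon S).map (show _ ⟶ V a from (e a).inv) ≫ vq a
    rw [← hm₁ h]
    have em : pieceTrans 𝒰 d h ≫ (show pieceObj 𝒰 d b ⟶ V b from (e b).inv) =
        (show pieceObj 𝒰 d a ⟶ V a from (e a).inv) ≫ m h :=
      Over.OverMorphism.ext ((Category.comp_id _).trans (Category.id_comp (m h).left).symm)
    exact (Category.assoc _ _ _).symm.trans ((congrArg (· ≫ vq b)
      (((yon S).map_comp _ _).symm.trans ((congrArg (yon S).map em).trans
        ((yon S).map_comp _ _)))).trans (Category.assoc _ _ _))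

end Glue

/-- Being representable with a Zariski local property is tested on affine schemes. -/
theorem repWith_of_openTest (P : MorphismProperty Scheme.{u}) [IsZariskiLocalAtTarget P]
    {X Y : Sp S} (hX : IsAlgSpace X) (hY : IsAlgSpace Y) {f : X ⟶ Y}
    (hf : ∀ ⦃Z : Over S⦄, IsAffine Z.left → ∀ g : (yon S).obj Z ⟶ Y,
      ∃ (W : Over S) (i : W ⟶ Z) (fst : (yon S).obj W ⟶ X),
        IsPullback fst ((yon S).map i) f g ∧ P i.left) : RepWith P f := by
  refine repWith_of_exists fun U g => ?_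
  have hQ : IsAlgSpace (pullback f g) :=
    isAlgSpace_of_isPullback (IsPullback.of_hasPullback _ _) hY.diag hX (IsAlgSpace.yon_obj _)
  obtain ⟨G, u, e, he, hu⟩ := exists_iso_of_prop_over_cover (pullback.snd f g)
    U.left.directedAffineCover P hQ fun k => by
      obtain ⟨V, w, fst, sq, hV⟩ := hf (Z := coverObj U.left.directedAffineCover k) k.2
        ((yon S).map (coverHom U.left.directedAffineCover k) ≫ g)
      refine ⟨V, w, pullback.lift fst ((yon S).map (w ≫ coverHom U.left.directedAffineCover k))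
        (by rw [Functor.map_comp, Category.assoc]; exact sq.w), ?_, hV⟩
      refine IsPullback.of_right ?_ (by rw [pullback.lift_snd, Functor.map_comp])
        (IsPullback.of_hasPullback f g)
      rw [pullback.lift_fst]
      exact sq
  exact ⟨G, e.inv ≫ pullback.fst f g, u, (IsPullback.of_hasPullback f g).of_iso e (Iso.refl _)
    (Iso.refl _) (Iso.refl _) (by simp) (by simp [he]) (by simp) (by simp), hu⟩

theorem repWith_isAffineHom_of_isAffineMor {X Y : Sp S} (hX : IsAlgSpace X) (hY : IsAlgSpace Y)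
    {f : X ⟶ Y} (hf : IsAffineMor f) : RepWith @IsAffineHom f :=
  repWith_of_openTest _ hX hY fun Z hZ g => by
    obtain ⟨W, i, fst, sq, hW⟩ := hf hZ g
    exact ⟨W, i, fst, sq, inferInstance⟩

end

end Groth.AlgSp2
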