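import Groth.Agent.AlgSp2.ThickProps
import Groth.Agent.AlgSpBasic.ClosedQC
import Groth.Agent.AlgSpBasic.Proper

/-!
# Cancellation over a separated morphism, proper diagonals
-/

set_option autoImplicit false
set_option backward.isDefEq.respectTransparency.types false
set_option linter.unusedVariables false
universe u

open CategoryTheory CategoryTheory.Limits AlgebraicGeometry AlgSp

namespace Groth.AlgSp2

open Groth.AlgSpBasic

noncomputable section

variable {S : Scheme.{u}} {X Y B : Sp S} {f : X ⟶ Y} {p : X ⟶ B} {q : Y ⟶ B}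

theorem isSeparatedMor_iff_proper_diagonal (hX : IsAlgSpace X) (hY : IsAlgSpace Y) :
    IsSeparatedMor f ↔ IsProperMor (pullback.diagonal f) := by
  have hP : IsAlgSpace (pullback f f) := isAlgSpace_pullback ⟨X, hX⟩ ⟨X, hX⟩ ⟨Y, hY⟩ f f
  refine ⟨fun h => (isProperMor_iff_repWith hX hP h.rep).2 (repWith_mono (fun A B k
    (hk : IsClosedImmersion k) => (inferInstance : IsProper k)) h), fun h => ?_⟩
  exact (isSeparatedMor_iff_univClosed_diagonal hX f).2 h.2.2

/-- Over a separated base, morphisms factor as closed immersion followed by a base change. -/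
theorem exists_factor_of_separated (hX : IsAlgSpace X) (hY : IsAlgSpace Y) (hB : IsAlgSpace B)
    (f : X ⟶ Y) (hq : IsSeparatedMor q) :
    ∃ (P : Sp S) (Γ : X ⟶ P) (p₁ : P ⟶ X) (p₂ : P ⟶ Y), IsAlgSpace P ∧
      RepWith @IsClosedImmersion Γ ∧ IsPullback p₁ p₂ (f ≫ q) q ∧ Γ ≫ p₂ = f := by
  refine ⟨pullback (f ≫ q) (𝟙 Y ≫ q),
    inv (pullback.fst f (𝟙 Y)) ≫ pullback.mapDesc f (𝟙 Y) q, pullback.fst _ _, pullback.snd _ _,
    isAlgSpace_pullback ⟨X, hX⟩ ⟨Y, hY⟩ ⟨B, hB⟩ _ _,
    repWith_comp (repWith_isIso _) (repWith_mapDesc f (𝟙 Y) q hq), ?_, ?_⟩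
  · have := IsPullback.of_hasPullback (f ≫ q) (𝟙 Y ≫ q)
    simpa using this
  · rw [pullback.mapDesc, pullback.map, Category.assoc, pullback.lift_snd, Category.comp_id,
      IsIso.inv_comp_eq, pullback.condition, Category.comp_id]

theorem isClosedMor_of_univClosed (hY : IsAlgSpace Y) (h : IsUnivClosedMor f) : IsClosedMor f :=
  h hY (𝟙 Y) (𝟙 X) f (IsPullback.of_horiz_isIso ⟨by simp⟩)

theorem univClosed_of_comp_separated (hX : IsAlgSpace X) (hY : IsAlgSpace Y) (hB : IsAlgSpace B)
    (comm : f ≫ q = p) (hq : IsSeparatedMor q) (hp : IsUnivClosedMor p) :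
    IsUnivClosedMor f ∧ IsClosed (Set.range (Points.map f)) := by
  obtain ⟨P, Γ, p₁, p₂, hP, hΓ, sq, e⟩ := exists_factor_of_separated hX hY hB f hq
  rw [comm] at sq
  have h : IsUnivClosedMor f := by
    rw [← e]
    exact isUnivClosedMor_comp hP hY ((repWith_universallyClosed_iff hΓ.rep).1
      (repWith_mono (fun A B k (hk : IsClosedImmersion k) => (inferInstance : UniversallyClosed k)) hΓ))
      (isUnivClosedMor_of_isPullback sq hp)
  exact ⟨h, IsClosedMap.isClosed_range (isClosedMor_of_univClosed hY h)⟩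

theorem proper_of_comp_separated (hX : IsAlgSpace X) (hY : IsAlgSpace Y) (hB : IsAlgSpace B)
    (comm : f ≫ q = p) (hq : IsSeparatedMor q) (hp : IsProperMor p) : IsProperMor f := by
  obtain ⟨P, Γ, p₁, p₂, hP, hΓ, sq, e⟩ := exists_factor_of_separated hX hY hB f hq
  rw [comm] at sq
  refine ⟨?_, ⟨?_, ?_⟩, (univClosed_of_comp_separated hX hY hB comm hq hp.2.2).1⟩
  · rw [← e]
    exact repWith_diagonal_comp ((repWith_isSeparated_iff hΓ.rep).2 (repWith_mono
      (fun A B k (hk : IsClosedImmersion k) => (inferInstance : IsSeparated k)) hΓ))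
      (repWith_diagonal_baseChange sq hp.1)
  · exact locP_of_comp_of_cancel (fun A B C f g (h : LocallyOfFiniteType (f ≫ g)) =>
      locallyOfFiniteType_of_comp f g) hX hY hB (g := q) (comm.symm ▸ hp.2.1.1)
  · rw [← e]
    exact isQuasiCompactMor_comp hP hY (isQuasiCompactMor_of_repWith hX hP
      (repWith_mono (fun A B k (hk : IsClosedImmersion k) => (inferInstance : QuasiCompact k)) hΓ))
      (isQuasiCompactMor_of_isPullback sq hp.2.1.2)

end

end Groth.AlgSp2
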