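import Groth.Agent.AlgSp2.Locality
import Groth.Agent.AlgSp2.FppfProps

/-!
# Charts of a base change over a chart of the base
-/

set_option autoImplicit false
set_option backward.isDefEq.respectTransparency.types false
universe u

open CategoryTheory CategoryTheory.Limits AlgebraicGeometry Opposite AlgSp

namespace Groth.AlgSp2

open Groth.AlgSpBasic

noncomputable section

variable {S : Scheme.{u}}

theorem repWith_etale_of_isEtaleMor {U : Over S} {X : Sp S} {l : (yon S).obj U ⟶ X}
    (h : IsEtaleMor l) : RepWith @Etale l := by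
  have := h (𝟙 _) (repWith_id _ U)
  rwa [Category.id_comp] at this

/-- The pullback of two maps of schemes over `S`. -/
theorem exists_over_pullback {U V W : Over S} (k : U ⟶ W) (t : V ⟶ W) :
    ∃ (B : Over S) (b₁ : B ⟶ U) (b₂ : B ⟶ V), IsPullback b₁ b₂ k t :=
  ⟨Over.mk (pullback.fst k.left t.left ≫ U.hom), Over.homMk (pullback.fst k.left t.left) rfl,
    Over.homMk (pullback.snd k.left t.left) (by
      change _ ≫ V.hom = pullback.fst k.left t.left ≫ U.hom
      rw [← Over.w t, ← pullback.condition_assoc, Over.w k]),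
    IsPullback.of_map (Over.forget S) (Over.OverMorphism.ext pullback.condition)
      (IsPullback.of_hasPullback k.left t.left)⟩

/-- An étale chart of a base change from a chart over a chart of the base: given a chart `a` of
`F : X ⟶ Z` over `c : W ⟶ Z`, an étale map `φ` from a scheme `T` to `W ×_Z Z'` gives an étale map
`U ×_W T ⟶ X'`. -/
theorem exists_baseChange_chart {X Z X' Z' : Sp S} (hX : IsAlgSpace X) (hZ : IsAlgSpace Z)
    (hZ' : IsAlgSpace Z') {F : X ⟶ Z} {g : Z' ⟶ Z} {pX : X' ⟶ X} {qX : X' ⟶ Z'}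
    (sq : IsPullback pX qX F g) {U W : Over S} {a : (yon S).obj U ⟶ X} {c : (yon S).obj W ⟶ Z}
    {k₀ : U ⟶ W} (ha : RepWith @Etale a) (comm : a ≫ F = (yon S).map k₀ ≫ c) {T : Over S}
    {φ : (yon S).obj T ⟶ pullback c g} (hφ : IsEtaleMor φ) {t : T ⟶ W}
    (ht : (yon S).map t = φ ≫ pullback.fst c g) {B : Over S} {b₁ : B ⟶ U} {b₂ : B ⟶ T}
    (hB : IsPullback b₁ b₂ k₀ t) :
    ∃ l : (yon S).obj B ⟶ X',
      RepWith @Etale l ∧ l ≫ pX = (yon S).map b₁ ≫ a ∧
      l ≫ qX = (yon S).map b₂ ≫ φ ≫ pullback.snd c g ∧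
      (IsSurjectiveMor φ → ∀ (x' : Points X') (u : ↥U.left), Points.map pX x' = Points.ofPt a u →
        ∃ z : ↥B.left, Points.ofPt l z = x' ∧ b₁.left z = u) := by
  have sN := IsPullback.of_hasPullback a pX
  have sM := IsPullback.of_hasPullback c g
  have hM : IsAlgSpace (pullback c g) := isAlgSpace_of_isPullback sM hZ.diag (IsAlgSpace.yon_obj W) hZ'
  have hX' := isAlgSpace_of_isPullback sq hZ.diag hX hZ'
  have hN := isAlgSpace_of_isPullback sN hX.diag (IsAlgSpace.yon_obj U) hX'
  have hbig : IsPullback (pullback.fst a pX) (pullback.snd a pX ≫ qX) ((yon S).map k₀ ≫ c) g := by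
    rw [← comm]; exact sN.paste_vert sq
  let μ : pullback a pX ⟶ pullback c g :=
    sM.lift (pullback.fst a pX ≫ (yon S).map k₀) (pullback.snd a pX ≫ qX)
      (by rw [Category.assoc]; exact hbig.w)
  have sμ : IsPullback (pullback.fst a pX) μ ((yon S).map k₀) (pullback.fst c g) :=
    IsPullback.of_bot (by rw [sM.lift_snd]; exact hbig) (sM.lift_fst _ _ _).symm sM
  let δ : (yon S).obj B ⟶ pullback a pX :=
    sμ.lift ((yon S).map b₁) ((yon S).map b₂ ≫ φ)
      (by rw [Category.assoc, ← ht, ← Functor.map_comp, ← Functor.map_comp, hB.w])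
  have sδ : IsPullback δ ((yon S).map b₂) μ φ :=
    IsPullback.of_right (by rw [sμ.lift_fst, ← ht]; exact hB.map (yon S)) (sμ.lift_snd _ _ _) sμ
  have hpr : IsEtaleMor (pullback.snd a pX) := isEtaleMor_of_isPullback (IsAlgSpace.yon_obj U) hX hX' sN
    (isEtaleMor_of_locP hX (locP_of_repWith ha))
  have hδ : IsEtaleMor δ := isEtaleMor_of_isPullback (IsAlgSpace.yon_obj T) hM hN sδ.flip hφ
  refine ⟨δ ≫ pullback.snd a pX, repWith_etale_of_isEtaleMor (isEtaleMor_comp hδ hpr), ?_, ?_, ?_⟩
  · rw [Category.assoc, ← pullback.condition, ← Category.assoc, sμ.lift_fst]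
  · rw [Category.assoc, ← sM.lift_snd (pullback.fst a pX ≫ (yon S).map k₀) (pullback.snd a pX ≫ qX)
      (by rw [Category.assoc]; exact hbig.w), ← Category.assoc, sμ.lift_snd, Category.assoc]
  · intro hs x' u hu
    obtain ⟨n, hn₁, hn₂⟩ := Groth.AlgSpBasic.exists_point_of_isPullback sN
      (Points.schemeHomeo U u) x' (by rw [hu, ofPt_eq_map]; rfl)
    obtain ⟨τ, hτ⟩ := hs (Points.map μ n)
    obtain ⟨w, hw, -⟩ := Groth.AlgSpBasic.exists_point_of_isPullback sδ n τ hτ.symm
    obtain ⟨z, rfl⟩ := (Points.schemeHomeo B).surjective w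
    refine ⟨z, ?_, (Points.schemeHomeo U).injective ?_⟩
    · rw [ofPt_eq_map, Points.map_comp]
      exact (congrArg _ hw).trans hn₂
    · rw [← hn₁, ← hw, ← Points.map_comp, sμ.lift_fst, Points.map_yon_map_apply]

end

end Groth.AlgSp2
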