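import Groth.Agent.AlgSpBasic.UnivTest
import Groth.Agent.AlgSpBasic.LocPInst
import Groth.Agent.AlgSpBasic.Compact
import Groth.Agent.AlgSpBasic.ClosedQC
import Mathlib.AlgebraicGeometry.Morphisms.FlatDescent

/-!
# Flat quasi-compact surjective morphisms are submersive; geometric points of lft surjective morphisms
-/

set_option autoImplicit false
set_option backward.isDefEq.respectTransparency.types false
set_option linter.unusedVariables false
universe u

open CategoryTheory CategoryTheory.Limits AlgebraicGeometry AlgSp TopologicalSpace Topology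

namespace Groth.AlgSp2

open Groth.AlgSpBasic

noncomputable section

variable {S : Scheme.{u}} {X Y : Sp S} {f : X ⟶ Y}

theorem isSurjectiveMor_of_isPullback' {X' Y' : Sp S} {g : Y' ⟶ Y} {fst : X' ⟶ X} {f' : X' ⟶ Y'}
    (sq : IsPullback fst f' f g) (hs : IsSurjectiveMor f) : IsSurjectiveMor f' := fun y => by
  obtain ⟨x, hx⟩ := hs (Points.map g y)
  obtain ⟨z, -, hz⟩ := Groth.AlgSpBasic.exists_point_of_isPullback sq x y hx
  exact ⟨z, hz⟩

theorem isSubmersiveMor_of_flat_qc_surjective (hX : IsAlgSpace X) (hY : IsAlgSpace Y)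
    (hfl : LocP @Flat f) (hqc : IsQuasiCompactMor f) (hs : IsSurjectiveMor f) :
    IsSubmersiveMor f := by
  obtain ⟨V₀, b₀, hb₀, hb₀s⟩ := hY.atlas
  refine (Topology.isQuotientMap_iff _).2 ⟨⟨le_antisymm (fun s hso => ?_)
    (continuous_iff_coinduced_le.1 (Points.continuous_map f))⟩, hs⟩
  rw [isOpen_coinduced] at hso
  rw [← (isQuotientMap_ofPt hb₀ hb₀s).isOpen_preimage]
  refine isOpen_iff_forall_mem_open.2 fun v hv => ?_
  obtain ⟨K, hK, hvK, -⟩ :=
    exists_isAffineOpen_mem_and_subset (X := V₀.left) (x := v) (U := ⊤) trivial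
  let i : Over.mk (K.ι ≫ V₀.hom) ⟶ V₀ := Over.homMk K.ι
  have : IsAffine (Over.mk (K.ι ≫ V₀.hom)).left := hK
  let b := (yon S).map i ≫ b₀
  have hb : RepWith @Etale b :=
    repWith_comp ((repWith_yon_map_iff _ i).2 (show Etale K.ι from inferInstance)) hb₀
  have sq := IsPullback.of_hasPullback f b
  have hP := isAlgSpace_of_isPullback sq hY.diag hX (IsAlgSpace.yon_obj _)
  have hPqc : IsQuasiCompactSp (pullback f b) :=
    hqc (IsAlgSpace.yon_obj _) ((isQuasiCompactSp_iff_compactSpace (IsAlgSpace.yon_obj _)).2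
      (Points.schemeHomeo _).compactSpace) b _ _ sq
  obtain ⟨W, q, hW, hqe, hqs⟩ := exists_affine_chart hP hPqc
  obtain ⟨h, hh⟩ := (yon S).map_surjective (q ≫ pullback.snd f b)
  have ha : RepWith @Etale (q ≫ pullback.fst f b) :=
    repWith_comp hqe (repWith_of_isPullback sq.flip hb)
  have comm : (q ≫ pullback.fst f b) ≫ f = (yon S).map h ≫ b := by
    rw [Category.assoc, sq.w, ← Category.assoc, hh]
  have : Flat h.left := hfl _ b h ha hb comm
  have : QuasiCompact h.left :=
    (HasAffineProperty.iff_of_isAffine (P := @QuasiCompact)).2 inferInstance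
  have : Surjective h.left := ⟨fun t => by
    obtain ⟨z, hz⟩ := isSurjectiveMor_of_isPullback' sq hs (Points.ofScheme _ t)
    obtain ⟨w, rfl⟩ := surjective_ofPt_of_repWith hqs z
    refine ⟨w, ?_⟩
    rw [Points.map_ofPt, ← hh] at hz
    have := congrArg (Points.toScheme _) hz
    rwa [Points.toScheme_ofPt, Points.toScheme_ofScheme] at this⟩
  have key : IsOpen (Points.ofPt b ⁻¹' s) := by
    rw [← (Flat.isQuotientMap_of_surjective h.left).isOpen_preimage]
    have e : h.left ⁻¹' (Points.ofPt b ⁻¹' s) =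
        Points.ofPt (q ≫ pullback.fst f b) ⁻¹' (Points.map f ⁻¹' s) := by
      ext w
      simp only [Set.mem_preimage, Points.map_ofPt, comm, ofPt_comp_yon]
    rw [e]
    exact hso.preimage (Points.continuous_ofPt _)
  have e : Points.ofPt b = Points.ofPt b₀ ∘ K.ι := funext fun w => ofPt_comp_yon i b₀ w
  refine ⟨K.ι '' (Points.ofPt b ⁻¹' s), ?_, K.ι.isOpenMap _ key, ⟨⟨v, hvK⟩, ?_, rfl⟩⟩
  · rintro _ ⟨w, hw, rfl⟩
    simpa [e] using hw
  · simpa [e] using hv

theorem isUnivSubmersiveMor_of_flat_qc_surjective (hX : IsAlgSpace X) (hY : IsAlgSpace Y)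
    (hfl : LocP @Flat f) (hqc : IsQuasiCompactMor f) (hs : IsSurjectiveMor f) :
    IsUnivSubmersiveMor f := fun Z Z' hZ g fst snd sq =>
  isSubmersiveMor_of_flat_qc_surjective (isAlgSpace_of_isPullback sq hY.diag hX hZ) hZ
    (locP_of_isPullback hX hY hZ sq hfl) (isQuasiCompactMor_of_isPullback sq hqc)
    (isSurjectiveMor_of_isPullback' sq hs)

/-- Geometric points lift along surjective morphisms locally of finite type, and conversely. -/
theorem surjective_iff_geometric_points (hX : IsAlgSpace X) (hY : IsAlgSpace Y)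
    (hf : LocP @LocallyOfFiniteType f) :
    IsSurjectiveMor f ↔
      ∀ (k : Type u) [Field k] [IsAlgClosed k] (str : Spec (CommRingCat.of k) ⟶ S)
        (y : (yon S).obj (Over.mk str) ⟶ Y),
        ∃ x : (yon S).obj (Over.mk str) ⟶ X, x ≫ f = y := by
  constructor
  · intro hs k _ _ str y
    have sq := IsPullback.of_hasPullback f y
    have hP := isAlgSpace_of_isPullback sq hY.diag hX (IsAlgSpace.yon_obj _)
    obtain ⟨W, q, hqe, hqs⟩ := hP.atlas
    obtain ⟨h, hh⟩ := (yon S).map_surjective (q ≫ pullback.snd f y)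
    have hl : LocallyOfFiniteType h.left :=
      locP_of_isPullback hX hY (IsAlgSpace.yon_obj _) sq hf q (𝟙 _) h hqe (repWith_id _ _)
        (by rw [Category.comp_id, hh])
    let h₀ : W.left ⟶ Spec (CommRingCat.of k) := h.left
    have : LocallyOfFiniteType h₀ := hl
    have : JacobsonSpace W.left := LocallyOfFiniteType.jacobsonSpace h₀
    obtain ⟨z, -⟩ := isSurjectiveMor_of_isPullback' sq hs
      (Points.ofScheme (Over.mk str) (IsLocalRing.closedPoint k))
    obtain ⟨w, -⟩ := surjective_ofPt_of_repWith hqs z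
    obtain ⟨w₀, -, hw₀⟩ := nonempty_inter_closedPoints (Z := (Set.univ : Set W.left)) ⟨w, trivial⟩
      isOpen_univ.isLocallyClosed
    let σ : Over.mk str ⟶ W := Over.homMk (pointOfClosedPoint h₀ w₀ hw₀) (by
      change pointOfClosedPoint h₀ w₀ hw₀ ≫ W.hom = str
      rw [← Over.w h, ← Category.assoc, show pointOfClosedPoint h₀ w₀ hw₀ ≫ h.left = _ from
        pointOfClosedPoint_comp h₀ w₀ hw₀, Category.id_comp]
      rfl)
    have hσ : σ ≫ h = 𝟙 _ := Over.OverMorphism.ext (pointOfClosedPoint_comp h₀ w₀ hw₀)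
    refine ⟨(yon S).map σ ≫ q ≫ pullback.fst f y, ?_⟩
    rw [Category.assoc, Category.assoc, sq.w, ← Category.assoc q, ← hh, ← Category.assoc,
      ← Functor.map_comp, hσ, CategoryTheory.Functor.map_id, Category.id_comp]
  · intro H y
    obtain ⟨p, rfl⟩ := Points.mk_surjective y
    let Ω := AlgebraicClosure p.K
    let w : Spec (CommRingCat.of Ω) ⟶ S :=
      Spec.map (CommRingCat.ofHom (algebraMap p.K Ω)) ≫ p.str
    let j : Over.mk w ⟶ p.pt := Over.homMk (Spec.map (CommRingCat.ofHom (algebraMap p.K Ω))) rfl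
    obtain ⟨x, hx⟩ := H Ω w ((yon S).map j ≫ fieldPtHom p)
    refine ⟨Points.ofPt x (IsLocalRing.closedPoint Ω), ?_⟩
    have : Subsingleton ↥p.pt.left :=
      inferInstanceAs (Subsingleton (PrimeSpectrum p.K))
    rw [Points.map_ofPt, hx, ofPt_comp_yon, Subsingleton.elim (j.left _) (IsLocalRing.closedPoint p.K),
      ofPt_fieldPtHom]

end

end Groth.AlgSp2
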