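import Groth.Agent.AlgSp2.InfFOThick
import Groth.Agent.AlgSp2.InfGlue

/-!
# Morphisms out of algebraic spaces are determined and glued on affine étale charts
-/

set_option autoImplicit false
set_option backward.isDefEq.respectTransparency.types false
universe u

open CategoryTheory CategoryTheory.Limits AlgebraicGeometry AlgSp TopologicalSpace

namespace Groth.AlgSp2

open Groth.AlgSpBasic

noncomputable section

variable {S : Scheme.{u}}

/-- The map out of a disjoint union. -/
def sigmaOut {ι : Type u} {Z : Over S} {W : ι → Over S} (c : ∀ k, W k ⟶ Z) : sigmaObj W ⟶ Z :=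
  Over.homMk (Sigma.desc fun k => (c k).left) (Sigma.hom_ext _ _ fun k =>
    (Category.assoc _ _ _).symm.trans ((congrArg (· ≫ Z.hom) (Sigma.ι_desc _ _)).trans
      ((Over.w (c k)).trans (Sigma.ι_desc (fun k => (W k).hom) k).symm)))

theorem sigmaIncl_out {ι : Type u} {Z : Over S} {W : ι → Over S} (c : ∀ k, W k ⟶ Z) (k : ι) :
    sigmaIncl W k ≫ sigmaOut c = c k :=
  Over.OverMorphism.ext (Sigma.ι_desc (fun k => (c k).left) k)

theorem etale_sigmaOut {ι : Type u} {Z : Over S} {W : ι → Over S} (c : ∀ k, W k ⟶ Z)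
    (he : ∀ k, Etale (c k).left) : Etale (sigmaOut c).left := by
  refine (IsZariskiLocalAtSource.iff_of_openCover (P := @Etale)
    (sigmaOpenCover fun k => (W k).left)).2 fun k => ?_
  have e : (sigmaOpenCover fun k => (W k).left).f k ≫ (sigmaOut c).left = (c k).left :=
    congrArg CommaMorphism.left (sigmaIncl_out c k)
  rw [e]
  exact he k

theorem surjective_sigmaOut {ι : Type u} {Z : Over S} {W : ι → Over S} (c : ∀ k, W k ⟶ Z)
    (hs : ∀ z, ∃ k, z ∈ Set.range (c k).left) : Surjective (sigmaOut c).left := ⟨fun z => by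
  obtain ⟨k, w, rfl⟩ := hs z
  exact ⟨(sigmaIncl W k).left w,
    congrArg (fun m : W k ⟶ Z => m.left w) (sigmaIncl_out c k)⟩⟩

/-- Maps out of a scheme are determined on a jointly surjective étale family. -/
theorem hom_ext_of_family {Q : Sp S} {ι : Type u} {Z : Over S} {W : ι → Over S} (c : ∀ k, W k ⟶ Z)
    (he : ∀ k, Etale (c k).left) (hs : ∀ z, ∃ k, z ∈ Set.range (c k).left)
    {l l' : (yon S).obj Z ⟶ Q} (h : ∀ k, (yon S).map (c k) ≫ l = (yon S).map (c k) ≫ l') :
    l = l' := by
  have := etale_sigmaOut c he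
  have := surjective_sigmaOut c hs
  refine hom_ext_of_fppf (sigmaOut c) (sigma_hom_ext W fun k => ?_)
  rw [← Functor.map_comp_assoc, ← Functor.map_comp_assoc, sigmaIncl_out, h]

/-- The point of an affine open. -/
abbrev openObj (Z : Over S) (O : Z.left.affineOpens) : Over S := Over.mk (O.2.fromSpec ≫ Z.hom)

/-- The inclusion of an affine open. -/
abbrev openHom (Z : Over S) (O : Z.left.affineOpens) : openObj Z O ⟶ Z :=
  Over.homMk O.2.fromSpec rfl

/-- Maps out of a scheme are determined on affine opens. -/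
theorem hom_ext_of_affineOpens {Q : Sp S} {Z : Over S} {l l' : (yon S).obj Z ⟶ Q}
    (h : ∀ O, (yon S).map (openHom Z O) ≫ l = (yon S).map (openHom Z O) ≫ l') : l = l' := by
  refine hom_ext_of_family (openHom Z) (fun O => (inferInstance : Etale O.2.fromSpec)) (fun z => ?_) h
  obtain ⟨O, hO, hz, -⟩ := Opens.isBasis_iff_nbhd.mp Z.left.isBasis_affineOpens (Opens.mem_top z)
  exact ⟨⟨O, hO⟩, by change z ∈ Set.range hO.fromSpec; rw [hO.range_fromSpec]; exact hz⟩

variable {T' X : Sp S}

/-- Morphisms out of an algebraic space are determined on affine étale charts. -/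
theorem hom_ext_of_affine_charts (hT' : IsAlgSpace T') {l l' : T' ⟶ X}
    (h : ∀ (A : Type u) [CommRing A] (str : Spec (CommRingCat.of A) ⟶ S)
      (e : (yon S).obj (Over.mk str) ⟶ T'), RepWith @Etale e → e ≫ l = e ≫ l') : l = l' := by
  obtain ⟨V, v, hv, hv'⟩ := hT'.atlas
  refine hom_ext_of_etale v hv hv' (hom_ext_of_affineOpens fun O => ?_)
  rw [← Category.assoc, ← Category.assoc]
  exact h _ _ _ (repWith_comp ((repWith_yon_map_iff _ _).2
    (show Etale O.2.fromSpec from inferInstance)) hv)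

/-- A property of local maps which holds for exactly one map on each affine étale chart holds for
exactly one global map. -/
theorem existsUnique_of_affine_charts (hT' : IsAlgSpace T')
    (P : ∀ Z : Over S, ((yon S).obj Z ⟶ T') → ((yon S).obj Z ⟶ X) → Prop)
    (hres : ∀ (Z Z' : Over S) (g : Z' ⟶ Z) (z : (yon S).obj Z ⟶ T') (L : (yon S).obj Z ⟶ X),
      P Z z L → P Z' ((yon S).map g ≫ z) ((yon S).map g ≫ L))
    (hloc : ∀ (ι : Type u) (Z : Over S) (W : ι → Over S) (c : ∀ k, W k ⟶ Z),
      (∀ k, Etale (c k).left) → (∀ z, ∃ k, z ∈ Set.range (c k).left) →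
      ∀ (z : (yon S).obj Z ⟶ T') (L : (yon S).obj Z ⟶ X),
        (∀ k, P (W k) ((yon S).map (c k) ≫ z) ((yon S).map (c k) ≫ L)) → P Z z L)
    (huniq : ∀ (A : Type u) [CommRing A] (str : Spec (CommRingCat.of A) ⟶ S)
      (e : (yon S).obj (Over.mk str) ⟶ T'), RepWith @Etale e → ∃! L, P (Over.mk str) e L) :
    ∃! l : T' ⟶ X, ∀ (Z : Over S) (z : (yon S).obj Z ⟶ T'), P Z z (z ≫ l) := by
  obtain ⟨V, v, hv, hv'⟩ := hT'.atlas
  let e : ∀ O : ↥V.left.affineOpens, (yon S).obj (openObj V O) ⟶ T' := fun O => (yon S).map (openHom V O) ≫ v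
  have he : ∀ O : ↥V.left.affineOpens, RepWith @Etale (e O) := fun O => repWith_comp ((repWith_yon_map_iff _ _).2
    (show Etale O.2.fromSpec from inferInstance)) hv
  choose L hL hLu using fun O : ↥V.left.affineOpens => huniq _ (O.2.fromSpec ≫ V.hom) (e O) (he O)
  let V' : Over S := sigmaObj (openObj V)
  let d : V' ⟶ V := sigmaOut (openHom V)
  have hd : ∀ O, sigmaIncl (openObj V) O ≫ d = openHom V O := sigmaIncl_out (openHom V)
  have hde : Etale d.left := etale_sigmaOut (openHom V) fun O =>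
    (inferInstance : Etale O.2.fromSpec)
  have hds : Surjective d.left := surjective_sigmaOut (openHom V) fun x => by
    obtain ⟨O, hO, hx, -⟩ := Opens.isBasis_iff_nbhd.mp V.left.isBasis_affineOpens (Opens.mem_top x)
    exact ⟨⟨O, hO⟩, by change x ∈ Set.range hO.fromSpec; rw [hO.range_fromSpec]; exact hx⟩
  let v' := (yon S).map d ≫ v
  have hv'e : RepWith @Etale v' := repWith_comp ((repWith_yon_map_iff _ _).2 hde) hv
  have hv's : RepWith @Surjective v' := repWith_comp ((repWith_yon_map_iff _ _).2 hds) hv'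
  obtain ⟨L', hL', -⟩ := exists_glue (openObj V) L
  have hincl : ∀ z, ∃ O, z ∈ Set.range (sigmaIncl (openObj V) O).left := fun z => by
    obtain ⟨O, y, hy⟩ := (sigmaOpenCover fun O : ↥V.left.affineOpens => (openObj V O).left).exists_eq z
    exact ⟨O, y, hy⟩
  have hP' : P V' v' L' := by
    refine hloc _ V' _ (sigmaIncl (openObj V)) (fun O => ?_) hincl _ _ fun O => ?_
    · change Etale ((sigmaOpenCover fun O : ↥V.left.affineOpens => (openObj V O).left).f O)
      infer_instance
    · rw [hL', ← Functor.map_comp_assoc, hd]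
      exact hL O
  -- two restrictions agree
  obtain ⟨N, n₁, n₂, sqN⟩ := exists_pullback_of_diag hT'.diag v' v'
  have hn₁ : Etale n₁.left := repWith_fst_of_isPullback sqN.flip hv'e
  have hN : (yon S).map n₁ ≫ L' = (yon S).map n₂ ≫ L' := by
    refine hom_ext_of_affineOpens fun O => ?_
    rw [← Functor.map_comp_assoc, ← Functor.map_comp_assoc]
    obtain ⟨L₀, -, hL₀⟩ := huniq _ (O.2.fromSpec ≫ N.hom) ((yon S).map (openHom N O ≫ n₁) ≫ v')
      (repWith_comp ((repWith_yon_map_iff _ _).2
        (MorphismProperty.comp_mem @Etale _ _ (inferInstance : Etale O.2.fromSpec) hn₁)) hv'e)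
    refine (hL₀ _ (hres _ _ (openHom N O ≫ n₁) _ _ hP')).trans (hL₀ _ ?_).symm
    have := hres _ _ (openHom N O ≫ n₂) _ _ hP'
    rwa [show (yon S).map (openHom N O ≫ n₂) ≫ v' = (yon S).map (openHom N O ≫ n₁) ≫ v' by
      rw [Functor.map_comp_assoc, Functor.map_comp_assoc, sqN.w]] at this
  obtain ⟨l, hl⟩ := exists_desc_of_etale v' hv'e hv's L' fun Z p q hpq => by
    rw [← sqN.lift_fst p q hpq, Category.assoc, hN, ← Category.assoc, sqN.lift_snd]
  refine ⟨l, fun Z z => ?_, fun l' hl' => hom_ext_of_etale v' hv'e hv's ?_⟩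
  · obtain ⟨W, snd, fst, sq⟩ := hv'e.rep z
    obtain ⟨fst, rfl⟩ := (yon S).map_surjective fst
    refine hloc PUnit.{u + 1} Z (fun _ => W) (fun _ => snd) (fun _ => hv'e.property z _ snd sq)
      (fun x => ⟨⟨⟩, (hv's.property z _ snd sq).surj x⟩) _ _ fun _ => ?_
    rw [← reassoc_of% sq.w, hl, ← sq.w]
    exact hres _ _ fst _ _ hP'
  · rw [hl]
    refine sigma_hom_ext _ fun O => ?_
    rw [hL', ← Category.assoc]
    refine hLu O _ ?_
    have := hl' _ ((yon S).map (sigmaIncl (openObj V) O) ≫ v')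
    rwa [show (yon S).map (sigmaIncl (openObj V) O) ≫ v' = e O by
      rw [← Functor.map_comp_assoc, hd]] at this ⊢

end

end Groth.AlgSp2
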