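import Groth.Agent.AlgSp2.SpExtensive
import Groth.Agent.AlgSp2.InfFamily
import Groth.Agent.AlgSp2.FpqcRep
import Groth.Agent.AlgSpBasic.OpenSub

/-!
# Morphisms out of a space with a clopen subspace
-/

set_option autoImplicit false
set_option backward.isDefEq.respectTransparency.types false
universe u

open CategoryTheory CategoryTheory.Limits AlgebraicGeometry Opposite AlgSp
open Groth.AlgSpBasic Groth.AlgSp2.SpExtensive

namespace Groth.AlgSp2.ClopenGlue

noncomputable section

variable {S : Scheme.{u}}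

/-- The two parts of a clopen decomposition. -/
def part {P : Sp S} (W : Set (AlgSp.Points P)) : ULift.{u} Bool → Set (AlgSp.Points P)
  | ⟨true⟩ => W
  | ⟨false⟩ => Wᶜ

theorem isIso_desc {P : Sp S} {W : Set (AlgSp.Points P)} (ho : IsOpen W) (hc : IsClosed W) :
    IsIso (Sigma.desc fun i => openSubι P (part W i)) := by
  have hopen : ∀ i, IsOpen (part W i) := by rintro ⟨_ | _⟩; exacts [hc.isOpen_compl, ho]
  let c := Cofan.mk (∐ fun i => openSub P (part W i)) (Sigma.ι fun i => openSub P (part W i))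
  let d : c.pt ⟶ P := Sigma.desc fun i => openSubι P (part W i)
  have hd : ∀ i, c.inj i ≫ d = openSubι P (part W i) := fun i => Sigma.ι_desc _ _
  refine isIso_of_repWith (f := d) (repWith_of_exists fun T b => ?_)
  choose V l w sq using fun i => (repWith_openSubι (hopen i)).rep b
  obtain ⟨fst, sq'⟩ := exists_pullback_glue c (coproductIsCoproduct _) d b V l w
    (fun i => by rw [hd i]; exact sq i)
  refine ⟨_, fst, sigmaOut l, sq', ?_⟩
  have hl : ∀ i, IsOpenImmersion (l i).left := fun i =>
    (repWith_openSubι (hopen i)).property b (w i) (l i) (sq i)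
  have hr : ∀ i, Set.range (l i).left = AlgSp.Points.ofPt b ⁻¹' part W i := fun i => by
    ext t
    constructor
    · rintro ⟨v, rfl⟩
      show AlgSp.Points.ofPt b ((l i).left v) ∈ part W i
      rw [← ofPt_comp_yon, ← (sq i).w, ← AlgSp.Points.map_ofPt]
      exact (range_map_openSubι (W := part W i)).le ⟨_, rfl⟩
    · intro ht
      obtain ⟨y, hy⟩ := (range_map_openSubι (W := part W i)).ge ht
      obtain ⟨v, -, hv⟩ := (map_eq_ofPt_iff (sq i) y t).1 hy
      exact ⟨v, hv⟩
  have : IsOpenImmersion (sigmaOut l).left := by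
    have := hl
    refine isOpenImmersion_sigmaDesc _ _ fun i j hij => ?_
    show Disjoint (Set.range (l i).left) (Set.range (l j).left)
    rw [hr, hr]
    obtain ⟨_ | _⟩ := i <;> obtain ⟨_ | _⟩ := j
    exacts [absurd rfl hij, (disjoint_compl_left).preimage _, (disjoint_compl_right).preimage _,
      absurd rfl hij]
  have : Surjective (sigmaOut l).left := surjective_sigmaOut _ fun t => by
    by_cases ht : AlgSp.Points.ofPt b t ∈ W
    · exact ⟨⟨true⟩, (hr _).ge ht⟩
    · exact ⟨⟨false⟩, (hr _).ge ht⟩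
  have : Epi (sigmaOut l).left.base := (TopCat.epi_iff_surjective _).2 (sigmaOut l).left.surjective
  exact IsOpenImmersion.isIso (sigmaOut l).left

/-- A morphism out of a space can be given separately on a clopen subspace and on its complement. -/
theorem exists_desc {P Q : Sp S} {W : Set (AlgSp.Points P)} (ho : IsOpen W) (hc : IsClosed W)
    (x : openSub P W ⟶ Q) (y : openSub P Wᶜ ⟶ Q) :
    ∃ g : P ⟶ Q, openSubι P W ≫ g = x ∧ openSubι P Wᶜ ≫ g = y := by
  have := isIso_desc ho hc
  let d := Sigma.desc fun i => openSubι P (part W i)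
  let z : ∀ i, openSub P (part W i) ⟶ Q
    | ⟨true⟩ => x
    | ⟨false⟩ => y
  have h : ∀ i, openSubι P (part W i) ≫ CategoryTheory.inv d ≫ Sigma.desc z = z i := fun i => by
    rw [← Sigma.ι_desc (fun i => openSubι P (part W i)) i, Category.assoc, IsIso.hom_inv_id_assoc,
      Sigma.ι_desc]
  exact ⟨CategoryTheory.inv d ≫ Sigma.desc z, h ⟨true⟩, h ⟨false⟩⟩

theorem hom_ext {P Q : Sp S} {W : Set (AlgSp.Points P)} (ho : IsOpen W) (hc : IsClosed W)
    {a b : P ⟶ Q} (h₁ : openSubι P W ≫ a = openSubι P W ≫ b)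
    (h₂ : openSubι P Wᶜ ≫ a = openSubι P Wᶜ ≫ b) : a = b := by
  have := isIso_desc ho hc
  rw [← cancel_epi (Sigma.desc fun i => openSubι P (part W i))]
  refine Sigma.hom_ext _ _ fun i => ?_
  rw [Sigma.ι_desc_assoc, Sigma.ι_desc_assoc]
  obtain ⟨_ | _⟩ := i
  exacts [h₂, h₁]

end

end Groth.AlgSp2.ClopenGlue
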