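import Groth.Agent.AlgSp2.InfCover
import Groth.Agent.Calg1.Misc
import Mathlib.AlgebraicGeometry.Morphisms.Smooth

/-!
# Local lifts along thickenings of affine schemes
-/

set_option autoImplicit false
set_option backward.isDefEq.respectTransparency.types false
universe u

open CategoryTheory CategoryTheory.Limits AlgebraicGeometry TopologicalSpace

namespace Groth.AlgSp2

variable {A : Type u} [CommRing A] {I : Ideal A}

theorem surjective_specMap_of_nil (hI : ∀ x ∈ I, IsNilpotent x) :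
    Function.Surjective (Spec.map (CommRingCat.ofHom (Ideal.Quotient.mk I))) := by
  intro p
  have hp : I ≤ p.asIdeal := fun x hx => p.isPrime.isRadical (show x ∈ p.asIdeal.radical from by
    obtain ⟨n, hn⟩ := hI x hx
    exact ⟨n, by rw [hn]; exact Submodule.zero_mem _⟩)
  have : p ∈ Set.range (PrimeSpectrum.comap (Ideal.Quotient.mk I)) := by
    rw [range_comap_of_surjective _ _ Ideal.Quotient.mk_surjective, Ideal.mk_ker]
    exact hp
  exact this

theorem nil_map {A' : Type u} [CommRing A'] (φ : A →+* A') (hI : ∀ x ∈ I, IsNilpotent x) :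
    ∀ x ∈ I.map φ, IsNilpotent x := by
  intro x hx
  have : I.map φ ≤ nilradical A' := Ideal.map_le_iff_le_comap.2 fun y hy =>
    mem_nilradical.2 ((hI y hy).map φ)
  exact mem_nilradical.1 (this hx)

/-- An étale neighbourhood in `Spec (A ⧸ I)` lifts to an étale algebra over `A`. -/
theorem exists_nbhd_spec {W : Scheme.{u}} (k : W ⟶ Spec (CommRingCat.of (A ⧸ I))) [Etale k] (w : W) :
    ∃ (Q : Type u) (_ : CommRing Q) (_ : Algebra A Q)
      (m : Spec (CommRingCat.of (Q ⧸ I.map (algebraMap A Q))) ⟶ W)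
      (p : Spec (CommRingCat.of (Q ⧸ I.map (algebraMap A Q)))),
      Algebra.Etale A Q ∧ m p = w ∧
      m ≫ k = Spec.map (CommRingCat.ofHom
        (Ideal.quotientMap (I.map (algebraMap A Q)) (algebraMap A Q) Ideal.le_comap_map)) := by
  obtain ⟨O, hO, hwO, -⟩ := Opens.isBasis_iff_nbhd.mp W.isBasis_affineOpens (Opens.mem_top w)
  obtain ⟨c, hc⟩ := Spec.map_surjective (hO.fromSpec ≫ k)
  let C : Type u := Γ(W, O)
  let _ : Algebra (A ⧸ I) C := c.hom.toAlgebra
  let algAC : Algebra A C := (c.hom.comp (Ideal.Quotient.mk I)).toAlgebra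
  have : IsScalarTower A (A ⧸ I) C := IsScalarTower.of_algebraMap_eq fun _ => rfl
  have hce : Etale (Spec.map c) := by rw [hc]; infer_instance
  have : Algebra.Etale (A ⧸ I) C := (HasRingHomProperty.Spec_iff (P := @Etale)).1 hce
  obtain ⟨Q, iQ, aQ, π, hQ, hπs, hπk⟩ := Groth.AlgStBasic.SmoothDescent.exists_etale_lift
    (P := A) (B := A ⧸ I) (C := C) Ideal.Quotient.mk_surjective
  have hk : RingHom.ker π.toRingHom = I.map (algebraMap A Q) := by
    rw [hπk, Ideal.Quotient.algebraMap_eq, Ideal.mk_ker]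
  let e : Q ⧸ I.map (algebraMap A Q) ≃+* C :=
    (Ideal.quotEquivOfEq hk.symm).trans (RingHom.quotientKerEquivOfSurjective hπs)
  have hmk : ∀ x, e (Ideal.Quotient.mk _ x) = π x := fun x => rfl
  have hq : CommRingCat.ofHom
      (Ideal.quotientMap (I.map (algebraMap A Q)) (algebraMap A Q) Ideal.le_comap_map) =
      c ≫ CommRingCat.ofHom e.symm.toRingHom := by
    refine CommRingCat.hom_ext (Ideal.Quotient.ringHom_ext (RingHom.ext fun x => e.injective ?_))
    change e (Ideal.Quotient.mk _ (algebraMap A Q x)) =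
      e (e.symm (c.hom (Ideal.Quotient.mk I x)))
    rw [hmk, e.apply_symm_apply]
    exact π.commutes x
  obtain ⟨z, hz⟩ : w ∈ Set.range hO.fromSpec := by rw [hO.range_fromSpec]; exact hwO
  refine ⟨Q, iQ, aQ, Spec.map (CommRingCat.ofHom e.symm.toRingHom) ≫ hO.fromSpec,
    Spec.map (CommRingCat.ofHom e.toRingHom) z, hQ, ?_, ?_⟩
  · rw [← Scheme.Hom.comp_apply, ← Category.assoc, ← Spec.map_comp, ← CommRingCat.ofHom_comp,
      show e.toRingHom.comp e.symm.toRingHom = RingHom.id _ from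
        RingHom.ext fun x => e.apply_symm_apply x, CommRingCat.ofHom_id, Spec.map_id,
      Category.id_comp]
    exact hz
  · rw [hq, Category.assoc, ← hc, ← Spec.map_comp]

/-- Smooth morphisms of schemes have local lifts along thickenings of affine schemes. -/
theorem exists_local_lift_of_smooth {U V : Scheme.{u}} (f : U ⟶ V) [Smooth f]
    (hI : ∀ x ∈ I, IsNilpotent x) (a : Spec (CommRingCat.of (A ⧸ I)) ⟶ U)
    (b : Spec (CommRingCat.of A) ⟶ V)
    (w : a ≫ f = Spec.map (CommRingCat.ofHom (Ideal.Quotient.mk I)) ≫ b)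
    (p : Spec (CommRingCat.of (A ⧸ I))) :
    ∃ (g : A) (l : Spec (CommRingCat.of (Localization.Away g)) ⟶ U)
      (z : Spec (CommRingCat.of (Localization.Away g))),
      (Spec.map (CommRingCat.ofHom (algebraMap A (Localization.Away g)))) z =
        (Spec.map (CommRingCat.ofHom (Ideal.Quotient.mk I))) p ∧
      l ≫ f = Spec.map (CommRingCat.ofHom (algebraMap A (Localization.Away g))) ≫ b ∧
      ∀ (P : Scheme.{u}) (q : P ⟶ Spec (CommRingCat.of (Localization.Away g)))
        (r : P ⟶ Spec (CommRingCat.of (A ⧸ I))),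
        q ≫ Spec.map (CommRingCat.ofHom (algebraMap A (Localization.Away g))) =
          r ≫ Spec.map (CommRingCat.ofHom (Ideal.Quotient.mk I)) → q ≫ l = r ≫ a := by
  obtain ⟨V₀, hV, hfx, -⟩ := Opens.isBasis_iff_nbhd.mp V.isBasis_affineOpens
    (Opens.mem_top (f (a p)))
  obtain ⟨U₀, hU, hx, e⟩ := Opens.isBasis_iff_nbhd.mp U.isBasis_affineOpens
    (show a p ∈ f ⁻¹ᵁ V₀ from hfx)
  obtain ⟨_, ⟨g, rfl⟩, hgp, hgU⟩ :=
    PrimeSpectrum.isTopologicalBasis_basic_opens.exists_subset_of_mem_open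
      (u := SetLike.coe (a ⁻¹ᵁ U₀)) hx (a ⁻¹ᵁ U₀).isOpen
  obtain ⟨g, rfl⟩ := Ideal.Quotient.mk_surjective g
  let A' := Localization.Away g
  let J := I.map (algebraMap A A')
  let π : A ⧸ I →+* A' ⧸ J := Ideal.quotientMap J (algebraMap A A') Ideal.le_comap_map
  have sq := Inf.isPullback_spec_quot I A'
  let a' : Spec (CommRingCat.of (A' ⧸ J)) ⟶ U := Spec.map (CommRingCat.ofHom π) ≫ a
  have ha' : Set.range a' ⊆ (U₀ : Set U) := by
    rintro _ ⟨y, rfl⟩
    refine hgU (fun hy => y.isPrime.ne_top (Ideal.eq_top_of_isUnit_mem _ hy ?_))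
    exact ((IsLocalization.Away.algebraMap_isUnit (S := A') g).map (Ideal.Quotient.mk J))
  let b' : Spec (CommRingCat.of A') ⟶ V := Spec.map (CommRingCat.ofHom (algebraMap A A')) ≫ b
  have wab : a' ≫ f = Spec.map (CommRingCat.ofHom (Ideal.Quotient.mk J)) ≫ b' := by
    rw [Category.assoc, w, ← Category.assoc, sq.w, Category.assoc]
  have hnil := nil_map (algebraMap A A') hI
  have hb' : Set.range b' ⊆ (V₀ : Set V) := by
    rintro _ ⟨y, rfl⟩
    obtain ⟨y, rfl⟩ := surjective_specMap_of_nil hnil y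
    rw [← Scheme.Hom.comp_apply, ← wab, Scheme.Hom.comp_apply]
    exact e (ha' ⟨y, rfl⟩)
  obtain ⟨s, hs⟩ := Spec.map_surjective
    (IsOpenImmersion.lift hU.fromSpec a' (by rwa [hU.range_fromSpec]))
  obtain ⟨r, hr⟩ := Spec.map_surjective
    (IsOpenImmersion.lift hV.fromSpec b' (by rwa [hV.range_fromSpec]))
  have hs' : Spec.map s ≫ hU.fromSpec = a' := by rw [hs, IsOpenImmersion.lift_fac]
  have hr' : Spec.map r ≫ hV.fromSpec = b' := by rw [hr, IsOpenImmersion.lift_fac]
  let φ := f.appLE V₀ U₀ e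
  have hrs : φ ≫ s = r ≫ CommRingCat.ofHom (Ideal.Quotient.mk J) := by
    refine Spec.map_injective ?_
    rw [← cancel_mono hV.fromSpec, Spec.map_comp, Spec.map_comp, Category.assoc, Category.assoc,
      hr', hV.SpecMap_appLE_fromSpec f hU e, reassoc_of% hs', wab]
  have hsm := f.smooth_appLE hV hU e
  algebraize [φ.hom, r.hom]
  have : Algebra.Smooth Γ(V, V₀) Γ(U, U₀) := hsm
  obtain ⟨h, hh⟩ := Groth.Calg1.smooth_lift_of_isNilpotent (R := Γ(V, V₀)) (S := Γ(U, U₀)) J hnil
    { s.hom with commutes' := fun x => DFunLike.congr_fun (congrArg CommRingCat.Hom.hom hrs) x }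
  have h₁ : φ ≫ CommRingCat.ofHom h.toRingHom = r := CommRingCat.hom_ext h.comp_algebraMap
  have h₂ : CommRingCat.ofHom h.toRingHom ≫ CommRingCat.ofHom (Ideal.Quotient.mk J) = s :=
    CommRingCat.hom_ext (congrArg AlgHom.toRingHom hh)
  let l := Spec.map (CommRingCat.ofHom h.toRingHom) ≫ hU.fromSpec
  have hz : (Spec.map (CommRingCat.ofHom (Ideal.Quotient.mk I))) p ∈
      Set.range (Spec.map (CommRingCat.ofHom (algebraMap A A'))) := by
    change _ ∈ Set.range (PrimeSpectrum.comap (algebraMap A A'))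
    rw [PrimeSpectrum.localization_away_comap_range A' g]
    exact hgp
  obtain ⟨z, hz⟩ := hz
  refine ⟨g, l, z, hz, ?_, fun P q r' hqr => ?_⟩
  · rw [Category.assoc, ← hV.SpecMap_appLE_fromSpec f hU e, ← Spec.map_comp_assoc, h₁, hr']
  · rw [← sq.lift_fst r' q hqr.symm]
    conv_lhs => rw [← sq.lift_snd r' q hqr.symm]
    rw [Category.assoc, Category.assoc]
    refine congrArg (_ ≫ ·) ?_
    rw [← Category.assoc, ← Spec.map_comp, h₂, hs']

end Groth.AlgSp2
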