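import Groth.Agent.AlgSp2.InfCover
import Groth.Agent.AlgSp2.ThickLiftScheme
import Groth.Agent.AlgSp2.SigmaGlue
import Groth.Agent.AlgSp2.AffineDescent
import Groth.Agent.AlgSpBasic.Compact
import Mathlib.RingTheory.Ideal.Over
import Mathlib.RingTheory.Flat.FaithfullyFlat.Algebra

/-!
# First order thickenings of algebraic spaces on affine test schemes
-/

set_option autoImplicit false
set_option backward.isDefEq.respectTransparency.types false
universe u

open CategoryTheory CategoryTheory.Limits AlgebraicGeometry AlgSp TopologicalSpace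

namespace Groth.AlgSp2

open Groth.AlgSpBasic

noncomputable section

variable {S : Scheme.{u}} {X X' : Sp S} {A : Type u} [CommRing A] (str : Spec (CommRingCat.of A) ⟶ S)

/-- A closed subscheme of an affine scheme over `S`. -/
abbrev quotObj (I : Ideal A) : Over S :=
  Over.mk (Spec.map (CommRingCat.ofHom (Ideal.Quotient.mk I)) ≫ str)

/-- The inclusion of a closed subscheme. -/
abbrev quotHom (I : Ideal A) : quotObj str I ⟶ Over.mk str :=
  Over.homMk (Spec.map (CommRingCat.ofHom (Ideal.Quotient.mk I))) rfl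

/-- A point over a ring map. -/
abbrev ringObj {B : Type u} [CommRing B] (φ : A →+* B) : Over S :=
  Over.mk (Spec.map (CommRingCat.ofHom φ) ≫ str)

/-- The map of a point over a ring map. -/
abbrev ringHom {B : Type u} [CommRing B] (φ : A →+* B) : ringObj str φ ⟶ Over.mk str :=
  Over.homMk (Spec.map (CommRingCat.ofHom φ)) rfl

/-- If a point factors through the closed subscheme, its ring map kills the ideal. -/
theorem le_ker_of_factor {i : X ⟶ X'} {e : (yon S).obj (Over.mk str) ⟶ X'} {I : Ideal A}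
    {fst : (yon S).obj (quotObj str I) ⟶ X}
    (sq : IsPullback fst ((yon S).map (quotHom str I)) i e) {B : Type u} [CommRing B] (φ : A →+* B)
    (r : (yon S).obj (ringObj str φ) ⟶ X) (hr : r ≫ i = (yon S).map (ringHom str φ) ≫ e) :
    I ≤ RingHom.ker φ := by
  obtain ⟨m, hm⟩ := (yon S).map_surjective (sq.lift r _ hr)
  have h : m ≫ quotHom str I = ringHom str φ := (yon S).map_injective (by
    rw [Functor.map_comp, hm, sq.lift_snd])
  obtain ⟨χ, hχ⟩ := Spec.map_surjective m.left
  have h' : Spec.map χ ≫ Spec.map (CommRingCat.ofHom (Ideal.Quotient.mk I)) =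
      Spec.map (CommRingCat.ofHom φ) := by
    rw [hχ]; exact congrArg CommaMorphism.left h
  rw [← Spec.map_comp] at h'
  intro x hx
  have := congr(($(Spec.map_injective h')).hom x)
  simp only [CommRingCat.hom_comp, CommRingCat.hom_ofHom, RingHom.comp_apply] at this
  rw [RingHom.mem_ker, ← this, Ideal.Quotient.eq_zero_iff_mem.2 hx, map_zero]

/-- A thickening pulls back to the quotient by a nil ideal on an affine scheme. -/
theorem exists_quot_pullback {i : X ⟶ X'} (hi : IsThickMor i)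
    (e : (yon S).obj (Over.mk str) ⟶ X') :
    ∃ (I : Ideal A) (fst : (yon S).obj (quotObj str I) ⟶ X),
      (∀ x ∈ I, IsNilpotent x) ∧ IsPullback fst ((yon S).map (quotHom str I)) i e := by
  obtain ⟨T₁, k₁, fst₁, sq₁⟩ := hi.rep e
  obtain ⟨hk₁, hk₁'⟩ : IsClosedImmersion k₁.left ∧ Surjective k₁.left := hi.property e fst₁ k₁ sq₁
  obtain ⟨I, ι, hι⟩ := IsClosedImmersion.Spec_iff.mp hk₁
  let m : T₁ ≅ quotObj str I := Over.isoMk ι (by
    rw [← Over.w k₁]
    change ι.hom ≫ Spec.map _ ≫ str = k₁.left ≫ str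
    rw [hι, Category.assoc])
  have hm : m.hom ≫ quotHom str I = k₁ := Over.OverMorphism.ext hι.symm
  refine ⟨I, (yon S).map m.inv ≫ fst₁, fun x hx => ?_, ?_⟩
  · rw [← mem_nilradical, nilradical_eq_sInf, Ideal.mem_sInf]
    intro p hp
    obtain ⟨q, hq⟩ := hk₁'.surj ⟨p, hp⟩
    have h1 : (⟨p, hp⟩ : PrimeSpectrum A) ∈ Set.range (PrimeSpectrum.comap (Ideal.Quotient.mk I)) :=
      ⟨ι.hom q, by rw [← hq, hι]; rfl⟩
    rw [range_comap_of_surjective _ _ Ideal.Quotient.mk_surjective, Ideal.mk_ker] at h1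
    exact h1 hx
  · refine sq₁.of_iso ((yon S).mapIso m) (Iso.refl _) (Iso.refl _) (Iso.refl _) ?_ ?_ (by simp)
      (by simp)
    · simp [← Functor.map_comp_assoc]
    · simp [← Functor.map_comp, hm]

/-- For an affine target, square zero kernel is a condition on global sections. -/
theorem sqZero_iff {W V : Scheme.{u}} [IsAffine V] (f : W ⟶ V) [QuasiCompact f] :
    f.ker * f.ker = ⊥ ↔ RingHom.ker f.appTop.hom * RingHom.ker f.appTop.hom = ⊥ := by
  constructor
  · intro h
    have := congr(($h).ideal ⟨⊤, isAffineOpen_top V⟩)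
    rw [Scheme.IdealSheafData.ideal_mul, Pi.mul_apply, Scheme.Hom.ker_apply] at this
    exact this
  · intro h
    refine Scheme.IdealSheafData.ext_of_isAffine ?_
    rw [Scheme.IdealSheafData.ideal_mul, Pi.mul_apply, Scheme.Hom.ker_apply]
    exact h

theorem ideal_sq_of_sqZero {I : Ideal A}
    (h : (Spec.map (CommRingCat.ofHom (Ideal.Quotient.mk I))).ker *
      (Spec.map (CommRingCat.ofHom (Ideal.Quotient.mk I))).ker = ⊥) : I ^ 2 = ⊥ := by
  have : IsClosedImmersion (Spec.map (CommRingCat.ofHom (Ideal.Quotient.mk I))) :=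
    IsClosedImmersion.spec_of_surjective _ Ideal.Quotient.mk_surjective
  rw [sqZero_iff] at h
  rw [pow_two, eq_bot_iff, Ideal.mul_le]
  intro x hx y hy
  let θ := Scheme.ΓSpecIso (CommRingCat.of A)
  have key : ∀ z ∈ I, θ.inv z ∈
      RingHom.ker (Spec.map (CommRingCat.ofHom (Ideal.Quotient.mk I))).appTop.hom := fun z hz => by
    have h1 := congr(($(Scheme.ΓSpecIso_inv_naturality
      (CommRingCat.ofHom (Ideal.Quotient.mk I)))).hom z)
    simp only [CommRingCat.hom_comp, RingHom.comp_apply, CommRingCat.hom_ofHom] at h1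
    rw [RingHom.mem_ker, ← h1, Ideal.Quotient.eq_zero_iff_mem.2 hz, map_zero]
  have h2 := Ideal.mul_mem_mul (key x hx) (key y hy)
  rw [h, Ideal.mem_bot, ← map_mul] at h2
  rw [Ideal.mem_bot]
  exact (map_eq_zero_iff _ (ConcreteCategory.bijective_of_isIso θ.inv).1).1 h2

/-- A map from an affine scheme to an algebraic space lifts étale locally to an affine chart. -/
theorem exists_affine_chart_lift (hX' : IsAlgSpace X') (e : (yon S).obj (Over.mk str) ⟶ X') :
    ∃ (C : Type u) (_ : CommRing C) (strC : Spec (CommRingCat.of C) ⟶ S)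
      (c : (yon S).obj (Over.mk strC) ⟶ X') (B : Type u) (_ : CommRing B) (φ : A →+* B)
      (g : ringObj str φ ⟶ Over.mk strC),
      RepWith @Etale c ∧ (Etale (Spec.map (CommRingCat.ofHom φ)) ∧ Surjective (Spec.map (CommRingCat.ofHom φ))) ∧
      (yon S).map g ≫ c = (yon S).map (ringHom str φ) ≫ e := by
  obtain ⟨V, v, hv, hv'⟩ := hX'.atlas
  obtain ⟨P, snd, fst, sq⟩ := hv.rep e
  obtain ⟨fst, rfl⟩ := (yon S).map_surjective fst
  have : Etale snd.left := hv.property _ _ snd sq
  have : Surjective snd.left := hv'.property _ _ snd sq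
  have : IsAffine (Over.mk str).left := inferInstanceAs (IsAffine (Spec (CommRingCat.of A)))
  obtain ⟨Y, φY, hY, he, hs⟩ := Inf.exists_affine_etale_refinement snd.left
  -- a compact open of the atlas containing the image
  let 𝒰 := V.left.affineCover
  obtain ⟨t, ht⟩ := (isCompact_range (φY ≫ fst.left).continuous).elim_finite_subcover
    (fun n => ((𝒰.f n).opensRange : Set ↥V.left)) (fun n => (𝒰.f n).opensRange.isOpen) fun x _ => by
      obtain ⟨n, y, hy⟩ := 𝒰.exists_eq x
      exact Set.mem_iUnion.2 ⟨n, y, hy⟩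
  let K : V.left.Opens := ⨆ n ∈ t, (𝒰.f n).opensRange
  have hK : IsCompact (K : Set ↥V.left) := by
    simp only [K, Opens.coe_iSup]
    exact t.finite_toSet.isCompact_biUnion fun n _ => isCompact_range (𝒰.f n).continuous
  have : CompactSpace ↥K.toScheme := isCompact_iff_compactSpace.1 hK
  obtain ⟨V₁, ξ, hξs, hξe, hV₁⟩ :=
    K.toScheme.exists_hom_isAffine_of_isZariskiLocalAtSource @Etale
  have hr : Set.range (φY ≫ fst.left) ⊆ Set.range K.ι := by
    rw [Scheme.Opens.range_ι]
    intro x hx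
    obtain ⟨n, hn, hxn⟩ := Set.mem_iUnion₂.1 (ht hx)
    simp only [K, SetLike.mem_coe, Opens.mem_iSup]
    exact ⟨n, hn, hxn⟩
  let y₀ : Y ⟶ K.toScheme := IsOpenImmersion.lift K.ι _ hr
  -- refine by the affine chart
  let k₂ : pullback y₀ ξ ⟶ Spec (CommRingCat.of A) := pullback.fst y₀ ξ ≫ φY ≫ snd.left
  have : Etale k₂ := MorphismProperty.comp_mem @Etale _ _ inferInstance he
  have : Surjective k₂ := MorphismProperty.comp_mem @Surjective _ _ inferInstance hs
  obtain ⟨Y₂, φ₂, hY₂, he₂, hs₂⟩ := Inf.exists_affine_etale_refinement k₂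
  obtain ⟨b, hb⟩ := Spec.map_surjective (Y₂.isoSpec.inv ≫ φ₂ ≫ k₂)
  let strC : Spec Γ(V₁, ⊤) ⟶ S := V₁.isoSpec.inv ≫ ξ ≫ K.ι ≫ V.hom
  let cV : Over.mk strC ⟶ V := Over.homMk (V₁.isoSpec.inv ≫ ξ ≫ K.ι) (by simp [strC])
  let gl : Spec Γ(Y₂, ⊤) ⟶ Spec Γ(V₁, ⊤) :=
    Y₂.isoSpec.inv ≫ φ₂ ≫ pullback.snd y₀ ξ ≫ V₁.isoSpec.hom
  let gP : ringObj str b.hom ⟶ P := Over.homMk (Y₂.isoSpec.inv ≫ φ₂ ≫ pullback.fst y₀ ξ ≫ φY) (by
    change _ = Spec.map b ≫ str
    rw [hb, ← Over.w snd]
    simp [k₂])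
  have hgl : gl ≫ cV.left = gP.left ≫ fst.left := by
    simp [gl, cV, gP, y₀, ← pullback.condition_assoc]
  let g : ringObj str b.hom ⟶ Over.mk strC := Over.homMk gl (by
    rw [← Over.w cV]
    exact (Category.assoc _ _ _).symm.trans ((congrArg (· ≫ V.hom) hgl).trans
      ((Category.assoc _ _ _).trans ((congrArg (gP.left ≫ ·) (Over.w fst)).trans (Over.w gP)))))
  have hg : g ≫ cV = gP ≫ fst := Over.OverMorphism.ext hgl
  have hgP : gP ≫ snd = ringHom str b.hom := Over.OverMorphism.ext (by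
    change _ = Spec.map b
    rw [hb]
    simp [gP, k₂])
  refine ⟨Γ(V₁, ⊤), inferInstance, strC, (yon S).map cV ≫ v, Γ(Y₂, ⊤), inferInstance, b.hom, g,
    repWith_comp ((repWith_yon_map_iff _ cV).2
      (show Etale (V₁.isoSpec.inv ≫ ξ ≫ K.ι) from inferInstance)) hv, ?_, ?_⟩
  · change Etale (Spec.map b) ∧ Surjective (Spec.map b)
    rw [hb]
    exact ⟨MorphismProperty.comp_mem @Etale _ _ inferInstance he₂,
      MorphismProperty.comp_mem @Surjective _ _ inferInstance hs₂⟩
  · rw [← Functor.map_comp_assoc, hg, Functor.map_comp_assoc, sq.w, ← Functor.map_comp_assoc, hgP]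

/-- A first order thickening pulls back to a square zero ideal on every affine scheme. -/
theorem exists_sq_pullback (hX' : IsAlgSpace X') {i : X ⟶ X'} (hi : IsFOThickMor i)
    (e : (yon S).obj (Over.mk str) ⟶ X') :
    ∃ (I : Ideal A) (fst : (yon S).obj (quotObj str I) ⟶ X),
      I ^ 2 = ⊥ ∧ IsPullback fst ((yon S).map (quotHom str I)) i e := by
  obtain ⟨I, fst, -, sq⟩ := exists_quot_pullback str hi.1 e
  obtain ⟨C, _, strC, c, B, _, φ, g, hc, ⟨hφe, hφs⟩, hg⟩ := exists_affine_chart_lift str hX' e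
  obtain ⟨J, fstC, -, sqC⟩ := exists_quot_pullback strC hi.1 c
  have hJ : J ^ 2 = ⊥ := ideal_sq_of_sqZero (hi.2 c fstC (quotHom strC J)
    (inferInstanceAs (IsAffine (Spec (CommRingCat.of C)))) hc sqC)
  obtain ⟨χ, hχ⟩ := Spec.map_surjective g.left
  -- the restriction of `I` is contained in that of `J`
  let L : Ideal B := J.map χ.hom
  have hIL : I.map φ ≤ L := by
    rw [Ideal.map_le_iff_le_comap]
    let ψ : A →+* B ⧸ L := (Ideal.Quotient.mk L).comp φ
    let q : C ⧸ J →+* B ⧸ L := Ideal.quotientMap L χ.hom Ideal.le_comap_map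
    let toB : ringObj str ψ ⟶ ringObj str φ :=
      Over.homMk (Spec.map (CommRingCat.ofHom (Ideal.Quotient.mk L))) (by
        change Spec.map _ ≫ Spec.map _ ≫ str = Spec.map _ ≫ str
        rw [← Spec.map_comp_assoc]
        rfl)
    let toJ : ringObj str ψ ⟶ quotObj strC J := Over.homMk (Spec.map (CommRingCat.ofHom q)) (by
      refine Eq.trans ?_ (Over.w (toB ≫ g))
      change Spec.map _ ≫ Spec.map _ ≫ strC = (Spec.map _ ≫ g.left) ≫ strC
      rw [← hχ, ← Spec.map_comp_assoc, ← Spec.map_comp]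
      rfl)
    have hw : toJ ≫ quotHom strC J = toB ≫ g := by
      refine Over.OverMorphism.ext ?_
      change Spec.map _ ≫ Spec.map _ = Spec.map _ ≫ g.left
      rw [← hχ, ← Spec.map_comp, ← Spec.map_comp]
      rfl
    have hB : toB ≫ ringHom str φ = ringHom str ψ := Over.OverMorphism.ext (by
      change Spec.map _ ≫ Spec.map _ = Spec.map _
      rw [← Spec.map_comp]
      rfl)
    have := le_ker_of_factor str sq ψ ((yon S).map toJ ≫ fstC) (by
      rw [Category.assoc, sqC.w, ← Functor.map_comp_assoc, hw, Functor.map_comp_assoc, hg,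
        ← Functor.map_comp_assoc, hB])
    intro x hx
    exact (Ideal.Quotient.eq_zero_iff_mem (I := L)).1 (RingHom.mem_ker.1 (this hx))
  have h2 : (I ^ 2).map φ = ⊥ := by
    rw [Ideal.map_pow, eq_bot_iff]
    refine (Ideal.pow_right_mono hIL 2).trans ?_
    rw [← Ideal.map_pow, hJ, Ideal.map_bot]
  algebraize [φ]
  have : Algebra.Etale A B := (HasRingHomProperty.Spec_iff (P := @Etale)).1 hφe
  have : Module.FaithfullyFlat A B := Module.FaithfullyFlat.of_comap_surjective fun x => hφs.surj x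
  refine ⟨I, fst, ?_, sq⟩
  rw [← Ideal.comap_map_eq_self_of_faithfullyFlat (B := B) (I ^ 2),
    show (I ^ 2).map (algebraMap A B) = ⊥ from h2, ← RingHom.ker_eq_comap_bot,
    (RingHom.injective_iff_ker_eq_bot _).1 (FaithfulSMul.algebraMap_injective A B)]

end

end Groth.AlgSp2
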