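import Groth.Agent.AlgSp2.InfLocal
import Groth.Agent.AlgSpBasic.LocP

/-!
# Formally unramified and formally étale morphisms of algebraic spaces on charts
-/

set_option autoImplicit false
set_option backward.isDefEq.respectTransparency.types false
universe u

open CategoryTheory CategoryTheory.Limits AlgebraicGeometry Opposite AlgSp

namespace Groth.AlgSp2.Inf

open Groth.AlgSpBasic

variable {S : Scheme.{u}} {X Y : Sp S} {f : X ⟶ Y} {U V : Over S} {a : (yon S).obj U ⟶ X}
  {b : (yon S).obj V ⟶ Y} {h : U ⟶ V}

theorem unramified_chart (ha : RepWith @Etale a) (hb : RepWith @Etale b)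
    (comm : a ≫ f = (yon S).map h ≫ b) (hf : IsFormallyUnramifiedMor f) :
    FormallyUnramified h.left := by
  rw [← unramified_yon_iff]
  have := unramified_comp (etale_iff.1 (etale_of_repWith ha)).2 hf
  rw [comm] at this
  exact unramified_of_comp this

theorem unramified_of_chart (ha : RepWith @Etale a) (ha' : RepWith @Surjective a)
    (hb : RepWith @Etale b) (comm : a ≫ f = (yon S).map h ≫ b) (hh : FormallyUnramified h.left) :
    IsFormallyUnramifiedMor f := by
  refine unramified_of_precomp a ha ha' ?_
  rw [comm]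
  exact unramified_comp ((unramified_yon_iff h).2 hh) (etale_iff.1 (etale_of_repWith hb)).2

theorem etale_chart (ha : RepWith @Etale a) (hb : RepWith @Etale b)
    (comm : a ≫ f = (yon S).map h ≫ b) (hf : IsFormallyEtaleMor f) :
    MoreMor.IsFormallyEtaleHom h.left := by
  rw [← etale_yon_iff]
  have := etale_comp (etale_of_repWith ha) hf
  rw [comm] at this
  exact etale_of_comp (etale_iff.1 (etale_of_repWith hb)).2 this

theorem etale_of_chart (ha : RepWith @Etale a) (ha' : RepWith @Surjective a)
    (hb : RepWith @Etale b) (comm : a ≫ f = (yon S).map h ≫ b)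
    (hh : MoreMor.IsFormallyEtaleHom h.left) : IsFormallyEtaleMor f := by
  refine etale_of_precomp a ha ha' ?_
  rw [comm]
  exact etale_comp ((etale_yon_iff h).2 hh) (etale_of_repWith hb)

theorem smooth_chart (ha : RepWith @Etale a) (hb : RepWith @Etale b)
    (comm : a ≫ f = (yon S).map h ≫ b) (hf : IsFormallySmoothMor f) :
    MoreMor.IsFormallySmoothHom h.left := by
  rw [← smooth_yon_iff]
  have := smooth_comp (etale_iff.1 (etale_of_repWith ha)).1 hf
  rw [comm] at this
  exact smooth_of_comp (etale_iff.1 (etale_of_repWith hb)).2 this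

theorem unramified_iff_locP (hX : IsAlgSpace X) (hY : IsAlgSpace Y) :
    IsFormallyUnramifiedMor f ↔ LocP @FormallyUnramified f := by
  refine ⟨fun hf U V a b h ha hb comm => unramified_chart ha hb comm hf, fun hf => ?_⟩
  obtain ⟨U, V, a, b, h, ha, ha', hb, -, comm⟩ := exists_charts hX hY f
  exact unramified_of_chart ha ha' hb comm (hf a b h ha hb comm)

theorem etale_iff_locP (hX : IsAlgSpace X) (hY : IsAlgSpace Y) :
    IsFormallyEtaleMor f ↔ LocP @MoreMor.IsFormallyEtaleHom f := by
  refine ⟨fun hf U V a b h ha hb comm => etale_chart ha hb comm hf, fun hf => ?_⟩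
  obtain ⟨U, V, a, b, h, ha, ha', hb, -, comm⟩ := exists_charts hX hY f
  exact etale_of_chart ha ha' hb comm (hf a b h ha hb comm)

/-- An étale morphism of algebraic spaces is formally étale. -/
theorem etale_of_isEtaleMor (hX : IsAlgSpace X) (hY : IsAlgSpace Y) (hf : IsEtaleMor f) :
    IsFormallyEtaleMor f := by
  obtain ⟨U, a, ha, ha'⟩ := hX.atlas
  exact etale_of_precomp a ha ha' (etale_of_repWith (hf a ha))

end Groth.AlgSp2.Inf
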