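import Groth.Agent.AlgSp2.InfNbhd
import Groth.Agent.AlgSp2.InfCharts
import Groth.Agent.Calg1.ProjDescent
import Mathlib.RingTheory.Ideal.Over
import Mathlib.RingTheory.Flat.FaithfullyFlat.Algebra

/-!
# Formal smoothness is étale local on the source
-/

set_option autoImplicit false
set_option backward.isDefEq.respectTransparency.types false
universe u

open CategoryTheory CategoryTheory.Limits AlgebraicGeometry Opposite AlgSp TensorProduct

namespace Groth.AlgSp2.Inf

open Groth.AlgSpBasic Groth.FlatmorThree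

noncomputable section

/-- Tensoring a square zero surjection gives a square zero surjection. -/
theorem sq_ker_map_eq_bot {A B E E₀ : Type u} [CommRing A] [CommRing B] [CommRing E] [CommRing E₀]
    [Algebra A B] [Algebra A E] [Algebra A E₀] (φ : E →ₐ[A] E₀) (hφ : Function.Surjective φ)
    (h : RingHom.ker φ.toRingHom ^ 2 = ⊥) :
    RingHom.ker (Algebra.TensorProduct.map (AlgHom.id A B) φ).toRingHom ^ 2 = ⊥ := by
  have e : RingHom.ker (Algebra.TensorProduct.map (AlgHom.id A B) φ).toRingHom =
      (RingHom.ker φ.toRingHom).map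
        (Algebra.TensorProduct.includeRight : E →ₐ[A] B ⊗[A] E).toRingHom :=
    Algebra.TensorProduct.lTensor_ker φ hφ
  rw [e, ← Ideal.map_pow, h, Ideal.map_bot]

variable {S : Scheme.{u}} {F G H : Sp S} {f : F ⟶ G}

section Main

variable (sq : InfSq f) {B : Type u} [CommRing B] [Algebra sq.A B]
  [Module.FaithfullyFlat sq.A B] (N : Nbhd sq B)

include N in
/-- The descent of retractions of a square zero neighbourhood along a faithfully flat algebra. -/
theorem exists_descending_lift :
    ∃ l' : (yon S).obj (specObj sq.str B) ⟶ F,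
      (yon S).map (resJ sq B) ≫ l' = (yon S).map (resMap₀ sq B) ≫ sq.top ∧
      l' ≫ f = (yon S).map (resMap sq B) ≫ sq.bot ∧
      (yon S).map (specHom sq.str (Algebra.TensorProduct.includeLeft : B →ₐ[sq.A] B ⊗[sq.A] B)) ≫
          l' =
        (yon S).map (specHom sq.str
          (Algebra.TensorProduct.includeRight : B →ₐ[sq.A] B ⊗[sq.A] B)) ≫ l' := by
  let π : N.C →ₐ[sq.A] B ⧸ resI sq B := N.T.π.restrictScalars sq.A
  have hπs : Function.Surjective π := N.T.π_surjective
  let Φ : B ⊗[sq.A] N.C →ₐ[sq.A] B ⊗[sq.A] (B ⧸ resI sq B) :=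
    Algebra.TensorProduct.map (AlgHom.id sq.A B) π
  let inl₀ : B →ₐ[sq.A] B ⊗[sq.A] (B ⧸ resI sq B) := Algebra.TensorProduct.includeLeft
  have hJ : ∀ x ∈ resI sq B, inl₀ x = 0 := by
    intro x hx
    have hle : resI sq B ≤ RingHom.ker inl₀.toRingHom := Ideal.map_le_iff_le_comap.2 fun i hi => by
      rw [Ideal.mem_comap, RingHom.mem_ker]
      change inl₀ (algebraMap sq.A B i) = 0
      rw [AlgHom.commutes, ← (Algebra.TensorProduct.includeRight :
          (B ⧸ resI sq B) →ₐ[sq.A] B ⊗[sq.A] (B ⧸ resI sq B)).commutes i,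
        show algebraMap sq.A (B ⧸ resI sq B) i = 0 from
          Ideal.Quotient.eq_zero_iff_mem.2 (Ideal.mem_map_of_mem _ hi), map_zero]
    exact hle hx
  -- the coaction
  obtain ⟨a, halg, hmk, hZ⟩ := N.exists_map (RingHom.ker Φ.toRingHom)
    (sq_ker_map_eq_bot π hπs N.T.sq) Algebra.TensorProduct.includeLeft
    (fun x hx => by
      rw [Ideal.mem_comap, RingHom.mem_ker]
      change Φ (x ⊗ₜ[sq.A] 1) = 0
      rw [Algebra.TensorProduct.map_tmul, map_one]
      exact hJ x hx)
    Algebra.TensorProduct.includeRight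
    (fun c hc => by
      rw [Ideal.mem_comap, RingHom.mem_ker]
      change Φ ((1 : B) ⊗ₜ[sq.A] c) = 0
      rw [Algebra.TensorProduct.map_tmul, show π c = 0 from hc, TensorProduct.tmul_zero])
  have hΦa : ∀ (c : N.C) (b : B), π c = Ideal.Quotient.mk _ b → Φ (a c) = b ⊗ₜ 1 := by
    intro c b hb
    have h1 := hmk c
    rw [show N.T.π c = Ideal.Quotient.mk (resI sq B) b from hb, Ideal.quotientMap_mk,
      Ideal.Quotient.eq, RingHom.mem_ker, map_sub, sub_eq_zero] at h1
    refine h1.trans ?_
    exact (Algebra.TensorProduct.map_tmul _ _ b (1 : N.C)).trans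
      (by rw [AlgHom.id_apply, map_one])
  -- counit
  have hunit : (coactUnit : B ⊗[sq.A] N.C →ₐ[sq.A] N.C).comp a = AlgHom.id sq.A N.C := by
    refine N.unique (RingHom.ker N.T.π.toRingHom) N.T.sq _ _ (fun b => ?_) (fun c => ?_) ?_
    · simp [halg]
    · refine (Ideal.Quotient.eq).2 ?_
      rw [RingHom.mem_ker, map_sub, sub_eq_zero]
      obtain ⟨b, hb⟩ := Ideal.Quotient.mk_surjective (π c)
      let μ₀ : B ⊗[sq.A] (B ⧸ resI sq B) →ₐ[sq.A] B ⧸ resI sq B := coactUnit
      have hμ : π.comp (coactUnit : B ⊗[sq.A] N.C →ₐ[sq.A] N.C) = μ₀.comp Φ := by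
        refine Algebra.TensorProduct.ext' fun x y => ?_
        simp [μ₀, Φ, π]
      change π (coactUnit (a c)) = π c
      rw [show π (coactUnit (a c)) = μ₀ (Φ (a c)) from AlgHom.congr_fun hμ (a c),
        hΦa c b hb.symm, ← hb]
      simp [μ₀]
    · rw [← N.Z_comp, hZ, N.Z_comp]
      simp
  -- coassociativity
  have hco : (Algebra.TensorProduct.map (AlgHom.id sq.A B) a).comp a =
      (Algebra.TensorProduct.map (AlgHom.id sq.A B) Algebra.TensorProduct.includeRight).comp a := by
    let Φ₃ := Algebra.TensorProduct.map (AlgHom.id sq.A B) Φ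
    refine N.unique (RingHom.ker Φ₃.toRingHom) (sq_ker_map_eq_bot Φ
      (Algebra.TensorProduct.map_surjective (AlgHom.id sq.A B) π Function.surjective_id hπs)
      (sq_ker_map_eq_bot π hπs N.T.sq)) _ _ (fun b => ?_) (fun c => ?_) ?_
    · simp [halg, Algebra.TensorProduct.one_def]
    · refine (Ideal.Quotient.eq).2 ?_
      rw [RingHom.mem_ker, map_sub, sub_eq_zero]
      obtain ⟨b, hb⟩ := Ideal.Quotient.mk_surjective (π c)
      let g : B ⧸ resI sq B →ₐ[sq.A] B ⊗[sq.A] (B ⧸ resI sq B) := Ideal.Quotient.liftₐ _ inl₀ hJ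
      have e₁ : Φ.comp a = g.comp π := AlgHom.ext fun x => by
        obtain ⟨y, hy⟩ := Ideal.Quotient.mk_surjective (π x)
        rw [AlgHom.comp_apply, AlgHom.comp_apply, hΦa x y hy.symm, ← hy]
        rfl
      have e₂ : Φ.comp Algebra.TensorProduct.includeRight =
          (Algebra.TensorProduct.includeRight :
            (B ⧸ resI sq B) →ₐ[sq.A] B ⊗[sq.A] (B ⧸ resI sq B)).comp π :=
        Algebra.TensorProduct.map_comp_includeRight _ _
      change Φ₃ (Algebra.TensorProduct.map (AlgHom.id sq.A B) a (a c)) =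
        Φ₃ (Algebra.TensorProduct.map (AlgHom.id sq.A B) Algebra.TensorProduct.includeRight (a c))
      rw [← AlgHom.comp_apply Φ₃, ← AlgHom.comp_apply Φ₃, ← Algebra.TensorProduct.map_id_comp,
        ← Algebra.TensorProduct.map_id_comp, e₁, e₂, Algebra.TensorProduct.map_id_comp,
        Algebra.TensorProduct.map_id_comp, AlgHom.comp_apply, AlgHom.comp_apply,
        show Algebra.TensorProduct.map (AlgHom.id sq.A B) π (a c) = Φ (a c) from rfl,
        hΦa c b hb.symm, Algebra.TensorProduct.map_tmul, Algebra.TensorProduct.map_tmul,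
        map_one, map_one]
    · have r₁ : (Algebra.TensorProduct.map (AlgHom.id sq.A B) a).comp
          Algebra.TensorProduct.includeRight =
          (Algebra.TensorProduct.includeRight :
            B ⊗[sq.A] N.C →ₐ[sq.A] B ⊗[sq.A] (B ⊗[sq.A] N.C)).comp a :=
        Algebra.TensorProduct.map_comp_includeRight _ _
      have r₂ : (Algebra.TensorProduct.map (AlgHom.id sq.A B)
            (Algebra.TensorProduct.includeRight : N.C →ₐ[sq.A] B ⊗[sq.A] N.C)).comp
          Algebra.TensorProduct.includeRight =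
          (Algebra.TensorProduct.includeRight :
            B ⊗[sq.A] N.C →ₐ[sq.A] B ⊗[sq.A] (B ⊗[sq.A] N.C)).comp
            Algebra.TensorProduct.includeRight :=
        Algebra.TensorProduct.map_comp_includeRight _ _
      rw [← N.Z_comp, hZ, N.Z_comp, r₁, ← N.Z_comp, hZ, N.Z_comp]
      rw [← N.Z_comp a, hZ, N.Z_comp, r₂]
  -- the descended algebra
  let C := AlgHom.equalizer a (Algebra.TensorProduct.includeRight : N.C →ₐ[sq.A] B ⊗[sq.A] N.C)
  let ψ := Algebra.TensorProduct.productMap (IsScalarTower.toAlgHom sq.A B N.C) C.val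
  have hψ : Function.Bijective ψ := bijective_of_coaction a halg
    (fun x => AlgHom.congr_fun hunit x) (fun x => AlgHom.congr_fun hco x)
  have hψt : ∀ (b : B) (c : C), ψ (b ⊗ₜ c) = algebraMap B N.C b * (c : N.C) := fun b c =>
    Algebra.TensorProduct.productMap_apply_tmul _ _ b c
  let q : sq.A ⧸ sq.I →ₐ[sq.A] B ⧸ resI sq B :=
    Ideal.Quotient.liftₐ sq.I (Algebra.ofId sq.A (B ⧸ resI sq B)) fun i hi =>
      Ideal.Quotient.eq_zero_iff_mem.2 (Ideal.mem_map_of_mem _ hi)
  have hq : Function.Injective q := by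
    rw [injective_iff_map_eq_zero]
    intro x hx
    obtain ⟨x, rfl⟩ := Ideal.Quotient.mk_surjective x
    rw [Ideal.Quotient.eq_zero_iff_mem]
    have h2 : x ∈ Ideal.comap (algebraMap sq.A B) (Ideal.map (algebraMap sq.A B) sq.I) :=
      Ideal.mem_comap.2 ((Ideal.Quotient.eq_zero_iff_mem (I := resI sq B)).1 hx)
    rwa [Ideal.comap_map_eq_self_of_faithfullyFlat (B := B) sq.I] at h2
  have hrange : ∀ c : C, π (c : N.C) ∈ q.range := by
    intro c
    obtain ⟨b, hb⟩ := Ideal.Quotient.mk_surjective (π (c : N.C))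
    have h1 : (b ⊗ₜ (1 : B ⧸ resI sq B) : B ⊗[sq.A] (B ⧸ resI sq B)) = 1 ⊗ₜ π (c : N.C) := by
      rw [← hΦa _ b hb.symm, show a (c : N.C) = (1 : B) ⊗ₜ (c : N.C) from c.2]
      exact Algebra.TensorProduct.map_tmul _ _ _ _
    let R := LinearMap.range q.toLinearMap
    have h2 := congrArg (LinearMap.lTensor B R.mkQ) h1
    rw [LinearMap.lTensor_tmul, LinearMap.lTensor_tmul,
      show R.mkQ 1 = 0 from (Submodule.Quotient.mk_eq_zero R).2 ⟨1, map_one q⟩,
      TensorProduct.tmul_zero] at h2
    obtain ⟨y, hy⟩ := (Submodule.Quotient.mk_eq_zero R).1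
      ((Module.FaithfullyFlat.tensorProduct_mk_injective (A := sq.A) (B := B) _)
        (h2.symm.trans (TensorProduct.tmul_zero _ (1 : B)).symm))
    exact ⟨y, hy⟩
  let πC : C →ₐ[sq.A] sq.A ⧸ sq.I :=
    ((AlgEquiv.ofInjective q hq).symm : _ →ₐ[sq.A] _).comp ((π.comp C.val).codRestrict q.range hrange)
  have hπC : ∀ c : C, q (πC c) = π (c : N.C) := fun c =>
    congrArg Subtype.val ((AlgEquiv.ofInjective q hq).apply_symm_apply _)
  let T : Thick sq.I C := ⟨πC, by
    rw [pow_two, eq_bot_iff, Ideal.mul_le]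
    intro x hx y hy
    rw [Ideal.mem_bot]
    refine Subtype.ext (N.T.mul_eq_zero ?_ ?_)
    · change π (x : N.C) = 0
      rw [← hπC, show πC x = 0 from hx, map_zero]
    · change π (y : N.C) = 0
      rw [← hπC, show πC y = 0 from hy, map_zero]⟩
  have hinj : Function.Injective (algebraMap sq.A C) := fun x y h => by
    have h' : algebraMap B N.C (algebraMap sq.A B x) = algebraMap B N.C (algebraMap sq.A B y) := by
      rw [← IsScalarTower.algebraMap_apply, ← IsScalarTower.algebraMap_apply]
      exact congrArg Subtype.val h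
    exact FaithfulSMul.algebraMap_injective sq.A B (N.inj h')
  -- projectivity of the descended cokernel
  have hproj : Module.Projective (sq.A ⧸ sq.I) T.Coker := by
    have tw : IsScalarTower sq.A (sq.A ⧸ sq.I) (B ⧸ resI sq B) :=
      IsScalarTower.of_algebraMap_eq fun _ => rfl
    let mP : Module (sq.A ⧸ sq.I) N.T.Coker := Module.compHom _ q.toRingHom
    have halgq : ∀ x, algebraMap (sq.A ⧸ sq.I) (B ⧸ resI sq B) x = q x := fun x => by
      obtain ⟨x, rfl⟩ := Ideal.Quotient.mk_surjective x
      rfl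
    have twP : IsScalarTower (sq.A ⧸ sq.I) (B ⧸ resI sq B) N.T.Coker :=
      IsScalarTower.of_algebraMap_smul fun r m => by rw [halgq]; rfl
    have hker : ∀ x y : C, T.cls x = T.cls y → N.T.cls (x : N.C) = N.T.cls (y : N.C) := by
      intro x y h
      rw [← sub_eq_zero, ← map_sub, T.cls_eq_zero] at h
      obtain ⟨z, hz⟩ := h
      rw [← sub_eq_zero, ← map_sub, N.T.cls_eq_zero]
      exact ⟨algebraMap sq.A B z, by
        rw [← IsScalarTower.algebraMap_apply]; exact congrArg Subtype.val hz⟩
    choose r hr using T.cls_surjective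
    let g : T.Coker →ₗ[sq.A ⧸ sq.I] N.T.Coker :=
      { toFun := fun x => N.T.cls (r x : N.C)
        map_add' := fun x y => by
          rw [← map_add, ← Subalgebra.coe_add]
          exact hker _ _ (by rw [hr, map_add, hr, hr])
        map_smul' := fun s x => by
          obtain ⟨s, rfl⟩ := Ideal.Quotient.mk_surjective s
          refine (hker (r (Ideal.Quotient.mk sq.I s • x)) (algebraMap sq.A C s * r x) ?_).trans ?_
          · rw [hr, ← Algebra.smul_def, map_smul, hr, ← Ideal.Quotient.algebraMap_eq,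
              algebraMap_smul]
          · rw [RingHom.id_apply, MulMemClass.coe_mul,
              show ((algebraMap sq.A C s : C) : N.C) = algebraMap B N.C (algebraMap sq.A B s) from
                IsScalarTower.algebraMap_apply sq.A B N.C s,
              ← Algebra.smul_def, map_smul]
            change _ = q (Ideal.Quotient.mk sq.I s) • N.T.cls (r x : N.C)
            rw [show q (Ideal.Quotient.mk sq.I s) = algebraMap B (B ⧸ resI sq B) (algebraMap sq.A B s)
              from rfl]
            exact (algebraMap_smul (B ⧸ resI sq B) _ _).symm }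
    have hg : ∀ c : C, g (T.cls c) = N.T.cls (c : N.C) := fun c => hker _ _ (hr _)
    let Ψ := g.liftBaseChange (B ⧸ resI sq B)
    let G₀ : B ⊗[sq.A] C →ₗ[sq.A] (B ⧸ resI sq B) ⊗[sq.A ⧸ sq.I] T.Coker :=
      TensorProduct.lift (LinearMap.mk₂ sq.A
        (fun b c => Ideal.Quotient.mk (resI sq B) b ⊗ₜ[sq.A ⧸ sq.I] T.cls c)
        (fun b b' c => by rw [map_add, TensorProduct.add_tmul])
        (fun s b c => by
          rw [show Ideal.Quotient.mk (resI sq B) (s • b) = s • Ideal.Quotient.mk (resI sq B) b from rfl,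
            TensorProduct.smul_tmul'])
        (fun b c c' => by rw [map_add, TensorProduct.tmul_add])
        (fun s b c => by
          rw [map_smul, ← algebraMap_smul (sq.A ⧸ sq.I) s (T.cls c), TensorProduct.tmul_smul,
            algebraMap_smul]))
    have hG : ∀ w, Ψ (G₀ w) = N.T.cls (ψ w) := by
      intro w
      induction w with
      | zero => simp
      | tmul b c =>
        rw [hψt, ← Algebra.smul_def, map_smul]
        simp only [G₀, Ψ, TensorProduct.lift.tmul, LinearMap.mk₂_apply,
          LinearMap.liftBaseChange_tmul, hg]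
        rw [show Ideal.Quotient.mk (resI sq B) b = algebraMap B (B ⧸ resI sq B) b from rfl,
          algebraMap_smul]
      | add x y hx hy => simp only [map_add, hx, hy]
    have hG₀ : Function.Surjective G₀ := by
      intro z
      induction z with
      | zero => exact ⟨0, map_zero _⟩
      | tmul s x =>
        obtain ⟨b, rfl⟩ := Ideal.Quotient.mk_surjective s
        obtain ⟨c, rfl⟩ := T.cls_surjective x
        exact ⟨b ⊗ₜ c, rfl⟩
      | add x y hx hy =>
        obtain ⟨v, rfl⟩ := hx
        obtain ⟨w, rfl⟩ := hy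
        exact ⟨v + w, map_add _ _ _⟩
    have hΨ : Function.Bijective Ψ := by
      refine ⟨(injective_iff_map_eq_zero Ψ).2 fun z hz => ?_, fun x => ?_⟩
      · obtain ⟨w, rfl⟩ := hG₀ z
        rw [hG, N.T.cls_eq_zero] at hz
        obtain ⟨b, hb⟩ := hz
        rw [hψ.1 (hb.symm.trans (show algebraMap B N.C b = ψ (b ⊗ₜ (1 : C)) by simp [hψt]))]
        simp [G₀, T.cls_one]
      · obtain ⟨c, rfl⟩ := N.T.cls_surjective x
        obtain ⟨w, rfl⟩ := hψ.2 c
        exact ⟨G₀ w, hG w⟩
    have := N.proj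
    have : Module.FaithfullyFlat (sq.A ⧸ sq.I) (B ⧸ resI sq B) :=
      Module.FaithfullyFlat.of_linearEquiv _ _
        (Algebra.TensorProduct.quotIdealMapEquivQuotTensor B sq.I).toLinearEquiv
    have : Module.Projective (B ⧸ resI sq B) ((B ⧸ resI sq B) ⊗[sq.A ⧸ sq.I] T.Coker) :=
      Module.Projective.of_equiv (LinearEquiv.ofBijective Ψ hΨ).symm
    exact Groth.Calg1.projective_descent (S := B ⧸ resI sq B) T.Coker
  obtain ⟨φ, hφ⟩ := T.exists_retraction hinj
  let e := AlgEquiv.ofBijective ψ hψ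
  let φ' : N.C →ₐ[sq.A] B :=
    (Algebra.TensorProduct.productMap (AlgHom.id sq.A B) ((Algebra.ofId sq.A B).comp φ)).comp
      (e.symm : N.C →ₐ[sq.A] B ⊗[sq.A] C)
  have hφ'ψ : ∀ b c, φ' (ψ (b ⊗ₜ c)) = b * algebraMap sq.A B (φ c) := fun b c => by
    change Algebra.TensorProduct.productMap _ _ (e.symm (e (b ⊗ₜ c))) = _
    rw [e.symm_apply_apply, Algebra.TensorProduct.productMap_apply_tmul]
    rfl
  refine ⟨N.Z φ', N.Z_top φ' fun x => ?_, N.Z_f φ', ?_⟩
  · obtain ⟨w, rfl⟩ := hψ.2 x
    induction w with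
    | zero => simp
    | tmul b c =>
      rw [hφ'ψ, hψt, map_mul, map_mul, N.T.π.commutes]
      refine congrArg (_ * ·) ?_
      change _ = π (c : N.C)
      rw [← hπC, ← hφ c]
      rfl
    | add v w hv hw => simp only [map_add, hv, hw]
  · rw [N.Z_comp, N.Z_comp]
    have key : (Algebra.TensorProduct.map (AlgHom.id sq.A B) φ').comp a =
        (Algebra.TensorProduct.includeLeft : B →ₐ[sq.A] B ⊗[sq.A] B).comp φ' := by
      refine AlgHom.ext fun x => ?_
      obtain ⟨w, rfl⟩ := hψ.2 x
      induction w with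
      | zero => simp
      | tmul b c =>
        rw [AlgHom.comp_apply, AlgHom.comp_apply, hφ'ψ, hψt, map_mul, halg,
          show a (c : N.C) = (1 : B) ⊗ₜ (c : N.C) from c.2, map_mul,
          Algebra.TensorProduct.includeLeft_apply, Algebra.TensorProduct.includeLeft_apply,
          Algebra.TensorProduct.map_tmul, Algebra.TensorProduct.map_tmul, map_one,
          show φ' (c : N.C) = algebraMap sq.A B (φ c) by
            rw [← one_mul (algebraMap sq.A B (φ c)), ← hφ'ψ, hψt, map_one, one_mul],
          AlgHom.id_apply, AlgHom.id_apply, Algebra.TensorProduct.tmul_mul_tmul, mul_one, one_mul,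
          Algebra.algebraMap_eq_smul_one,
          TensorProduct.tmul_smul, TensorProduct.smul_tmul', mul_smul_comm, mul_one]
      | add v w hv hw => simp only [map_add, hv, hw]
    rw [← key, ← N.Z_comp, hZ, N.Z_comp, Algebra.TensorProduct.map_comp_includeRight]

end Main

/-- Formal smoothness descends along representable étale coverings of the source. -/
theorem smooth_of_precomp (a : H ⟶ F) (ha : RepWith @Etale a) (ha' : RepWith @Surjective a)
    (hrep : Representable (a ≫ f)) (hab : IsFormallySmoothMor (a ≫ f)) :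
    IsFormallySmoothMor f := by
  intro sq
  obtain ⟨B, iB, aB, m₀, hB, hs, hm₀⟩ := exists_cover_lift sq ha ha'
  obtain ⟨W, k, wfst, hW⟩ := hrep sq.bot
  have hk : MoreMor.IsFormallySmoothHom k.left :=
    (smooth_yon_iff k).1 (smooth_baseChange hW hab)
  obtain ⟨N⟩ := nonempty_nbhd sq B (etale_of_repWith ha) hW hk m₀ hm₀
  have : Algebra.Etale sq.A B := hB
  have : Module.FaithfullyFlat sq.A B :=
    Module.FaithfullyFlat.of_comap_surjective fun x => hs.surj x
  obtain ⟨l', h₁, h₂, h₃⟩ := exists_descending_lift sq N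
  refine hasLift_of_cover sq B l' h₁ h₂ fun Z p q hpq => ?_
  have hP := isPullback_tensor sq B
  calc (yon S).map p ≫ l' = (yon S).map (hP.lift p q hpq) ≫ (yon S).map (specHom sq.str
        (Algebra.TensorProduct.includeLeft : B →ₐ[sq.A] B ⊗[sq.A] B)) ≫ l' := by
          rw [← Functor.map_comp_assoc, hP.lift_fst]
    _ = (yon S).map (hP.lift p q hpq) ≫ (yon S).map (specHom sq.str
        (Algebra.TensorProduct.includeRight : B →ₐ[sq.A] B ⊗[sq.A] B)) ≫ l' := by rw [h₃]
    _ = (yon S).map q ≫ l' := by rw [← Functor.map_comp_assoc, hP.lift_snd]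

variable {X Y : Sp S} {g : X ⟶ Y} {U V : Over S} {a : (yon S).obj U ⟶ X}
  {b : (yon S).obj V ⟶ Y} {h : U ⟶ V}

theorem smooth_of_chart (hY : IsAlgSpace Y) (ha : RepWith @Etale a) (ha' : RepWith @Surjective a)
    (hb : RepWith @Etale b) (comm : a ≫ g = (yon S).map h ≫ b)
    (hh : MoreMor.IsFormallySmoothHom h.left) : IsFormallySmoothMor g := by
  refine smooth_of_precomp a ha ha' (hY.representable_from_yon _) ?_
  rw [comm]
  exact smooth_comp ((smooth_yon_iff h).2 hh) (etale_iff.1 (etale_of_repWith hb)).1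

theorem smooth_iff_locP (hX : IsAlgSpace X) (hY : IsAlgSpace Y) :
    IsFormallySmoothMor g ↔ LocP @MoreMor.IsFormallySmoothHom g := by
  refine ⟨fun hf U V a b h ha hb comm => smooth_chart ha hb comm hf, fun hf => ?_⟩
  obtain ⟨U, V, a, b, h, ha, ha', hb, -, comm⟩ := exists_charts hX hY g
  exact smooth_of_chart hY ha ha' hb comm (hf a b h ha hb comm)

end

end Groth.AlgSp2.Inf
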