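import Groth.Agent.SmallExt.Scheme
import Groth.Agent.AlgSp2.InfSmooth
import Groth.Agent.AlgSp2.InfFOThick
import Groth.Agent.AlgSpBasic.LocP
import Groth.Agent.FlatMor2.NoethFibre
import Groth.Prelude.Def_AlgSp2

/-!
# Smoothness of morphisms of algebraic spaces via small extensions
-/

set_option autoImplicit false
set_option backward.isDefEq.respectTransparency.types false
universe u

open CategoryTheory CategoryTheory.Limits AlgebraicGeometry AlgSp

namespace Groth.AlgSp2

open Groth.AlgSpBasic

noncomputable section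

variable {S : Scheme.{u}} {X Y : Sp S}

/-- Étale schemes over a locally Noetherian space are locally Noetherian. -/
theorem isLocallyNoetherian_of_etale (hY : IsAlgSpace Y) (hN : IsLocNoethSp Y) {V : Over S}
    {b : (yon S).obj V ⟶ Y} (hb : RepWith @Etale b) : IsLocallyNoetherian V.left := by
  obtain ⟨U₀, φ, hφ, hφs, hU₀⟩ := hN
  have : IsLocallyNoetherian U₀.left := hU₀
  obtain ⟨W, w₁, w₂, hW⟩ := exists_pullback_of_diag hY.diag φ b
  have : Etale w₁.left := repWith_fst_of_isPullback hW.flip hb
  have : Etale w₂.left := repWith_fst_of_isPullback hW hφ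
  have : Surjective w₂.left := repWith_fst_of_isPullback hW hφs
  have : IsLocallyNoetherian W.left := LocallyOfFiniteType.isLocallyNoetherian w₁.left
  exact Groth.FlatMor2.isLocallyNoetherian_of_flat_surjective w₂.left

/-- The map of a surjection of rings over the base. -/
abbrev smallHom {B' B : Type u} [CommRing B'] [CommRing B] (π : B' →+* B)
    (s : Spec (CommRingCat.of B') ⟶ S) :
    Over.mk (Spec.map (CommRingCat.ofHom π) ≫ s) ⟶ Over.mk s :=
  Over.homMk (Spec.map (CommRingCat.ofHom π)) rfl

/-- The closed subscheme of a surjection is the quotient by its kernel. -/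
theorem exists_quot_iso {B' B : Type u} [CommRing B'] [CommRing B] (π : B' →+* B)
    (hπ : Function.Surjective π) (s : Spec (CommRingCat.of B') ⟶ S) :
    ∃ m : quotObj s (RingHom.ker π) ≅ Over.mk (Spec.map (CommRingCat.ofHom π) ≫ s),
      m.hom ≫ smallHom π s = quotHom s (RingHom.ker π) := by
  let I := RingHom.ker π
  let e := RingHom.quotientKerEquivOfSurjective hπ
  have e₁ : π = e.toRingHom.comp (Ideal.Quotient.mk I) := RingHom.ext fun x => rfl
  let m : Over.mk (Spec.map (CommRingCat.ofHom (Ideal.Quotient.mk I)) ≫ s) ≅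
      Over.mk (Spec.map (CommRingCat.ofHom π) ≫ s) :=
    Over.isoMk (Scheme.Spec.mapIso e.toCommRingCatIso.op).symm (by
      change Spec.map (CommRingCat.ofHom e.symm.toRingHom) ≫ Spec.map _ ≫ s = Spec.map _ ≫ s
      rw [← Spec.map_comp_assoc]
      refine congrArg (· ≫ s) (congrArg Spec.map ?_)
      ext x
      exact e.symm_apply_apply (Ideal.Quotient.mk I x))
  have hm : m.hom ≫ smallHom π s = quotHom s I := by
    refine Over.OverMorphism.ext ?_
    change Spec.map (CommRingCat.ofHom e.symm.toRingHom) ≫ Spec.map _ = Spec.map _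
    rw [← Spec.map_comp]
    refine congrArg Spec.map ?_
    ext x
    exact e.symm_apply_apply (Ideal.Quotient.mk I x)
  exact ⟨m, hm⟩

/-- Maps along a square zero surjection into a formally unramified morphism are unique. -/
theorem small_unique {f : X ⟶ Y} (hf : IsFormallyUnramifiedMor f) {B' B : Type u} [CommRing B']
    [CommRing B] (π : B' →+* B) (hπ : Function.Surjective π) (hI : RingHom.ker π ^ 2 = ⊥)
    (s : Spec (CommRingCat.of B') ⟶ S) {l l' : (yon S).obj (Over.mk s) ⟶ X}
    (h₁ : (yon S).map (smallHom π s) ≫ l = (yon S).map (smallHom π s) ≫ l') (h₂ : l ≫ f = l' ≫ f) :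
    l = l' := by
  obtain ⟨m, hm⟩ := exists_quot_iso π hπ s
  have e : (yon S).map (quotHom s (RingHom.ker π)) ≫ l = (yon S).map (quotHom s (RingHom.ker π)) ≫ l' := by
    rw [← hm, Functor.map_comp_assoc, h₁, ← Functor.map_comp_assoc]
  let sq : InfSq f :=
    { A := B', I := RingHom.ker π, sq_zero := hI, str := s,
      top := (yon S).map (quotHom s (RingHom.ker π)) ≫ l, bot := l ≫ f,
      comm := Category.assoc _ _ _ }
  exact hf sq l l' rfl rfl e.symm h₂.symm

/-- Formally smooth morphisms lift along small extensions. -/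
theorem exists_small_lift {f : X ⟶ Y} (hf : IsFormallySmoothMor f) {B' B : Type u} [CommRing B']
    [CommRing B] [Nontrivial B] [IsLocalRing B'] (π : B' →+* B) (t : B')
    (hπ : Function.Surjective π) (hker : RingHom.ker π = Ideal.span {t})
    (ht : ∀ a ∈ IsLocalRing.maximalIdeal B', a * t = 0) (s : Spec (CommRingCat.of B') ⟶ S)
    (α : (yon S).obj (Over.mk (Spec.map (CommRingCat.ofHom π) ≫ s)) ⟶ X)
    (β : (yon S).obj (Over.mk s) ⟶ Y) (w : α ≫ f = (yon S).map (smallHom π s) ≫ β) :
    ∃ γ : (yon S).obj (Over.mk s) ⟶ X, (yon S).map (smallHom π s) ≫ γ = α ∧ γ ≫ f = β := by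
  let I := RingHom.ker π
  have htm : t ∈ IsLocalRing.maximalIdeal B' := IsLocalRing.le_maximalIdeal (RingHom.ker_ne_top π)
    (hker ▸ Ideal.mem_span_singleton_self t)
  have hI : I ^ 2 = ⊥ := by
    rw [pow_two, show I = Ideal.span {t} from hker, Ideal.span_singleton_mul_span_singleton,
      ht t htm, Ideal.span_singleton_eq_bot]
  obtain ⟨m, hm⟩ := exists_quot_iso π hπ s
  let sq : InfSq f :=
    { A := B', I := I, sq_zero := hI, str := s, top := (yon S).map m.hom ≫ α, bot := β,
      comm := (by
        change ((yon S).map m.hom ≫ α) ≫ f = (yon S).map (quotHom s I) ≫ β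
        rw [Category.assoc, w, ← Functor.map_comp_assoc, hm]) }
  obtain ⟨γ, hγ₁, hγ₂⟩ := hf sq
  refine ⟨γ, ?_, hγ₂⟩
  rw [← cancel_epi ((yon S).map m.hom), ← Functor.map_comp_assoc, hm]
  exact hγ₁

theorem smooth_iff_small_lifts (hX : IsAlgSpace X) (hY : IsAlgSpace Y) (f : X ⟶ Y)
    (hN : IsLocNoethSp Y) (hft : LocP @LocallyOfFiniteType f) :
    LocP @Smooth f ↔
      ∀ (B' B : Type u) [CommRing B'] [CommRing B] [IsLocalRing B'] [IsLocalRing B]
        [IsArtinianRing B'] [IsArtinianRing B] (π : B' →+* B), Function.Surjective π →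
        (∃ t : B', RingHom.ker π = Ideal.span {t} ∧ ∀ a ∈ IsLocalRing.maximalIdeal B', a * t = 0) →
        ∀ (s : Spec (CommRingCat.of B') ⟶ S)
          (α : (yon S).obj (Over.mk (Spec.map (CommRingCat.ofHom π) ≫ s)) ⟶ X)
          (β : (yon S).obj (Over.mk s) ⟶ Y),
          LocP @LocallyOfFiniteType β →
          α ≫ f = (yon S).map (smallHom π s) ≫ β →
          ∃ γ : (yon S).obj (Over.mk s) ⟶ X, (yon S).map (smallHom π s) ≫ γ = α ∧ γ ≫ f = β := by
  constructor
  · intro hf B' B _ _ _ _ _ _ π hπ ⟨t, hker, ht⟩ s α β _ w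
    have hfs : IsFormallySmoothMor f := (Inf.smooth_iff_locP hX hY).2 fun U V a b h ha hb comm =>
      have : Smooth h.left := hf a b h ha hb comm
      Groth.FlatmorThree.SmoothLift.isFormallySmoothHom_of_smooth h.left
    exact exists_small_lift hfs π t hπ hker ht s α β w
  · intro H U V a b h ha hb comm
    have : IsLocallyNoetherian V.left := isLocallyNoetherian_of_etale hY hN hb
    have : LocallyOfFiniteType h.left := hft a b h ha hb comm
    refine Groth.SmallExt.smooth_of_hasSmallLiftsHom h.left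
      fun B' B _ _ _ _ _ _ φ t hφ hker ht α β hβ w => ?_
    let s := β ≫ V.hom
    let α' : Over.mk (Spec.map (CommRingCat.ofHom φ) ≫ s) ⟶ U := Over.homMk α (by
      change α ≫ U.hom = Spec.map _ ≫ β ≫ V.hom
      rw [← Over.w h, ← Category.assoc, ← w, Category.assoc])
    let β' : Over.mk s ⟶ V := Over.homMk β rfl
    have hw : α' ≫ h = smallHom φ s ≫ β' := Over.OverMorphism.ext w.symm
    have hβb : LocP @LocallyOfFiniteType ((yon S).map β' ≫ b) :=
      locP_comp (IsAlgSpace.yon_obj _) (IsAlgSpace.yon_obj _) hY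
        (locP_of_repWith ((repWith_yon_map_iff _ β').2 hβ))
        (locP_of_repWith (repWith_mono (Q := @LocallyOfFiniteType)
          (fun _ _ g (hg : Etale g) => (inferInstance : LocallyOfFiniteType g)) hb))
    obtain ⟨γ, hγ₁, hγ₂⟩ := H B' B φ hφ ⟨t, hker, ht⟩ s ((yon S).map α' ≫ a) ((yon S).map β' ≫ b) hβb
      (by rw [Category.assoc, comm, ← Functor.map_comp_assoc, hw, Functor.map_comp_assoc])
    obtain ⟨γ', hγ'₁, hγ'₂⟩ := exists_small_lift (etale_iff.1 (Inf.etale_of_repWith ha)).1 φ t hφ hker
      ht s ((yon S).map α') γ hγ₁.symm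
    obtain ⟨γ'', rfl⟩ := (yon S).map_surjective γ'
    have e₁ : smallHom φ s ≫ γ'' = α' := (yon S).map_injective (by rw [Functor.map_comp, hγ'₁])
    refine ⟨γ''.left, congrArg CommaMorphism.left e₁, ?_⟩
    -- compare with `β`
    have e₂ : γ'' ≫ h = β' := by
      refine (yon S).map_injective ?_
      have htm : t ∈ IsLocalRing.maximalIdeal B' := IsLocalRing.le_maximalIdeal (RingHom.ker_ne_top φ)
        (hker ▸ Ideal.mem_span_singleton_self t)
      have hI : RingHom.ker φ ^ 2 = ⊥ := by
        rw [pow_two, hker, Ideal.span_singleton_mul_span_singleton, ht t htm,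
          Ideal.span_singleton_eq_bot]
      refine small_unique (etale_iff.1 (Inf.etale_of_repWith hb)).2 φ hφ hI s ?_ ?_
      · rw [← Functor.map_comp, ← Functor.map_comp]
        exact congrArg _ ((Category.assoc _ _ _).symm.trans ((congrArg (· ≫ h) e₁).trans hw))
      · rw [Functor.map_comp, Category.assoc, ← comm, ← Category.assoc, hγ'₂, hγ₂]
    exact congrArg CommaMorphism.left e₂

end

end Groth.AlgSp2
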