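import Groth.Agent.AlgSpCartier.ClosedSub
import Groth.Agent.FlatmorThree.AffineComplement
import Groth.Agent.PicAux.RegularUFD
import Groth.Agent.AlgSpBasic.Compact
import Groth.Agent.AlgSpBasic.Sep
import Groth.Agent.AlgSp2.InfSmallExt
import Groth.Agent.AlgSpBasic.SchematicPieces
import Groth.Agent.AlgSpBasic.Immersion
import Groth.Agent.S0065
import Groth.Agent.S2821

/-!
# The complement of a dense affine open of a regular separated space is a Cartier divisor
-/

set_option autoImplicit false
set_option backward.isDefEq.respectTransparency.types false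
set_option linter.style.haveILetI false

universe u

open CategoryTheory CategoryTheory.Limits AlgebraicGeometry TopologicalSpace Opposite AlgSp

namespace Groth.AlgSp2.ComplCartier

open Groth.AlgSpBasic Groth.AlgSpCartier

variable {S : Scheme.{u}}

theorem exists_effCartier_compl [S.IsSeparated] (X : AlgSp.Space S)
    (hreg : AlgSp.EtaleLocally (fun U => IsLocallyNoetherian U ∧
      ∀ u : ↥U, IsRegularLocalRing ↥(U.presheaf.stalk u)) X.obj)
    (hqc : AlgSp.IsQuasiCompactSp X.obj) (hsep : AlgSp.IsSeparatedSp X.obj)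
    (T : Over S) [IsAffine T.left] (j : (AlgSp.yon S).obj T ⟶ X.obj)
    (hj : AlgSp.RepWith @IsOpenImmersion j)
    (hdense : Dense (Set.range (AlgSp.Points.ofPt j))) :
    ∃ (D : AlgSp.Space S) (i : D ⟶ X), AlgSp.IsEffCartierSub i.hom ∧
      Set.range (AlgSp.Points.map i.hom) = (Set.range (AlgSp.Points.ofPt j))ᶜ := by
  obtain ⟨V, φ, hVa, hφ, hφs⟩ := exists_affine_chart X.property hqc
  haveI := hVa
  -- `V` is locally Noetherian with regular local rings
  obtain ⟨W, w, hw, hws, hWN, hWr⟩ := hreg
  obtain ⟨M, m₁, m₂, hM⟩ := exists_pullback_of_diag X.property.diag φ w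
  haveI : Etale m₁.left := repWith_fst_of_isPullback hM.flip hw
  haveI : Surjective m₁.left := repWith_fst_of_isPullback hM.flip hws
  haveI : Etale m₂.left := repWith_fst_of_isPullback hM hφ
  haveI := hWN
  haveI : IsLocallyNoetherian V.left :=
    Groth.AlgSp2.isLocallyNoetherian_of_etale X.property ⟨W, w, hw, hws, hWN⟩ hφ
  have hVr : ∀ v : V.left, IsRegularLocalRing (V.left.presheaf.stalk v) := fun v => by
    obtain ⟨m, rfl⟩ := m₁.left.surjective v
    exact (Groth.Agent.S0065.result m₁.left m).1 ((Groth.Agent.S0065.result m₂.left m).2 (hWr _))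
  -- the trace of the affine open on `V`
  obtain ⟨P, p₁, p₂, sqP⟩ := exists_pullback_of_diag X.property.diag j φ
  haveI : IsOpenImmersion p₂.left := repWith_fst_of_isPullback sqP hj
  let U : V.left.Opens := p₂.left.opensRange
  have hU : IsAffineOpen U := by
    haveI : IsClosedImmersion (prod.lift p₁ p₂).left := prop_lift_of_repWith_diag hsep sqP
    haveI : IsAffineHom V.hom := IsAffineHom.of_comp V.hom (terminal.from S)
    haveI : IsAffineHom (prod.fst : T ⨯ V ⟶ T).left :=
      MorphismProperty.of_isPullback (isPullback_prod_left T V).flip ‹IsAffineHom V.hom›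
    haveI : IsAffine (T ⨯ V).left := isAffine_of_isAffineHom (prod.fst : T ⨯ V ⟶ T).left
    haveI : IsAffine P.left := isAffine_of_isAffineHom (prod.lift p₁ p₂).left
    exact isAffineOpen_opensRange p₂.left
  have hrange : (U : Set V.left) = Points.ofPt φ ⁻¹' Set.range (Points.ofPt j) := by
    rw [show Set.range (Points.ofPt j) = Set.range (Points.map j) from ?_]
    · exact range_left_eq_preimage sqP
    · refine le_antisymm ?_ ?_
      · rintro _ ⟨u, rfl⟩
        exact ⟨Points.ofScheme _ u, (ofPt_eq_map _ _).symm⟩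
      · rintro _ ⟨x, rfl⟩
        obtain ⟨u, rfl⟩ := (Points.schemeHomeo T).surjective x
        exact ⟨u, ofPt_eq_map _ _⟩
  have hUd : Dense (U : Set V.left) := by
    rw [hrange]; exact hdense.preimage (isOpenMap_ofPt_of_etale hφ)
  have hT : IsOpen (Set.range (Points.ofPt j)) := (isOpenEmbedding_ofPt hj).isOpen_range
  have hC := Groth.FlatmorThree.AffineCompl.isEffCartierIdeal_compl (X := V.left)
    (fun x => by
      haveI := hVr x
      obtain ⟨h₁, h₂⟩ := Groth.Agent.S2821.result (V.left.presheaf.stalk x)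
      exact ⟨h₁, h₂⟩)
    (fun A B hA hB => hA.inf hB) hU hUd
  have hI : IsInvariant φ (Scheme.IdealSheafData.vanishingIdeal U.compl) := by
    intro R t s sq
    haveI : Etale s.left := repWith_fst_of_isPullback sq hφ
    haveI : Etale t.left := repWith_fst_of_isPullback sq.flip hφ
    rw [comap_vanishingIdeal, comap_vanishingIdeal]
    congr 1
    refine SetLike.coe_injective (Set.ext fun r => ?_)
    show t.left r ∈ (U : Set V.left)ᶜ ↔ s.left r ∈ (U : Set V.left)ᶜ
    rw [hrange, Set.mem_compl_iff, Set.mem_compl_iff, Set.mem_preimage, Set.mem_preimage,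
      ← ofPt_comp_yon, ← ofPt_comp_yon, sq.w]
  obtain ⟨D, i, fst, hD, hi, sq⟩ := exists_closedSub_of_isInvariant X.property hφ hφs hI
  refine ⟨⟨D, hD⟩, ObjectProperty.homMk i, ⟨hi, V, φ, _, fst, hφ, hφs, sq, hC⟩, ?_⟩
  refine Set.preimage_injective.2 (surjective_ofPt_of_repWith hφs) ?_
  show Points.ofPt φ ⁻¹' Set.range (Points.map i) = _
  rw [← range_left_eq_preimage sq, Set.preimage_compl, ← hrange]
  show Set.range (Scheme.IdealSheafData.vanishingIdeal U.compl).subschemeι = _
  rw [Scheme.IdealSheafData.range_subschemeι, Scheme.IdealSheafData.coe_support_vanishingIdeal]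
  rfl

end Groth.AlgSp2.ComplCartier
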