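import Groth.Agent.AlgSpBasic.DecentSpectral
import Groth.Agent.AlgSpBasic.EtaleLocalSets
import Groth.Agent.EGA41Two.ConsTop

/-!
# Constructible subsets of the points of a quasi-separated algebraic space
-/

set_option autoImplicit false
set_option backward.isDefEq.respectTransparency.types false
universe u

open CategoryTheory CategoryTheory.Limits AlgebraicGeometry Opposite TopologicalSpace Topology AlgSp
open Groth.AlgSpBasic

namespace Groth.AlgSp2.ConstructiblePoints

variable {S : Scheme.{u}} {X : Sp S}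

/-- The inverse image of the image of a quasi-compact scheme in a quasi-compact scheme over a
quasi-separated space is quasi-compact. -/
theorem isCompact_preimage_range [QuasiSeparatedSpace ↥S] (hX : IsAlgSpace X)
    (hqs : IsQuasiSeparatedSp X) {A B : Over S} [CompactSpace ↥A.left] [CompactSpace ↥B.left]
    (a : (yon S).obj A ⟶ X) (b : (yon S).obj B ⟶ X) :
    IsCompact (AlgSp.Points.ofPt a ⁻¹' Set.range (AlgSp.Points.ofPt b)) := by
  obtain ⟨W, fst, snd, sq⟩ := exists_pullback_of_diag hX.diag a b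
  have : QuasiCompact (prod.lift fst snd).left := prop_lift_of_repWith_diag hqs sq
  have : QuasiCompact A.hom := inferInstance
  have : CompactSpace ↥(pullback A.hom B.hom) :=
    QuasiCompact.compactSpace_of_compactSpace (pullback.snd A.hom B.hom)
  have : CompactSpace ↥(A ⨯ B).left :=
    (Over.prodLeftIsoPullback A B).inv.homeomorph.compactSpace
  have : CompactSpace ↥W.left :=
    QuasiCompact.compactSpace_of_compactSpace (prod.lift fst snd).left
  have e : AlgSp.Points.ofPt a ⁻¹' Set.range (AlgSp.Points.ofPt b) = Set.range fst.left := by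
    ext v
    constructor
    · rintro ⟨w, hw⟩
      obtain ⟨z, hz, -⟩ := (ofPt_eq_ofPt_iff sq v w).1 hw.symm
      exact ⟨z, hz⟩
    · rintro ⟨z, rfl⟩
      exact ⟨snd.left z, ((ofPt_eq_ofPt_iff sq _ _).2 ⟨z, rfl, rfl⟩).symm⟩
  rw [e]
  exact isCompact_range fst.left.continuous

/-- An affine open chart through a given point of an etale chart. -/
theorem exists_affine_chart_at {U : Over S} {p : (yon S).obj U ⟶ X} (hp : RepWith @Etale p)
    {u : ↥U.left} {W : Set ↥U.left} (hW : IsOpen W) (hu : u ∈ W) :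
    ∃ (A : U.left.Opens), IsAffineOpen A ∧ u ∈ A ∧ (A : Set ↥U.left) ⊆ W ∧
      ∃ (a : (yon S).obj (Over.mk (A.ι ≫ U.hom)) ⟶ X), RepWith @Etale a ∧
        ∀ v, AlgSp.Points.ofPt a v = AlgSp.Points.ofPt p (A.ι v) := by
  obtain ⟨A, hA, huA, hAW⟩ := exists_isAffineOpen_mem_and_subset (X := U.left) (x := u)
    (U := ⟨W, hW⟩) hu
  let jA : Over.mk (A.ι ≫ U.hom) ⟶ U := Over.homMk A.ι rfl
  have : Etale jA.left := inferInstanceAs (Etale A.ι)
  exact ⟨A, hA, huA, hAW, (yon S).map jA ≫ p,
    repWith_comp ((repWith_yon_map_iff _ jA).2 ‹_›) hp, fun v => ofPt_comp_yon jA p v⟩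

section
variable [QuasiSeparatedSpace ↥S] (hX : IsAlgSpace X) (hqs : IsQuasiSeparatedSp X)
include hX hqs

theorem isCompact_preimage_of_isOpen {A : Over S} [CompactSpace ↥A.left]
    (a : (yon S).obj A ⟶ X) {t : Set (AlgSp.Points X)} (ho : IsOpen t) (hc : IsCompact t) :
    IsCompact (AlgSp.Points.ofPt a ⁻¹' t) := by
  obtain ⟨U, p, hp, hps⟩ := hX.atlas
  have key : ∀ y : t, ∃ (B : Over S) (b : (yon S).obj B ⟶ X), CompactSpace ↥B.left ∧
      IsOpen (Set.range (AlgSp.Points.ofPt b)) ∧ (y : AlgSp.Points X) ∈ Set.range (AlgSp.Points.ofPt b) ∧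
      Set.range (AlgSp.Points.ofPt b) ⊆ t := by
    rintro ⟨y, hy⟩
    obtain ⟨u, rfl⟩ := surjective_ofPt_of_repWith hps y
    obtain ⟨B, hB, huB, hBW, b, hb, hbp⟩ := exists_affine_chart_at hp
      (ho.preimage (AlgSp.Points.continuous_ofPt p)) hy
    refine ⟨_, b, isCompact_iff_compactSpace.1 hB.isCompact,
      (isOpenMap_ofPt_of_etale hb).isOpen_range, ⟨⟨u, huB⟩, hbp _⟩, ?_⟩
    rintro _ ⟨v, rfl⟩
    rw [hbp]
    exact hBW v.2
  choose B b hBc hBo hBy hBt using key
  obtain ⟨s, hs⟩ := hc.elim_finite_subcover (fun y => Set.range (AlgSp.Points.ofPt (b y))) hBo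
    fun y hy => Set.mem_iUnion.2 ⟨⟨y, hy⟩, hBy _⟩
  have e : t = ⋃ y ∈ s, Set.range (AlgSp.Points.ofPt (b y)) :=
    hs.antisymm (Set.iUnion₂_subset fun y _ => hBt y)
  rw [e, Set.preimage_iUnion₂]
  exact s.isCompact_biUnion fun y _ => by
    have := hBc y
    exact isCompact_preimage_range hX hqs a (b y)

theorem points_topology_instances :
    PrespectralSpace (AlgSp.Points X) ∧ QuasiSeparatedSpace (AlgSp.Points X) := by
  obtain ⟨U, p, hp, hps⟩ := hX.atlas
  let I := {A : U.left.Opens // IsAffineOpen A}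
  let O : I → Set (AlgSp.Points X) := fun A => AlgSp.Points.ofPt p '' (A.1 : Set ↥U.left)
  have hbasis : IsTopologicalBasis (Set.range O) := by
    refine isTopologicalBasis_of_isOpen_of_nhds ?_ fun y W hy hW => ?_
    · rintro _ ⟨A, rfl⟩
      exact isOpenMap_ofPt_of_etale hp _ A.1.2
    · obtain ⟨u, rfl⟩ := surjective_ofPt_of_repWith hps y
      obtain ⟨A, hA, huA, hAW⟩ := exists_isAffineOpen_mem_and_subset (X := U.left) (x := u)
        (U := ⟨AlgSp.Points.ofPt p ⁻¹' W, hW.preimage (AlgSp.Points.continuous_ofPt p)⟩) hy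
      exact ⟨O ⟨A, hA⟩, ⟨_, rfl⟩, ⟨u, huA, rfl⟩, fun z ⟨v, hv, hz⟩ => hz ▸ hAW hv⟩
  refine ⟨PrespectralSpace.of_isTopologicalBasis hbasis (by
    rintro _ ⟨A, rfl⟩
    exact A.2.isCompact.image (AlgSp.Points.continuous_ofPt p)),
    QuasiSeparatedSpace.of_isTopologicalBasis hbasis fun A B => ?_⟩
  have hO : ∀ A, O A = Set.range (AlgSp.Points.ofPt
      ((yon S).map (Over.homMk A.1.ι rfl : Over.mk (A.1.ι ≫ U.hom) ⟶ U) ≫ p)) := fun A => by
    ext y
    simp only [O, Set.mem_image, Set.mem_range, ofPt_comp_yon]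
    exact ⟨fun ⟨v, hv, e⟩ => ⟨⟨v, hv⟩, e⟩, fun ⟨v, e⟩ => ⟨_, v.2, e⟩⟩
  rw [hO A, hO B]
  have : CompactSpace ↥(Over.mk (A.1.ι ≫ U.hom)).left := isCompact_iff_compactSpace.1 A.2.isCompact
  have : CompactSpace ↥(Over.mk (B.1.ι ≫ U.hom)).left := isCompact_iff_compactSpace.1 B.2.isCompact
  exact isCompact_range_inter hX hqs _ _

theorem isConstructible_preimage_affine {A : Over S} [IsAffine A.left]
    (a : (yon S).obj A ⟶ X) (ha : RepWith @Etale a) {E : Set (AlgSp.Points X)}
    (hE : IsLocallyConstructible E) : IsConstructible (AlgSp.Points.ofPt a ⁻¹' E) := by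
  obtain ⟨_, _⟩ := points_topology_instances hX hqs
  let V := Set.range (AlgSp.Points.ofPt a)
  have hVo : IsOpen V := (isOpenMap_ofPt_of_etale ha).isOpen_range
  have hVc : IsCompact V := isCompact_range (AlgSp.Points.continuous_ofPt a)
  have hsub : ∀ t : Set (AlgSp.Points X), AlgSp.Points.ofPt a ⁻¹' (t ∩ V) = AlgSp.Points.ofPt a ⁻¹' t :=
    fun t => by ext v; simp [V]
  rw [← hsub E]
  refine (hE.inter_of_isOpen_isCompact hVo hVc).preimage (AlgSp.Points.continuous_ofPt a)
    fun t ho ht => ?_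
  have h1 : IsCompact (t ∩ V) := ht hVc hVo
  have h2 := isCompact_preimage_of_isOpen hX hqs a (ho.inter hVo) h1
  rw [hsub t] at h2
  exact h2.isRetrocompact (ho.preimage (AlgSp.Points.continuous_ofPt a))

theorem isLocallyConstructible_preimage {A : Over S} (a : (yon S).obj A ⟶ X)
    (ha : RepWith @Etale a) {E : Set (AlgSp.Points X)} (hE : IsLocallyConstructible E) :
    IsLocallyConstructible (AlgSp.Points.ofPt a ⁻¹' E) := by
  intro u
  obtain ⟨B, hB, huB, -, b, hb, hbp⟩ := exists_affine_chart_at ha isOpen_univ (Set.mem_univ u)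
  refine ⟨B, B.2.mem_nhds huB, B.2, ?_⟩
  have : IsAffine (Over.mk (B.ι ≫ A.hom)).left := hB
  have h := isConstructible_preimage_affine hX hqs b hb hE
  have e : (AlgSp.Points.ofPt b ⁻¹' E) =
      (Subtype.val ⁻¹' (AlgSp.Points.ofPt a ⁻¹' E) : Set ↥(B : Set ↥A.left)) := by
    ext v
    exact iff_of_eq (congrArg (· ∈ E) (hbp v))
  rw [e] at h
  exact h

theorem isLocallyConstructible_of_preimage_sp {E : Set (AlgSp.Points X)}
    (h : ∀ (U : Over S) (a : (yon S).obj U ⟶ X), RepWith @Etale a →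
      IsLocallyConstructible (AlgSp.Points.ofPt a ⁻¹' E)) :
    IsLocallyConstructible E := by
  obtain ⟨_, _⟩ := points_topology_instances hX hqs
  have hd := isDecent_of_qs hX hqs
  have : T0Space (AlgSp.Points X) := t0Space_of_isDecent hX hd
  have : QuasiSober (AlgSp.Points X) := quasiSober_of_isDecent hX hd
  intro y
  obtain ⟨U, p, hp, hps⟩ := hX.atlas
  obtain ⟨u, rfl⟩ := surjective_ofPt_of_repWith hps y
  obtain ⟨B, hB, huB, -, b, hb, hbp⟩ := exists_affine_chart_at hp isOpen_univ (Set.mem_univ u)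
  let A : Over S := Over.mk (B.ι ≫ U.hom)
  have : IsAffine A.left := hB
  let V := Set.range (AlgSp.Points.ofPt b)
  have hVo : IsOpen V := (isOpenMap_ofPt_of_etale hb).isOpen_range
  have hVc : IsCompact V := isCompact_range (AlgSp.Points.continuous_ofPt b)
  refine ⟨V, hVo.mem_nhds ⟨⟨u, huB⟩, hbp _⟩, hVo, ?_⟩
  have : CompactSpace V := isCompact_iff_compactSpace.1 hVc
  have hemb := hVo.isOpenEmbedding_subtypeVal
  have : PrespectralSpace V := hemb.prespectralSpace
  have : QuasiSeparatedSpace V := QuasiSeparatedSpace.of_isOpenEmbedding hemb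
  have : QuasiSober V := hemb.quasiSober
  have : SpectralSpace V := {}
  have : SpectralSpace ↥A.left := {}
  let g : ↥A.left → V := Set.rangeFactorization (AlgSp.Points.ofPt b)
  have hgc : Continuous g := (AlgSp.Points.continuous_ofPt b).subtype_mk _
  have hgs : IsSpectralMap g := ⟨hgc, fun t ho hc => by
    have h2 := isCompact_preimage_of_isOpen hX hqs b (hemb.isOpenMap t ho) (hc.image continuous_subtype_val)
    convert h2 using 1
    ext v
    exact ⟨fun hv => ⟨g v, hv, rfl⟩, fun ⟨w, hw, e⟩ => by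
      have e' : g v = w := Subtype.ext e.symm
      show g v ∈ t
      rwa [e']⟩⟩
  have hT : IsConstructible (AlgSp.Points.ofPt b ⁻¹' E) := (h A b hb).isConstructible
  have hcl : ∀ T : Set ↥A.left, IsConstructible T → IsClosed[constructibleTopology V] (g '' T) :=
    fun T hT => @IsCompact.isClosed V (constructibleTopology V) Groth.SpectralTopology.t2Space_ct _
      (@IsCompact.image _ _ (constructibleTopology ↥A.left) (constructibleTopology V) T g
        (Groth.SpectralTopology.isCompact_ct_of_isClosed_ct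
          (Groth.SpectralTopology.isClopen_ct_of_isConstructible hT).1)
        (Groth.SpectralTopology.continuous_ct hgs))
  have e1 : g '' (AlgSp.Points.ofPt b ⁻¹' E) = Subtype.val ⁻¹' E :=
    Set.image_preimage_eq (f := g) (Subtype.val ⁻¹' E : Set V) Set.rangeFactorization_surjective
  have e2 : g '' (AlgSp.Points.ofPt b ⁻¹' E)ᶜ = (Subtype.val ⁻¹' E)ᶜ :=
    Set.image_preimage_eq (f := g) (Subtype.val ⁻¹' E : Set V)ᶜ Set.rangeFactorization_surjective
  refine Groth.EGA41Two.isConstructible_of_isClopen_ct ⟨e1 ▸ hcl _ hT, ?_⟩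
  rw [← @isClosed_compl_iff V (constructibleTopology V), ← e2]
  exact hcl _ hT.compl

end

end Groth.AlgSp2.ConstructiblePoints
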