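import Groth.Agent.AlgSp3.CutOut

/-!
# Factorisation of a scheme point through a closed subspace
-/

set_option autoImplicit false
set_option backward.isDefEq.respectTransparency.types false
universe u

open CategoryTheory CategoryTheory.Limits AlgebraicGeometry AlgSp Groth.AlgSpBasic Groth.AlgSp3

namespace Groth.AlgSp2.CutOutFactor

variable {S : Scheme.{u}}

/-- A point with values in a scheme factors through a closed subspace iff it kills its ideal. -/
theorem exists_lift_iff_le_idealOfRep {Z X : Sp S} (hX : IsAlgSpace X) {i : Z ⟶ X}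
    {I : IdealEt X} (hZ : IsCutOutBy I i) {T : Over S} (h : (yon S).obj T ⟶ X)
    (hh : Representable h) : (∃ k, k ≫ i = h) ↔ I ≤ idealOfRep hh := by
  obtain ⟨hi, rfl⟩ := hZ
  constructor
  · rintro ⟨k, hk⟩ E hE a ha
    rw [mem_idealOfRep_iff] at ha ⊢
    obtain ⟨l, hl⟩ := (yon S).map_surjective ((EtOver.isPullback_bcObj hi.1 E).lift
      ((EtOver.bcObj hh E).obj.hom ≫ k) ((yon S).map (EtOver.bcπ hh E)) (by
        rw [Category.assoc, hk]; exact (EtOver.isPullback_bcObj hh E).w))
    have e : l ≫ EtOver.bcπ hi.1 E = EtOver.bcπ hh E := (yon S).map_injective (by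
      rw [Functor.map_comp, hl, IsPullback.lift_snd])
    rw [← e, Over.comp_left]
    erw [Scheme.Hom.comp_appTop]
    show l.left.appTop ((EtOver.bcπ hi.1 E).left.appTop a) = 0
    erw [ha]
    exact map_zero _
  · intro hle
    obtain ⟨U, p, hp, hps⟩ := hX.atlas
    obtain ⟨J, fJ, sqJ⟩ := Groth.AlgSpCartier.exists_ideal hi p
    obtain ⟨W, α, a, sqW⟩ := exists_pullback_yon hp.rep h
    have ha : RepWith @Etale ((yon S).map a) := repWith_of_isPullback sqW hp
    have has : RepWith @Surjective ((yon S).map a) := repWith_of_isPullback sqW hps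
    refine (exists_lift_iff_comap_eq_bot_of_chart hi sqJ h ha has sqW.w.symm).2 ?_
    simp only [Over.homMk_left, Scheme.IdealSheafData.ker_subschemeι]
    let P := {q : W.left.affineOpens × U.left.affineOpens // q.1.1 ≤ α.left ⁻¹ᵁ q.2.1}
    refine Scheme.IdealSheafData.ext_of_iSup_eq_top (fun q : P => q.1.1) ?_ fun q => ?_
    · refine eq_top_iff.2 fun x _ => TopologicalSpace.Opens.mem_iSup.2 ?_
      obtain ⟨_, ⟨O, hO, rfl⟩, hxO, -⟩ := U.left.isBasis_affineOpens.exists_subset_of_mem_open
        (Set.mem_univ (α.left x)) isOpen_univ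
      obtain ⟨_, ⟨O', hO', rfl⟩, hxO', hle'⟩ := W.left.isBasis_affineOpens.exists_subset_of_mem_open
        (show x ∈ α.left ⁻¹ᵁ O from hxO) (α.left ⁻¹ᵁ O).isOpen
      exact ⟨⟨(⟨O', hO'⟩, ⟨O, hO⟩), hle'⟩, hxO'⟩
    · obtain ⟨⟨W', O⟩, hq⟩ := q
      let E : EtOver X := affObj p hp O.1
      have hE : IsAffine E.obj.left.left := O.2
      obtain ⟨K, fK, sqK⟩ := Groth.AlgSpCartier.exists_ideal hi E.obj.hom
      have hK := Groth.AlgSpCartier.idealOfRep_ideal hi E hE K fK sqK
      have : IsAffine E.obj.left.left := hE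
      have : IsAffine (Over.mk (O.1.ι ≫ U.hom)).left := hE
      let jO : Over.mk (O.1.ι ≫ U.hom) ⟶ U := Over.homMk O.1.ι
      have hJK : J.comap jO.left = K := Groth.AlgSpCartier.comap_eq_of_isPullback sqJ sqK jO rfl
      rw [Groth.BlowUpBasics.ideal_comap α.left J O W' hq, Scheme.IdealSheafData.ideal_bot,
        Pi.bot_apply, Ideal.map_eq_bot_iff_le_ker]
      intro r hr
      rw [RingHom.mem_ker]
      let Wo : Over S := Over.mk (W'.1.ι ≫ W.hom)
      let jW : Wo ⟶ W := Over.homMk W'.1.ι
      let β : Wo ⟶ Over.mk (O.1.ι ≫ U.hom) := Over.homMk (α.left.resLE O.1 W'.1 hq) (by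
        show α.left.resLE O.1 W'.1 hq ≫ O.1.ι ≫ U.hom = W'.1.ι ≫ W.hom
        rw [← Category.assoc, Scheme.Hom.resLE_comp_ι, Category.assoc, Over.w])
      have hβ : β ≫ jO = jW ≫ α := Over.OverMorphism.ext (Scheme.Hom.resLE_comp_ι _ _)
      obtain ⟨m, hm⟩ := (yon S).map_surjective ((EtOver.isPullback_bcObj hh E).lift
        ((yon S).map (jW ≫ a)) ((yon S).map β) (by
          show _ = (yon S).map β ≫ (yon S).map jO ≫ p
          rw [← Category.assoc ((yon S).map β), ← Functor.map_comp, hβ, Functor.map_comp,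
            Functor.map_comp, Category.assoc, Category.assoc, ← sqW.w]))
      have e : m ≫ EtOver.bcπ hh E = β := (yon S).map_injective (by
        rw [Functor.map_comp, hm, IsPullback.lift_snd])
      have hrI : O.1.topIso.inv r ∈ (idealOfRep hi.1).ideal E hE := by
        rw [hK, ← hJK]
        erw [Groth.BlowUpBasics.ideal_comap jO.left J O ⟨⊤, isAffineOpen_top _⟩
          (by intro x _; exact x.2)]
        have he : jO.left.appLE O.1 ⊤ (by intro x _; exact x.2) = O.1.topIso.inv := by
          show O.1.ι.appLE O.1 ⊤ (by intro x _; exact x.2) = _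
          rw [Scheme.Hom.appLE, Scheme.Opens.ι_app, Scheme.Opens.topIso_inv]
          erw [← Functor.map_comp]
          rfl
        rw [← he]
        exact Ideal.mem_map_of_mem _ hr
      have h0 : (EtOver.bcπ hh E).left.appTop (O.1.topIso.inv r) = 0 :=
        (mem_idealOfRep_iff hh E hE _).1 (hle E hE hrI)
      have h1 : β.left.appTop (O.1.topIso.inv r) = 0 := by
        rw [← e, Over.comp_left]
        erw [Scheme.Hom.comp_appTop]
        show m.left.appTop ((EtOver.bcπ hh E).left.appTop (O.1.topIso.inv r)) = 0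
        erw [h0]
        exact map_zero _
      have h2 : α.left.appLE O.1 W'.1 hq =
          O.1.topIso.inv ≫ β.left.appTop ≫ W'.1.topIso.hom := by
        show _ = O.1.topIso.inv ≫ (α.left.resLE O.1 W'.1 hq).app ⊤ ≫ _
        rw [Scheme.Hom.resLE_app_top]
        erw [Category.assoc, Category.assoc, Iso.inv_hom_id, Category.comp_id,
          Iso.inv_hom_id_assoc]
      rw [h2]
      show W'.1.topIso.hom (β.left.appTop (O.1.topIso.inv r)) = 0
      erw [h1]
      exact map_zero _

end Groth.AlgSp2.CutOutFactor
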