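import Groth.Agent.AlgSp2.Decency

/-!
Decency is Zariski local on the space; a decent space étale-covered by a point is a point.
-/

universe u

open CategoryTheory CategoryTheory.Limits AlgebraicGeometry Opposite

noncomputable section

namespace Groth.AlgSp2

open AlgSp

variable {S : Scheme.{u}}

theorem repWith_monomorphisms_of_openImmersion {F G : Sp S} {j : F ⟶ G}
    (hj : RepWith @IsOpenImmersion j) : RepWith (MorphismProperty.monomorphisms Scheme.{u}) j :=
  AlgSpBasic.repWith_mono (fun _ _ φ (h : IsOpenImmersion φ) => (inferInstance : Mono φ)) hj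

/-- Decency is Zariski local on the space. -/
theorem isDecent_of_openCover {X : Sp S} (hX : IsAlgSpace X) {ι : Type u} {Y : ι → Sp S}
    (j : ∀ i, Y i ⟶ X) (hj : ∀ i, RepWith @IsOpenImmersion (j i))
    (hcov : ∀ x : Points X, ∃ i, x ∈ Set.range (Points.map (j i)))
    (hd : ∀ i, IsDecent (Y i)) : IsDecent X := by
  have hmono : ∀ i, Mono (j i) := fun i =>
    AlgSpBasic.monomorphisms_repWith_mono (repWith_monomorphisms_of_openImmersion (hj i))
  intro x
  obtain ⟨i, y, rfl⟩ := hcov x
  obtain ⟨p, rfl, hm, -⟩ := hd i y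
  have := hmono i
  refine ⟨p.map (j i), (Points.map_mk _ _).symm, ?_, ?_⟩
  · rw [FieldPt.toHom_map]; exact @mono_comp _ _ _ _ _ _ hm _ inferInstance
  generalize hq' : p.map (j i) = q
  have hqm : Mono q.toHom := by
    rw [← hq', FieldPt.toHom_map]; exact @mono_comp _ _ _ _ _ _ hm _ inferInstance
  clear hq' hm this p
  clear i
  have : MorphismProperty.RespectsIso @QuasiCompact.{u} :=
    MorphismProperty.IsStableUnderBaseChange.respectsIso
  refine AlgSpBasic.repWith_of_representable (representable_fieldPt hX q)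
    fun W V g fstV sndV sq => ?_
  obtain ⟨fstV, rfl⟩ := (yon S).map_surjective fstV
  choose Wi w gi sqW using fun i => (hj i).rep g
  have hw : ∀ i, IsOpenImmersion (w i).left := fun i => (hj i).property g _ _ (sqW i)
  have hU : (⨆ i, (w i).left.opensRange : W.left.Opens) = ⊤ := by
    refine TopologicalSpace.Opens.ext (Set.eq_univ_of_forall fun t => ?_)
    obtain ⟨i, y, hy⟩ := hcov (Points.ofPt g t)
    obtain ⟨v, -, hv⟩ := (AlgSpBasic.map_eq_ofPt_iff (sqW i) y t).1 hy
    exact TopologicalSpace.Opens.mem_iSup.2 ⟨i, v, hv⟩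
  rw [IsZariskiLocalAtTarget.iff_of_iSup_eq_top (P := @QuasiCompact) _ hU]
  intro i
  have := hw i
  refine (MorphismProperty.arrow_mk_iso_iff @QuasiCompact
    (morphismRestrictOpensRange sndV.left (w i).left)).2 ?_
  have hb := (IsPullback.of_hasPullback sndV (w i)).map (Over.forget S)
  suffices QuasiCompact (pullback.snd sndV (w i)).left by
    rw [show (pullback.snd sndV.left (w i).left) =
      hb.isoPullback.inv ≫ (pullback.snd sndV (w i)).left from hb.isoPullback_inv_snd.symm]
    exact ((MorphismProperty.cancel_left_of_respectsIso @QuasiCompact hb.isoPullback.inv _).2 this :)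
  rcases isEmpty_or_nonempty ↥(pullback sndV (w i)).left with hE | ⟨⟨v⟩⟩
  · infer_instance
  have := hmono i
  -- `q` factors through `Y i`
  obtain ⟨E, e₁, f₂, sqE⟩ := (hj i).rep q.toHom
  have : IsOpenImmersion e₁.left := (hj i).property q.toHom _ _ sqE
  obtain ⟨lv, hlv⟩ := (yon S).map_surjective (sqE.lift ((yon S).map (pullback.snd sndV (w i)) ≫ gi i)
    ((yon S).map (pullback.fst sndV (w i) ≫ fstV)) (by
      rw [Category.assoc, (sqW i).w, ← Functor.map_comp_assoc, ← pullback.condition,
        Functor.map_comp_assoc, Functor.map_comp_assoc, ← sq.w]))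
  have : Nonempty E.left := ⟨lv.left v⟩
  have : Mono e₁.left := inferInstance
  have : IsIso e₁.left := isIso_of_mono_to_field (K := q.K) e₁.left
  have : IsIso ((Over.forget S).map e₁) := this
  have : IsIso e₁ := isIso_of_reflects_iso e₁ (Over.forget S)
  let pl : (yon S).obj q.pt ⟶ Y i := CategoryTheory.inv ((yon S).map e₁) ≫ f₂
  have hpl : pl ≫ j i = q.toHom := by
    rw [Category.assoc, sqE.w, IsIso.inv_hom_id_assoc]
  have hplm : Mono pl := mono_of_mono_fac hpl
  obtain ⟨p', hp', hm', hqc'⟩ := hd i (Points.mk (ofHom pl))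
  have : Mono (ofHom pl).toHom := by rw [toHom_ofHom]; exact hplm
  obtain ⟨e, he⟩ := exists_iso_of_mono (ofHom pl) p' hqc'.rep hp'.symm
  have hplqc : RepWith @QuasiCompact pl := by
    rw [toHom_ofHom] at he
    rw [← he]
    exact ((MorphismProperty.cancel_left_of_respectsIso (RepWith @QuasiCompact)
      ((yon S).map e.hom) p'.toHom).2 hqc' :)
  have big := ((IsPullback.of_hasPullback sndV (w i)).map (yon S)).paste_horiz sq
  exact hplqc.property (gi i) _ _ (isPullback_of_comp_mono big hpl (sqW i).w)

/-- A decent space with an étale cover by the spectrum of a field is the spectrum of a field. -/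
theorem exists_iso_field_of_isDecent {X : Sp S} (hXs : IsAlgSpace X) (hX : IsDecent X) {k : Type u}
    [Field k] {str : Spec (CommRingCat.of k) ⟶ S} (p : (yon S).obj (Over.mk str) ⟶ X)
    (hp : RepWith @Etale p) (hs : RepWith @Surjective p) :
    ∃ (k' : Type u) (_ : Field k') (str' : Spec (CommRingCat.of k') ⟶ S)
      (e : (yon S).obj (Over.mk str') ≅ X) (c : Over.mk str ⟶ Over.mk str'),
      (yon S).map c ≫ e.hom = p ∧ IsFinite c.left ∧ Etale c.left := by
  obtain ⟨q, hq, hm, -⟩ := hX (Points.mk (ofHom p))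
  obtain ⟨A, a₁, a₂, sq⟩ := AlgSpBasic.exists_pullback_yon hp.rep q.toHom
  have : Mono a₁ := (yon S).mono_of_mono_map (mono_fst_of_isPullback sq)
  obtain ⟨a, -, -⟩ := (AlgSpBasic.ofPt_eq_ofPt_iff sq (IsLocalRing.closedPoint k)
    (IsLocalRing.closedPoint q.K)).1 ((ofPt_field p _).trans (hq.symm.trans (Points.ofPt_toHom q _).symm))
  have : Nonempty A.left := ⟨a⟩
  have : IsIso ((Over.forget S).map a₁) := isIso_of_mono_to_field (K := k) a₁.left
  have : IsIso a₁ := isIso_of_reflects_iso a₁ (Over.forget S)
  let c := CategoryTheory.inv a₁ ≫ a₂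
  have hc : (yon S).map c ≫ q.toHom = p := by
    rw [Functor.map_comp, Category.assoc, ← sq.w, ← Functor.map_comp_assoc, IsIso.inv_hom_id,
      CategoryTheory.Functor.map_id, Category.id_comp]
  have := AlgSpBasic.isLocallySurjective_of_etale p hp hs
  have : Epi q.toHom := epi_of_epi_fac hc
  have : IsIso q.toHom := isIso_of_mono_of_epi q.toHom
  have : (RepWith (S := S) @Etale).IsStableUnderBaseChange := AlgSp.repWith_isStableUnderBaseChange _
  have : MorphismProperty.RespectsIso (RepWith (S := S) @Etale) :=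
    MorphismProperty.IsStableUnderBaseChange.respectsIso
  have hce : RepWith @Etale ((yon S).map c) := by
    rw [← hc] at hp
    exact ((MorphismProperty.cancel_right_of_respectsIso (RepWith @Etale) _ q.toHom).1 hp :)
  have : Etale c.left := (repWith_yon_map_iff _ c).1 hce
  have : LocallyQuasiFinite c.left := locallyQuasiFinite_of_etale _
  have : Finite ↥(Over.mk str).left := inferInstanceAs (Finite (Spec (CommRingCat.of k)))
  exact ⟨q.K, inferInstance, q.str, asIso q.toHom, c, hc,
    @isFinite_of_finite _ ‹Finite ↥(Over.mk str).left› q.K _ c.left ‹_›, ‹Etale c.left›⟩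

end Groth.AlgSp2
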