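import Groth.Agent.AlgSp2.FlatFibreScheme
import Groth.Agent.AlgSp2.ChartBaseChangeTower
import Groth.Agent.AlgSp2.InfSmallExt
import Groth.Prelude.Def_AlgSpMor5

/-!
# The criterion of flatness by fibres for algebraic spaces
-/

set_option autoImplicit false
set_option backward.isDefEq.respectTransparency.types false
universe u

open CategoryTheory CategoryTheory.Limits AlgebraicGeometry Opposite AlgSp

namespace Groth.AlgSp2.FlatFib

open Groth.AlgSpBasic Groth.AlgSp3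

noncomputable section

variable {S : Scheme.{u}} {X Y Z : Sp S}

/-- All fibres of `f` over the points of `Z` are flat. -/
def FlatFibres (f : X ⟶ Y) (h : Y ⟶ Z) : Prop :=
  ∀ (K : Type u) [Field K] (sK : Spec (CommRingCat.of K) ⟶ S)
    (z : (yon S).obj (Over.mk sK) ⟶ Z) (Xz Yz : Sp S)
    (pX : Xz ⟶ X) (qX : Xz ⟶ (yon S).obj (Over.mk sK))
    (pY : Yz ⟶ Y) (qY : Yz ⟶ (yon S).obj (Over.mk sK)) (fz : Xz ⟶ Yz),
    IsPullback pX qX (f ≫ h) z → IsPullback pY qY h z → fz ≫ pY = pX ≫ f → fz ≫ qY = qX →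
    LocP @Flat fz

variable (hX : IsAlgSpace X) (hY : IsAlgSpace Y) (hZ : IsAlgSpace Z) {f : X ⟶ Y} {g : Y ⟶ Z}

include hX hY hZ in
theorem flat_fiberMap (hfib : FlatFibres f g) {U V W : Over S} {a : (yon S).obj U ⟶ X}
    {b : (yon S).obj V ⟶ Y} {c : (yon S).obj W ⟶ Z} {h : U ⟶ V} {k : V ⟶ W}
    (ha : RepWith @Etale a) (hb : RepWith @Etale b) (hc : RepWith @Etale c)
    (comm : a ≫ f = (yon S).map h ≫ b) (comm₂ : b ≫ g = (yon S).map k ≫ c)
    (comm₃ : a ≫ f ≫ g = (yon S).map (h ≫ k) ≫ c) (w : ↥W.left) :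
    Flat (MoreMor.fiberMap h.left k.left w) := by
  let sK : Spec (CommRingCat.of (W.left.residueField w)) ⟶ S := W.left.fromSpecResidueField w ≫ W.hom
  let t : Over.mk sK ⟶ W := Over.homMk (W.left.fromSpecResidueField w) rfl
  let z : (yon S).obj (Over.mk sK) ⟶ Z := (yon S).map t ≫ c
  have hT := IsAlgSpace.yon_obj (Over.mk sK)
  have sM := IsPullback.of_hasPullback c z
  have hM : IsAlgSpace (pullback c z) := isAlgSpace_of_isPullback sM hZ.diag (IsAlgSpace.yon_obj W) hT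
  let σ : (yon S).obj (Over.mk sK) ⟶ pullback c z :=
    sM.lift ((yon S).map t) (𝟙 _) (by rw [Category.id_comp])
  have hσ : IsEtaleMor σ := by
    refine isEtaleMor_of_comp hT hM hT ?_ (isEtaleMor_of_isPullback (IsAlgSpace.yon_obj W) hZ hT sM
      (isEtaleMor_of_locP hZ (locP_of_repWith hc)))
    rw [sM.lift_snd]; exact isEtaleMor_id _
  let BV : Over S := Over.mk (k.left.fiberι w ≫ V.hom)
  let bV₁ : BV ⟶ V := Over.homMk (k.left.fiberι w) rfl
  let bV₂ : BV ⟶ Over.mk sK := Over.homMk (k.left.fiberToSpecResidueField w) (by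
    change _ ≫ W.left.fromSpecResidueField w ≫ W.hom = k.left.fiberι w ≫ V.hom
    rw [← Category.assoc, ← k.left.fiber_fac w, Category.assoc, Over.w k])
  have hBV : IsPullback bV₁ bV₂ k t :=
    IsPullback.of_map (Over.forget S) (Over.OverMorphism.ext (k.left.fiber_fac w))
      (IsPullback.of_hasPullback k.left (W.left.fromSpecResidueField w))
  let BU : Over S := Over.mk ((h ≫ k).left.fiberι w ≫ U.hom)
  let bU₁ : BU ⟶ U := Over.homMk ((h ≫ k).left.fiberι w) rfl
  let bU₂ : BU ⟶ Over.mk sK := Over.homMk ((h ≫ k).left.fiberToSpecResidueField w) (by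
    change _ ≫ W.left.fromSpecResidueField w ≫ W.hom = (h ≫ k).left.fiberι w ≫ U.hom
    rw [← Category.assoc, ← (h ≫ k).left.fiber_fac w, Category.assoc, Over.w (h ≫ k)])
  have hBU : IsPullback bU₁ bU₂ (h ≫ k) t :=
    IsPullback.of_map (Over.forget S) (Over.OverMorphism.ext ((h ≫ k).left.fiber_fac w))
      (IsPullback.of_hasPullback (h ≫ k).left (W.left.fromSpecResidueField w))
  have sX := IsPullback.of_hasPullback (f ≫ g) z
  have sY := IsPullback.of_hasPullback g z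
  obtain ⟨lU, hlU, hlU₁, hlU₂, -⟩ := exists_baseChange_chart hX hZ hT sX ha comm₃ hσ
    (sM.lift_fst _ _ _).symm hBU
  obtain ⟨lV, hlV, hlV₁, hlV₂, -⟩ := exists_baseChange_chart hY hZ hT sY hb comm₂ hσ
    (sM.lift_fst _ _ _).symm hBV
  let fz : pullback (f ≫ g) z ⟶ pullback g z :=
    sY.lift (pullback.fst (f ≫ g) z ≫ f) (pullback.snd (f ≫ g) z)
      (by rw [Category.assoc]; exact sX.w)
  have hfl := hfib _ sK z _ _ _ _ _ _ fz sX sY (sY.lift_fst _ _ _) (sY.lift_snd _ _ _)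
  let m : BU ⟶ BV := Over.homMk (MoreMor.fiberMap h.left k.left w) (by
    change MoreMor.fiberMap h.left k.left w ≫ k.left.fiberι w ≫ V.hom = (h ≫ k).left.fiberι w ≫ U.hom
    rw [← Category.assoc, show MoreMor.fiberMap h.left k.left w ≫ k.left.fiberι w =
      (h.left ≫ k.left).fiberι w ≫ h.left from pullback.lift_fst _ _ _, Category.assoc, Over.w h]
    rfl)
  have hm₁ : m ≫ bV₁ = bU₁ ≫ h := Over.OverMorphism.ext (pullback.lift_fst _ _ _)
  have hm₂ : m ≫ bV₂ = bU₂ := Over.OverMorphism.ext (pullback.lift_snd _ _ _)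
  refine hfl lU lV m hlU hlV (sY.hom_ext ?_ ?_)
  · rw [Category.assoc, sY.lift_fst, ← Category.assoc, hlU₁, Category.assoc, comm, Category.assoc,
      hlV₁, ← Functor.map_comp_assoc, ← Functor.map_comp_assoc, hm₁]
  · rw [Category.assoc, sY.lift_snd, hlU₂, Category.assoc, hlV₂, ← Functor.map_comp_assoc, hm₂]

include hX hY in
/-- Flatness at all points of all charts. -/
theorem locP_flat_of_forall {F : X ⟶ Y}
    (h : ∀ x : Points X, ∃ (U V : Over S) (a : (yon S).obj U ⟶ X) (b : (yon S).obj V ⟶ Y) (k : U ⟶ V)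
      (u : ↥U.left), RepWith @Etale a ∧ RepWith @Etale b ∧ a ≫ F = (yon S).map k ≫ b ∧
      Points.ofPt a u = x ∧ (k.left.stalkMap u).hom.Flat) :
    LocP @Flat F := by
  intro U V a b k ha hb comm
  refine (Flat.iff_flat_stalkMap _).2 fun u => ?_
  obtain ⟨U', V', a', b', k', u', ha', hb', comm', hu', hflat⟩ := h (Points.ofPt a u)
  exact inv_eq_of_charts etMor_flat hX.diag hY.diag ha' hb' comm' ha hb comm hu' ▸ hflat

include hX hY hZ in
theorem flat_of_flat_fibres (hfl : LocP @Flat (f ≫ g)) (hfib : FlatFibres f g)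
    (crit : ∀ {U V W : Over S} {a : (yon S).obj U ⟶ X} {b : (yon S).obj V ⟶ Y}
      {c : (yon S).obj W ⟶ Z} (h : U ⟶ V) (k : V ⟶ W), RepWith @Etale a → RepWith @Etale b →
      RepWith @Etale c → a ≫ f = (yon S).map h ≫ b → b ≫ g = (yon S).map k ≫ c →
      a ≫ f ≫ g = (yon S).map (h ≫ k) ≫ c → ∀ u : ↥U.left,
      ((h.left ≫ k.left).stalkMap u).hom.Flat →
      ((MoreMor.fiberMap h.left k.left (k.left (h.left u))).stalkMap
        ((h.left ≫ k.left).asFiber u)).hom.Flat →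
      (k.left.stalkMap (h.left u)).hom.Flat ∧ (h.left.stalkMap u).hom.Flat) :
    LocP @Flat f ∧ (IsSurjectiveMor f → LocP @Flat g) := by
  have key : ∀ x : Points X, ∃ (U V W : Over S) (a : (yon S).obj U ⟶ X) (b : (yon S).obj V ⟶ Y)
      (c : (yon S).obj W ⟶ Z) (h : U ⟶ V) (k : V ⟶ W) (u : ↥U.left),
      RepWith @Etale a ∧ RepWith @Etale b ∧ RepWith @Etale c ∧ a ≫ f = (yon S).map h ≫ b ∧
      b ≫ g = (yon S).map k ≫ c ∧ Points.ofPt a u = x ∧ Points.ofPt b (h.left u) = Points.map f x ∧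
      (k.left.stalkMap (h.left u)).hom.Flat ∧ (h.left.stalkMap u).hom.Flat := by
    intro x
    obtain ⟨U, V, W, a, b, c, h, k, u, ha, hb, hc, comm, comm₂, comm₃, hu, hv⟩ :=
      exists_chart_comp hX hY hZ f g x
    have := flat_fiberMap hX hY hZ hfib ha hb hc comm comm₂ comm₃ (k.left (h.left u))
    exact ⟨U, V, W, a, b, c, h, k, u, ha, hb, hc, comm, comm₂, hu, hv,
      crit h k ha hb hc comm comm₂ comm₃ u
        ((Flat.iff_flat_stalkMap _).1 (hfl a c (h ≫ k) ha hc comm₃ : Flat (h.left ≫ k.left)) u)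
        (Flat.stalkMap _ _)⟩
  refine ⟨locP_flat_of_forall hX hY fun x => ?_, fun hs => locP_flat_of_forall hY hZ fun y => ?_⟩
  · obtain ⟨U, V, W, a, b, c, h, k, u, ha, hb, hc, comm, comm₂, hu, hv, hk, hh⟩ := key x
    exact ⟨U, V, a, b, h, u, ha, hb, comm, hu, hh⟩
  · obtain ⟨x, rfl⟩ := hs y
    obtain ⟨U, V, W, a, b, c, h, k, u, ha, hb, hc, comm, comm₂, hu, hv, hk, hh⟩ := key x
    exact ⟨V, W, b, c, k, h.left u, hb, hc, comm₂, hv, hk⟩

/-- The lfp form. -/
theorem flat_of_flat_fibres_lfp (hX : IsAlgSpace X) (hY : IsAlgSpace Y) (hZ : IsAlgSpace Z)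
    (hfp : LocP @LocallyOfFinitePresentation (f ≫ g)) (hfl : LocP @Flat (f ≫ g))
    (hft : LocP @LocallyOfFiniteType g) (hfib : FlatFibres f g) :
    LocP @Flat f ∧ (IsSurjectiveMor f → LocP @Flat g) := by
  refine flat_of_flat_fibres hX hY hZ hfl hfib fun {U V W a b c} h k ha hb hc _ comm₂ comm₃ u h₁ h₂ => ?_
  have : LocallyOfFinitePresentation (h.left ≫ k.left) := hfp a c (h ≫ k) ha hc comm₃
  have : LocallyOfFiniteType k.left := hft b c k hb hc comm₂
  exact (Groth.FlatMor2.FibCrit.structureSheaf_iff h.left k.left u).1 ⟨h₁, h₂⟩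

/-- The locally Noetherian form. -/
theorem flat_of_flat_fibres_noetherian (hX : IsAlgSpace X) (hY : IsAlgSpace Y) (hZ : IsAlgSpace Z)
    (hXn : IsLocNoethSp X) (hYn : IsLocNoethSp Y) (hfl : LocP @Flat (f ≫ g))
    (hfib : FlatFibres f g) : LocP @Flat f ∧ (IsSurjectiveMor f → LocP @Flat g) := by
  refine flat_of_flat_fibres hX hY hZ hfl hfib fun {U V W a b c} h k ha hb hc _ _ _ u h₁ h₂ => ?_
  have := isLocallyNoetherian_of_etale hX hXn ha
  have := isLocallyNoetherian_of_etale hY hYn hb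
  exact flat_of_fibre_noetherian h.left k.left u h₁ h₂

/-! ### The flat locus -/

include hX hY in
theorem isFlatAtMor_iff_of_chart {U V : Over S} {a : (yon S).obj U ⟶ X} {b : (yon S).obj V ⟶ Y}
    {h : U ⟶ V} (ha : RepWith @Etale a) (hb : RepWith @Etale b) (comm : a ≫ f = (yon S).map h ≫ b)
    (u : ↥U.left) : IsFlatAtMor f (Points.ofPt a u) ↔ (h.left.stalkMap u).hom.Flat :=
  ⟨fun H => H a b h u ha hb comm rfl, fun H U' V' a' b' h' u' ha' hb' comm' hu' =>
    (inv_eq_of_charts etMor_flat hX.diag hY.diag ha hb comm ha' hb' comm' hu'.symm).mp H⟩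

include hX hY hZ in
theorem isOpen_flatLocus_space (hfp : LocP @LocallyOfFinitePresentation (f ≫ g))
    (hfl : LocP @Flat (f ≫ g)) (hft : LocP @LocallyOfFiniteType g) :
    IsOpen {x : Points X | IsFlatAtMor f x} := by
  obtain ⟨V, W, b, c, k, hb, hbs, hc, -, comm₂⟩ := exists_charts hY hZ g
  obtain ⟨U, a, h, ha, has, comm⟩ := exists_chart_over hX hY.diag f b hb hbs
  have comm₃ : a ≫ f ≫ g = (yon S).map (h ≫ k) ≫ c := by
    rw [Functor.map_comp, Category.assoc, ← comm₂, ← Category.assoc, comm, Category.assoc]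
  have : LocallyOfFinitePresentation (h.left ≫ k.left) := hfp a c (h ≫ k) ha hc comm₃
  have : Flat (h.left ≫ k.left) := hfl a c (h ≫ k) ha hc comm₃
  have : LocallyOfFiniteType k.left := hft b c k hb hc comm₂
  rw [← (isQuotientMap_ofPt ha has).isOpen_preimage]
  convert isOpen_flatLocus h.left k.left using 1
  ext u
  exact isFlatAtMor_iff_of_chart hX hY ha hb comm u

include hX hY hZ in
theorem preimage_flatLocus (hfp : LocP @LocallyOfFinitePresentation (f ≫ g))
    (hfl : LocP @Flat (f ≫ g)) (hft : LocP @LocallyOfFiniteType g) {X' Y' Z' : Sp S}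
    (hX' : IsAlgSpace X') (hY' : IsAlgSpace Y') (hZ' : IsAlgSpace Z') {q : Z' ⟶ Z} {f' : X' ⟶ Y'}
    {g' : Y' ⟶ Z'} {pX : X' ⟶ X} {pY : Y' ⟶ Y} (sY : IsPullback pY g' g q)
    (sX : IsPullback pX f' f pY) :
    {x' : Points X' | IsFlatAtMor f' x'} = Points.map pX ⁻¹' {x : Points X | IsFlatAtMor f x} := by
  ext x'
  obtain ⟨U, V, W, a, b, c, h, k, u, ha, hb, hc, comm, comm₂, comm₃, hu, -⟩ :=
    exists_chart_comp hX hY hZ f g (Points.map pX x')
  have sM := IsPullback.of_hasPullback c q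
  have hM : IsAlgSpace (pullback c q) := isAlgSpace_of_isPullback sM hZ.diag (IsAlgSpace.yon_obj W) hZ'
  obtain ⟨T, φ, hφ, hφs⟩ := hM.atlas
  obtain ⟨t, ht⟩ := (yon S).map_surjective (φ ≫ pullback.fst c q)
  obtain ⟨BV, bV₁, bV₂, hBV⟩ := exists_over_pullback k t
  obtain ⟨BU, bU₁, bU₂, hBU⟩ := exists_over_pullback (h ≫ k) t
  have hφe : IsEtaleMor φ := isEtaleMor_of_locP hM (locP_of_repWith hφ)
  have sXZ : IsPullback pX (f' ≫ g') (f ≫ g) q := sX.paste_vert sY
  obtain ⟨lU, hlU, hlU₁, hlU₂, hpt⟩ := exists_baseChange_chart hX hZ hZ' sXZ ha comm₃ hφe ht hBU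
  obtain ⟨lV, hlV, hlV₁, hlV₂, -⟩ := exists_baseChange_chart hY hZ hZ' sY hb comm₂ hφe ht hBV
  let m : BU ⟶ BV := hBV.lift (bU₁ ≫ h) bU₂ (by rw [Category.assoc]; exact hBU.w)
  have hm₁ : m ≫ bV₁ = bU₁ ≫ h := hBV.lift_fst _ _ _
  have hm₂ : m ≫ bV₂ = bU₂ := hBV.lift_snd _ _ _
  have comm' : lU ≫ f' = (yon S).map m ≫ lV := by
    refine sY.hom_ext ?_ ?_
    · rw [Category.assoc, ← sX.w, ← Category.assoc, hlU₁, Category.assoc, comm, Category.assoc,
        hlV₁, ← Functor.map_comp_assoc, ← Functor.map_comp_assoc, hm₁]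
    · rw [Category.assoc, hlU₂, Category.assoc, hlV₂, ← Functor.map_comp_assoc, hm₂]
  obtain ⟨z, rfl, rfl⟩ := hpt (surjective_map_of_repWith hφs) x' u hu.symm
  change IsFlatAtMor f' (Points.ofPt lU z) ↔ IsFlatAtMor f (Points.map pX (Points.ofPt lU z))
  rw [← hu, isFlatAtMor_iff_of_chart hX' hY' hlU hlV comm', isFlatAtMor_iff_of_chart hX hY ha hb comm]
  have hsV := isPullback_left hBV
  have hsm : IsPullback bU₁.left m.left h.left bV₁.left :=
    isPullback_left (IsPullback.of_bot (by rw [hm₂]; exact hBU) hm₁.symm hBV)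
  refine ⟨fun h' => ?_, fun h' =>
    Groth.Misc13.FlatBC.flat_stalkMap_baseChange hsm.flip z h'⟩
  -- descend along the extension of residue fields
  have : LocallyOfFinitePresentation (h.left ≫ k.left) := hfp a c (h ≫ k) ha hc comm₃
  have : Flat (h.left ≫ k.left) := hfl a c (h ≫ k) ha hc comm₃
  have : LocallyOfFiniteType k.left := hft b c k hb hc comm₂
  have hsU : IsPullback bU₁.left (m.left ≫ bV₂.left) (h.left ≫ k.left) t.left := by
    have := isPullback_left hBU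
    rw [← hm₂] at this
    exact this
  exact flat_descend hsV hsm hsU z h'

end

end Groth.AlgSp2.FlatFib
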