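import Groth.Agent.AlgSp2.ThickProps
import Groth.Agent.AlgSp2.FlatFibres
import Groth.Agent.AlgSp2.FpqcRep
import Groth.Agent.AlgSp2.Locality
import Groth.Agent.FlatMor2.DeformLocNil

/-!
# Morphisms of algebraic spaces over a thickened base
-/

set_option autoImplicit false
set_option backward.isDefEq.respectTransparency.types false
set_option linter.unusedVariables false
universe u

open CategoryTheory CategoryTheory.Limits AlgebraicGeometry AlgSp TopologicalSpace

namespace Groth.AlgSp2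

open Groth.AlgSpBasic

noncomputable section

variable {S : Scheme.{u}} {X X' Y Y' B B' : Sp S} {iX : X ⟶ X'} {iY : Y ⟶ Y'} {iB : B ⟶ B'}
  {f : X ⟶ Y} {f' : X' ⟶ Y'} {g : Y ⟶ B} {g' : Y' ⟶ B'}

/-- The thickenings induced by a thickening of the base. -/
theorem deform_squares (hB : IsThickMor iB) (hcX : IsPullback iX (f ≫ g) (f' ≫ g') iB)
    (hcY : IsPullback iY g g' iB) (w : iX ≫ f' = f ≫ iY) :
    IsThickMor iX ∧ IsThickMor iY ∧ IsPullback iX f f' iY :=
  have hY : IsThickMor iY := repWith_of_isPullback hcY.flip hB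
  have hc : IsPullback iX f f' iY := IsPullback.of_bot hcX w hcY
  ⟨repWith_of_isPullback hc.flip hY, hY, hc⟩

/-- The self fibre products of a morphism over a thickened base are again related by base change. -/
theorem deform_diag (hB : IsThickMor iB) (hcX : IsPullback iX (f ≫ g) (f' ≫ g') iB)
    (hcY : IsPullback iY g g' iB) (w : iX ≫ f' = f ≫ iY) :
    ∃ φ : pullback f f ⟶ pullback f' f',
      IsPullback iX (pullback.diagonal f ≫ pullback.snd f f ≫ f ≫ g)
        (pullback.diagonal f' ≫ pullback.snd f' f' ≫ f' ≫ g') iB ∧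
      IsPullback φ (pullback.snd f f ≫ f ≫ g) (pullback.snd f' f' ≫ f' ≫ g') iB ∧
      iX ≫ pullback.diagonal f' = pullback.diagonal f ≫ φ := by
  obtain ⟨-, -, hc⟩ := deform_squares hB hcX hcY w
  have h1 := (IsPullback.of_hasPullback f f).paste_horiz hc
  rw [← w] at h1
  let φ : pullback f f ⟶ pullback f' f' :=
    pullback.lift (pullback.fst f f ≫ iX) (pullback.snd f f ≫ iX) (by
      rw [Category.assoc, Category.assoc, w, ← Category.assoc, pullback.condition, Category.assoc])
  have e₁ : φ ≫ pullback.fst f' f' = pullback.fst f f ≫ iX := pullback.lift_fst _ _ _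
  have e₂ : φ ≫ pullback.snd f' f' = pullback.snd f f ≫ iX := pullback.lift_snd _ _ _
  rw [← e₁] at h1
  refine ⟨φ, ?_, (IsPullback.of_right h1 e₂ (IsPullback.of_hasPullback f' f')).paste_vert hcX,
    pullback.hom_ext (by simp [e₁]) (by simp [e₂])⟩
  rw [pullback.diagonal_snd_assoc, pullback.diagonal_snd_assoc]
  exact hcX

theorem isFlatAt_of_flat_comp (hY' : IsAlgSpace Y') (hX' : IsAlgSpace X') (hB' : IsAlgSpace B')
    (hf : LocP @Flat f') (hflat : LocP @Flat (f' ≫ g')) (x' : Points X') :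
    IsFlatAtMor g' (Points.map f' x') := by
  obtain ⟨V, W, b, c, k, hb, hbs, hc, -, comm₂⟩ := exists_charts hY' hB' g'
  obtain ⟨U, a, h, ha, has, comm⟩ := exists_chart_over hX' hY'.diag f' b hb hbs
  have comm₃ : a ≫ f' ≫ g' = (yon S).map (h ≫ k) ≫ c := by
    rw [Functor.map_comp, Category.assoc, ← comm₂, ← Category.assoc, comm, Category.assoc]
  have : Flat (h.left ≫ k.left) := hflat a c (h ≫ k) ha hc comm₃
  have : Flat h.left := hf a b h ha hb comm
  obtain ⟨u, rfl⟩ := surjective_ofPt_of_repWith has x'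
  have e : Points.map f' (Points.ofPt a u) = Points.ofPt b (h.left u) := by
    rw [Points.map_ofPt, comm]
    exact ofPt_comp_yon h b u
  rw [e, FlatFib.isFlatAtMor_iff_of_chart hY' hB' hb hc comm₂]
  exact FlatFib.flat_at_of_comp h.left k.left u (Flat.stalkMap h.left u)
    (Flat.stalkMap (h.left ≫ k.left) u)

variable (hX : IsAlgSpace X) (hY : IsAlgSpace Y) (hX' : IsAlgSpace X') (hY' : IsAlgSpace Y')
  (hB' : IsAlgSpace B')

include hX hY hX' hY'

/-- Transfer of the global properties, given the transfer of the local ones. -/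
theorem openImmersion_iso_of_local (hi : IsThickMor iX) (hj : IsThickMor iY)
    (hc : IsPullback iX f f' iY) (het : LocP @Etale f → LocP @Etale f') :
    (RepWith @IsOpenImmersion f ↔ RepWith @IsOpenImmersion f') ∧ (IsIso f ↔ IsIso f') := by
  have key : RepWith @IsOpenImmersion f → RepWith @IsOpenImmersion f' := fun h => by
    have he : LocP @Etale f := locP_of_repWith (repWith_mono (fun A B k (hk : IsOpenImmersion k) =>
      (inferInstance : Etale k)) h)
    have he' := het he
    have hft : LocP @LocallyOfFiniteType f :=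
      locP_mono (fun A B k (hk : Etale k) => (inferInstance : LocallyOfFiniteType k)) he
    have hft' : LocP @LocallyOfFiniteType f' :=
      locP_mono (fun A B k (hk : Etale k) => (inferInstance : LocallyOfFiniteType k)) he'
    obtain ⟨hs, hq⟩ := separated_lqf_of_repWith hY hft
      (fun k (_ : IsOpenImmersion k) => ⟨inferInstance, inferInstance⟩) h
    have hr := representable_of_thick hX hY hX' hY' hi hj hc hft hft' hs hq
    have hm : RepWith (MorphismProperty.monomorphisms Scheme.{u}) f' :=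
      repWith_of_thick hi hj hc hr h (repWith_of_locP hY' hr hft')
        fun {_ _ _ _ _ _ k k'} ht sq (_ : LocallyOfFiniteType k') (hk : IsOpenImmersion k) =>
          (Groth.FlatMor2.mono_iff_of_lft ht sq).1 inferInstance
    exact repWith_mono (fun A B k (hk : (@Etale ⊓ MorphismProperty.monomorphisms _ : MorphismProperty
        Scheme.{u}) k) => by
      obtain ⟨h1, h2⟩ := hk
      have : Etale k := h1
      have : Mono k := h2
      exact IsOpenImmersion.of_flat_of_mono k)
      (repWith_inf_iff.2 ⟨repWith_of_locP hY' hr he', hm⟩)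
  refine ⟨⟨key, fun h => repWith_of_isPullback hc h⟩, fun h => ?_, fun h => hc.isIso_snd_of_isIso⟩
  have ho : RepWith @IsOpenImmersion f' := key (repWith_isIso f)
  have hs : RepWith @Surjective f' := repWith_of_thick hi hj hc ho.rep
    (repWith_isIso f : RepWith (MorphismProperty.isomorphisms Scheme.{u}) f) ho
    fun {_ _ _ _ iU _ k k'} ht sq _ (hk : IsIso k) => by
      have := ht.2
      have : Surjective (iU ≫ k') := by rw [sq.w]; infer_instance
      exact Surjective.of_comp iU k'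
  exact isIso_of_repWith (repWith_mono (fun A B k (hk : (@IsOpenImmersion ⊓ @Surjective :
      MorphismProperty Scheme.{u}) k) => (isIso_iff_isOpenImmersion_and_surjective k).2 ⟨hk.1, hk.2⟩)
    (repWith_inf_iff.2 ⟨ho, hs⟩))

theorem finLocFree_of_local (hi : IsThickMor iX) (hj : IsThickMor iY) (hc : IsPullback iX f f' iY)
    (hfi : IsFiniteMor f ↔ IsFiniteMor f') (hfl : LocP @Flat f ↔ LocP @Flat f')
    (hfp : LocP @LocallyOfFinitePresentation f ↔ LocP @LocallyOfFinitePresentation f') :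
    (IsFinLocFreeMor f ↔ IsFinLocFreeMor f') ∧
      ∀ d, IsFinLocFreeOfDegMor d f ↔ IsFinLocFreeOfDegMor d f' := by
  have h0 : IsFinLocFreeMor f ↔ IsFinLocFreeMor f' := by
    rw [finLocFree_iff hX hY, finLocFree_iff hX' hY', hfi, hfl, hfp]
  refine ⟨h0, fun d => ⟨fun h => ?_, fun h => repWith_of_isPullback hc h⟩⟩
  have h' : RepWith finLocFree f' := h0.1 (repWith_mono (fun A B k hk => hk.1) h)
  refine repWith_of_thick hi hj hc h'.rep h h' fun {_ _ _ _ iU iV k k'} ht sq hl hk => ⟨hl, fun y' => ?_⟩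
  obtain ⟨y, rfl⟩ := ht.2.surj y'
  have := hl.1
  have := hl.2.1
  rw [← Scheme.Hom.finrank_of_isPullback iU k k' iV sq y]
  exact hk.2 y

section FiniteOrder

variable (hB : IsFinThickMor iB) (hcX : IsPullback iX (f ≫ g) (f' ≫ g') iB)
  (hcY : IsPullback iY g g' iB) (w : iX ≫ f' = f ≫ iY) (hflat : LocP @Flat (f' ≫ g'))

include hB' hB hcX hcY w hflat

omit hflat in
theorem lft_iff_deform : LocP @LocallyOfFiniteType f ↔ LocP @LocallyOfFiniteType f' := by
  obtain ⟨n, hn⟩ := hB
  exact locP_iff_of_deform hX hY hX' hY' hB' hn.1 hcY (deform_squares hn.1 hcX hcY w).2.2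
    fun a' b' c c' h h' k k' iU iV iW ha' hb' hc' _ _ sW _ s₁ s₂ we =>
      Groth.FlatMor2.locallyOfFiniteType_iff_of_finiteOrder
        (Groth.FlatMor2.isFiniteOrderThickening_of_isPullback (finiteOrder_chart ⟨n, hn⟩ hc' sW) s₂)
        (IsPullback.of_bot s₁ we s₂)

theorem local_iff_deform :
    (LocP @Flat f ↔ LocP @Flat f') ∧
    (LocP @LocallyOfFinitePresentation f ↔ LocP @LocallyOfFinitePresentation f') ∧
    (LocP @Smooth f ↔ LocP @Smooth f') ∧ (LocP @Etale f ↔ LocP @Etale f') := by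
  obtain ⟨n, hn⟩ := hB
  have hc := (deform_squares hn.1 hcX hcY w).2.2
  refine ⟨?_, ?_, ?_, ?_⟩ <;>
    refine locP_iff_of_deform hX hY hX' hY' hB' hn.1 hcY hc
      fun a' b' c c' h h' k k' iU iV iW ha' hb' hc' _ comm₃ sW _ s₁ s₂ we => ?_ <;>
    have : Flat (h'.left ≫ k'.left) := hflat a' c' (h' ≫ k') ha' hc' comm₃
  · exact Groth.FlatMor2.flat_iff_deform (finiteOrder_chart ⟨n, hn⟩ hc' sW) s₁ s₂ we
  · exact Groth.FlatMor2.lfp_iff_deform (finiteOrder_chart ⟨n, hn⟩ hc' sW) s₁ s₂ we
  · exact Groth.FlatMor2.smooth_iff_deform (finiteOrder_chart ⟨n, hn⟩ hc' sW) s₁ s₂ we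
  · exact Groth.FlatMor2.etale_iff_deform (finiteOrder_chart ⟨n, hn⟩ hc' sW) s₁ s₂ we

theorem iso_openImmersion_iff_deform :
    (RepWith @IsOpenImmersion f ↔ RepWith @IsOpenImmersion f') ∧ (IsIso f ↔ IsIso f') := by
  have he := (local_iff_deform hX hY hX' hY' hB' hB hcX hcY w hflat).2.2.2.1
  obtain ⟨n, hn⟩ := hB
  obtain ⟨hi, hj, hc⟩ := deform_squares hn.1 hcX hcY w
  exact openImmersion_iso_of_local hX hY hX' hY' hi hj hc he

theorem mono_iff_deform : Mono f ↔ Mono f' := by
  obtain ⟨n, hn⟩ := hB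
  obtain ⟨φ, h1, h2, e⟩ := deform_diag hn.1 hcX hcY w
  rw [← pullback.isIso_diagonal_iff, ← pullback.isIso_diagonal_iff]
  refine (iso_openImmersion_iff_deform hX (isAlgSpace_pullback ⟨X, hX⟩ ⟨X, hX⟩ ⟨Y, hY⟩ f f) hX'
    (isAlgSpace_pullback ⟨X', hX'⟩ ⟨X', hX'⟩ ⟨Y', hY'⟩ f' f') hB' ⟨n, hn⟩ h1 h2 e ?_).2
  rw [pullback.diagonal_snd_assoc]
  exact hflat

omit hflat in
theorem finite_iff_deform : IsFiniteMor f ↔ IsFiniteMor f' := by
  have hl := lft_iff_deform hX hY hX' hY' hB' hB hcX hcY w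
  obtain ⟨n, hn⟩ := hB
  obtain ⟨hi, hj, hc⟩ := deform_squares hn.1 hcX hcY w
  exact (global_iff_of_lft hX hY hX' hY' hi hj hc hl).2.2.1

end FiniteOrder

section FinitePresentation

variable (hB : IsThickMor iB) (hcX : IsPullback iX (f ≫ g) (f' ≫ g') iB)
  (hcY : IsPullback iY g g' iB) (w : iX ≫ f' = f ≫ iY) (hg' : LocP @LocallyOfFiniteType g')
  (hflat : LocP @Flat (f' ≫ g')) (hfp : LocP @LocallyOfFinitePresentation (f' ≫ g'))

include hB' hB hcX hcY w hg' hfp

theorem lfp_deform_fp :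
    LocP @LocallyOfFinitePresentation f ∧ LocP @LocallyOfFinitePresentation f' := by
  obtain ⟨-, -, hc⟩ := deform_squares hB hcX hcY w
  obtain ⟨V, W, b, c, k, hb, hbs, hcc, -, comm₂⟩ := exists_charts hY' hB' g'
  obtain ⟨U, a, h, ha, has, comm⟩ := exists_chart_over hX' hY'.diag f' b hb hbs
  have comm₃ : a ≫ f' ≫ g' = (yon S).map (h ≫ k) ≫ c := by
    rw [Functor.map_comp, Category.assoc, ← comm₂, ← Category.assoc, comm, Category.assoc]
  have : LocallyOfFinitePresentation (h.left ≫ k.left) := hfp a c (h ≫ k) ha hcc comm₃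
  have : LocallyOfFiniteType k.left := hg' b c k hb hcc comm₂
  have hl : LocP @LocallyOfFinitePresentation f' := locP_of_chart hX'.diag hY'.diag ha has hb comm
    (Groth.SpectralTopology.lfp_of_comp h.left k.left)
  exact ⟨locP_of_isPullback hX' hY' hY hc hl, hl⟩

theorem lft_deform_fp : LocP @LocallyOfFiniteType f ∧ LocP @LocallyOfFiniteType f' := by
  obtain ⟨h, h'⟩ := lfp_deform_fp hX hY hX' hY' hB' hB hcX hcY w hg' hfp
  exact ⟨locP_mono (fun A B k (_ : LocallyOfFinitePresentation k) =>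
    (inferInstance : LocallyOfFiniteType k)) h, locP_mono (fun A B k (_ : LocallyOfFinitePresentation k) =>
    (inferInstance : LocallyOfFiniteType k)) h'⟩

include hflat

theorem local_iff_deform_fp :
    (LocP @Flat f ↔ LocP @Flat f') ∧ (LocP @Smooth f ↔ LocP @Smooth f') ∧
    (LocP @Etale f ↔ LocP @Etale f') := by
  have hc := (deform_squares hB hcX hcY w).2.2
  refine ⟨?_, ?_, ?_⟩ <;>
    refine locP_iff_of_deform hX hY hX' hY' hB' hB hcY hc
      fun a' b' c c' h h' k k' iU iV iW ha' hb' hc' comm₂ comm₃ sW ht s₁ s₂ we => ?_ <;>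
    have : Flat (h'.left ≫ k'.left) := hflat a' c' (h' ≫ k') ha' hc' comm₃ <;>
    have : LocallyOfFinitePresentation (h'.left ≫ k'.left) := hfp a' c' (h' ≫ k') ha' hc' comm₃ <;>
    have : LocallyOfFiniteType k'.left := hg' b' c' k' hb' hc' comm₂
  · exact Groth.FlatMor2.flat_iff_deform_fp ht s₁ s₂ we
  · exact Groth.FlatMor2.smooth_iff_deform_fp ht s₁ s₂ we
  · exact Groth.FlatMor2.etale_iff_deform_fp ht s₁ s₂ we

theorem iso_openImmersion_iff_deform_fp :
    (RepWith @IsOpenImmersion f ↔ RepWith @IsOpenImmersion f') ∧ (IsIso f ↔ IsIso f') := by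
  have he := (local_iff_deform_fp hX hY hX' hY' hB' hB hcX hcY w hg' hflat hfp).2.2.1
  obtain ⟨hi, hj, hc⟩ := deform_squares hB hcX hcY w
  exact openImmersion_iso_of_local hX hY hX' hY' hi hj hc he

theorem mono_iff_deform_fp : Mono f ↔ Mono f' := by
  obtain ⟨φ, h1, h2, e⟩ := deform_diag hB hcX hcY w
  rw [← pullback.isIso_diagonal_iff, ← pullback.isIso_diagonal_iff]
  have hP' := isAlgSpace_pullback ⟨X', hX'⟩ ⟨X', hX'⟩ ⟨Y', hY'⟩ f' f'
  refine (iso_openImmersion_iff_deform_fp hX (isAlgSpace_pullback ⟨X, hX⟩ ⟨X, hX⟩ ⟨Y, hY⟩ f f) hX'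
    hP' hB' hB h1 h2 e ?_ ?_ ?_).2
  · exact locP_comp hP' hX' hB'
      (locP_of_isPullback hX' hY' hX' (IsPullback.of_hasPullback f' f')
        (lft_deform_fp hX hY hX' hY' hB' hB hcX hcY w hg' hfp).2)
      (locP_mono (fun A B k (_ : LocallyOfFinitePresentation k) =>
        (inferInstance : LocallyOfFiniteType k)) hfp)
  · rw [pullback.diagonal_snd_assoc]
    exact hflat
  · rw [pullback.diagonal_snd_assoc]
    exact hfp

end FinitePresentation

end

end Groth.AlgSp2
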