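import Groth.Prelude.Def_AlgSpDec
import Mathlib.AlgebraicGeometry.Morphisms.Immersion

/-!
Field-valued points, points of fibre products and monomorphic quasi-compact points.
-/

universe u

open CategoryTheory CategoryTheory.Limits AlgebraicGeometry Opposite

noncomputable section

namespace Groth.AlgSp2

open AlgSp

variable {S : Scheme.{u}} {F G H P : Sp S}

instance instQuasiCompactBaseChange : (RepWith (S := S) @QuasiCompact).IsStableUnderBaseChange :=
  repWith_isStableUnderBaseChange _

instance instQuasiCompactMultiplicative : (RepWith (S := S) @QuasiCompact).IsMultiplicative :=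
  repWith_isMultiplicative _

/-- A field-valued point from a morphism out of the spectrum of a field. -/
def ofHom {K : Type u} [Field K] {str : Spec (CommRingCat.of K) ⟶ S}
    (g : (yon S).obj (Over.mk str) ⟶ F) : FieldPt F :=
  ⟨K, str, (J S).uliftYonedaEquiv g⟩

@[simp] theorem toHom_ofHom {K : Type u} [Field K] {str : Spec (CommRingCat.of K) ⟶ S}
    (g : (yon S).obj (Over.mk str) ⟶ F) : (ofHom g).toHom = g :=
  Equiv.symm_apply_apply _ _

theorem rel_iff (p q : FieldPt F) :
    FieldPt.Rel p q ↔ ∃ (Ω : Type u) (_ : Field Ω) (w : Spec (CommRingCat.of Ω) ⟶ S)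
      (a : Over.mk w ⟶ p.pt) (b : Over.mk w ⟶ q.pt),
      (yon S).map a ≫ p.toHom = (yon S).map b ≫ q.toHom := by
  have key : ∀ (p : FieldPt F) {Y : Over S} (a : Y ⟶ p.pt),
      (J S).uliftYonedaEquiv ((yon S).map a ≫ p.toHom) = F.obj.map a.op p.val := by
    intro p Y a
    rw [GrothendieckTopology.uliftYonedaEquiv_comp,
      GrothendieckTopology.uliftYonedaEquiv_uliftYoneda_map, FieldPt.toHom_app]
  constructor
  · rintro ⟨Ω, i, w, a, b, h⟩
    exact ⟨Ω, i, w, a, b, (J S).uliftYonedaEquiv.injective (by rw [key, key, h])⟩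
  · rintro ⟨Ω, i, w, a, b, h⟩
    exact ⟨Ω, i, w, a, b, by rw [← key, ← key, h]⟩

theorem mk_ofHom_precomp (p : FieldPt F) {K : Type u} [Field K]
    {str : Spec (CommRingCat.of K) ⟶ S} (a : Over.mk str ⟶ p.pt) :
    Points.mk (ofHom ((yon S).map a ≫ p.toHom)) = Points.mk p := by
  refine Points.sound ((rel_iff _ _).2 ⟨K, inferInstance, str, 𝟙 _, a, ?_⟩)
  rw [toHom_ofHom]
  exact (congrArg (· ≫ _) ((yon S).map_id _)).trans (Category.id_comp _)

theorem ofHom_map (f : F ⟶ G) {K : Type u} [Field K] {str : Spec (CommRingCat.of K) ⟶ S}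
    (g : (yon S).obj (Over.mk str) ⟶ F) : (ofHom g).map f = ofHom (g ≫ f) := by
  have : ((ofHom g).map f).val = (ofHom (g ≫ f)).val :=
    (GrothendieckTopology.uliftYonedaEquiv_comp (J S) g f).symm
  cases h : (ofHom g).map f
  simp only [ofHom, FieldPt.map] at h ⊢
  cases h
  congr 1

theorem map_mk_eq (f : F ⟶ G) (p : FieldPt F) :
    Points.map f (Points.mk p) = Points.mk (ofHom (p.toHom ≫ f)) := by
  obtain ⟨K, str, val⟩ := p
  rw [← ofHom_map]
  congr 2
  simp [ofHom, FieldPt.toHom]

theorem mk_ofHom_map (f : F ⟶ G) {K : Type u} [Field K] {str : Spec (CommRingCat.of K) ⟶ S}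
    (g : (yon S).obj (Over.mk str) ⟶ F) :
    Points.map f (Points.mk (ofHom g)) = Points.mk (ofHom (g ≫ f)) := by
  rw [Points.map_mk, ofHom_map]

/-- `|X ×_Y Z| → |X| ×_{|Y|} |Z|` is surjective. -/
theorem exists_point_of_isPullback {f : F ⟶ G} {g : H ⟶ G} {fst : P ⟶ F} {snd : P ⟶ H}
    (h : IsPullback fst snd f g) {x : Points F} {z : Points H}
    (he : Points.map f x = Points.map g z) :
    ∃ w : Points P, Points.map fst w = x ∧ Points.map snd w = z := by
  induction x using Points.ind with | h p =>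
  induction z using Points.ind with | h q =>
  rw [Points.map_mk, Points.map_mk, Points.mk_eq_mk_iff, rel_iff] at he
  obtain ⟨Ω, i, w, a, b, hab⟩ := he
  rw [FieldPt.toHom_map, FieldPt.toHom_map] at hab
  refine ⟨Points.mk (ofHom (h.lift ((yon S).map (Y := p.pt) a ≫ p.toHom)
    ((yon S).map (Y := q.pt) b ≫ q.toHom)
    ((Category.assoc _ _ _).trans (hab.trans (Category.assoc _ _ _).symm)))), ?_, ?_⟩
  · rw [mk_ofHom_map, h.lift_fst]; exact mk_ofHom_precomp p a
  · rw [mk_ofHom_map, h.lift_snd]; exact mk_ofHom_precomp q b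

theorem mono_fst_of_isPullback {f : F ⟶ G} {g : H ⟶ G} {fst : P ⟶ F} {snd : P ⟶ H}
    (h : IsPullback fst snd f g) [Mono g] : Mono fst := by
  constructor
  intro Z a b hab
  refine h.hom_ext hab ?_
  rw [← cancel_mono g, Category.assoc, Category.assoc, ← h.w, ← Category.assoc, hab, Category.assoc]

/-- The monomorphism `Spec κ(t) ⟶ T` over `S`. -/
theorem mono_yon_fromSpecResidueField {T : Over S} (t : ↥T.left) :
    Mono ((yon S).map (Over.homMk (T.left.fromSpecResidueField t) rfl :
      Over.mk (T.left.fromSpecResidueField t ≫ T.hom) ⟶ T)) := by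
  have : Mono (Over.homMk (T.left.fromSpecResidueField t) rfl :
      Over.mk (T.left.fromSpecResidueField t ≫ T.hom) ⟶ T) :=
    (Over.forget S).mono_of_mono_map (inferInstanceAs (Mono (T.left.fromSpecResidueField t)))
  infer_instance

instance quasiCompact_of_finite {X Y : Scheme.{u}} [Finite X] (f : X ⟶ Y) : QuasiCompact f :=
  ⟨fun _ _ _ => (Set.toFinite _).isCompact⟩

theorem repWith_quasiCompact_of_unique {U V : Over S} [Finite U.left]
    (g : (yon S).obj U ⟶ (yon S).obj V) : RepWith @QuasiCompact g := by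
  obtain ⟨g, rfl⟩ := (yon S).map_surjective g
  exact (repWith_yon_map_iff _ _).2 inferInstance

instance finite_pt (p : FieldPt F) : Finite p.pt.left :=
  inferInstanceAs (Finite (Spec (CommRingCat.of p.K)))

/-- Points of the target of `g : h_T ⟶ F` reached through `T`. -/
theorem mk_eq_ofPt_of_factor {T : Over S} (g : (yon S).obj T ⟶ F) (p : FieldPt F) (a : p.pt ⟶ T)
    (h : (yon S).map a ≫ g = p.toHom) :
    Points.mk p = Points.ofPt g (a.left (IsLocalRing.closedPoint p.K)) := by
  rw [← Points.ofPt_toHom p (IsLocalRing.closedPoint p.K), ← h, Points.ofPt_eq_map_ofScheme g]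
  refine (Points.map_ofPt ((yon S).map a) g _).symm.trans ?_
  congr 1
  apply (Points.schemeEquiv T).symm.injective
  exact (Points.toScheme_ofPt a _).trans (Points.toScheme_ofScheme T _).symm

/-- Pulling back a monomorphic quasi-compact field point along a morphism with a decent base change. -/
theorem exists_monoQC_of_pullback {f : F ⟶ G} {H P : Sp S} {g : H ⟶ G} {fst : P ⟶ F} {snd : P ⟶ H}
    (h : IsPullback fst snd f g) [Mono g] (hg : RepWith @QuasiCompact g) (hP : IsDecent P)
    (x : Points F) (hx : Points.map f x ∈ Set.range (Points.map g)) :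
    ∃ p : FieldPt F, Points.mk p = x ∧ Mono p.toHom ∧ RepWith @QuasiCompact p.toHom := by
  obtain ⟨z, hz⟩ := hx
  obtain ⟨w, hwx, -⟩ := exists_point_of_isPullback h hz.symm
  obtain ⟨r, hr, hm, hq⟩ := hP w
  have := mono_fst_of_isPullback h
  refine ⟨r.map fst, ?_, ?_, ?_⟩
  · rw [← hwx, ← hr, Points.map_mk]
  · rw [FieldPt.toHom_map]; exact @mono_comp _ _ _ _ _ _ hm _ inferInstance
  · rw [FieldPt.toHom_map]
    exact MorphismProperty.comp_mem (RepWith (S := S) @QuasiCompact) _ _ hq
      (MorphismProperty.of_isPullback (P := RepWith (S := S) @QuasiCompact) h.flip hg)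

/-- Every `h_T` is decent. -/
theorem isDecent_yon (T : Over S) : IsDecent ((yon S).obj T) := by
  intro x
  obtain ⟨t, rfl⟩ := (Points.schemeEquiv T).surjective x
  refine ⟨FieldPt.ofPt (𝟙 _) t, rfl, ?_, ?_⟩
  · rw [FieldPt.toHom_ofPt, Category.comp_id]; exact mono_yon_fromSpecResidueField t
  · rw [FieldPt.toHom_ofPt, Category.comp_id]
    have : Finite (Over.mk (T.left.fromSpecResidueField t ≫ T.hom)).left :=
      inferInstanceAs (Finite (Spec (T.left.residueField t)))
    exact repWith_quasiCompact_of_unique _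

theorem mk_mem_range (p : FieldPt F) : Points.mk p ∈ Set.range (Points.map p.toHom) := by
  refine ⟨Points.mk (ofHom (𝟙 _ : (yon S).obj p.pt ⟶ _)), ?_⟩
  rw [mk_ofHom_map, Category.id_comp]
  have h := mk_ofHom_precomp p (𝟙 p.pt)
  rwa [(yon S).map_id, Category.id_comp] at h

/-- A sheaf representable by schemes over a decent sheaf is decent. -/
theorem isDecent_of_representable {f : F ⟶ G} (hf : Representable f) (hG : IsDecent G) :
    IsDecent F := by
  intro x
  obtain ⟨q, hq, hm, hqc⟩ := hG (Points.map f x)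
  obtain ⟨V, snd, fst, sq⟩ := hf q.toHom
  exact exists_monoQC_of_pullback sq hqc (isDecent_yon V) x (hq ▸ mk_mem_range q)

/-- If `f` is decent and the target is decent, the source is decent. -/
theorem isDecent_of_isDecentMor {f : F ⟶ G} (hf : IsDecentMor f) (hG : IsDecent G) : IsDecent F := by
  intro x
  obtain ⟨q, hq, hm, hqc⟩ := hG (Points.map f x)
  exact exists_monoQC_of_pullback (IsPullback.of_hasPullback f q.toHom) hqc
    (hf _ _ _ (IsPullback.of_hasPullback f q.toHom)) x (hq ▸ mk_mem_range q)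

/-- A morphism representable by schemes is decent. -/
theorem isDecentMor_of_representable {f : F ⟶ G} (hf : Representable f) : IsDecentMor f :=
  fun T _ _ _ _ sq => isDecent_of_representable (MorphismProperty.of_isPullback sq hf)
    (isDecent_yon T)

/-- A morphism with decent source into an algebraic space is decent. -/
theorem isDecentMor_of_isDecent {f : F ⟶ G} (hG : IsAlgSpace G) (hF : IsDecent F) : IsDecentMor f :=
  fun _ _ g _ _ sq => isDecent_of_representable
    (MorphismProperty.of_isPullback sq.flip (hG.representable_from_yon g)) hF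

theorem isDecentMor_comp {f : F ⟶ G} {g : G ⟶ H} (hf : IsDecentMor f) (hg : IsDecentMor g) :
    IsDecentMor (f ≫ g) := by
  intro T F' t fst snd sq
  have sq₂ := IsPullback.of_hasPullback g t
  have hQ : IsDecent (pullback g t) := hg _ _ _ sq₂
  let k : F' ⟶ pullback g t := sq₂.lift (fst ≫ f) snd (by rw [Category.assoc]; exact sq.w)
  have hs : k ≫ pullback.fst g t = fst ≫ f := sq₂.lift_fst _ _ _
  have sq₁ : IsPullback fst k f (pullback.fst g t) :=
    IsPullback.of_bot (by rw [sq₂.lift_snd]; exact sq) hs.symm sq₂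
  refine isDecent_of_isDecentMor (f := k) (fun T' F'' t' a b s => ?_) hQ
  exact hf _ _ _ (s.paste_horiz sq₁)

theorem isDecent_of_isPullback {f : F ⟶ G} {g : H ⟶ G} {fst : P ⟶ F} {snd : P ⟶ H}
    (hG : IsAlgSpace G) (h : IsPullback fst snd f g) (hF : IsDecent F) (hH : IsDecent H) :
    IsDecent P := by
  intro w
  obtain ⟨q, hq, hm, hqc⟩ := hF (Points.map fst w)
  have sq := IsPullback.of_hasPullback fst q.toHom
  have sq' := (sq.paste_horiz h.flip).flip
  refine exists_monoQC_of_pullback sq hqc ?_ w (hq ▸ mk_mem_range q)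
  exact isDecent_of_representable
    (MorphismProperty.of_isPullback sq' (hG.representable_from_yon _)) hH

theorem exists_mono_of_representable {f : F ⟶ G} (hf : Representable f)
    (hG : ∀ y : Points G, ∃ q : FieldPt G, Points.mk q = y ∧ Mono q.toHom) (x : Points F) :
    ∃ p : FieldPt F, Points.mk p = x ∧ Mono p.toHom := by
  obtain ⟨q, hq, hm⟩ := hG (Points.map f x)
  obtain ⟨z, hz⟩ := hq ▸ mk_mem_range q
  obtain ⟨V, snd, fst, sq⟩ := hf q.toHom
  obtain ⟨w, hwx, -⟩ := exists_point_of_isPullback sq hz.symm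
  obtain ⟨r, hr, hmr, -⟩ := isDecent_yon V w
  have := mono_fst_of_isPullback sq
  exact ⟨r.map fst, by rw [← hwx, ← hr, Points.map_mk], by rw [FieldPt.toHom_map]; exact @mono_comp _ _ _ _ _ _ hmr _ inferInstance⟩

end Groth.AlgSp2
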