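import Groth.Agent.AlgSp2.FpqcTop
import Groth.Agent.AlgSp2.LocPFpqc

/-!
# Topological properties are fpqc local on the base: the equivalences
-/

set_option autoImplicit false
universe u

open CategoryTheory CategoryTheory.Limits AlgebraicGeometry AlgSp

namespace Groth.AlgSp2

variable {S : Scheme.{u}}

theorem isLocalOnBase_fpqc_isUnivOpenMor : IsLocalOnBase (IsFpqcCover (S := S)) IsUnivOpenMor :=
  fun _ _ _ _ _ _ hg _ _ _ _ _ _ _ hsq =>
    ⟨fun h i => univSp_baseChange (hsq i) h, univOpen_of_cover hg hsq⟩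

theorem isLocalOnBase_fpqc_isUnivClosedMor : IsLocalOnBase (IsFpqcCover (S := S)) IsUnivClosedMor :=
  fun _ _ _ _ _ _ hg _ _ _ _ _ _ _ hsq =>
    ⟨fun h i => univSp_baseChange (hsq i) h, univClosed_of_cover hg hsq⟩

theorem isLocalOnBase_fpqc_isUnivInjectiveMor :
    IsLocalOnBase (IsFpqcCover (S := S)) IsUnivInjectiveMor :=
  fun _ _ _ _ _ _ hg _ _ _ _ _ _ _ hsq =>
    ⟨fun h i => univSp_baseChange (hsq i) h, univInjective_of_cover hg hsq⟩

theorem isLocalOnBase_fpqc_isUnivHomeoMor : IsLocalOnBase (IsFpqcCover (S := S)) IsUnivHomeoMor :=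
  fun _ _ _ _ _ _ hg _ _ _ _ _ _ _ hsq =>
    ⟨fun h i => univSp_baseChange (hsq i) h, univHomeo_of_cover hg hsq⟩

theorem isLocalOnBase_fpqc_isUnivSubmersiveMor :
    IsLocalOnBase (IsFpqcCover (S := S)) IsUnivSubmersiveMor :=
  fun _ _ _ _ _ _ hg _ _ _ _ _ _ _ hsq =>
    ⟨fun h i => univSp_baseChange (hsq i) h, univSubmersive_of_cover hg hsq⟩

theorem isLocalOnBase_fpqc_isQuasiCompactMor :
    IsLocalOnBase (IsFpqcCover (S := S)) IsQuasiCompactMor :=
  fun _ _ _ _ hY _ hg _ _ hX _ _ _ _ hsq =>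
    ⟨fun h i => isQuasiCompactMor_baseChange (hsq i) h, quasiCompact_of_cover hY hX hg hsq⟩

theorem isLocalOnBase_fpqc_quasiFinite :
    IsLocalOnBase (IsFpqcCover (S := S))
      (LocP (@LocallyQuasiFinite ⊓ @LocallyOfFiniteType)) ∧
    IsLocalOnBase (IsFpqcCover (S := S))
      (fun _ _ f => LocP (@LocallyQuasiFinite ⊓ @LocallyOfFiniteType) f ∧ IsQuasiCompactMor f) := by
  refine ⟨isLocalOnBase_fpqc_locP _, ?_⟩
  intro ι Y Yi g hY hYi hg X f hX Xi p q hXi hsq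
  change _ ∧ _ ↔ _
  rw [isLocalOnBase_fpqc_locP _ Yi g hY hYi hg f hX Xi p q hXi hsq,
    isLocalOnBase_fpqc_isQuasiCompactMor Yi g hY hYi hg f hX Xi p q hXi hsq, ← forall_and]

end Groth.AlgSp2
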