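import Groth.Agent.AlgSp2.FppfProps
import Groth.Agent.AlgSp2.FpqcTopRows
import Groth.Agent.AlgSp2.FpqcRep

/-!
# Formal properties of fpqc coverings of algebraic spaces, and further fpqc local properties
-/

set_option autoImplicit false
set_option backward.isDefEq.respectTransparency.types false
universe u

open CategoryTheory CategoryTheory.Limits AlgebraicGeometry Opposite AlgSp

namespace Groth.AlgSp2

open Groth.AlgSpBasic

noncomputable section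

variable {S : Scheme.{u}}

/-- The affine covers of the members of an affine cover combine. -/
def AffCover.bind {T : Over S} (𝒲 : AffCover (T := T)) (𝒱 : ∀ j, AffCover (T := 𝒲.W j)) :
    AffCover (T := T) where
  m := Fintype.card (Σ j, Fin (𝒱 j).m)
  W k := (𝒱 ((Fintype.equivFin _).symm k).1).W ((Fintype.equivFin _).symm k).2
  c k := (𝒱 ((Fintype.equivFin _).symm k).1).c ((Fintype.equivFin _).symm k).2 ≫
    𝒲.c ((Fintype.equivFin _).symm k).1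
  affine k := (𝒱 _).affine _
  flat k := by
    have := 𝒲.flat ((Fintype.equivFin _).symm k).1
    have := (𝒱 ((Fintype.equivFin _).symm k).1).flat ((Fintype.equivFin _).symm k).2
    rw [Over.comp_left]
    infer_instance
  surj t := by
    obtain ⟨j, w, rfl⟩ := 𝒲.surj t
    obtain ⟨i, v, rfl⟩ := (𝒱 j).surj w
    refine ⟨Fintype.equivFin _ ⟨j, i⟩, ?_⟩
    have key : ∀ x : Σ j, Fin (𝒱 j).m, x = ⟨j, i⟩ →
        (𝒲.c j).left (((𝒱 j).c i).left v) ∈ Set.range ⇑((𝒱 x.1).c x.2 ≫ 𝒲.c x.1).left := by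
      rintro _ rfl
      exact ⟨v, rfl⟩
    exact key _ ((Fintype.equivFin (Σ j, Fin (𝒱 j).m)).symm_apply_apply ⟨j, i⟩)

theorem isFpqcCover_iff {ι : Type u} {X : Sp S} {Xi : ι → Sp S} {g : ∀ i, Xi i ⟶ X} :
    IsFpqcCover Xi g ↔ (∀ i, LocP @Flat (g i)) ∧
      ∀ (Z : Over S), IsAffine Z.left → ∀ h : (yon S).obj Z ⟶ X, ∃ 𝒲 : AffCover (T := Z),
        ∀ j, ∃ (i : ι) (l : (yon S).obj (𝒲.W j) ⟶ Xi i), l ≫ g i = (yon S).map (𝒲.c j) ≫ h := by
  refine and_congr_right fun _ => forall_congr' fun Z => forall_congr' fun hZ =>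
    forall_congr' fun h => ?_
  exact ⟨fun ⟨m, W, c, hW, hc, hs, hl⟩ => ⟨⟨m, W, c, hW, hc, hs⟩, hl⟩,
    fun ⟨𝒲, hl⟩ => ⟨𝒲.m, 𝒲.W, 𝒲.c, 𝒲.affine, 𝒲.flat, 𝒲.surj, hl⟩⟩

theorem isFpqcCover_baseChange {ι : Type u} {X X' : Sp S} {Xi Xi' : ι → Sp S} (hX : IsAlgSpace X)
    (hX' : IsAlgSpace X') (hXi : ∀ i, IsAlgSpace (Xi i)) {a : X' ⟶ X} {g : ∀ i, Xi i ⟶ X}
    {q : ∀ i, Xi' i ⟶ X'} {p : ∀ i, Xi' i ⟶ Xi i} (sq : ∀ i, IsPullback (q i) (p i) a (g i))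
    (h : IsFpqcCover Xi g) : IsFpqcCover Xi' q := by
  refine ⟨fun i => locP_of_isPullback (hXi i) hX hX' (sq i).flip (h.1 i), fun Z hZ φ => ?_⟩
  obtain ⟨m, W, c, hW, hc, hs, hl⟩ := h.2 Z hZ (φ ≫ a)
  refine ⟨m, W, c, hW, hc, hs, fun j => ?_⟩
  obtain ⟨i, l, hl⟩ := hl j
  exact ⟨i, (sq i).lift ((yon S).map (c j) ≫ φ) l (by rw [Category.assoc, hl]),
    (sq i).lift_fst _ _ _⟩

theorem isFpqcCover_sigma {ι : Type u} {X : Sp S} {Xi : ι → Sp S} {κ : ι → Type u}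
    {Xij : ∀ i, κ i → Sp S} (hX : IsAlgSpace X) (hXi : ∀ i, IsAlgSpace (Xi i))
    (hXij : ∀ i j, IsAlgSpace (Xij i j)) {g : ∀ i, Xi i ⟶ X} {gij : ∀ i j, Xij i j ⟶ Xi i}
    (h : IsFpqcCover Xi g) (hij : ∀ i, IsFpqcCover (Xij i) (gij i)) :
    IsFpqcCover (fun r : Σ i, κ i => Xij r.1 r.2) (fun r => gij r.1 r.2 ≫ g r.1) := by
  rw [isFpqcCover_iff]
  refine ⟨fun r => locP_comp (hXij _ _) (hXi _) hX ((hij r.1).1 r.2) (h.1 r.1), fun Z hZ φ => ?_⟩
  obtain ⟨𝒲, hl⟩ := (isFpqcCover_iff.1 h).2 Z hZ φ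
  choose i l hl using hl
  choose 𝒱 hv using fun j => (isFpqcCover_iff.1 (hij (i j))).2 _ (𝒲.affine j) (l j)
  refine ⟨𝒲.bind 𝒱, fun k => ?_⟩
  obtain ⟨n, l', hl'⟩ := hv ((Fintype.equivFin _).symm k).1 ((Fintype.equivFin _).symm k).2
  refine ⟨⟨_, n⟩, l', ?_⟩
  dsimp only [AffCover.bind]
  rw [← Category.assoc, hl', Category.assoc, hl, Functor.map_comp, Category.assoc]

theorem isFpqcCover_of_chart {ι : Type u} {X : Sp S} {Xi Ui : ι → Sp S} (hX : IsAlgSpace X)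
    (hXi : ∀ i, IsAlgSpace (Xi i)) (hUi : ∀ i, IsAlgSpace (Ui i)) {g : ∀ i, Xi i ⟶ X} {U : Over S}
    {p : (yon S).obj U ⟶ X} (hp : RepWith @Etale p) (hps : RepWith @Surjective p)
    {q : ∀ i, Ui i ⟶ (yon S).obj U} {p' : ∀ i, Ui i ⟶ Xi i}
    (sq : ∀ i, IsPullback (q i) (p' i) p (g i)) (h : IsFpqcCover Ui q) : IsFpqcCover Xi g := by
  have hcov : IsFpqcCover (fun _ : PUnit.{u + 1} => (yon S).obj U) (fun _ => p) :=
    isFpqcCover_of_isFppfCover hX (fun _ => IsAlgSpace.yon_obj U)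
      ⟨fun _ => ⟨locP_of_repWith (repWith_mono (fun _ _ k (_ : Etale k) => (inferInstance : Flat k)) hp),
        locP_of_repWith (repWith_mono
          (fun _ _ k (_ : Etale k) => (inferInstance : LocallyOfFinitePresentation k)) hp)⟩,
        fun x => ⟨⟨⟩, surjective_map_of_repWith hps x⟩⟩
  rw [isFpqcCover_iff]
  refine ⟨fun i => ?_, fun Z hZ φ => ?_⟩
  · obtain ⟨T, ψ, hψ, hψs⟩ := (hUi i).atlas
    obtain ⟨k, hk⟩ := (yon S).map_surjective (ψ ≫ q i)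
    refine locP_of_chart (hXi i).diag hX.diag (repWith_comp hψ (repWith_of_isPullback (sq i) hp))
      (repWith_comp hψs (repWith_of_isPullback (sq i) hps)) hp (h := k) ?_ ?_
    · rw [Category.assoc, ← (sq i).w, ← Category.assoc, hk]
    · exact h.1 i ψ (𝟙 _) k hψ (repWith_id _ U) (by rw [Category.comp_id, hk])
  · obtain ⟨𝒲, hl⟩ := (isFpqcCover_iff.1 hcov).2 Z hZ φ
    choose _ l hl using hl
    choose 𝒱 hv using fun j => (isFpqcCover_iff.1 h).2 _ (𝒲.affine j) (l j)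
    refine ⟨𝒲.bind 𝒱, fun k => ?_⟩
    obtain ⟨i, l', hl'⟩ := hv ((Fintype.equivFin _).symm k).1 ((Fintype.equivFin _).symm k).2
    refine ⟨i, l' ≫ p' i, ?_⟩
    dsimp only [AffCover.bind]
    rw [Category.assoc, ← (sq i).w, ← Category.assoc, hl', Category.assoc, hl, Functor.map_comp,
      Category.assoc]

theorem isLocalOnBase_fpqc_isFiniteTypeMor :
    IsLocalOnBase (IsFpqcCover (S := S)) IsFiniteTypeMor := by
  intro ι Y Yi g hY hYi hg X f hX Xi p q hXi hsq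
  change _ ∧ _ ↔ _
  rw [isLocalOnBase_fpqc_locP _ Yi g hY hYi hg f hX Xi p q hXi hsq,
    isLocalOnBase_fpqc_isQuasiCompactMor Yi g hY hYi hg f hX Xi p q hXi hsq]
  exact forall_and.symm

theorem isLocalOnBase_fpqc_isFinitePresentationMor :
    IsLocalOnBase (IsFpqcCover (S := S)) IsFinitePresentationMor := by
  intro ι Y Yi g hY hYi hg X f hX Xi p q hXi hsq
  refine (and_congr (isLocalOnBase_fpqc_locP _ Yi g hY hYi hg f hX Xi p q hXi hsq)
    (and_congr (isLocalOnBase_fpqc_isQuasiCompactMor Yi g hY hYi hg f hX Xi p q hXi hsq)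
      (isLocalOnBase_fpqc_diagonal @QuasiCompact Yi g hY hYi hg f hX Xi p q hXi hsq))).trans ?_
  exact ⟨fun h i => ⟨h.1 i, h.2.1 i, h.2.2 i⟩,
    fun h => ⟨fun i => (h i).1, fun i => (h i).2.1, fun i => (h i).2.2⟩⟩

theorem isLocalOnBase_fpqc_isProperMor :
    IsLocalOnBase (IsFpqcCover (S := S)) IsProperMor := by
  intro ι Y Yi g hY hYi hg X f hX Xi p q hXi hsq
  refine (and_congr (isLocalOnBase_fpqc_diagonal @IsClosedImmersion Yi g hY hYi hg f hX Xi p q hXi hsq)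
    (and_congr (isLocalOnBase_fpqc_isFiniteTypeMor Yi g hY hYi hg f hX Xi p q hXi hsq)
      (isLocalOnBase_fpqc_isUnivClosedMor Yi g hY hYi hg f hX Xi p q hXi hsq))).trans ?_
  exact ⟨fun h i => ⟨h.1 i, h.2.1 i, h.2.2 i⟩,
    fun h => ⟨fun i => (h i).1, fun i => (h i).2.1, fun i => (h i).2.2⟩⟩

end

end Groth.AlgSp2
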