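import Groth.Agent.AlgSp2.AffineRows
import Groth.Agent.AlgSp2.FpqcCoverBasic
import Groth.Agent.AlgSp2.FppfProps
import Groth.Agent.AlgSp2.FieldPts
import Groth.Agent.AlgSpBasic.Immersion
import Groth.Agent.AlgSpBasic.OpenSub
import Groth.Agent.AlgSpBasic.LocPInst
import Groth.Agent.AlgSpBasic.QComp
import Mathlib.AlgebraicGeometry.Morphisms.Immersion

/-!
# Immersions are local on the base for fppf coverings, quasi-compact immersions for fpqc coverings
-/

set_option autoImplicit false
set_option backward.isDefEq.respectTransparency.types false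
universe u

open CategoryTheory CategoryTheory.Limits AlgebraicGeometry Opposite AlgSp Topology

namespace Groth.AlgSp2

open Groth.AlgSpBasic

noncomputable section

section Schemes

/-- The closure of the image of a quasi-compact scheme in an affine scheme consists of the
specializations of the image. -/
theorem exists_specializes_of_mem_closure {U Z : Scheme.{u}} [CompactSpace U] [IsAffine Z]
    (g : U ⟶ Z) {z : Z} (hz : z ∈ closure (Set.range g)) : ∃ u, g u ⤳ z := by
  wlog hU : IsAffine U generalizing U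
  · let 𝒰 := U.affineCover.finiteSubcover
    have h : Set.range g = ⋃ i : 𝒰.I₀, Set.range (𝒰.f i ≫ g) := by
      ext y
      constructor
      · rintro ⟨x, rfl⟩
        obtain ⟨i, w, rfl⟩ := 𝒰.exists_eq x
        exact Set.mem_iUnion.2 ⟨i, w, rfl⟩
      · intro hy
        obtain ⟨i, w, rfl⟩ := Set.mem_iUnion.1 hy
        exact ⟨_, rfl⟩
    rw [h, closure_iUnion_of_finite] at hz
    obtain ⟨i, hi⟩ := Set.mem_iUnion.1 hz
    have hA : IsAffine (𝒰.X i) := inferInstanceAs (IsAffine (U.affineCover.X _))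
    obtain ⟨w, hw⟩ := this (𝒰.f i ≫ g) hi hA
    exact ⟨𝒰.f i w, hw⟩
  let φ := g.appTop.hom
  have e : ∀ u, Z.isoSpec.hom (g u) = PrimeSpectrum.comap φ (U.isoSpec.hom u) := fun u => by
    rw [← Scheme.Hom.comp_apply, ← Scheme.isoSpec_hom_naturality]
    rfl
  have hz' : Z.isoSpec.hom z ∈ closure (Set.range (PrimeSpectrum.comap φ)) := by
    refine closure_mono ?_ (image_closure_subset_closure_image Z.isoSpec.hom.continuous
      (Set.mem_image_of_mem _ hz))
    rintro _ ⟨_, ⟨u, rfl⟩, rfl⟩
    exact ⟨_, (e u).symm⟩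
  rw [PrimeSpectrum.closure_range_comap, RingHom.ker_eq_comap_bot] at hz'
  replace hz' : Ideal.comap φ ⊥ ≤ (show PrimeSpectrum _ from Z.isoSpec.hom z).asIdeal := hz'
  obtain ⟨q, -, hq, hqle⟩ := Ideal.exists_ideal_comap_le_prime _ ⊥ hz'
  let x : PrimeSpectrum Γ(U, ⊤) := ⟨q, hq⟩
  refine ⟨U.isoSpec.inv x, Z.isoSpec.hom.isOpenEmbedding.toIsEmbedding.isInducing.specializes_iff.1 ?_⟩
  rw [e]
  have ex : U.isoSpec.hom (U.isoSpec.inv x) = x := by
    rw [← Scheme.Hom.comp_apply, Iso.inv_hom_id]
    rfl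
  rw [ex]
  exact (PrimeSpectrum.le_iff_specializes _ _).1 hqle

/-- Flat morphisms of affine schemes satisfy going down. -/
theorem generalizingMap_of_flat {U Z : Scheme.{u}} [IsAffine U] [IsAffine Z] (g : U ⟶ Z) [Flat g] :
    GeneralizingMap g := by
  have hφ : g.appTop.hom.Flat := (HasRingHomProperty.iff_of_isAffine (P := @Flat)).1 ‹_›
  intro u z hz
  have e : ∀ u, Z.isoSpec.hom (g u) = PrimeSpectrum.comap g.appTop.hom (U.isoSpec.hom u) :=
    fun u => by
      rw [← Scheme.Hom.comp_apply, ← Scheme.isoSpec_hom_naturality]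
      rfl
  have hz' : Z.isoSpec.hom z ⤳ PrimeSpectrum.comap g.appTop.hom (U.isoSpec.hom u) := by
    rw [← e]
    exact hz.map Z.isoSpec.hom.continuous
  obtain ⟨x, hx, hxe⟩ := RingHom.Flat.generalizingMap_comap hφ hz'
  have ex : U.isoSpec.hom (U.isoSpec.inv x) = x := by
    rw [← Scheme.Hom.comp_apply, Iso.inv_hom_id]
    rfl
  refine ⟨U.isoSpec.inv x, U.isoSpec.hom.isOpenEmbedding.toIsEmbedding.isInducing.specializes_iff.1
    (ex.symm ▸ hx), Z.isoSpec.hom.isOpenEmbedding.injective ?_⟩
  rw [e, ex, hxe]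

theorem isClosedImmersion_of_isImmersion {X Y : Scheme.{u}} (f : X ⟶ Y) [IsImmersion f]
    (h : IsClosed (Set.range f)) : IsClosedImmersion f :=
  .of_isPreimmersion _ h

/-- A set is locally closed if it is so on every affine open. -/
theorem isLocallyClosed_of_affineCover {X : Scheme.{u}} {s : Set X}
    (h : ∀ k, IsLocallyClosed (X.affineCover.f k ⁻¹' s)) : IsLocallyClosed s := by
  rw [isLocallyClosed_iff_isOpen_coborder]
  have key : coborder s = ⋃ k, X.affineCover.f k '' (X.affineCover.f k ⁻¹' coborder s) := by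
    refine Set.Subset.antisymm (fun x hx => ?_)
      (Set.iUnion_subset fun k => Set.image_preimage_subset _ _)
    obtain ⟨k, w, rfl⟩ := X.affineCover.exists_eq x
    exact Set.mem_iUnion.2 ⟨k, w, hx, rfl⟩
  rw [key]
  refine isOpen_iUnion fun k => (X.affineCover.f k).isOpenEmbedding.isOpenMap _ ?_
  rw [← (X.affineCover.f k).isOpenEmbedding.coborder_preimage]
  exact (h k).isOpen_coborder

end Schemes

variable {S : Scheme.{u}}

theorem range_map_of_isPullback {Z Z' X Y : Sp S} {fst : Z' ⟶ X} {snd : Z' ⟶ Z} {f : X ⟶ Y}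
    {g : Z ⟶ Y} (sq : IsPullback fst snd f g) :
    Set.range (Points.map snd) = Points.map g ⁻¹' Set.range (Points.map f) := by
  ext z
  constructor
  · rintro ⟨w, rfl⟩
    exact ⟨Points.map fst w, by rw [← Points.map_comp, sq.w, Points.map_comp]⟩
  · rintro ⟨x, hx⟩
    obtain ⟨w, -, hw⟩ := Groth.AlgSpBasic.exists_point_of_isPullback sq x z hx
    exact ⟨w, hw⟩

variable {ι : Type u} {X Y : Sp S} {Yi Xi : ι → Sp S} {g : ∀ i, Yi i ⟶ Y} {f : X ⟶ Y}
  {p : ∀ i, Xi i ⟶ Yi i} {q : ∀ i, Xi i ⟶ X}

/-- Immersions descend along fpqc coverings as soon as the image is locally closed. -/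
theorem repWith_isImmersion_of_cover (hY : IsAlgSpace Y) (hYi : ∀ i, IsAlgSpace (Yi i))
    (hg : IsFpqcCover Yi g) (hX : IsAlgSpace X) (hXi : ∀ i, IsAlgSpace (Xi i))
    (hsq : ∀ i, IsPullback (q i) (p i) f (g i)) (hp : ∀ i, RepWith @IsImmersion (p i))
    (hR : IsLocallyClosed (Set.range (Points.map f))) : RepWith @IsImmersion f := by
  let R := Set.range (Points.map f)
  let j := openSubι Y (coborder R)
  have hj : RepWith @IsOpenImmersion j := repWith_openSubι hR.isOpen_coborder
  have : Mono j := Groth.AlgSpBasic.mono_of_repWith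
    (fun A B m (_ : IsOpenImmersion m) => (inferInstance : Mono m)) hj
  have hYo : IsAlgSpace (openSub Y (coborder R)) := isAlgSpace_of_representable hY j hj.rep
  have hWr : coborder R ⊆ Set.range (Points.map j) := by
    intro y hy
    obtain ⟨U, a, ha, has⟩ := hY.atlas
    obtain ⟨u, rfl⟩ := surjective_ofPt_of_repWith has y
    obtain ⟨V, snd, fst, sq⟩ := hj.rep a
    have : IsOpenImmersion snd.left := hj.property a fst snd sq
    let T : Over S := Over.mk (U.left.fromSpecResidueField u ≫ U.hom)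
    let t : T ⟶ U := Over.homMk (U.left.fromSpecResidueField u) rfl
    have hmem : ∀ x, Points.ofPt ((yon S).map t ≫ a) x ∈ coborder R := fun x => by
      rw [ofPt_comp_yon]
      have : t.left x = u := Scheme.fromSpecResidueField_apply u x
      rwa [this]
    obtain ⟨l, hl⟩ := (openSub_exists_lift_iff Y (coborder R) _).2 hmem
    refine ⟨Points.ofPt l (IsLocalRing.closedPoint _), ?_⟩
    rw [Points.map_ofPt, hl, ofPt_comp_yon]
    exact congrArg _ (Scheme.fromSpecResidueField_apply u _)
  obtain ⟨f', hf'⟩ := exists_lift_of_range_openImmersion hX hj f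
    (subset_coborder.trans hWr)
  have sqj : IsPullback (𝟙 X) f' f j := isPullback_of_mono_comp hf'
  let Wi : ι → Sp S := fun i => pullback j (g i)
  have hWi : ∀ i, IsAlgSpace (Wi i) := fun i =>
    isAlgSpace_of_isPullback (IsPullback.of_hasPullback _ _) hY.diag hYo (hYi i)
  have hcov : IsFpqcCover Wi (fun i => pullback.fst j (g i)) :=
    isFpqcCover_baseChange hY hYo hYi (fun i => IsPullback.of_hasPullback j (g i)) hg
  let p' : ∀ i, Xi i ⟶ Wi i := fun i =>
    pullback.lift (q i ≫ f') (p i) (by rw [Category.assoc, hf', (hsq i).w])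
  have sq' : ∀ i, IsPullback (q i) (p' i) f' (pullback.fst j (g i)) := fun i => by
    refine IsPullback.of_bot ?_ (by rw [pullback.lift_fst]) (IsPullback.of_hasPullback j (g i))
    rw [hf', pullback.lift_snd]
    exact hsq i
  have hclosed : IsClosed (Points.map j ⁻¹' R) := by
    have e : Points.map j ⁻¹' R = Points.map j ⁻¹' closure R := by
      refine Set.Subset.antisymm (Set.preimage_mono subset_closure) fun y hy => ?_
      have hw : Points.map j y ∈ coborder R := by
        obtain ⟨T, ψ, hψe, hψs⟩ := hYo.atlas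
        obtain ⟨t, rfl⟩ := surjective_ofPt_of_repWith hψs y
        rw [Points.map_ofPt]
        exact (openSub_exists_lift_iff Y (coborder R) _).1 ⟨ψ, rfl⟩ t
      exact (closure_inter_coborder (s := R)).le ⟨hy, hw⟩
    rw [e]
    exact isClosed_closure.preimage (Points.continuous_map j)
  have hci : ∀ i, RepWith @IsClosedImmersion (p' i) := fun i => by
    have hp' : (p' i) ≫ pullback.snd j (g i) = p i := pullback.lift_snd _ _ _
    have : Mono (pullback.snd j (g i)) := pullback.snd_of_mono
    have sqi : IsPullback (𝟙 _) (p' i) (p i) (pullback.snd j (g i)) := isPullback_of_mono_comp hp'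
    refine repWith_of_representable (repWith_of_isPullback sqi (hp i)).rep
      fun U V a fst snd sq => ?_
    have : IsImmersion snd.left := (repWith_of_isPullback sqi (hp i)).property a fst snd sq
    refine isClosedImmersion_of_isImmersion snd.left ?_
    rw [range_left_eq_preimage ((sq.paste_horiz (sq' i)).paste_horiz sqj)]
    have e : Points.ofPt ((a ≫ pullback.fst j (g i)) ≫ j) =
        Points.map j ∘ Points.ofPt (a ≫ pullback.fst j (g i)) := by
      funext u
      exact (Points.map_ofPt _ _ _).symm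
    rw [e, Set.preimage_comp]
    exact hclosed.preimage (Points.continuous_ofPt _)
  have h' : RepWith @IsClosedImmersion f' :=
    (isLocalOnBase_fpqc_repWith_isClosedImmersion Wi _ hYo hWi hcov f' hX Xi p' q hXi sq').2 hci
  rw [← hf']
  exact repWith_comp (repWith_mono (Q := @IsImmersion)
      (fun _ _ k (_ : IsClosedImmersion k) => (inferInstance : IsImmersion k)) h')
    (repWith_mono (Q := @IsImmersion)
      (fun _ _ k (_ : IsOpenImmersion k) => (inferInstance : IsImmersion k)) hj)

theorem isLocallyClosed_range_of_openCover (hY : IsAlgSpace Y)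
    (hsq : ∀ i, IsPullback (q i) (p i) f (g i)) (ho : ∀ i, IsOpenMap (Points.map (g i)))
    (hs : ∀ y : Points Y, ∃ i, y ∈ Set.range (Points.map (g i)))
    (hYi : ∀ i, IsAlgSpace (Yi i)) (hp : ∀ i, RepWith @IsImmersion (p i)) :
    IsLocallyClosed (Set.range (Points.map f)) := by
  rw [isLocallyClosed_iff_isOpen_coborder]
  have key : coborder (Set.range (Points.map f)) =
      ⋃ i, Points.map (g i) '' coborder (Set.range (Points.map (p i))) := by
    simp_rw [range_map_of_isPullback (hsq _), coborder_preimage (ho _) (Points.continuous_map _)]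
    refine Set.Subset.antisymm (fun y hy => ?_)
      (Set.iUnion_subset fun i => Set.image_preimage_subset _ _)
    obtain ⟨i, w, rfl⟩ := hs y
    exact Set.mem_iUnion.2 ⟨i, w, hy, rfl⟩
  rw [key]
  exact isOpen_iUnion fun i =>
    ho i _ (isEmbedding_map_of_immersion (hYi i) (hp i)).2.isOpen_coborder

theorem isLocalOnBase_fppf_repWith_isImmersion :
    IsLocalOnBase (IsFppfCover (S := S)) (RepWith @IsImmersion) := by
  intro ι Y Yi g hY hYi hg X f hX Xi p q hXi hsq
  refine ⟨fun h i => repWith_of_isPullback (hsq i) h, fun hp => ?_⟩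
  exact repWith_isImmersion_of_cover hY hYi (isFpqcCover_of_isFppfCover hY hYi hg) hX hXi hsq hp
    (isLocallyClosed_range_of_openCover hY hsq
      (fun i => Groth.AlgSpBasic.isOpenMap_map_of_locP (hYi i) hY (hg.1 i).1 (hg.1 i).2) hg.2 hYi hp)

theorem isLocallyClosed_preimage_of_fpqcCover (hg : IsFpqcCover Yi g)
    (hsq : ∀ i, IsPullback (q i) (p i) f (g i))
    (hp : ∀ i, RepWith (@IsImmersion ⊓ @QuasiCompact) (p i))
    {T : Over S} (hT : IsAffine T.left) (a : (yon S).obj T ⟶ Y) :
    IsLocallyClosed (Points.ofPt a ⁻¹' Set.range (Points.map f)) := by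
  set R := Set.range (Points.map f)
  have : IsAffine T.left := hT
  obtain ⟨𝒲, hl⟩ := (isFpqcCover_iff.1 hg).2 T hT a
  choose i l hl using hl
  choose V snd fst sq using fun k => (hp (i k)).rep (l k)
  have hP : ∀ k, IsImmersion (snd k).left ∧ QuasiCompact (snd k).left := fun k =>
    (hp (i k)).property (l k) (fst k) (snd k) (sq k)
  have hrange : ∀ k, Set.range (snd k).left = (𝒲.c k).left ⁻¹' (Points.ofPt a ⁻¹' R) := fun k => by
    rw [range_left_eq_preimage ((sq k).paste_horiz (hsq (i k))), hl]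
    ext w
    simp only [Set.mem_preimage, ofPt_comp_yon]
    rfl
  rw [isLocallyClosed_iff_isOpen_coborder, 𝒲.isOpen_iff]
  intro k
  have := 𝒲.affine k
  have := 𝒲.flat k
  have hsub : (𝒲.c k).left ⁻¹' closure (Points.ofPt a ⁻¹' R) =
      closure ((𝒲.c k).left ⁻¹' (Points.ofPt a ⁻¹' R)) := by
    refine Set.Subset.antisymm (fun w hw => ?_)
      ((𝒲.c k).left.continuous.closure_preimage_subset _)
    have hcl : (𝒲.c k).left w ∈ closure (⋃ m, Set.range ((snd m).left ≫ (𝒲.c m).left)) := by
      refine closure_mono (fun t ht => ?_) hw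
      obtain ⟨m, v, rfl⟩ := 𝒲.surj t
      obtain ⟨v', hv'⟩ := (hrange m).ge ht
      exact Set.mem_iUnion.2 ⟨m, v', by rw [← hv']; rfl⟩
    rw [closure_iUnion_of_finite] at hcl
    obtain ⟨m, hm⟩ := Set.mem_iUnion.1 hcl
    have := 𝒲.affine m
    have := (hP m).2
    have : CompactSpace (V m).left := QuasiCompact.compactSpace_of_compactSpace (snd m).left
    obtain ⟨v, hv⟩ := exists_specializes_of_mem_closure _ hm
    obtain ⟨w', hw', hw'e⟩ := generalizingMap_of_flat (𝒲.c k).left hv
    refine hw'.mem_closed isClosed_closure (subset_closure ?_)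
    have : (snd m).left v ∈ (𝒲.c m).left ⁻¹' (Points.ofPt a ⁻¹' R) := (hrange m).le ⟨v, rfl⟩
    change (𝒲.c k).left w' ∈ Points.ofPt a ⁻¹' R
    rw [hw'e]
    exact this
  have e : (𝒲.c k).left ⁻¹' coborder (Points.ofPt a ⁻¹' R) = coborder (Set.range (snd k).left) := by
    rw [hrange, coborder, coborder, Set.preimage_compl, Set.preimage_sdiff, hsub]
  rw [e]
  have := (hP k).1
  exact (snd k).left.isLocallyClosed_range.isOpen_coborder

theorem preimage_ofPt_comp {T U : Over S} (t : T ⟶ U) {F : Sp S} (a : (yon S).obj U ⟶ F)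
    (A : Set (Points F)) :
    Points.ofPt ((yon S).map t ≫ a) ⁻¹' A = t.left ⁻¹' (Points.ofPt a ⁻¹' A) := by
  ext x
  rw [Set.mem_preimage, Set.mem_preimage, Set.mem_preimage, ofPt_comp_yon]

theorem isLocallyClosed_range_of_fpqcCover (hY : IsAlgSpace Y) (hg : IsFpqcCover Yi g)
    (hsq : ∀ i, IsPullback (q i) (p i) f (g i))
    (hp : ∀ i, RepWith (@IsImmersion ⊓ @QuasiCompact) (p i)) :
    IsLocallyClosed (Set.range (Points.map f)) := by
  set R := Set.range (Points.map f)
  have key : ∀ (T : Over S), IsAffine T.left → ∀ a : (yon S).obj T ⟶ Y,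
      IsLocallyClosed (Points.ofPt a ⁻¹' R) :=
    fun T hT a => isLocallyClosed_preimage_of_fpqcCover hg hsq hp hT a
  obtain ⟨U, a, ha, has⟩ := hY.atlas
  rw [isLocallyClosed_iff_isOpen_coborder, ← (isQuotientMap_ofPt ha has).isCoinducing.isOpen_preimage,
    ← coborder_preimage (isOpenMap_ofPt_of_etale ha) (Points.continuous_ofPt a)]
  refine (isLocallyClosed_of_affineCover fun k => ?_).isOpen_coborder
  have hz := key (Over.mk (U.left.affineCover.f k ≫ U.hom))
    (inferInstanceAs (IsAffine (U.left.affineCover.X k)))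
    ((yon S).map (Over.homMk (U.left.affineCover.f k) rfl) ≫ a)
  rw [preimage_ofPt_comp] at hz
  exact hz

theorem isLocalOnBase_fpqc_repWith_quasiCompact_immersion :
    IsLocalOnBase (IsFpqcCover (S := S)) (RepWith (@IsImmersion ⊓ @QuasiCompact)) := by
  intro ι Y Yi g hY hYi hg X f hX Xi p q hXi hsq
  refine ⟨fun h i => repWith_of_isPullback (hsq i) h, fun hp => ?_⟩
  have hi := repWith_isImmersion_of_cover hY hYi hg hX hXi hsq
    (fun i => (repWith_inf_iff.1 (hp i)).1) (isLocallyClosed_range_of_fpqcCover hY hg hsq hp)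
  refine repWith_inf_iff.2 ⟨hi, repWith_of_isQuasiCompactMor hi.rep
    ((isLocalOnBase_fpqc_isQuasiCompactMor Yi g hY hYi hg f hX Xi p q hXi hsq).2 fun i =>
      isQuasiCompactMor_of_repWith (hXi i) (hYi i) (repWith_inf_iff.1 (hp i)).2)⟩

end

end Groth.AlgSp2
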