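import Groth.Agent.AlgSp2.FiniteTfae
import Groth.Agent.AlgSp2.ImmersionLocality
import Groth.Agent.AlgSp3.HasAtMor
import Groth.Agent.AlgSp3.DimFacts
import Groth.Agent.AlgSpBasic.QComp
import Groth.Agent.FibreDim.BaseChange
import Groth.Agent.S1240

/-!
# Flat morphisms with controlled behaviour over a dense open
-/

set_option autoImplicit false
set_option backward.isDefEq.respectTransparency.types false
set_option linter.unusedVariables false
universe u

open CategoryTheory CategoryTheory.Limits AlgebraicGeometry AlgSp TopologicalSpace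

namespace Groth.AlgSp2

open Groth.AlgSpBasic

noncomputable section

variable {S : Scheme.{u}} {X Y V P : Sp S} {f : X ⟶ Y} {j : V ⟶ Y} {fst : P ⟶ X} {snd : P ⟶ V}

/-- A chart of a morphism restricts to a chart of its base change along an open immersion. -/
theorem exists_open_chart (hj : RepWith @IsOpenImmersion j) (hc : IsPullback fst snd f j)
    {U' V' : Over S} {a' : (yon S).obj U' ⟶ X} {b' : (yon S).obj V' ⟶ Y} {h' : U' ⟶ V'}
    (ha' : RepWith @Etale a') (hb' : RepWith @Etale b') (comm : a' ≫ f = (yon S).map h' ≫ b') :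
    ∃ (U₀ V₀ : Over S) (a : (yon S).obj U₀ ⟶ P) (b : (yon S).obj V₀ ⟶ V) (h : U₀ ⟶ V₀)
      (iU : U₀ ⟶ U') (iV : V₀ ⟶ V'), RepWith @Etale a ∧ RepWith @Etale b ∧
        a ≫ snd = (yon S).map h ≫ b ∧ IsOpenImmersion iV.left ∧
        Set.range iV.left = Points.ofPt b' ⁻¹' Set.range (Points.map j) ∧
        IsPullback b ((yon S).map iV) j b' ∧ IsPullback iU.left h.left h'.left iV.left := by
  have hi : RepWith @IsOpenImmersion fst := repWith_of_isPullback hc.flip hj
  obtain ⟨V₀, iV, b, sV⟩ := hj.rep b'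
  obtain ⟨U₀, iU, a, sU⟩ := hi.rep a'
  obtain ⟨h, hh⟩ := (yon S).map_surjective (sV.lift (a ≫ snd) ((yon S).map (iU ≫ h')) (by
    rw [Category.assoc, ← hc.w, reassoc_of% sU.w, comm, Functor.map_comp, Category.assoc]))
  have h1 : (yon S).map h ≫ b = a ≫ snd := by rw [hh, sV.lift_fst]
  have h2 : h ≫ iV = iU ≫ h' := (yon S).map_injective (by rw [Functor.map_comp, hh, sV.lift_snd])
  have sU' : IsPullback ((yon S).map h) ((yon S).map iU) ((yon S).map iV) ((yon S).map h') := by
    refine IsPullback.of_right ?_ (by rw [← Functor.map_comp, ← Functor.map_comp, h2]) sV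
    rw [h1, ← comm]
    exact sU.paste_horiz hc.flip
  exact ⟨U₀, V₀, a, b, h, iU, iV, repWith_of_isPullback sU.flip ha',
    repWith_of_isPullback sV.flip hb', h1.symm, hj.property b' b iV sV,
    range_left_eq_preimage sV, sV, (isPullback_left (isPullback_of_yon sU')).flip⟩

theorem relDim_le_of_flat_over_dense_open (hX : IsAlgSpace X) (hY : IsAlgSpace Y)
    (hP : IsAlgSpace P) (hV : IsAlgSpace V) (d : ℕ)
    (hf1 : LocP @Flat f) (hf2 : LocP @LocallyOfFiniteType f) (hj : RepWith @IsOpenImmersion j)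
    (hj2 : Dense (Set.range (Points.map j))) (hc : IsPullback fst snd f j)
    (hd : ∀ x, HasAtMor (fun _ _ h u => FlatMor.fibreDimAt h u ≤ (d : WithBot ℕ∞)) snd x)
    (h : LocP @LocallyOfFinitePresentation f ∨ IsQuasiCompactMor j) :
    ∀ x, HasAtMor (fun _ _ h u => FlatMor.fibreDimAt h u ≤ (d : WithBot ℕ∞)) f x := by
  intro x
  obtain ⟨U, W, a, b, k, u, ha, hb, comm, rfl⟩ := Groth.AlgSp3.exists_chart_at hX hY f x
  obtain ⟨U₀, V₀, a₀, b₀, k₀, iU, iV, ha₀, hb₀, comm₀, hiV, hr, sV, sq⟩ :=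
    exists_open_chart hj hc ha hb comm
  refine (Groth.AlgSp3.hasAtMor_iff_of_chart Groth.AlgSp3.etMor_fibreDimAt
    (· ≤ (d : WithBot ℕ∞)) hX.diag hY.diag ha hb comm u).2 ?_
  have : Flat k.left := hf1 a b k ha hb comm
  have : LocallyOfFiniteType k.left := hf2 a b k ha hb comm
  refine Groth.Agent.S1240.result k.left iV.left.opensRange ?_ d (fun x hx => ?_) ?_ u
  · rw [Scheme.Hom.coe_opensRange, hr]
    exact hj2.preimage (isOpenMap_ofPt_of_etale hb)
  · obtain ⟨v, hv⟩ : x ∈ k.left ⁻¹' Set.range iV.left := hx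
    obtain ⟨u₀, rfl, -⟩ := Scheme.exists_preimage_of_isPullback sq x v hv.symm
    rw [← Groth.FibreDim.fibreDimAt_baseChange k.left iV.left k₀.left iU.left sq u₀]
    exact (Groth.AlgSp3.hasAtMor_iff_of_chart Groth.AlgSp3.etMor_fibreDimAt
      (· ≤ (d : WithBot ℕ∞)) hP.diag hV.diag ha₀ hb₀ comm₀ u₀).1 (hd _)
  · refine h.imp (fun hfp => hfp a b k ha hb comm) fun hqc => ?_
    have : QuasiCompact iV.left :=
      (repWith_of_isQuasiCompactMor hj.rep hqc).property b b₀ iV sV
    rw [Scheme.Hom.coe_opensRange]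
    intro K hK hKo
    rw [Set.inter_comm, ← Set.image_preimage_eq_inter_range]
    exact (QuasiCompact.isCompact_preimage K hKo hK).image iV.left.continuous

theorem isFiniteMor_of_flat_proper_finite_over_dense_open (hX : IsAlgSpace X) (hY : IsAlgSpace Y)
    (hP : IsAlgSpace P) (hV : IsAlgSpace V) (hf1 : LocP @Flat f) (hf2 : IsProperMor f)
    (hj : RepWith @IsOpenImmersion j) (hj2 : Dense (Set.range (Points.map j)))
    (hc : IsPullback fst snd f j) (hfin : IsFiniteMor snd)
    (h : LocP @LocallyOfFinitePresentation f ∨ IsQuasiCompactMor j) : IsFiniteMor f := by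
  have hl : LocP @LocallyOfFiniteType f := hf2.2.1.1
  have hd := relDim_le_of_flat_over_dense_open hX hY hP hV 0 hf1 hl hj hj2 hc (fun p => ?_) h
  · refine isFiniteMor_of_univClosed_sep_lqf hX hY hf2.2.2 hf2.1 ?_
    intro U W a b k ha hb comm
    have : LocallyOfFiniteType k.left := hl a b k ha hb comm
    refine ⟨Groth.AlgSp3.locallyQuasiFinite_of_fibreDimAt k.left fun u => ?_, this⟩
    refine le_antisymm ?_ ?_
    · exact (Groth.AlgSp3.hasAtMor_iff_of_chart Groth.AlgSp3.etMor_fibreDimAt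
        (· ≤ ((0 : ℕ) : WithBot ℕ∞)) hX.diag hY.diag ha hb comm u).1 (hd _)
    · exact Groth.SpectralTopology.localDim_nonneg _
  · obtain ⟨U, W, a, b, k, u, ha, hb, comm, rfl⟩ := Groth.AlgSp3.exists_chart_at hP hV snd p
    obtain ⟨_, _⟩ := lqf_of_isFiniteMor hP hV hfin a b k ha hb comm
    exact ⟨U, W, a, b, k, u, ha, hb, comm, rfl,
      (Groth.FibreDim.fibreDimAt_eq_zero_of_locallyQuasiFinite k.left u).le⟩

end

end Groth.AlgSp2
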