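import Groth.Agent.AlgSpBasic.UnivTest
import Groth.Agent.AlgSpBasic.LocPInst
import Groth.Agent.AlgSpBasic.Compact
import Mathlib.AlgebraicGeometry.Artinian
import Mathlib.AlgebraicGeometry.Morphisms.QuasiFinite

/-!
# Locally quasi-finite means discrete fibres
-/

set_option autoImplicit false
set_option backward.isDefEq.respectTransparency.types false
universe u

open CategoryTheory CategoryTheory.Limits AlgebraicGeometry AlgSp TopologicalSpace

namespace Groth.AlgSp2

open Groth.AlgSpBasic

noncomputable section

variable {S : Scheme.{u}}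

theorem discreteTopology_of_isClosed_singleton (W : Scheme.{u}) [IsLocallyNoetherian W]
    (h : ∀ w : W, IsClosed {w}) : DiscreteTopology W := by
  have := IsLocallyArtinian.of_topologicalKrullDim_le_zero (X := W) (by
    refine Order.krullDim_nonpos_iff_forall_isMax.mpr fun Z Y hle => (hle.antisymm' fun x hx => ?_).le
    obtain ⟨z, hz⟩ := Z.2.nonempty
    have hg : IsGenericPoint (Y.2.genericPoint) (Y : Set W) := by
      have := Y.2.isGenericPoint_genericPoint_closure
      rwa [Y.3.closure_eq] at this
    have e : (Y : Set W) = {Y.2.genericPoint} := hg.symm.trans (h _).closure_eq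
    replace hx : x ∈ (Y : Set W) := hx
    rw [e] at hx
    have hz' : z ∈ (Y : Set W) := hle hz
    rw [e] at hz'
    rwa [Set.mem_singleton_iff.1 hx, ← Set.mem_singleton_iff.1 hz'])
  infer_instance

/-- An etale chart of a discrete space over a field is discrete. -/
theorem discrete_chart {P : Sp S} (hP : IsAlgSpace P) [DiscreteTopology (Points P)] {W : Over S}
    (q : (yon S).obj W ⟶ P) (hq : RepWith @Etale q) {k : Type u} [Field k]
    (s : W.left ⟶ Spec (CommRingCat.of k)) [LocallyOfFiniteType s] : DiscreteTopology W.left := by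
  have : JacobsonSpace W.left := LocallyOfFiniteType.jacobsonSpace s
  have : IsLocallyNoetherian W.left := LocallyOfFiniteType.isLocallyNoetherian s
  refine discreteTopology_of_isClosed_singleton W.left fun w => ?_
  obtain ⟨w₀, hw₀, hw₀c⟩ := nonempty_inter_closedPoints
    (Z := Points.ofPt q ⁻¹' {Points.ofPt q w}) ⟨w, rfl⟩
    (((isOpen_discrete _).preimage (Points.continuous_ofPt q)).isLocallyClosed)
  obtain ⟨R, r₁, r₂, sq⟩ := exists_pullback_of_diag hP.diag q q
  have : Etale r₂.left := repWith_fst_of_isPullback sq hq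
  have : Etale r₁.left := repWith_fst_of_isPullback sq.flip hq
  obtain ⟨z, hz₁, hz₂⟩ := exists_point_of_isPullback sq (Points.ofScheme W w) (Points.ofScheme W w₀)
    (by rw [Points.map_ofPt, Points.map_ofPt, Category.id_comp]; exact hw₀.symm)
  obtain ⟨r, rfl⟩ : ∃ r, Points.ofScheme R r = z :=
    ⟨Points.toScheme R z, Points.ofScheme_toScheme R z⟩
  have e₁ := congrArg (Points.toScheme W) hz₁
  have e₂ := congrArg (Points.toScheme W) hz₂
  rw [Points.map_ofPt, Category.id_comp, Points.toScheme_ofPt, Points.toScheme_ofScheme] at e₁ e₂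
  have : LocallyQuasiFinite r₂.left := Groth.AlgSpBasic.locallyQuasiFinite_of_formallyUnramified _
  have hd := r₂.left.isDiscrete_preimage_singleton w₀
  have hc : IsClosed (r₂.left ⁻¹' {w₀}) := hw₀c.preimage r₂.left.continuous
  have hr : IsClosed ({r} : Set R.left) := by
    have := hd.to_subtype
    have h1 := hc.isClosedEmbedding_subtypeVal.isClosedMap {⟨r, e₂⟩} (isClosed_discrete _)
    rwa [Set.image_singleton] at h1
  have : JacobsonSpace R.left := LocallyOfFiniteType.jacobsonSpace (r₁.left ≫ s)
  exact e₁ ▸ r₁.left.closePoints_subset_preimage_closedPoints hr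

/-- Locally quasi-finite morphisms are those with discrete fibres. -/
theorem lqf_iff_discrete_fibres {X Y : Sp S} (hX : IsAlgSpace X) (hY : IsAlgSpace Y) {f : X ⟶ Y}
    (hf : LocP @LocallyOfFiniteType f) :
    LocP (@LocallyQuasiFinite ⊓ @LocallyOfFiniteType) f ↔
      ∀ (k : Type u) [Field k] (str : Spec (CommRingCat.of k) ⟶ S)
        (y : (yon S).obj (Over.mk str) ⟶ Y) (P : Sp S) (fst : P ⟶ X)
        (snd : P ⟶ (yon S).obj (Over.mk str)),
        IsPullback fst snd f y → DiscreteTopology (Points P) := by
  constructor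
  · intro hq k _ str y P fst snd sq
    have hP : IsAlgSpace P := isAlgSpace_of_isPullback sq hY.diag hX (IsAlgSpace.yon_obj _)
    obtain ⟨W, q, hqe, hqs⟩ := hP.atlas
    obtain ⟨h, hh⟩ := (yon S).map_surjective (q ≫ snd)
    obtain ⟨_, _⟩ := locP_of_isPullback hX hY (IsAlgSpace.yon_obj _) sq hq q (𝟙 _) h hqe
      (repWith_id _ _) (by rw [Category.comp_id, hh])
    have : IsLocallyArtinian (Over.mk str).left :=
      inferInstanceAs (IsLocallyArtinian (Spec (CommRingCat.of k)))
    have : IsLocallyArtinian W.left := IsLocallyArtinian.of_locallyQuasiFinite h.left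
    have : DiscreteTopology W.left := inferInstance
    refine discreteTopology_iff_forall_isOpen.mpr fun s => ?_
    rw [← (isQuotientMap_ofPt hqe hqs).isOpen_preimage]
    exact isOpen_discrete _
  · intro H U V a b h ha hb comm
    have hl : LocallyOfFiniteType h.left := hf a b h ha hb comm
    refine ⟨locallyQuasiFinite_iff_isDiscrete_preimage_singleton.2 fun v => ?_, hl⟩
    let pt : Over S := Over.mk (V.left.fromSpecResidueField v ≫ V.hom)
    let j : pt ⟶ V := Over.homMk (V.left.fromSpecResidueField v) rfl
    let y := (yon S).map j ≫ b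
    have sq := IsPullback.of_hasPullback f y
    have hP : IsAlgSpace (pullback f y) :=
      isAlgSpace_of_isPullback sq hY.diag hX (IsAlgSpace.yon_obj pt)
    have hd : DiscreteTopology (Points (pullback f y)) :=
      H (V.left.residueField v) (V.left.fromSpecResidueField v ≫ V.hom) y _ _ _ sq
    obtain ⟨W, w₁, w₂, sW⟩ := exists_pullback_yon (representable_of_diag hY.diag (a ≫ f)) y
    let φ := pullback.lift ((yon S).map w₁ ≫ a) ((yon S).map w₂) (by rw [Category.assoc, sW.w])
    have sφ : IsPullback ((yon S).map w₁) φ a (pullback.fst f y) := by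
      refine IsPullback.of_bot (v₁₁ := φ) (v₂₁ := pullback.snd f y) (v₁₂ := a) (v₂₂ := f) ?_ (pullback.lift_fst _ _ _).symm
        sq
      rw [pullback.lift_snd]
      exact sW
    have hφ : RepWith @Etale φ := repWith_of_isPullback sφ ha
    have hs : LocallyOfFiniteType w₂.left :=
      locP_of_isPullback hX hY (IsAlgSpace.yon_obj pt) sq hf φ (𝟙 _) w₂ hφ (repWith_id _ _)
        (by rw [Category.comp_id]; exact pullback.lift_snd _ _ _)
    have hs' : LocallyOfFiniteType (w₂.left : W.left ⟶ Spec (CommRingCat.of (V.left.residueField v))) :=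
      hs
    have := discrete_chart hP φ hφ (k := V.left.residueField v) w₂.left
    let M : Over S := Over.mk (h.left.fiberι v ≫ U.hom)
    let m₁ : M ⟶ U := Over.homMk (h.left.fiberι v) rfl
    have ew : h.left.fiberι v ≫ h.left =
        h.left.fiberToSpecResidueField v ≫ V.left.fromSpecResidueField v := pullback.condition
    let m₂ : M ⟶ pt := Over.homMk (h.left.fiberToSpecResidueField v) (by
      change _ ≫ _ ≫ V.hom = h.left.fiberι v ≫ U.hom
      rw [← reassoc_of% ew, Over.w h])
    have e : m₁ ≫ h = m₂ ≫ j := Over.OverMorphism.ext ew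
    obtain ⟨m, hm⟩ := (yon S).map_surjective (sW.lift ((yon S).map m₁) ((yon S).map m₂) (by
      rw [comm, ← Category.assoc, ← Functor.map_comp, e, Functor.map_comp, Category.assoc]))
    have hm₁ : m ≫ w₁ = m₁ := (yon S).map_injective (by rw [Functor.map_comp, hm, sW.lift_fst])
    have hinj : Function.Injective m.left := fun p q hpq => by
      refine (h.left.fiberι v).isEmbedding.injective ?_
      have h1 : m.left ≫ w₁.left = h.left.fiberι v := congr(($hm₁).left)
      rw [← h1, Scheme.Hom.comp_apply, Scheme.Hom.comp_apply, hpq]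
    have : DiscreteTopology ↥(h.left.fiber v) :=
      DiscreteTopology.of_continuous_injective m.left.continuous hinj
    simpa [Scheme.Hom.range_fiberι] using
      (isDiscrete_univ_iff.mpr ‹DiscreteTopology ↥(h.left.fiber v)›).image
        (h.left.fiberι v).isEmbedding.toIsInducing

end

end Groth.AlgSp2
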