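import Groth.Agent.AlgSp2.Locality
import Groth.Agent.AlgSp2.FppfProps
import Groth.Agent.AlgSpBasic.OpenSub
import Groth.Agent.AlgSpBasic.Immersion

/-!
# Properties étale local on the source and smooth local on the base
-/

set_option autoImplicit false
set_option backward.isDefEq.respectTransparency.types false
universe u

open CategoryTheory CategoryTheory.Limits AlgebraicGeometry Opposite AlgSp

namespace Groth.AlgSp2

open Groth.AlgSpBasic

noncomputable section

variable {S : Scheme.{u}}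

/-- The hypotheses: étale local on the source, smooth local on the base, stable under open
immersions on the target. -/
structure ESHyp (P : MorphismProperty (Sp S)) : Prop where
  source : IsLocalOnSource (IsEtCover (S := S)) P
  base : IsLocalOnBase (IsSmCover (S := S)) P
  openPost : ∀ {X Y Z : Sp S}, IsAlgSpace X → IsAlgSpace Y → IsAlgSpace Z → ∀ (f : X ⟶ Y)
    (j : Y ⟶ Z), P f → RepWith @IsOpenImmersion j → P (f ≫ j)

variable {P : MorphismProperty (Sp S)} {X Y : Sp S}

theorem isEtaleMor_of_isOpenImmersion (hY : IsAlgSpace Y) {j : X ⟶ Y}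
    (hj : RepWith @IsOpenImmersion j) : IsEtaleMor j :=
  isEtaleMor_of_locP hY (locP_of_repWith (repWith_mono (fun _ _ k (_ : IsOpenImmersion k) =>
    (inferInstance : Etale k)) hj))

theorem isEtaleMor_yon_map {U V : Over S} (g : U ⟶ V) (hg : Etale g.left) :
    IsEtaleMor ((yon S).map g) :=
  isEtaleMor_of_locP (IsAlgSpace.yon_obj V) (locP_of_repWith ((repWith_yon_map_iff _ g).2 hg))

theorem isEtaleMor_chart (hY : IsAlgSpace Y) {U : Over S} {a : (yon S).obj U ⟶ Y}
    (ha : RepWith @Etale a) : IsEtaleMor a :=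
  isEtaleMor_of_locP hY (locP_of_repWith ha)

theorem isOpen_range_of_isEtaleMor (hX : IsAlgSpace X) (hY : IsAlgSpace Y) {f : X ⟶ Y}
    (h : IsEtaleMor f) : IsOpen (Set.range (Points.map f)) := by
  rw [← Set.image_univ]
  have hs := locP_smooth_of_isEtaleMor h
  exact isOpenMor_of_fppf hX hY (fun U V a b k ha hb e => by
      have : Smooth k.left := hs a b k ha hb e
      exact (inferInstance : Flat k.left))
    (fun U V a b k ha hb e => by
      have : Smooth k.left := hs a b k ha hb e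
      exact (inferInstance : LocallyOfFinitePresentation k.left)) _ isOpen_univ

/-- `x` has an étale neighbourhood on which `f` has `P`. -/
def Good (P : MorphismProperty (Sp S)) (f : X ⟶ Y) (x : Points X) : Prop :=
  ∃ (G : Sp S) (g : G ⟶ X), IsAlgSpace G ∧ IsEtaleMor g ∧ x ∈ Set.range (Points.map g) ∧ P (g ≫ f)

namespace ESHyp

variable (hP : ESHyp P)

include hP

theorem precomp {U : Sp S} (hU : IsAlgSpace U) (hX : IsAlgSpace X) (hY : IsAlgSpace Y)
    {u : U ⟶ X} {f : X ⟶ Y} (hu : IsEtaleMor u) (hf : P f) : P (u ≫ f) :=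
  (hP.source _ _ hX (isAlgSpace_pairObj hU hX) (isCover_pair hu (isEtaleMor_id X)) f hY).1 hf ⟨true⟩

theorem baseChange {X' Y' : Sp S} (hX : IsAlgSpace X) (hY : IsAlgSpace Y) (hY' : IsAlgSpace Y')
    {f : X ⟶ Y} {g : Y' ⟶ Y} {g' : X' ⟶ X} {f' : X' ⟶ Y'} (sq : IsPullback g' f' f g)
    (hg : LocP @Smooth g) (hf : P f) : P f' :=
  (hP.base _ _ hY (isAlgSpace_pairObj hY' hY) (isCover_pair hg (locP_id Y)) f hX
    (fun i => pairObj X' X i)
    (fun i => match i with | ⟨true⟩ => f' | ⟨false⟩ => f)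
    (fun i => match i with | ⟨true⟩ => g' | ⟨false⟩ => 𝟙 X)
    (isAlgSpace_pairObj (isAlgSpace_of_isPullback sq hY.diag hX hY') hX)
    (fun i => match i with | ⟨true⟩ => sq | ⟨false⟩ => isPullback_id_left f)).1 hf ⟨true⟩

theorem of_baseChange {X' Y' : Sp S} (hX : IsAlgSpace X) (hY : IsAlgSpace Y) (hY' : IsAlgSpace Y')
    {f : X ⟶ Y} {g : Y' ⟶ Y} {g' : X' ⟶ X} {f' : X' ⟶ Y'} (sq : IsPullback g' f' f g)
    (hg : LocP @Smooth g) (hs : IsSurjectiveMor g) (hf' : P f') : P f :=
  (hP.base (fun _ : PUnit.{u+1} => Y') (fun _ => g) hY (fun _ => hY') (isCover_single hg hs) f hX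
    (fun _ => X') (fun _ => f') (fun _ => g')
    (fun _ => isAlgSpace_of_isPullback sq hY.diag hX hY') (fun _ => sq)).2 fun _ => hf'

/-- An étale map to `X` landing in good points composes to a map with `P`. -/
theorem prop_comp_of_good {U : Sp S} (hU : IsAlgSpace U) (hX : IsAlgSpace X) (hY : IsAlgSpace Y)
    {f : X ⟶ Y} {u : U ⟶ X} (hu : IsEtaleMor u) (h : ∀ z : Points U, Good P f (Points.map u z)) :
    P (u ≫ f) := by
  obtain ⟨T, φ, -, hφs⟩ := hU.atlas
  choose G g hG hg hz hgP using fun t : T.left => h (Points.ofPt φ t)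
  have hA : ∀ t, IsAlgSpace (pullback u (g t)) := fun t =>
    isAlgSpace_pullback ⟨U, hU⟩ ⟨G t, hG t⟩ ⟨X, hX⟩ u (g t)
  refine (hP.source (fun t => pullback u (g t)) (fun t => pullback.fst u (g t)) hU hA
    ⟨fun t => isEtaleMor_of_isPullback (hG t) hX hU (IsPullback.of_hasPullback u (g t)).flip (hg t),
      fun z => ?_⟩ (u ≫ f) hY).2 fun t => ?_
  · obtain ⟨t, rfl⟩ := surjective_ofPt_of_repWith hφs z
    obtain ⟨w, hw⟩ := hz t
    obtain ⟨a, ha, -⟩ := Groth.AlgSpBasic.exists_point_of_isPullback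
      (IsPullback.of_hasPullback u (g t)) (Points.ofPt φ t) w hw.symm
    exact ⟨t, a, ha⟩
  · rw [pullback.condition_assoc]
    exact hP.precomp (hA t) (hG t) hY
      (isEtaleMor_of_isPullback hU hX (hG t) (IsPullback.of_hasPullback u (g t)) hu) (hgP t)

theorem prop_of_good (hX : IsAlgSpace X) (hY : IsAlgSpace Y) {f : X ⟶ Y}
    (h : ∀ x : Points X, Good P f x) : P f := by
  have := hP.prop_comp_of_good hX hX hY (f := f) (isEtaleMor_id X)
    (fun z => by rw [Points.map_id]; exact h z)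
  rwa [Category.id_comp] at this

end ESHyp

theorem good_of_prop (hX : IsAlgSpace X) {f : X ⟶ Y} (h : P f) (x : Points X) : Good P f x :=
  ⟨X, 𝟙 X, hX, isEtaleMor_id X, ⟨x, Points.map_id x⟩, by rwa [Category.id_comp]⟩

end

end Groth.AlgSp2
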