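import Groth.Agent.AlgSp2.ESBasic
import Mathlib.AlgebraicGeometry.Morphisms.FormallyUnramified
import Mathlib.AlgebraicGeometry.Morphisms.Separated
import Mathlib.RingTheory.Unramified.LocalStructure

/-!
# Postcomposition with étale morphisms
-/

set_option autoImplicit false
set_option backward.isDefEq.respectTransparency.types false
universe u

open CategoryTheory CategoryTheory.Limits AlgebraicGeometry Opposite AlgSp TopologicalSpace

namespace Groth.AlgSp2

open Groth.AlgSpBasic

noncomputable section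

variable {S : Scheme.{u}} {P : MorphismProperty (Sp S)}

/-- At most `n` geometric points in each geometric fibre. -/
def BddPts {T' T : Scheme.{u}} (g : T' ⟶ T) (n : ℕ) : Prop :=
  ∀ (K : Type u) [Field K] (s : Fin (n + 1) → (Spec (CommRingCat.of K) ⟶ T')),
    (∀ i, s i ≫ g = s 0 ≫ g) → ¬ Function.Injective s

theorem isEmpty_of_bddPts {T' T : Scheme.{u}} {g : T' ⟶ T} (h : BddPts g 0) : IsEmpty T' :=
  ⟨fun x => h (T'.residueField x) (fun _ => T'.fromSpecResidueField x)
    (fun _ => rfl) (fun i j _ => Subsingleton.elim (α := Fin 1) i j)⟩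

theorem exists_isOpen_diagonal_compl {T' T : Over S} (g : T' ⟶ T) [Etale g.left] [IsSeparated g.left] :
    ∃ (P₂ R : Over S) (r₁ r₂ : P₂ ⟶ T') (d : T' ⟶ P₂) (j : R ⟶ P₂),
      IsPullback r₁ r₂ g g ∧ d ≫ r₁ = 𝟙 T' ∧ d ≫ r₂ = 𝟙 T' ∧ IsOpenImmersion d.left ∧
      IsOpenImmersion j.left ∧ (∀ x : P₂.left, x ∈ Set.range d.left ∨ x ∈ Set.range j.left) ∧
      (∀ y : R.left, j.left y ∉ Set.range d.left) := by
  let P₂ : Over S := Over.mk (pullback.fst g.left g.left ≫ T'.hom)
  let r₁ : P₂ ⟶ T' := Over.homMk (pullback.fst g.left g.left) rfl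
  let r₂ : P₂ ⟶ T' := Over.homMk (pullback.snd g.left g.left) (by
    change _ ≫ T'.hom = pullback.fst g.left g.left ≫ T'.hom
    rw [← Over.w g, pullback.condition_assoc])
  let d : T' ⟶ P₂ := Over.homMk (pullback.diagonal g.left) (by simp [P₂])
  have hsq : IsPullback r₁ r₂ g g :=
    IsPullback.of_map (Over.forget S) (Over.OverMorphism.ext pullback.condition)
      (IsPullback.of_hasPullback g.left g.left)
  have hc : IsClosed (Set.range (pullback.diagonal g.left)) :=
    (pullback.diagonal g.left).isClosedEmbedding.isClosed_range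
  let O : (pullback g.left g.left).Opens := ⟨(Set.range (pullback.diagonal g.left))ᶜ, hc.isOpen_compl⟩
  let R : Over S := Over.mk (O.ι ≫ P₂.hom)
  let j : R ⟶ P₂ := Over.homMk O.ι rfl
  refine ⟨P₂, R, r₁, r₂, d, j, hsq, Over.OverMorphism.ext (pullback.diagonal_fst _),
    Over.OverMorphism.ext (pullback.diagonal_snd _), inferInstanceAs (IsOpenImmersion (pullback.diagonal g.left)),
    inferInstanceAs (IsOpenImmersion O.ι), fun x => ?_, fun y => y.2⟩
  by_cases hx : x ∈ Set.range (pullback.diagonal g.left)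
  · exact Or.inl hx
  · exact Or.inr (show x ∈ Set.range O.ι by rw [Scheme.Opens.range_ι]; exact hx)

namespace ESHyp

variable (hP : ESHyp P)

include hP

theorem postcomp_bdd : ∀ (n : ℕ) {T' T : Over S} (g : T' ⟶ T), Etale g.left → IsSeparated g.left →
    BddPts g.left n → ∀ {X : Sp S}, IsAlgSpace X → ∀ f : X ⟶ (yon S).obj T', P f →
      P (f ≫ (yon S).map g) := by
  intro n
  induction n with
  | zero =>
    intro T' T g _ _ hb X hX f hf
    have := isEmpty_of_bddPts hb
    have : IsOpenImmersion g.left := inferInstance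
    exact hP.openPost hX (IsAlgSpace.yon_obj _) (IsAlgSpace.yon_obj _) f _ hf
      ((repWith_yon_map_iff _ g).2 this)
  | succ n ih =>
    intro T' T g hge hgs hb X hX f hf
    -- factor through the image
    let T₀ : T.left.Opens := ⟨Set.range g.left, g.left.isOpenMap.isOpen_range⟩
    let ι : Over.mk (T₀.ι ≫ T.hom) ⟶ T := Over.homMk T₀.ι rfl
    have hr : Set.range g.left ⊆ Set.range T₀.ι := by rw [Scheme.Opens.range_ι]; exact le_rfl
    let g₀ : T' ⟶ Over.mk (T₀.ι ≫ T.hom) := Over.homMk (IsOpenImmersion.lift T₀.ι g.left hr) (by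
      change _ ≫ T₀.ι ≫ T.hom = _
      rw [IsOpenImmersion.lift_fac_assoc, Over.w])
    have hfac : g₀ ≫ ι = g := Over.OverMorphism.ext (IsOpenImmersion.lift_fac _ _ _)
    have hfac' : g₀.left ≫ T₀.ι = g.left := IsOpenImmersion.lift_fac _ _ _
    have : Etale (g₀.left ≫ T₀.ι) := by rw [hfac']; exact hge
    have h₀e : Etale g₀.left := Etale.of_comp g₀.left T₀.ι
    have : IsSeparated (g₀.left ≫ T₀.ι) := by rw [hfac']; exact hgs
    have h₀s : IsSeparated g₀.left := IsSeparated.of_comp g₀.left T₀.ι
    have h₀surj : Surjective g₀.left := ⟨fun y => by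
      obtain ⟨x, hx⟩ := y.2
      exact ⟨x, Subtype.ext (by
        change (g₀.left ≫ T₀.ι) x = _
        rw [hfac']; exact hx)⟩⟩
    have hb₀ : BddPts g₀.left (n + 1) := fun K _ s hs => hb K s fun i => by
      rw [← hfac', ← Category.assoc, hs i, Category.assoc]
    rw [← hfac, Functor.map_comp, ← Category.assoc]
    refine hP.openPost hX (IsAlgSpace.yon_obj _) (IsAlgSpace.yon_obj _) _ _ ?_
      ((repWith_yon_map_iff _ ι).2 (inferInstanceAs (IsOpenImmersion T₀.ι)))
    obtain ⟨P₂, R, r₁, r₂, d, j, hsq, hd₁, hd₂, hdo, hjo, hcov, hnot⟩ :=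
      exists_isOpen_diagonal_compl g₀
    have hY := IsAlgSpace.yon_obj T'
    have hP₂ := IsAlgSpace.yon_obj P₂
    have hsq' : IsPullback ((yon S).map r₁) ((yon S).map r₂) ((yon S).map g₀) ((yon S).map g₀) :=
      hsq.map (yon S)
    have hr₁ : Etale r₁.left :=
      MorphismProperty.of_isPullback (P := @Etale) (isPullback_left hsq).flip h₀e
    have hr₂ : Etale r₂.left :=
      MorphismProperty.of_isPullback (P := @Etale) (isPullback_left hsq) h₀e
    have sA := IsPullback.of_hasPullback f ((yon S).map r₁)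
    have hA : IsAlgSpace (pullback f ((yon S).map r₁)) :=
      isAlgSpace_of_isPullback sA hY.diag hX hP₂
    refine hP.of_baseChange hX (IsAlgSpace.yon_obj _) hY (sA.paste_vert hsq')
      (locP_smooth_of_isEtaleMor (isEtaleMor_yon_map g₀ h₀e))
      (surjective_map_of_repWith ((repWith_yon_map_iff _ g₀).2 h₀surj)) ?_
    let a₂ := pullback.snd f ((yon S).map r₁)
    have sd := IsPullback.of_hasPullback a₂ ((yon S).map d)
    have sj := IsPullback.of_hasPullback a₂ ((yon S).map j)
    have hBd : IsAlgSpace (pullback a₂ ((yon S).map d)) :=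
      isAlgSpace_of_isPullback sd hP₂.diag hA hY
    have hBj : IsAlgSpace (pullback a₂ ((yon S).map j)) :=
      isAlgSpace_of_isPullback sj hP₂.diag hA (IsAlgSpace.yon_obj R)
    refine hP.prop_of_good hA hY fun a => ?_
    obtain ⟨x, hx⟩ := (Points.schemeHomeo P₂).surjective (Points.map a₂ a)
    rcases hcov x with ⟨y, hy⟩ | ⟨y, hy⟩
    · obtain ⟨b, hb', -⟩ := Groth.AlgSpBasic.exists_point_of_isPullback sd a
        (Points.schemeHomeo T' y) (by rw [← hx, Points.map_yon_map_apply, hy])
      refine ⟨_, pullback.fst a₂ ((yon S).map d), hBd, isEtaleMor_of_isPullback hY hP₂ hA sd.flip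
        (isEtaleMor_yon_map d inferInstance), ⟨b, hb'⟩, ?_⟩
      have e : pullback.fst a₂ ((yon S).map d) ≫ a₂ ≫ (yon S).map r₂ =
          pullback.snd a₂ ((yon S).map d) := by
        rw [← Category.assoc, pullback.condition, Category.assoc, ← Functor.map_comp, hd₂,
          (yon S).map_id, Category.comp_id]
      rw [e]
      have s₁ := sd.paste_horiz sA
      rw [← Functor.map_comp, hd₁, (yon S).map_id] at s₁
      exact hP.baseChange hX hY hY s₁ (locP_id _) hf
    · obtain ⟨b, hb', -⟩ := Groth.AlgSpBasic.exists_point_of_isPullback sj a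
        (Points.schemeHomeo R y) (by rw [← hx, Points.map_yon_map_apply, hy])
      refine ⟨_, pullback.fst a₂ ((yon S).map j), hBj,
        isEtaleMor_of_isPullback (IsAlgSpace.yon_obj R) hP₂ hA sj.flip
          (isEtaleMor_yon_map j inferInstance), ⟨b, hb'⟩, ?_⟩
      rw [pullback.condition_assoc, ← Functor.map_comp]
      have hj₁ : Etale (j ≫ r₁).left := MorphismProperty.comp_mem @Etale j.left r₁.left inferInstance hr₁
      have hj₂ : Etale (j ≫ r₂).left := MorphismProperty.comp_mem @Etale j.left r₂.left inferInstance hr₂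
      have s₁ := sj.paste_horiz sA
      rw [← Functor.map_comp] at s₁
      have hp := hP.baseChange hX hY (IsAlgSpace.yon_obj R) s₁
        (locP_smooth_of_isEtaleMor (isEtaleMor_yon_map _ hj₁)) hf
      have hs₂ : IsSeparated (j ≫ r₂).left :=
        MorphismProperty.comp_mem @IsSeparated j.left r₂.left inferInstance
          (MorphismProperty.of_isPullback (P := @IsSeparated) (isPullback_left hsq) h₀s)
      refine ih (j ≫ r₂) hj₂ hs₂ (fun K _ s hs hinj => ?_) hBj _ hp
      -- the first projections are distinct from each other and from the second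
      let u : Fin (n + 1) → (Spec (CommRingCat.of K) ⟶ T'.left) := fun i => s i ≫ j.left ≫ r₁.left
      let t : Spec (CommRingCat.of K) ⟶ T'.left := s 0 ≫ j.left ≫ r₂.left
      have hs' : ∀ i, s i ≫ j.left ≫ r₂.left = t := fun i => hs i
      have hcond : ∀ i, u i ≫ g₀.left = t ≫ g₀.left := fun i => by
        rw [← hs' i]
        simp only [u, Category.assoc]
        rw [(isPullback_left hsq).w]
      refine hb₀ K (Fin.cons t u) ?_ ?_
      · intro i
        rw [Fin.cons_zero]
        refine Fin.cases ?_ (fun i => ?_) i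
        · rw [Fin.cons_zero]
        · rw [Fin.cons_succ]; exact hcond i
      · rw [Fin.cons_injective_iff]
        refine ⟨?_, fun i k hik => hinj ?_⟩
        · rintro ⟨i, hi⟩
          have : s i ≫ j.left = t ≫ d.left := by
            refine (isPullback_left hsq).hom_ext ?_ ?_
            · rw [Category.assoc, Category.assoc,
                show d.left ≫ r₁.left = 𝟙 _ from congrArg CommaMorphism.left hd₁]
              exact hi.trans (Category.comp_id _).symm
            · rw [Category.assoc, Category.assoc,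
                show d.left ≫ r₂.left = 𝟙 _ from congrArg CommaMorphism.left hd₂]
              exact (hs' i).trans (Category.comp_id _).symm
          refine hnot ((s i) (IsLocalRing.closedPoint K)) ⟨t (IsLocalRing.closedPoint K), ?_⟩
          exact congrArg (fun (φ : Spec (CommRingCat.of K) ⟶ P₂.left) => φ (IsLocalRing.closedPoint K)) this.symm
        · refine (cancel_mono j.left).1 ((isPullback_left hsq).hom_ext ?_ ?_)
          · rw [Category.assoc, Category.assoc]; exact hik
          · rw [Category.assoc, Category.assoc]; exact (hs' i).trans (hs' k).symm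

end ESHyp

theorem bddPts_standardEtale {R B : Type u} [CommRing R] [CommRing B] [Algebra R B]
    [Algebra.IsStandardEtale R B] :
    ∃ n, BddPts (Spec.map (CommRingCat.ofHom (algebraMap R B))) n := by
  classical
  obtain ⟨p⟩ := (inferInstance : Algebra.IsStandardEtale R B).nonempty_standardEtalePresentation
  refine ⟨p.f.natDegree, fun K _ s hs hinj => ?_⟩
  choose φ hφ using fun i => Spec.map_surjective (s i)
  have hρ : ∀ i, (φ i).hom.comp (algebraMap R B) = (φ 0).hom.comp (algebraMap R B) := fun i => by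
    have e := hs i
    rw [← hφ i, ← hφ 0, ← Spec.map_comp, ← Spec.map_comp] at e
    exact congrArg (fun k => k.hom) (Spec.map_injective e)
  let := ((φ 0).hom.comp (algebraMap R B)).toAlgebra
  let ψ : Fin (p.f.natDegree + 1) → (B →ₐ[R] K) := fun i =>
    { (φ i).hom with commutes' := fun r => RingHom.congr_fun (hρ i) r }
  have hf : p.f.map (algebraMap R K) ≠ 0 := (p.monic_f.map _).ne_zero
  have hmem : ∀ i, ψ i p.x ∈ (p.f.map (algebraMap R K)).roots.toFinset := fun i => by
    rw [Multiset.mem_toFinset, Polynomial.mem_roots hf, Polynomial.IsRoot.def, Polynomial.eval_map,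
      ← Polynomial.aeval_def]
    exact (p.hasMap.map (ψ i)).1
  have hψ : Function.Injective fun i => ψ i p.x := fun i k h => hinj (by
    have := p.hom_ext h
    rw [← hφ i, ← hφ k]
    exact congrArg Spec.map (CommRingCat.hom_ext (congrArg AlgHom.toRingHom this)))
  have h₁ := Finset.card_le_card_of_injOn (s := Finset.univ) _ (fun i _ => hmem i) hψ.injOn
  have h₂ := (Multiset.toFinset_card_le (p.f.map (algebraMap R K)).roots).trans
    (Polynomial.card_roots' _)
  rw [Finset.card_univ, Fintype.card_fin] at h₁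
  have h₃ := h₂.trans Polynomial.natDegree_map_le
  omega

/-- An étale morphism is locally a bounded separated étale map followed by an open immersion. -/
theorem exists_bdd_local {A B : Over S} (h : A ⟶ B) [Etale h.left] (a : ↥A.left) :
    ∃ (T' T : Over S) (k : T' ⟶ A) (ι : T ⟶ B) (g : T' ⟶ T) (n : ℕ), IsOpenImmersion k.left ∧
      a ∈ Set.range k.left ∧ IsOpenImmersion ι.left ∧ Etale g.left ∧ IsSeparated g.left ∧
      BddPts g.left n ∧ k ≫ h = g ≫ ι := by
  obtain ⟨U, hU, hxU, -⟩ := Opens.isBasis_iff_nbhd.mp B.left.isBasis_affineOpens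
    (show h.left a ∈ (⊤ : B.left.Opens) from trivial)
  obtain ⟨V, hV, hxV, hle⟩ := Opens.isBasis_iff_nbhd.mp A.left.isBasis_affineOpens
    (show a ∈ h.left ⁻¹ᵁ U from hxU)
  have h₁ : (h.left.appLE U V hle).hom.Etale :=
    HasRingHomProperty.appLE @Etale h.left inferInstance ⟨U, hU⟩ ⟨V, hV⟩ hle
  algebraize [(h.left.appLE U V hle).hom]
  have : Algebra.Etale Γ(B.left, U) Γ(A.left, V) := h₁
  obtain ⟨r, hr, hst⟩ := Algebra.IsEtaleAt.exists_isStandardEtale (R := Γ(B.left, U))
    (hV.primeIdealOf ⟨a, hxV⟩).asIdeal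
  obtain ⟨n, hn⟩ := bddPts_standardEtale (R := Γ(B.left, U)) (B := Localization.Away r)
  let loc : CommRingCat.of Γ(A.left, V) ⟶ CommRingCat.of (Localization.Away r) :=
    CommRingCat.ofHom (algebraMap Γ(A.left, V) (Localization.Away r))
  have : IsOpenImmersion (Spec.map loc) := IsOpenImmersion.of_isLocalization r
  let T' : Over S := Over.mk (Spec.map loc ≫ hV.fromSpec ≫ A.hom)
  let T : Over S := Over.mk (hU.fromSpec ≫ B.hom)
  let k : T' ⟶ A := Over.homMk (Spec.map loc ≫ hV.fromSpec) (Category.assoc _ _ _)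
  let ι : T ⟶ B := Over.homMk hU.fromSpec rfl
  have e : Spec.map loc ≫ hV.fromSpec ≫ h.left =
      Spec.map (CommRingCat.ofHom (algebraMap Γ(B.left, U) (Localization.Away r))) ≫ hU.fromSpec := by
    rw [← hU.SpecMap_appLE_fromSpec h.left hV hle, ← Spec.map_comp_assoc]
    congr 2
  let g : T' ⟶ T :=
    Over.homMk (Spec.map (CommRingCat.ofHom (algebraMap Γ(B.left, U) (Localization.Away r)))) (by
      change _ ≫ hU.fromSpec ≫ B.hom = Spec.map loc ≫ hV.fromSpec ≫ A.hom
      rw [← Category.assoc, ← e]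
      simp only [Category.assoc, Over.w h])
  refine ⟨T', T, k, ι, g, n, inferInstanceAs (IsOpenImmersion (Spec.map loc ≫ hV.fromSpec)), ?_,
    inferInstanceAs (IsOpenImmersion hU.fromSpec), ?_, ?_, hn,
    Over.OverMorphism.ext ((Category.assoc _ _ _).trans e)⟩
  · obtain ⟨y, hy⟩ : hV.primeIdealOf ⟨a, hxV⟩ ∈ Set.range (Spec.map loc) := by
      change _ ∈ Set.range (PrimeSpectrum.comap (algebraMap Γ(A.left, V) (Localization.Away r)))
      rw [PrimeSpectrum.localization_away_comap_range (Localization.Away r) r]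
      exact hr
    exact ⟨y, (congrArg hV.fromSpec hy).trans (hV.fromSpec_primeIdealOf ⟨a, hxV⟩)⟩
  · change Etale (Spec.map _)
    rw [HasRingHomProperty.Spec_iff (P := @Etale)]
    exact RingHom.etale_algebraMap.2 inferInstance
  · exact inferInstanceAs (IsSeparated (Spec.map _))

namespace ESHyp

variable (hP : ESHyp P)

include hP

/-- `P` is stable under postcomposition with étale morphisms. -/
theorem etalePost {X Y Z : Sp S} (hX : IsAlgSpace X) (hY : IsAlgSpace Y) (hZ : IsAlgSpace Z)
    {f : X ⟶ Y} {g : Y ⟶ Z} (hf : P f) (hg : IsEtaleMor g) : P (f ≫ g) := by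
  obtain ⟨V₀, b, hb, hbs⟩ := hZ.atlas
  have hV₀ := IsAlgSpace.yon_obj V₀
  have sY := IsPullback.of_hasPullback g b
  have hY₀ : IsAlgSpace (pullback g b) := isAlgSpace_of_isPullback sY hZ.diag hY hV₀
  have sX := IsPullback.of_hasPullback f (pullback.fst g b)
  have hX₀ : IsAlgSpace (pullback f (pullback.fst g b)) := isAlgSpace_of_isPullback sX hY.diag hX hY₀
  have hbE : IsEtaleMor b := isEtaleMor_chart hZ hb
  refine hP.of_baseChange hX hZ hV₀ (sX.paste_vert sY) (locP_smooth_of_isEtaleMor hbE)
    (surjective_map_of_repWith hbs) ?_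
  have hf₀ : P (pullback.snd f (pullback.fst g b)) := hP.baseChange hX hY hY₀ sX
    (locP_smooth_of_isEtaleMor (isEtaleMor_of_isPullback hV₀ hZ hY sY.flip hbE)) hf
  have hg₀ : IsEtaleMor (pullback.snd g b) := isEtaleMor_of_isPullback hY hZ hV₀ sY hg
  refine hP.prop_of_good hX₀ hV₀ fun x => ?_
  obtain ⟨A, a, ha, has⟩ := hY₀.atlas
  obtain ⟨t, ht⟩ := surjective_ofPt_of_repWith has (Points.map (pullback.snd f (pullback.fst g b)) x)
  obtain ⟨h, hh⟩ := (yon S).map_surjective (a ≫ pullback.snd g b)
  have : Etale h.left := by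
    have := hg₀ a ha
    rw [← hh, repWith_yon_map_iff] at this
    exact this
  obtain ⟨T', T, k, ι, g₁, n, hk, ⟨t', ht'⟩, hι, hg₁e, hg₁s, hg₁b, e⟩ := exists_bdd_local h t
  have hT' := IsAlgSpace.yon_obj T'
  have hc : IsEtaleMor ((yon S).map k ≫ a) :=
    isEtaleMor_comp (isEtaleMor_yon_map k inferInstance) (isEtaleMor_chart hY₀ ha)
  have sG := IsPullback.of_hasPullback (pullback.snd f (pullback.fst g b)) ((yon S).map k ≫ a)
  have hG := isAlgSpace_of_isPullback sG hY₀.diag hX₀ hT'
  obtain ⟨z, hz, -⟩ := Groth.AlgSpBasic.exists_point_of_isPullback sG x (Points.schemeHomeo T' t')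
    (by rw [Points.map_comp, Points.map_yon_map_apply, ht', ← ht, ofPt_eq_map]; rfl)
  refine ⟨_, _, hG, isEtaleMor_of_isPullback hT' hY₀ hX₀ sG.flip hc, ⟨z, hz⟩, ?_⟩
  rw [pullback.condition_assoc, Category.assoc, ← hh, ← Functor.map_comp, e, Functor.map_comp,
    ← Category.assoc]
  exact hP.openPost hG (IsAlgSpace.yon_obj T) hV₀ _ _
    (hP.postcomp_bdd n g₁ hg₁e hg₁s hg₁b hG _
      (hP.baseChange hX₀ hY₀ hT' sG (locP_smooth_of_isEtaleMor hc) hf₀))
    ((repWith_yon_map_iff _ ι).2 hι)

end ESHyp

end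

end Groth.AlgSp2
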