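import Groth.Agent.AlgSp2.ESEtale
import Mathlib.RingTheory.Etale.StandardEtale
import Mathlib.RingTheory.PolynomialAlgebra
import Mathlib.FieldTheory.IsAlgClosed.AlgebraicClosure

/-!
# Descent along the affine line
-/

set_option autoImplicit false
set_option backward.isDefEq.respectTransparency.types false
universe u

open CategoryTheory CategoryTheory.Limits AlgebraicGeometry Opposite AlgSp TopologicalSpace

namespace Groth.AlgSp2

open Groth.AlgSpBasic

noncomputable section

variable {S : Scheme.{u}} {P : MorphismProperty (Sp S)}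

/-- `P` after an étale map to the base change along `c` gives good points below. -/
def Descends (P : MorphismProperty (Sp S)) {V Y : Sp S} (c : V ⟶ Y) : Prop :=
  ∀ ⦃X W U : Sp S⦄, IsAlgSpace X → IsAlgSpace U → ∀ (f : X ⟶ Y) (p : W ⟶ X) (q : W ⟶ V) (e : U ⟶ W),
    IsPullback p q f c → IsEtaleMor e → P (e ≫ q) → ∀ u : Points U, Good P f (Points.map (e ≫ p) u)

section Basic

variable (hP : ESHyp P) {V Y : Sp S}

include hP

theorem descends_of_isEtaleMor (hV : IsAlgSpace V) (hY : IsAlgSpace Y) {c : V ⟶ Y}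
    (hc : IsEtaleMor c) : Descends P c := by
  intro X W U hX hU f p q e sq he h u
  have hW := isAlgSpace_of_isPullback sq hY.diag hX hV
  refine ⟨U, e ≫ p, hU, isEtaleMor_comp he (isEtaleMor_of_isPullback hV hY hX sq.flip hc), ⟨u, rfl⟩, ?_⟩
  rw [Category.assoc, sq.w, ← Category.assoc]
  exact hP.etalePost hU hV hY h hc

omit hP in
theorem descends_comp {V₁ : Sp S} (hV₁ : IsAlgSpace V₁) (hY : IsAlgSpace Y)
    {c₂ : V ⟶ V₁} {c₁ : V₁ ⟶ Y} (h₂ : Descends P c₂) (h₁ : Descends P c₁) :
    Descends P (c₂ ≫ c₁) := by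
  intro X W U hX hU f p q e sq he h u
  have sB := IsPullback.of_hasPullback f c₁
  have hW₁ : IsAlgSpace (pullback f c₁) := isAlgSpace_of_isPullback sB hY.diag hX hV₁
  let m : W ⟶ pullback f c₁ := sB.lift p (q ≫ c₂) (by rw [Category.assoc]; exact sq.w)
  have sT : IsPullback m q (pullback.snd f c₁) c₂ :=
    IsPullback.of_right (by rw [sB.lift_fst]; exact sq) (sB.lift_snd _ _ _) sB
  obtain ⟨G, g, hG, hg, ⟨w, hw⟩, hgP⟩ := h₂ hW₁ hU _ m q e sT he h u
  have hgood := h₁ hX hG f _ _ g sB hg hgP w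
  rwa [Points.map_comp g, hw, ← Points.map_comp, Category.assoc, sB.lift_fst] at hgood

theorem descends_local (hV : IsAlgSpace V) (hY : IsAlgSpace Y) {c : V ⟶ Y}
    (h : ∀ v : Points V, ∃ (V' : Sp S) (k : V' ⟶ V), IsAlgSpace V' ∧ IsEtaleMor k ∧
      v ∈ Set.range (Points.map k) ∧ Descends P (k ≫ c)) : Descends P c := by
  intro X W U hX hU f p q e sq he heq u
  have hW := isAlgSpace_of_isPullback sq hY.diag hX hV
  obtain ⟨V', k, hV', hk, ⟨v', hv'⟩, hd⟩ := h (Points.map q (Points.map e u))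
  have sW := IsPullback.of_hasPullback q k
  have hW' := isAlgSpace_of_isPullback sW hV.diag hW hV'
  have sU := IsPullback.of_hasPullback e (pullback.fst q k)
  have hU' := isAlgSpace_of_isPullback sU hW.diag hU hW'
  have hp : P (pullback.snd e (pullback.fst q k) ≫ pullback.snd q k) :=
    hP.baseChange hU hV hV' (sU.paste_vert sW) (locP_smooth_of_isEtaleMor hk) heq
  obtain ⟨w', hw', -⟩ := Groth.AlgSpBasic.exists_point_of_isPullback sW (Points.map e u) v' hv'.symm
  obtain ⟨u', hu', hu''⟩ := Groth.AlgSpBasic.exists_point_of_isPullback sU u w' hw'.symm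
  have hgood := hd hX hU' f _ _ _ (sW.paste_horiz sq)
    (isEtaleMor_of_isPullback hU hW hW' sU he) hp u'
  rwa [Points.map_comp, hu'', Points.map_comp, hw', ← Points.map_comp] at hgood

end Basic

/-! ### The affine line -/

section Ring

/-- A point over a ring, as an object over `S`. -/
abbrev specPt {A : Type u} [CommRing A] (str : Spec (CommRingCat.of A) ⟶ S) {B : Type u} [CommRing B]
    (φ : A →+* B) : Over S :=
  Over.mk (Spec.map (CommRingCat.ofHom φ) ≫ str)

/-- The map of points over a ring given by a ring map. -/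
abbrev specMor {A B B' : Type u} [CommRing A] [CommRing B] [CommRing B']
    (str : Spec (CommRingCat.of A) ⟶ S) {φ : A →+* B} {φ' : A →+* B'} (ψ : B →+* B')
    (h : ψ.comp φ = φ') : specPt str φ' ⟶ specPt str φ :=
  Over.homMk (Spec.map (CommRingCat.ofHom ψ)) (by
    subst h
    change Spec.map _ ≫ Spec.map _ ≫ str = Spec.map _ ≫ str
    rw [← Spec.map_comp_assoc]
    rfl)

theorem specMor_comp {A B B' B'' : Type u} [CommRing A] [CommRing B] [CommRing B'] [CommRing B'']
    (str : Spec (CommRingCat.of A) ⟶ S) {φ : A →+* B} {φ' : A →+* B'} {φ'' : A →+* B''} (ψ : B →+* B')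
    (ψ' : B' →+* B'') (h : ψ.comp φ = φ') (h' : ψ'.comp φ' = φ'') :
    specMor str ψ' h' ≫ specMor str ψ h =
      specMor str (ψ'.comp ψ) (by rw [RingHom.comp_assoc, h, h']) := by
  refine Over.OverMorphism.ext ?_
  change Spec.map _ ≫ Spec.map _ = Spec.map _
  rw [← Spec.map_comp]
  rfl

theorem exists_translation {K : Type u} [Field K] [IsAlgClosed K] (h : Polynomial K) (hh : h ≠ 0)
    (a : K) : ∃ (N : ℕ) (ζ : K), (N : K) ≠ 0 ∧ ζ ^ N = 1 ∧ h.eval (a + ζ) ≠ 0 := by
  classical
  obtain ⟨N, hN, hlt⟩ : ∃ N : ℕ, (N : K) ≠ 0 ∧ h.natDegree < N := by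
    by_cases h1 : ((h.natDegree + 1 : ℕ) : K) = 0
    · refine ⟨h.natDegree + 2, fun h2 => one_ne_zero (α := K) ?_, by omega⟩
      push_cast at h1 h2
      linear_combination h2 - h1
    · exact ⟨_, h1, by omega⟩
  by_contra hcon
  push Not at hcon
  have : NeZero (N : K) := ⟨hN⟩
  obtain ⟨μ, hμ⟩ := HasEnoughRootsOfUnity.exists_primitiveRoot K N
  have hc : ((Polynomial.nthRootsFinset N (1 : K)).image fun ζ => a + ζ) ⊆ h.roots.toFinset := by
    intro c hc
    obtain ⟨ζ, hζ, rfl⟩ := Finset.mem_image.1 hc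
    rw [Polynomial.mem_nthRootsFinset (by omega : 0 < N)] at hζ
    rw [Multiset.mem_toFinset, Polynomial.mem_roots hh]
    exact hcon N ζ hN hζ
  have := (Finset.card_le_card hc).trans ((Multiset.toFinset_card_le _).trans (Polynomial.card_roots' h))
  rw [Finset.card_image_of_injective _ (add_right_injective a), hμ.card_nthRootsFinset] at this
  omega

/-- Adjoining an `N`-th root of unity where `N` is invertible. -/
def rootPair (A : Type u) [CommRing A] {N : ℕ} (hN : N ≠ 0) : StandardEtalePair A where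
  f := Polynomial.X ^ N - Polynomial.C 1
  monic_f := Polynomial.monic_X_pow_sub_C 1 hN
  g := Polynomial.derivative (Polynomial.X ^ N - Polynomial.C 1)
  cond := ⟨1, 0, 1, by simp⟩

attribute [local instance] Polynomial.algebra in
theorem etale_mapRingHom {A B : Type u} [CommRing A] [CommRing B] [Algebra A B] [Algebra.Etale A B] :
    (Polynomial.mapRingHom (algebraMap A B)).Etale := by
  rw [← Polynomial.algebraMap_def]
  exact RingHom.Etale.isStableUnderBaseChange A B (Polynomial A) (Polynomial B)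
    (RingHom.etale_algebraMap.2 inferInstance)

end Ring

theorem ofPt_fieldPtHom {F : Sp S} (s : FieldPt F) (x : ↥s.pt.left) :
    Points.ofPt (fieldPtHom s) x = Points.mk s := by
  obtain rfl : x = IsLocalRing.closedPoint s.K := Subsingleton.elim (α := PrimeSpectrum s.K) _ _
  refine (Points.ofPt_eq_map_ofScheme (T := s.pt) (fieldPtHom s) (IsLocalRing.closedPoint s.K)).trans ?_
  refine Eq.trans (congrArg (Points.map (fieldPtHom s))
    (Points.ofScheme_apply_eq_mk s.pt (str := s.str) (𝟙 _) (Category.id_comp _))) ?_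
  refine Eq.trans (Points.map_mk _ _) (congrArg Points.mk ?_)
  obtain ⟨K, str, val⟩ := s
  change (⟨K, str, _⟩ : FieldPt F) = ⟨K, str, val⟩
  congr 1
  refine Eq.trans ?_ ((J S).uliftYonedaEquiv.{u + 1}.apply_symm_apply val)
  exact ((J S).uliftYonedaEquiv_apply _).symm

theorem exists_field_points {W X U : Sp S} {p : W ⟶ X} {r : U ⟶ X} (z : Points W) (o : Points U)
    (h : Points.map p z = Points.map r o) :
    ∃ (K : Type u) (_ : Field K) (_ : IsAlgClosed K) (w : Spec (CommRingCat.of K) ⟶ S)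
      (za : (yon S).obj (Over.mk w) ⟶ W) (ub : (yon S).obj (Over.mk w) ⟶ U),
      za ≫ p = ub ≫ r ∧ (∀ x, Points.ofPt za x = z) ∧ ∀ x, Points.ofPt ub x = o := by
  obtain ⟨s, rfl⟩ := Points.mk_surjective z
  obtain ⟨t, rfl⟩ := Points.mk_surjective o
  rw [Points.map_mk, Points.map_mk, Points.mk_eq_mk_iff, Groth.AlgSpBasic.rel_iff] at h
  obtain ⟨Ω, i, w, a, b, hab⟩ := h
  rw [fieldPtHom_map, fieldPtHom_map] at hab
  let K := AlgebraicClosure Ω
  let w' : Spec (CommRingCat.of K) ⟶ S := Spec.map (CommRingCat.ofHom (algebraMap Ω K)) ≫ w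
  let k : Over.mk w' ⟶ Over.mk w := Over.homMk (Spec.map (CommRingCat.ofHom (algebraMap Ω K))) rfl
  refine ⟨K, inferInstance, inferInstance, w', (yon S).map (Y := s.pt) (k ≫ a) ≫ fieldPtHom s,
    (yon S).map (Y := t.pt) (k ≫ b) ≫ fieldPtHom t, ?_,
    fun x => (ofPt_comp_yon _ _ _).trans (ofPt_fieldPtHom s _),
    fun x => (ofPt_comp_yon _ _ _).trans (ofPt_fieldPtHom t _)⟩
  rw [Functor.map_comp, Functor.map_comp, Category.assoc, Category.assoc, Category.assoc,
    Category.assoc]
  exact congrArg ((yon S).map k ≫ ·) hab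

/-- The projection of the affine line. -/
abbrev lineHom {A : Type u} [CommRing A] (str : Spec (CommRingCat.of A) ⟶ S) :
    specPt str (Polynomial.C : A →+* Polynomial A) ⟶ Over.mk str :=
  Over.homMk (Spec.map (CommRingCat.ofHom Polynomial.C)) rfl

theorem smooth_lineHom {A : Type u} [CommRing A] (str : Spec (CommRingCat.of A) ⟶ S) :
    Smooth (lineHom str).left := by
  change Smooth (Spec.map _)
  rw [HasRingHomProperty.Spec_iff (P := @Smooth)]
  exact RingHom.smooth_algebraMap.2 ⟨inferInstance, inferInstance⟩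

theorem surjective_lineHom {A : Type u} [CommRing A] (str : Spec (CommRingCat.of A) ⟶ S) :
    Surjective (lineHom str).left := ⟨fun y => ⟨Spec.map (CommRingCat.ofHom (Polynomial.evalRingHom 0)) y, by
  change (Spec.map (CommRingCat.ofHom (Polynomial.evalRingHom (0 : A))) ≫
    Spec.map (CommRingCat.ofHom Polynomial.C)) y = y
  rw [← Spec.map_comp, ← CommRingCat.ofHom_comp,
    show (Polynomial.evalRingHom (0 : A)).comp Polynomial.C = RingHom.id A from
      RingHom.ext fun x => Polynomial.eval_C]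
  simp⟩⟩

theorem mem_specMap_point {R K : Type u} [CommRing R] [Field K] (φ : R →+* K) (r : R)
    (x : ↥(Spec (CommRingCat.of K))) :
    r ∉ (Spec.map (CommRingCat.ofHom φ) x).asIdeal ↔ φ r ≠ 0 := by
  change φ r ∉ (x : PrimeSpectrum K).asIdeal ↔ _
  rw [(Ideal.eq_bot_or_top (x : PrimeSpectrum K).asIdeal).resolve_right x.2.ne_top, Ideal.mem_bot]

theorem descends_line (hP : ESHyp P) {A : Type u} [CommRing A] (str : Spec (CommRingCat.of A) ⟶ S) :
    Descends P ((yon S).map (lineHom str)) := by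
  intro X W U hX hU f p q e sq he heq u
  have hV := IsAlgSpace.yon_obj (specPt str (Polynomial.C : A →+* Polynomial A))
  have hY := IsAlgSpace.yon_obj (Over.mk str)
  have hW := isAlgSpace_of_isPullback sq hY.diag hX hV
  have hcl : LocP @Smooth ((yon S).map (lineHom str)) :=
    locP_of_repWith ((repWith_yon_map_iff _ _).2 (smooth_lineHom str))
  have hpl : LocP @Smooth p := locP_of_isPullback hV hY hX sq.flip hcl
  have hE : IsOpen (Set.range (Points.map (e ≫ p))) := by
    have := isOpenMor_of_fppf hW hX (fun U V a b k ha hb h => by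
        have : Smooth k.left := hpl a b k ha hb h
        exact (inferInstance : Flat k.left))
      (fun U V a b k ha hb h => by
        have : Smooth k.left := hpl a b k ha hb h
        exact (inferInstance : LocallyOfFinitePresentation k.left))
      _ (isOpen_range_of_isEtaleMor hU hW he)
    rw [← Set.range_comp] at this
    rwa [show Points.map (e ≫ p) = Points.map p ∘ Points.map e from funext fun x => Points.map_comp _ _ x]
  have hι := repWith_openSubι hE
  have hG := isAlgSpace_openSub hX hE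
  refine ⟨_, openSubι X _, hG, isEtaleMor_of_isOpenImmersion hX hι,
    (by rw [range_map_openSubι]; exact ⟨u, rfl⟩), ?_⟩
  have s₀ := IsPullback.of_hasPullback (openSubι X (Set.range (Points.map (e ≫ p)))) p
  have hW₀ := isAlgSpace_of_isPullback s₀ hX.diag hG hW
  refine hP.of_baseChange hG hY hV (s₀.paste_vert sq) hcl
    (surjective_map_of_repWith ((repWith_yon_map_iff _ _).2 (surjective_lineHom str))) ?_
  refine hP.prop_comp_of_good hW₀ hW hV (isEtaleMor_of_isPullback hG hX hW s₀
    (isEtaleMor_of_isOpenImmersion hX hι)) fun z₀ => ?_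
  set z := Points.map (pullback.snd (openSubι X (Set.range (Points.map (e ≫ p)))) p) z₀
  obtain ⟨o, ho⟩ : Points.map p z ∈ Set.range (Points.map (e ≫ p)) := by
    rw [← Points.map_comp, ← pullback.condition, Points.map_comp]
    exact range_map_openSubι.le ⟨_, rfl⟩
  -- geometric points
  obtain ⟨K, _, _, w, za, ub, hzu, hza, hub⟩ := exists_field_points z o ho.symm
  obtain ⟨a₀, ha₀⟩ := (yon S).map_surjective (za ≫ q)
  obtain ⟨α, hα⟩ := Spec.map_surjective a₀.left
  obtain ⟨ρ₀, hρ₀⟩ : ∃ ρ₀ : A →+* K, ρ₀ = α.hom.comp Polynomial.C := ⟨_, rfl⟩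
  have hw : w = Spec.map (CommRingCat.ofHom ρ₀) ≫ str := by
    refine (Over.w a₀).symm.trans ?_
    change a₀.left ≫ Spec.map (CommRingCat.ofHom Polynomial.C) ≫ str = _
    rw [← hα, ← Spec.map_comp_assoc, hρ₀]
    rfl
  subst hw
  let r₀ : specPt str ρ₀ ⟶ Over.mk str := Over.homMk (Spec.map (CommRingCat.ofHom ρ₀)) rfl
  have ha₀' : a₀ = specMor str α.hom hρ₀.symm := Over.OverMorphism.ext hα.symm
  have hline : ∀ (τ : Polynomial A →+* K) (hτ : τ.comp Polynomial.C = ρ₀),
      specMor str τ hτ ≫ lineHom str = r₀ := fun τ hτ => Over.OverMorphism.ext (by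
    change Spec.map _ ≫ Spec.map _ = Spec.map _
    rw [← Spec.map_comp, ← hτ]
    rfl)
  have hzf : (za ≫ p) ≫ f = (yon S).map r₀ := by
    rw [Category.assoc, sq.w, ← Category.assoc, ← ha₀, ← Functor.map_comp, ha₀', hline]
  obtain ⟨b₀, hb₀⟩ := (yon S).map_surjective ((ub ≫ e) ≫ q)
  obtain ⟨β, hβ⟩ := Spec.map_surjective b₀.left
  have hβC : β.hom.comp Polynomial.C = ρ₀ := by
    have h : b₀ ≫ lineHom str = r₀ := (yon S).map_injective (by
      rw [Functor.map_comp, hb₀, Category.assoc, ← sq.w, ← hzf, hzu]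
      simp only [Category.assoc])
    have h' : Spec.map β ≫ Spec.map (CommRingCat.ofHom Polynomial.C) = Spec.map (CommRingCat.ofHom ρ₀) := by
      rw [hβ]; exact congrArg CommaMorphism.left h
    rw [← Spec.map_comp] at h'
    exact congrArg (fun k => k.hom) (Spec.map_injective h')
  have hb₀' : b₀ = specMor str β.hom hβC := Over.OverMorphism.ext hβ.symm
  -- the line over the geometric point
  let π : specPt str ((Polynomial.C : K →+* Polynomial K).comp ρ₀) ⟶ specPt str ρ₀ :=
    specMor str Polynomial.C rfl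
  let μ : specPt str ((Polynomial.C : K →+* Polynomial K).comp ρ₀) ⟶
      specPt str (Polynomial.C : A →+* Polynomial A) :=
    specMor str (Polynomial.mapRingHom ρ₀) (Polynomial.mapRingHom_comp_C ρ₀)
  let L : (yon S).obj _ ⟶ W := sq.lift ((yon S).map π ≫ za ≫ p) ((yon S).map μ) (by
    rw [Category.assoc, hzf, ← Functor.map_comp, ← Functor.map_comp]
    refine congrArg _ (Over.OverMorphism.ext ?_)
    change Spec.map _ ≫ Spec.map _ = Spec.map _ ≫ Spec.map _
    rw [← Spec.map_comp, ← Spec.map_comp]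
    refine congrArg Spec.map (CommRingCat.hom_ext ?_)
    exact (Polynomial.mapRingHom_comp_C ρ₀).symm)
  let ev : ∀ c : K, specPt str ρ₀ ⟶ specPt str ((Polynomial.C : K →+* Polynomial K).comp ρ₀) := fun c =>
    specMor str (Polynomial.evalRingHom c) (RingHom.ext fun x => Polynomial.eval_C)
  have hevπ : ∀ c, ev c ≫ π = 𝟙 _ := fun c => Over.OverMorphism.ext (by
    change Spec.map _ ≫ Spec.map _ = 𝟙 _
    rw [← Spec.map_comp, ← Spec.map_id]
    exact congrArg Spec.map (CommRingCat.hom_ext (RingHom.ext fun x => Polynomial.eval_C)))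
  have hevμ : ∀ (c : K) (τ : Polynomial A →+* K) (hτ : τ.comp Polynomial.C = ρ₀),
      τ Polynomial.X = c → ev c ≫ μ = specMor str τ hτ := fun c τ hτ hX => Over.OverMorphism.ext (by
    change Spec.map _ ≫ Spec.map _ = Spec.map _
    rw [← Spec.map_comp]
    refine congrArg Spec.map (CommRingCat.hom_ext (Polynomial.ringHom_ext (fun x => ?_) ?_))
    · simpa using (RingHom.congr_fun hτ x).symm
    · simpa using hX.symm)
  have hLp : ∀ c, ((yon S).map (ev c) ≫ L) ≫ p = za ≫ p := fun c => by
    rw [Category.assoc, sq.lift_fst, ← Functor.map_comp_assoc, hevπ, (yon S).map_id, Category.id_comp]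
  have hLq : ∀ c (τ : Polynomial A →+* K) (hτ : τ.comp Polynomial.C = ρ₀), τ Polynomial.X = c →
      ((yon S).map (ev c) ≫ L) ≫ q = (yon S).map (specMor str τ hτ) := fun c τ hτ hX => by
    rw [Category.assoc, sq.lift_snd, ← Functor.map_comp, hevμ c τ hτ hX]
  let x₀ : ↥(Spec (CommRingCat.of K)) := IsLocalRing.closedPoint K
  obtain ⟨b, hb⟩ : ∃ b, b = β.hom Polynomial.X := ⟨_, rfl⟩
  have hLb : (yon S).map (ev b) ≫ L = ub ≫ e := by
    refine sq.hom_ext ?_ ?_
    · rw [hLp, hzu]; simp only [Category.assoc]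
    · rw [hLq b β.hom hβC hb.symm, ← hb₀, hb₀']
  have hmem : Points.ofPt L ((ev b).left x₀) ∈ Set.range (Points.map e) :=
    ⟨o, by rw [← ofPt_comp_yon, hLb, ← Points.map_ofPt, hub]⟩
  obtain ⟨_, ⟨h, rfl⟩, hbh, hsub⟩ := PrimeSpectrum.isTopologicalBasis_basic_opens.exists_subset_of_mem_open
    hmem (Points.isOpen_iff.1 (isOpen_range_of_isEtaleMor hU hW he) _ L)
  have hh : h ≠ 0 := by
    rintro rfl
    exact (mem_specMap_point (Polynomial.evalRingHom b) 0 x₀).1 hbh (map_zero _)
  -- translate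
  obtain ⟨a, ha⟩ : ∃ a, a = α.hom Polynomial.X := ⟨_, rfl⟩
  obtain ⟨N, ζ, hN, hζ, hgood⟩ := exists_translation h hh a
  have hN' : N ≠ 0 := by rintro rfl; simp at hN
  let := ρ₀.toAlgebra
  have hmap : (rootPair A hN').HasMap ζ := by
    have hζ0 : ζ ≠ 0 := by
      rintro rfl
      rw [zero_pow hN'] at hζ
      exact zero_ne_one hζ
    refine ⟨by simp [rootPair, hζ], isUnit_iff_ne_zero.2 ?_⟩
    simp [rootPair, Polynomial.derivative_X_pow, hN, hζ0]
  let A' := (rootPair A hN').Ring
  let ρ : A' →ₐ[A] K := (rootPair A hN').lift ζ hmap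
  let φ : Polynomial A →+* Polynomial A' := Polynomial.mapRingHom (algebraMap A A')
  let sh : Polynomial A' ≃ₐ[A'] Polynomial A' := Polynomial.algEquivAevalXAddC (rootPair A hN').X
  let ψ : Polynomial A →+* Polynomial A' := sh.toRingEquiv.toRingHom.comp φ
  let jT : A →+* Polynomial A' := Polynomial.C.comp (algebraMap A A')
  have hφC : φ.comp Polynomial.C = jT := Polynomial.mapRingHom_comp_C _
  have hψC : ψ.comp Polynomial.C = jT := RingHom.ext fun x => by
    change sh (Polynomial.map (algebraMap A A') (Polynomial.C x)) = _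
    rw [Polynomial.map_C, ← Polynomial.algebraMap_eq, AlgEquiv.commutes]
    rfl
  have hφe : Etale (specMor str φ hφC).left := by
    change Etale (Spec.map _)
    rw [HasRingHomProperty.Spec_iff (P := @Etale)]
    exact etale_mapRingHom
  have hψe : Etale (specMor str ψ hψC).left := by
    change Etale (Spec.map (CommRingCat.ofHom φ ≫ sh.toRingEquiv.toCommRingCatIso.hom))
    rw [Spec.map_comp]
    exact MorphismProperty.comp_mem @Etale _ _ inferInstance hφe
  let τ : Polynomial A' →+* K := Polynomial.eval₂RingHom ρ.toRingHom a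
  have hτj : τ.comp jT = ρ₀ := RingHom.ext fun x => by
    change Polynomial.eval₂ _ _ (Polynomial.C _) = _
    rw [Polynomial.eval₂_C]
    exact ρ.commutes x
  have hτφ : τ.comp φ = α.hom := Polynomial.ringHom_ext
    (fun x => by
      have := RingHom.congr_fun hτj x
      rw [← hφC] at this
      exact this.trans (RingHom.congr_fun hρ₀ x))
    (by simp [τ, φ, ha])
  let t : specPt str ρ₀ ⟶ specPt str jT := specMor str τ hτj
  have hψτ : (τ.comp ψ).comp Polynomial.C = ρ₀ := by rw [RingHom.comp_assoc, hψC, hτj]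
  have hψX : (τ.comp ψ) Polynomial.X = a + ζ := by
    simp [ψ, φ, τ, sh, ρ, Polynomial.algEquivAevalXAddC]
    exact StandardEtalePair.lift_X _ ζ hmap
  let T := (yon S).obj (specPt str jT)
  have hT : IsAlgSpace T := IsAlgSpace.yon_obj _
  let cφ : T ⟶ _ := (yon S).map (specMor str φ hφC)
  let cψ : T ⟶ _ := (yon S).map (specMor str ψ hψC)
  have hcφ : IsEtaleMor cφ := isEtaleMor_yon_map _ hφe
  have hcψ : IsEtaleMor cψ := isEtaleMor_yon_map _ hψe
  have hcc : cφ ≫ (yon S).map (lineHom str) = cψ ≫ (yon S).map (lineHom str) := by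
    simp only [cφ, cψ, ← Functor.map_comp]
    refine congrArg _ (Over.OverMorphism.ext ?_)
    change Spec.map _ ≫ Spec.map _ = Spec.map _ ≫ Spec.map _
    rw [← Spec.map_comp, ← Spec.map_comp, ← CommRingCat.ofHom_comp, ← CommRingCat.ofHom_comp, hφC, hψC]
  have s₁ := IsPullback.of_hasPullback q cφ
  have hWT := isAlgSpace_of_isPullback s₁ hV.diag hW hT
  have s₁' : IsPullback (pullback.fst q cφ ≫ p) (pullback.snd q cφ) f (cψ ≫ (yon S).map (lineHom str)) := by
    rw [← hcc]; exact s₁.paste_horiz sq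
  let m : pullback q cφ ⟶ W := sq.lift (pullback.fst q cφ ≫ p) (pullback.snd q cφ ≫ cψ)
    (by rw [Category.assoc (pullback.snd q cφ)]; exact s₁'.w)
  have sm : IsPullback m (pullback.snd q cφ) q cψ :=
    IsPullback.of_right (by rw [sq.lift_fst]; exact s₁') (sq.lift_snd _ _ _) sq
  have s₂ := IsPullback.of_hasPullback e m
  have hG' := isAlgSpace_of_isPullback s₂ hW.diag hU hWT
  let w₁ : (yon S).obj (specPt str ρ₀) ⟶ pullback q cφ := s₁.lift za ((yon S).map t) (by
    rw [← ha₀, ha₀', ← Functor.map_comp, specMor_comp]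
    simp only [hτφ])
  have hw₁ : w₁ ≫ m = (yon S).map (ev (a + ζ)) ≫ L := by
    refine sq.hom_ext ?_ ?_
    · rw [hLp, Category.assoc, sq.lift_fst, ← Category.assoc, s₁.lift_fst]
    · rw [hLq _ (τ.comp ψ) hψτ hψX, Category.assoc, sq.lift_snd, ← Category.assoc, s₁.lift_snd,
        ← Functor.map_comp, specMor_comp]
  have hmem' : Points.map m (Points.ofPt w₁ x₀) ∈ Set.range (Points.map e) := by
    rw [Points.map_ofPt, hw₁, ofPt_comp_yon]
    exact hsub ((mem_specMap_point (Polynomial.evalRingHom (a + ζ)) h x₀).2 hgood)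
  obtain ⟨o', ho'⟩ := hmem'
  obtain ⟨g', -, hg'⟩ := Groth.AlgSpBasic.exists_point_of_isPullback s₂ o' _ ho'
  refine ⟨_, pullback.snd e m ≫ pullback.fst q cφ, hG',
    isEtaleMor_comp (isEtaleMor_of_isPullback hU hW hWT s₂ he)
      (isEtaleMor_of_isPullback hT hV hW s₁.flip hcφ), ⟨g', ?_⟩, ?_⟩
  · rw [Points.map_comp, hg', Points.map_ofPt, s₁.lift_fst, hza]
  · rw [Category.assoc, pullback.condition, ← Category.assoc]
    exact hP.etalePost hG' hT hV
      (hP.baseChange hU hV hT (s₂.paste_vert sm) (locP_smooth_of_isEtaleMor hcψ) heq) hcφ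

end

end Groth.AlgSp2
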