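import Groth.Agent.AlgSp2.ESLine
import Mathlib.RingTheory.RingHom.StandardSmooth
import Mathlib.Algebra.MvPolynomial.Equiv

/-!
# Étale-smooth locality on source and target
-/

set_option autoImplicit false
set_option backward.isDefEq.respectTransparency.types false
universe u

open CategoryTheory CategoryTheory.Limits AlgebraicGeometry Opposite AlgSp TopologicalSpace

namespace Groth.AlgSp2

open Groth.AlgSpBasic

noncomputable section

variable {S : Scheme.{u}} {P : MorphismProperty (Sp S)}

section

variable (hP : ESHyp P)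

include hP

theorem descends_yon_etale {U V : Over S} (g : U ⟶ V) (hg : Etale g.left) :
    Descends P ((yon S).map g) :=
  descends_of_isEtaleMor hP (IsAlgSpace.yon_obj U) (IsAlgSpace.yon_obj V) (isEtaleMor_yon_map g hg)

theorem descends_mvPolynomial {A : Type u} [CommRing A] (str : Spec (CommRingCat.of A) ⟶ S) (n : ℕ) :
    Descends P ((yon S).map
      (Over.homMk (Spec.map (CommRingCat.ofHom (MvPolynomial.C : A →+* MvPolynomial (Fin n) A))) rfl :
        specPt str (MvPolynomial.C : A →+* MvPolynomial (Fin n) A) ⟶ Over.mk str)) := by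
  induction n with
  | zero =>
    refine descends_yon_etale hP _ ?_
    change Etale (Spec.map _)
    have : IsIso (CommRingCat.ofHom (MvPolynomial.C : A →+* MvPolynomial (Fin 0) A)) :=
      (ConcreteCategory.isIso_iff_bijective _).2 (MvPolynomial.isEmptyAlgEquiv A (Fin 0)).symm.bijective
    infer_instance
  | succ n ih =>
    let B := MvPolynomial (Fin n) A
    let strB : Spec (CommRingCat.of B) ⟶ S :=
      Spec.map (CommRingCat.ofHom (MvPolynomial.C : A →+* B)) ≫ str
    let e := MvPolynomial.finSuccEquiv A n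
    let i : specPt str (MvPolynomial.C : A →+* MvPolynomial (Fin (n + 1)) A) ⟶
        specPt strB (Polynomial.C : B →+* Polynomial B) :=
      Over.homMk (Spec.map (CommRingCat.ofHom e.symm.toRingEquiv.toRingHom)) (by
        change Spec.map _ ≫ Spec.map _ ≫ Spec.map _ ≫ str = Spec.map _ ≫ str
        rw [← Spec.map_comp_assoc, ← Spec.map_comp_assoc]
        congr 2
        exact CommRingCat.hom_ext (RingHom.ext fun a => e.symm.commutes a))
    have hi : Etale i.left := by
      change Etale (Spec.map e.symm.toRingEquiv.toCommRingCatIso.hom)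
      infer_instance
    have h₁ := descends_comp (IsAlgSpace.yon_obj _) (IsAlgSpace.yon_obj _)
      (descends_line hP strB) ih
    have h₂ := descends_comp (IsAlgSpace.yon_obj _) (IsAlgSpace.yon_obj _)
      (descends_yon_etale hP i hi) h₁
    rw [← Functor.map_comp, ← Functor.map_comp] at h₂
    convert h₂ using 2
    refine Over.OverMorphism.ext ?_
    change Spec.map _ = Spec.map _ ≫ Spec.map _ ≫ Spec.map _
    rw [← Spec.map_comp, ← Spec.map_comp]
    exact congrArg Spec.map (CommRingCat.hom_ext (RingHom.ext fun a => (e.symm.commutes a).symm))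

theorem descends_standardSmooth {A B : Type u} [CommRing A] [CommRing B]
    (str : Spec (CommRingCat.of A) ⟶ S) {φ : A →+* B} (hφ : φ.IsStandardSmooth) :
    Descends P ((yon S).map (Over.homMk (Spec.map (CommRingCat.ofHom φ)) rfl :
      specPt str φ ⟶ Over.mk str)) := by
  obtain ⟨n, g, hg, hge⟩ := hφ.exists_etale_mvPolynomial
  have hge' : Etale (specMor str g hg).left := by
    change Etale (Spec.map _)
    rw [HasRingHomProperty.Spec_iff (P := @Etale)]
    exact hge
  have h := descends_comp (IsAlgSpace.yon_obj _) (IsAlgSpace.yon_obj _)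
    (descends_yon_etale hP (specMor str g hg) hge') (descends_mvPolynomial hP str n)
  rw [← Functor.map_comp] at h
  convert h using 2
  refine Over.OverMorphism.ext ?_
  change Spec.map _ = Spec.map _ ≫ Spec.map _
  rw [← Spec.map_comp]
  exact congrArg Spec.map (CommRingCat.hom_ext hg.symm)

theorem descends_smooth_scheme {A B : Over S} (h : A ⟶ B) (hs : Smooth h.left) :
    Descends P ((yon S).map h) := by
  refine descends_local hP (IsAlgSpace.yon_obj A) (IsAlgSpace.yon_obj B) fun x => ?_
  obtain ⟨a, rfl⟩ := (Points.schemeHomeo A).surjective x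
  obtain ⟨U, hU, V, hV, haV, e, he⟩ := Smooth.exists_isStandardSmooth h.left a
  let str : Spec (CommRingCat.of Γ(B.left, U)) ⟶ S := hU.fromSpec ≫ B.hom
  let φ : Γ(B.left, U) →+* Γ(A.left, V) := (h.left.appLE U V e).hom
  have hw : hV.fromSpec ≫ h.left = Spec.map (CommRingCat.ofHom φ) ≫ hU.fromSpec :=
    (hU.SpecMap_appLE_fromSpec h.left hV e).symm
  let k : specPt str φ ⟶ A := Over.homMk hV.fromSpec (by
    change hV.fromSpec ≫ A.hom = Spec.map _ ≫ hU.fromSpec ≫ B.hom
    rw [← Category.assoc, ← hw, Category.assoc, Over.w h])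
  let ι : Over.mk str ⟶ B := Over.homMk hU.fromSpec rfl
  refine ⟨(yon S).obj (specPt str φ), (yon S).map k, IsAlgSpace.yon_obj _,
    isEtaleMor_yon_map k (inferInstanceAs (Etale hV.fromSpec)), ?_, ?_⟩
  · obtain ⟨y, hy⟩ : a ∈ Set.range hV.fromSpec := by rw [hV.range_fromSpec]; exact haV
    exact ⟨Points.schemeHomeo _ y, (Points.map_yon_map_apply k y).trans (congrArg _ hy)⟩
  · have h₁ := descends_comp (IsAlgSpace.yon_obj _) (IsAlgSpace.yon_obj _)
      (descends_standardSmooth hP str he)
      (descends_yon_etale hP ι (inferInstanceAs (Etale hU.fromSpec)))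
    rw [← Functor.map_comp] at h₁ ⊢
    convert h₁ using 2
    exact Over.OverMorphism.ext hw

/-- `P` descends along smooth morphisms of algebraic spaces. -/
theorem descends_of_smooth {V Y : Sp S} (hV : IsAlgSpace V) (hY : IsAlgSpace Y) {c : V ⟶ Y}
    (hc : LocP @Smooth c) : Descends P c := by
  obtain ⟨V₁, Y₁, a, b, h, ha, has, hb, hbs, comm⟩ := exists_charts hV hY c
  refine descends_local hP hV hY fun v => ?_
  obtain ⟨t, rfl⟩ := surjective_ofPt_of_repWith has v
  refine ⟨(yon S).obj V₁, a, IsAlgSpace.yon_obj _, isEtaleMor_chart hV ha,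
    ⟨Points.schemeHomeo V₁ t, (ofPt_eq_map a t).symm⟩, ?_⟩
  rw [comm]
  exact descends_comp (IsAlgSpace.yon_obj _) hY
    (descends_smooth_scheme hP h (hc a b h ha hb comm))
    (descends_of_isEtaleMor hP (IsAlgSpace.yon_obj _) hY (isEtaleMor_chart hY hb))

theorem ESHyp.isEtaleSmoothLocalST : IsEtaleSmoothLocalST P where
  precomp _ _ _ hX hY hZ _ _ hf hg := hP.precomp hX hY hZ hf hg
  baseChange _ _ _ _ hX hY _ hY' _ _ _ _ sq hg hf := hP.baseChange hX hY hY' sq hg hf
  locality X Y hX hY f := by
    refine ⟨fun hf x => ⟨Y, X, X, 𝟙 Y, 𝟙 X, f, 𝟙 X, x, hY, hX, hX, locP_id Y, isPullback_id_left f,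
      isEtaleMor_id X, by rw [Category.id_comp]; exact Points.map_id x,
      by rwa [Category.id_comp]⟩, fun h => hP.prop_of_good hX hY fun x => ?_⟩
    obtain ⟨V, W, U, b, p, q, e, v, hV, -, hU, hb, sq, he, rfl, hh⟩ := h x
    exact descends_of_smooth hP hV hY hb hX hU f p q e sq he hh v

end

end

end Groth.AlgSp2
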