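import Groth.Agent.AlgSpBasic.FiniteEtaleQuotOrbits
import Groth.Agent.AlgSpBasic.OpenSub
import Groth.Agent.AlgSpBasic.Immersion
import Groth.Agent.AlgSpBasic.Univ
import Groth.Agent.AlgSpBasic.DenseScheme
import Groth.Agent.GitQuot.FiniteAffine
import Groth.Prelude.Def_AlgSpMor5

/-!
# The schematic locus of the target of a finite locally free surjection
-/

set_option autoImplicit false
set_option backward.isDefEq.respectTransparency.types false
universe u

open CategoryTheory CategoryTheory.Limits AlgebraicGeometry Opposite AlgSp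
open Groth.AlgSpBasic

namespace Groth.AlgSp2.SchematicFinLocFree

variable {S : Scheme.{u}}

/-- An algebraic space with a finite locally free atlas whose orbits lie in affine opens is a scheme. -/
theorem exists_iso_of_finLocFree_orbits {X : Sp S} {R V : Over S} {t s : R ⟶ V}
    {p : (yon S).obj V ⟶ X} (he : RepWith finLocFree p) (hs : RepWith @Surjective p)
    (sq : IsPullback ((yon S).map t) ((yon S).map s) p p)
    (horb : ∀ x : ↥V.left, ∃ A : V.left.Opens, IsAffineOpen A ∧
      t.left '' (s.left ⁻¹' {x}) ⊆ (A : Set ↥V.left)) :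
    ∃ Y : Over S, Nonempty ((yon S).obj Y ≅ X) := by
  obtain ⟨_, _, _⟩ : IsFinite s.left ∧ Flat s.left ∧ LocallyOfFinitePresentation s.left :=
    repWith_fst_of_isPullback sq he
  have hR := isEqvRel_of_isPullback sq
  have hj : ∀ {T : Scheme.{u}} {a b : T ⟶ R.left}, a ≫ t.left = b ≫ t.left →
      a ≫ s.left = b ≫ s.left → a = b := by
    intro T a b ht hs'
    have hb : b ≫ R.hom = a ≫ R.hom := by
      rw [← Over.w t, ← Category.assoc, ← ht, Category.assoc]
    exact congrArg CommaMorphism.left (hR.injective (Over.mk (a ≫ R.hom))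
      (Over.homMk a rfl) (Over.homMk b hb)
      (by ext1; exact ht) (by ext1; exact hs'))
  -- identity, inverse, composition
  obtain ⟨e, he₁, he₂⟩ := ((hR.equivalence V).refl (𝟙 V))
  obtain ⟨i, hi₁, hi₂⟩ := ((hR.equivalence R).symm ⟨𝟙 R, Category.id_comp t, Category.id_comp s⟩)
  let C : Over S := Over.mk (pullback.fst s.left t.left ≫ R.hom)
  let c₁ : C ⟶ R := Over.homMk (pullback.fst s.left t.left) rfl
  let c₂ : C ⟶ R := Over.homMk (pullback.snd s.left t.left) (by
    change _ = pullback.fst s.left t.left ≫ R.hom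
    conv_lhs => rw [← Over.w t]
    conv_rhs => rw [← Over.w s]
    rw [← Category.assoc, ← pullback.condition, Category.assoc])
  have hc : c₁ ≫ s = c₂ ≫ t := by ext1; exact pullback.condition
  obtain ⟨c, hc₁, hc₂⟩ := ((hR.equivalence C).trans (x := c₁ ≫ t) (y := c₁ ≫ s) (z := c₂ ≫ s)
    ⟨c₁, rfl, rfl⟩ ⟨c₂, hc.symm, rfl⟩)
  let G : Grpd.GroupoidScheme S := GrpdBasic.ofMono V.hom R.hom s.left t.left (Over.w s) (Over.w t)
    hj e.left i.left c.left (by rw [← Over.comp_left, he₂]; rfl) (by rw [← Over.comp_left, he₁]; rfl)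
    (by rw [← Over.comp_left, hi₂]) (by rw [← Over.comp_left, hi₁])
    (by rw [← Over.comp_left, hc₂]; rfl) (by rw [← Over.comp_left, hc₁]; rfl)
  have : IsFinite G.s := ‹IsFinite s.left›
  have : Flat G.s := inferInstanceAs (Flat s.left)
  have : LocallyOfFinitePresentation G.s := inferInstanceAs (LocallyOfFinitePresentation s.left)
  have : Mono G.j := GrpdBasic.mono_j_of_hom_ext G hj
  have hb : Groth.GrpdQuotient.OrbitsInAffine G := horb
  obtain ⟨hfin, hflat, hlfp⟩ := Groth.GrpdQuotient.finLocFree hb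
  have hpb := Groth.GrpdQuotient.isPullback hb
  let q₀ : V.left ⟶ Groth.GrpdQuotient.quotient G := Groth.GrpdQuotient.p hb
  have hsurj : Surjective q₀ := ⟨(Groth.GrpdQuotient.isQuot hb).surj⟩
  have hV : ∀ {Z : Scheme.{u}} (g₁ g₂ : Z ⟶ G.U), g₁ ≫ q₀ = g₂ ≫ q₀ →
      g₁ ≫ V.hom = g₂ ≫ V.hom := fun g₁ g₂ h => by
    rw [← hpb.lift_fst g₁ g₂ h]
    conv_rhs => rw [← hpb.lift_snd g₁ g₂ h]
    rw [Category.assoc, Category.assoc]
    exact congrArg _ ((Over.w t).trans (Over.w s).symm)
  let Y : Over S := Over.mk (EffectiveEpi.desc q₀ V.hom hV)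
  let q : V ⟶ Y := Over.homMk q₀ (EffectiveEpi.fac q₀ V.hom hV)
  have : IsFinite q.left := hfin
  have : Flat q.left := hflat
  have : LocallyOfFinitePresentation q.left := hlfp
  have : Surjective q.left := hsurj
  have hq : IsPullback t s q q :=
    IsPullback.of_map (Over.forget S) (by ext1; exact hpb.w) hpb
  have : Sheaf.IsLocallySurjective ((yon S).map q) := isLocallySurjective_of_repWith _
    ((repWith_yon_map_iff _ q).2 ‹Flat q.left›)
    ((repWith_yon_map_iff _ q).2 ‹LocallyOfFinitePresentation q.left›)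
    ((repWith_yon_map_iff _ q).2 ‹Surjective q.left›)
  have : Sheaf.IsLocallySurjective p := isLocallySurjective_of_repWith p
    (repWith_mono (fun _ _ _ h => h.2.1) he) (repWith_mono (fun _ _ _ h => h.2.2) he) hs
  obtain ⟨h₁⟩ := isColimit_of_isLocallySurjective (hq.map (yon S))
  obtain ⟨h₂⟩ := isColimit_of_isLocallySurjective sq
  exact ⟨Y, ⟨h₁.coconePointUniqueUpToIso h₂⟩⟩

theorem range_map_yon {X : Sp S} {T : Over S} (g : (yon S).obj T ⟶ X) :
    Set.range (AlgSp.Points.map g) = Set.range (AlgSp.Points.ofPt g) := by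
  ext z
  constructor
  · rintro ⟨w, rfl⟩
    obtain ⟨T', g', t, rfl⟩ := exists_ofPt w
    obtain ⟨φ, rfl⟩ := (yon S).map_surjective g'
    exact ⟨φ.left t, by rw [AlgSp.Points.map_ofPt, ofPt_comp_yon]⟩
  · rintro ⟨t, rfl⟩
    exact ⟨_, (AlgSp.Points.ofPt_eq_map_ofScheme g t).symm⟩

section
variable {X Y : Sp S} {f : X ⟶ Y}

theorem exists_affine_of_schematic (hf : RepWith finLocFree f) {G : Over S}
    {g : (yon S).obj G ⟶ Y} (hg : RepWith @IsOpenImmersion g) (z : ↥G.left) :
    ∃ (U : Over S) (a : (yon S).obj U ⟶ X), IsAffine U.left ∧ RepWith @IsOpenImmersion a ∧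
      AlgSp.Points.map f ⁻¹' {AlgSp.Points.ofPt g z} ⊆ Set.range (AlgSp.Points.ofPt a) := by
  obtain ⟨D, hD, hzD, -⟩ := exists_isAffineOpen_mem_and_subset (X := G.left) (x := z) (U := ⊤) trivial
  let j : Over.mk (D.ι ≫ G.hom) ⟶ G := Over.homMk D.ι rfl
  have : IsOpenImmersion j.left := inferInstanceAs (IsOpenImmersion D.ι)
  have hgD : RepWith @IsOpenImmersion ((yon S).map j ≫ g) :=
    repWith_comp ((repWith_yon_map_iff _ j).2 ‹_›) hg
  obtain ⟨W, snd, fst, sq⟩ := hf.rep ((yon S).map j ≫ g)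
  obtain ⟨_, -, -⟩ : IsFinite snd.left ∧ Flat snd.left ∧ LocallyOfFinitePresentation snd.left :=
    hf.property _ fst snd sq
  have : IsAffine (Over.mk (D.ι ≫ G.hom)).left := hD
  refine ⟨W, fst, isAffine_of_isAffineHom snd.left, repWith_of_isPullback sq.flip hgD, fun x hx => ?_⟩
  have hz : AlgSp.Points.ofPt g z = AlgSp.Points.ofPt ((yon S).map j ≫ g) ⟨z, hzD⟩ := by
    rw [ofPt_comp_yon]; rfl
  obtain ⟨v, hv, -⟩ := (map_eq_ofPt_iff sq x ⟨z, hzD⟩).1 ((Set.mem_singleton_iff.1 hx).trans hz)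
  exact ⟨v, hv⟩

theorem isSchematicPt_of_affine (hf : RepWith finLocFree f) (hs : RepWith @Surjective f)
    {U : Over S} [IsAffine U.left] {a : (yon S).obj U ⟶ X} (ha : RepWith @IsOpenImmersion a)
    {y : AlgSp.Points Y} (hy : AlgSp.Points.map f ⁻¹' {y} ⊆ Set.range (AlgSp.Points.ofPt a)) :
    IsSchematicPt Y y := by
  have : Mono a := mono_of_repWith (fun _ _ g (_ : IsOpenImmersion g) => inferInstance) ha
  have hao : IsOpen (Set.range (AlgSp.Points.ofPt a)) :=
    (isOpenMap_ofPt_of_repWith (fun _ _ φ (h : IsOpenImmersion φ) => φ.isOpenEmbedding.isOpenMap)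
      ha).isOpen_range
  let O : Set (AlgSp.Points Y) := (AlgSp.Points.map f '' (Set.range (AlgSp.Points.ofPt a))ᶜ)ᶜ
  have hO : IsOpen O := (isClosedMap_map_of_repWith
    (fun _ _ φ (h : finLocFree φ) => by
      have : IsFinite φ := h.1
      exact φ.isClosedMap) hf _ hao.isClosed_compl).isOpen_compl
  have hyO : y ∈ O := fun ⟨x, hx, e⟩ => hx (hy e)
  have hfO : ∀ x, AlgSp.Points.map f x ∈ O → x ∈ Set.range (AlgSp.Points.ofPt a) := fun x hx => by
    by_contra hn
    exact hx ⟨x, hn, rfl⟩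
  let ι := openSubι Y O
  have hι : RepWith @IsOpenImmersion ι := repWith_openSubι hO
  let U' : U.left.Opens := ⟨AlgSp.Points.ofPt (a ≫ f) ⁻¹' O,
    hO.preimage (AlgSp.Points.continuous_ofPt _)⟩
  let UO : Over S := Over.mk (U'.ι ≫ U.hom)
  let k : UO ⟶ U := Over.homMk U'.ι rfl
  obtain ⟨q, hq⟩ := (openSub_exists_lift_iff Y O (((yon S).map k ≫ a) ≫ f)).2 fun v => by
    rw [Category.assoc, ofPt_comp_yon]
    exact v.2
  have sq : IsPullback ((yon S).map k ≫ a) q f ι := by
    refine isPullback_of_lifts hq.symm (fun T b c hbc => ?_) (fun T b b' h _ => ?_)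
    · have hb := (openSub_exists_lift_iff Y O (b ≫ f)).1 ⟨c, hbc.symm⟩
      obtain ⟨b₁, hb₁⟩ := exists_lift_of_range_openImmersion (IsAlgSpace.yon_obj T) ha b (by
        rw [range_map_yon, range_map_yon]
        rintro _ ⟨t, rfl⟩
        exact hfO _ (by rw [AlgSp.Points.map_ofPt]; exact hb t))
      obtain ⟨φ, rfl⟩ := (yon S).map_surjective b₁
      have hr : Set.range φ.left ⊆ Set.range U'.ι := by
        rintro _ ⟨t, rfl⟩
        rw [Scheme.Opens.range_ι]
        show AlgSp.Points.ofPt (a ≫ f) (φ.left t) ∈ O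
        rw [← ofPt_comp_yon, ← Category.assoc, hb₁]
        exact hb t
      let ψ : T ⟶ UO := Over.homMk (IsOpenImmersion.lift U'.ι φ.left hr) (by
        show IsOpenImmersion.lift U'.ι φ.left hr ≫ U'.ι ≫ U.hom = _
        rw [← Category.assoc, IsOpenImmersion.lift_fac, Over.w])
      have hψ : ψ ≫ k = φ := Over.OverMorphism.ext (IsOpenImmersion.lift_fac _ _ _)
      have h1 : (yon S).map ψ ≫ (yon S).map k ≫ a = b := by
        rw [← Category.assoc, ← Functor.map_comp, hψ, hb₁]
      refine ⟨(yon S).map ψ, h1, openSub_hom_ext Y O ?_⟩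
      rw [Category.assoc, hq, ← Category.assoc, h1, hbc]
    · obtain ⟨b, rfl⟩ := (yon S).map_surjective b
      obtain ⟨b', rfl⟩ := (yon S).map_surjective b'
      rw [← Category.assoc, ← Category.assoc, cancel_mono, ← Functor.map_comp, ← Functor.map_comp] at h
      congr 1
      exact Over.OverMorphism.ext
        ((cancel_mono U'.ι).1 (congrArg (fun k => k.left) ((yon S).map_injective h)))
  have hqf : RepWith finLocFree q := repWith_of_isPullback sq hf
  have hqs : RepWith @Surjective q := repWith_of_isPullback sq hs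
  obtain ⟨R, t, s, sqR⟩ := exists_pullback_yon hqf.rep q
  obtain ⟨_, -, -⟩ : IsFinite s.left ∧ Flat s.left ∧ LocallyOfFinitePresentation s.left :=
    repWith_fst_of_isPullback sqR hqf
  have : IsSeparated k.left := inferInstanceAs (IsSeparated U'.ι)
  have : LocallyQuasiFinite k.left := inferInstanceAs (LocallyQuasiFinite U'.ι)
  have : LocallyOfFiniteType k.left := inferInstanceAs (LocallyOfFiniteType U'.ι)
  obtain ⟨G, ⟨e⟩⟩ := exists_iso_of_finLocFree_orbits hqf hqs sqR fun x => by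
    obtain ⟨A, hA, hAE⟩ := Groth.GitQuot.exists_affineOpen_of_finite k.left
      (t.left '' (s.left ⁻¹' {x})) ((s.left.finite_preimage_singleton x).image _)
    exact ⟨A, hA, hAE⟩
  refine ⟨G, e.hom ≫ ι, repWith_comp (repWith_isIso _) hι, ?_⟩
  rw [← range_map_yon]
  obtain ⟨y', hy'⟩ : y ∈ Set.range (AlgSp.Points.map ι) := by rw [range_map_openSubι]; exact hyO
  refine ⟨AlgSp.Points.map e.inv y', ?_⟩
  rw [← hy', ← AlgSp.Points.map_comp, Iso.inv_hom_id_assoc]

end

end Groth.AlgSp2.SchematicFinLocFree
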