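import Groth.Agent.AlgSpBasic.AlgSpace
import Groth.Agent.AlgSpBasic.Points
import Groth.Prelude.Def_AlgSp2
import Groth.Agent.VarietyBC.Components
import Groth.Agent.DescentBase.UnivOpenField
import Mathlib.Topology.Homeomorph.Lemmas
import Mathlib.RingTheory.TensorProduct.Nontrivial

/-!
# Connected components of base changes of algebraic spaces over a field
-/

set_option autoImplicit false
set_option backward.isDefEq.respectTransparency.types false
universe u

open CategoryTheory CategoryTheory.Limits AlgebraicGeometry AlgSp Groth.AlgSpBasic TensorProduct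

namespace Groth.AlgSp2.GeomConnSp

noncomputable section

variable {S : Scheme.{u}} {F G : Sp S}

/-- Representable geometrically connected maps have connected fibres on points. -/
theorem isConnected_fibre {f : F ⟶ G} (h : RepWith @GeometricallyConnected f) (y : Points G) :
    IsConnected (Points.map f ⁻¹' {y}) := by
  obtain ⟨T, g, t, rfl⟩ := exists_ofPt y
  obtain ⟨V, snd, fst, sq⟩ := h.rep g
  have : GeometricallyConnected snd.left := h.property g fst snd sq
  have e : Points.map f ⁻¹' {Points.ofPt g t} = Points.ofPt fst '' (snd.left ⁻¹' {t}) := by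
    ext x
    rw [Set.mem_preimage, Set.mem_singleton_iff, map_eq_ofPt_iff sq]
    exact ⟨fun ⟨v, h₁, h₂⟩ => ⟨v, h₂, h₁⟩, fun ⟨v, h₂, h₁⟩ => ⟨v, h₁, h₂⟩⟩
  rw [e]
  exact (snd.left.isConnected_preimage_singleton t).image _ (Points.continuous_ofPt fst).continuousOn

theorem isCoinducing_map {f : F ⟶ G} (hs : Function.Surjective (Points.map f))
    (ho : IsOpenMap (Points.map f)) : Topology.IsCoinducing (Points.map f) :=
  (ho.isQuotientMap (Points.continuous_map f) hs).isCoinducing

theorem bijective_of_open {f : F ⟶ G} (ho : IsOpenMap (Points.map f))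
    (hf : ∀ y, IsConnected (Points.map f ⁻¹' {y})) :
    Function.Bijective (Continuous.connectedComponentsMap (Points.continuous_map f)) :=
  (isCoinducing_map (fun y => (hf y).nonempty) ho).connectedComponentsMap_bijective hf

theorem connectedSpace_of_open {f : F ⟶ G} (ho : IsOpenMap (Points.map f))
    (hf : ∀ y, IsConnected (Points.map f ⁻¹' {y})) [ConnectedSpace (Points G)] :
    ConnectedSpace (Points F) := by
  rw [connectedSpace_iff_univ]
  simpa using (isCoinducing_map (fun y => (hf y).nonempty) ho).isConnected_preimage_of_isClosed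
    hf isClosed_univ isConnected_univ

theorem connectedSpace_of_surjective {f : F ⟶ G} (hs : Function.Surjective (Points.map f))
    [ConnectedSpace (Points F)] : ConnectedSpace (Points G) :=
  hs.connectedSpace (Points.continuous_map f)

/-- The final object. -/
abbrev one (S : Scheme.{u}) : Sp S := (yon S).obj (Over.mk (𝟙 S))

def isTerminalOne (S : Scheme.{u}) : IsTerminal (one S) :=
  Over.mkIdTerminal.isTerminalObj (yon S) _

theorem isPullback_prod (X Y : Sp S) :
    IsPullback (prod.fst : X ⨯ Y ⟶ X) prod.snd ((isTerminalOne S).from X) ((isTerminalOne S).from Y) :=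
  IsPullback.of_is_product (prodIsProd X Y) (isTerminalOne S)

theorem isPullback_map_right (X : Sp S) {Y' Y : Sp S} (g : Y' ⟶ Y) :
    IsPullback (prod.snd : X ⨯ Y' ⟶ Y') (prod.map (𝟙 X) g) g prod.snd := by
  have big : IsPullback (prod.snd : X ⨯ Y' ⟶ Y') (prod.map (𝟙 X) g ≫ prod.fst)
      (g ≫ (isTerminalOne S).from Y) ((isTerminalOne S).from X) := by
    rw [prod.map_fst, Category.comp_id,
      (isTerminalOne S).hom_ext (g ≫ (isTerminalOne S).from Y) ((isTerminalOne S).from Y')]
    exact (isPullback_prod X Y').flip
  exact IsPullback.of_bot big (prod.map_snd _ _).symm (isPullback_prod X Y).flip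

theorem isPullback_map_left {X' X : Sp S} (g : X' ⟶ X) (Y : Sp S) :
    IsPullback (prod.fst : X' ⨯ Y ⟶ X') (prod.map g (𝟙 Y)) g prod.fst := by
  have big : IsPullback (prod.fst : X' ⨯ Y ⟶ X') (prod.map g (𝟙 Y) ≫ prod.snd)
      (g ≫ (isTerminalOne S).from X) ((isTerminalOne S).from Y) := by
    rw [prod.map_snd, Category.comp_id,
      (isTerminalOne S).hom_ext (g ≫ (isTerminalOne S).from X) ((isTerminalOne S).from X')]
    exact isPullback_prod X' Y
  exact IsPullback.of_bot big (prod.map_fst _ _).symm (isPullback_prod X Y)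

theorem repWith_map_yon (X : Sp S) {T' T : Over S} (γ : T' ⟶ T) (P : MorphismProperty Scheme.{u})
    [P.IsStableUnderBaseChange] (h : P γ.left) :
    RepWith P (prod.map (𝟙 X) ((yon S).map γ)) :=
  repWith_of_isPullback (isPullback_map_right X _) ((repWith_yon_map_iff P γ).2 h)

theorem repWith_fst (X : Sp S) (T : Over S) (P : MorphismProperty Scheme.{u})
    [P.IsStableUnderBaseChange] (h : P T.hom) :
    RepWith P (prod.fst : X ⨯ (yon S).obj T ⟶ X) := by
  let t : T ⟶ Over.mk (𝟙 S) := Over.homMk T.hom (Category.comp_id _)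
  have sq := (isPullback_prod X ((yon S).obj T)).flip
  rw [(isTerminalOne S).hom_ext ((isTerminalOne S).from ((yon S).obj T)) ((yon S).map t)] at sq
  exact repWith_of_isPullback sq ((repWith_yon_map_iff P t).2 h)

section Field

variable {k : Type u} [Field k]

/-- The spectrum of a field extension, over the base field. -/
abbrev T (K : Type u) [Field K] [Algebra k K] : Over (Spec (CommRingCat.of k)) :=
  Over.mk (Spec.map (CommRingCat.ofHom (algebraMap k K)))

/-- The map on spectra induced by a homomorphism of extensions. -/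
abbrev Tmap {K L : Type u} [Field K] [Algebra k K] [Field L] [Algebra k L] (i : K →ₐ[k] L) :
    T (k := k) L ⟶ T K :=
  Over.homMk (Spec.map (CommRingCat.ofHom i.toRingHom)) (by
    show Spec.map _ ≫ Spec.map _ = Spec.map _
    rw [← Spec.map_comp, ← CommRingCat.ofHom_comp]; exact congrArg (fun f => Spec.map (CommRingCat.ofHom f)) i.comp_algebraMap)

theorem universallyOpen_field {K L : Type u} [Field K] [Field L] (φ : K →+* L) :
    UniversallyOpen (Spec.map (CommRingCat.ofHom φ)) :=
  Groth.DescentBase.universallyOpen_of_field K _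

theorem surjective_field {K L : Type u} [Field K] [Field L] (φ : K →+* L) :
    Surjective (Spec.map (CommRingCat.ofHom φ)) :=
  ⟨fun y => ⟨⟨⊥, Ideal.isPrime_bot⟩, Subsingleton.elim (α := PrimeSpectrum K) _ y⟩⟩

theorem geometricallyConnected_field {K L : Type u} [Field K] [IsSepClosed K] [Field L]
    (φ : K →+* L) : GeometricallyConnected (Spec.map (CommRingCat.ofHom φ)) := by
  letI : (Spec (CommRingCat.of L)).Over (Spec (CommRingCat.of K)) := ⟨Spec.map (CommRingCat.ofHom φ)⟩
  have : IrreducibleSpace (Spec (CommRingCat.of L)) :=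
    inferInstanceAs (IrreducibleSpace (PrimeSpectrum L))
  have h := Groth.VarietyBC.geometricallyIrreducible_of_sepClosedAt
    (k := K) (Groth.VarietyBC.sepClosedAt_of_isSepClosed
      (genericPoint (Spec (CommRingCat.of L))))
  refine (Groth.VarietyBC.geometricallyConnected_iff_forall (k := K)
    (X := Spec (CommRingCat.of L))).2 fun E _ _ => ?_
  have := Groth.VarietyBC.geometricallyIrreducible_iff_forall.1 h E
  infer_instance

/-- Two extensions have a common extension. -/
theorem exists_common (K L : Type u) [Field K] [Algebra k K] [Field L] [Algebra k L] :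
    ∃ (Ω : Type u) (_ : Field Ω) (_ : Algebra k Ω), Nonempty (K →ₐ[k] Ω) ∧ Nonempty (L →ₐ[k] Ω) := by
  obtain ⟨M, hM⟩ := Ideal.exists_maximal (K ⊗[k] L)
  letI := Ideal.Quotient.field M
  exact ⟨(K ⊗[k] L) ⧸ M, inferInstance, inferInstance,
    ⟨(Ideal.Quotient.mkₐ k M).comp Algebra.TensorProduct.includeLeft⟩,
    ⟨(Ideal.Quotient.mkₐ k M).comp Algebra.TensorProduct.includeRight⟩⟩

/-- The base change of a space to an extension. -/
abbrev bcS (X : Sp (Spec (CommRingCat.of k))) (K : Type u) [Field K] [Algebra k K] :
    Sp (Spec (CommRingCat.of k)) := X ⨯ (yon _).obj (T (k := k) K)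

variable (X : Sp (Spec (CommRingCat.of k))) {K L : Type u} [Field K] [Algebra k K] [Field L]
  [Algebra k L]

theorem connected_of_extension (i : K →ₐ[k] L) [ConnectedSpace (Points (bcS X L))] :
    ConnectedSpace (Points (bcS X K)) :=
  connectedSpace_of_surjective (surjective_map_of_repWith
    (repWith_map_yon X (Tmap i) @Surjective (surjective_field _)))

theorem connected_of_sepClosed_extension [IsSepClosed K] (i : K →ₐ[k] L)
    [ConnectedSpace (Points (bcS X K))] : ConnectedSpace (Points (bcS X L)) :=
  connectedSpace_of_open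
    (isOpenMap_map_of_repWith (P := @UniversallyOpen) (fun _ _ φ (_ : UniversallyOpen φ) => φ.isOpenMap)
      (repWith_map_yon X (Tmap i) @UniversallyOpen (universallyOpen_field _)))
    (isConnected_fibre (repWith_map_yon X (Tmap i) @GeometricallyConnected
      (geometricallyConnected_field _)))

theorem connected_bc_of_sepClosed_connected [IsSepClosed k] [ConnectedSpace (Points X)] :
    ConnectedSpace (Points (bcS X K)) :=
  connectedSpace_of_open
    (isOpenMap_map_of_repWith (P := @UniversallyOpen) (fun _ _ φ (_ : UniversallyOpen φ) => φ.isOpenMap)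
      (repWith_fst X (T K) @UniversallyOpen (universallyOpen_field _)))
    (isConnected_fibre (repWith_fst X (T K) @GeometricallyConnected (geometricallyConnected_field _)))

theorem bijective_fst [IsSepClosed k] :
    Function.Bijective (Continuous.connectedComponentsMap
      (Points.continuous_map (prod.fst : bcS X K ⟶ X))) :=
  bijective_of_open
    (isOpenMap_map_of_repWith (P := @UniversallyOpen) (fun _ _ φ (_ : UniversallyOpen φ) => φ.isOpenMap)
      (repWith_fst X (T K) @UniversallyOpen (universallyOpen_field _)))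
    (isConnected_fibre (repWith_fst X (T K) @GeometricallyConnected (geometricallyConnected_field _)))

theorem connected_of_bc [ConnectedSpace (Points (bcS X K))] : ConnectedSpace (Points X) :=
  connectedSpace_of_surjective (surjective_map_of_repWith
    (repWith_fst X (T K) @Surjective (surjective_field _)))

variable {X} {Y : Sp (Spec (CommRingCat.of k))}

/-- Projections of products over a field are open. -/
theorem isOpenMap_snd (hX : IsAlgSpace X) (hY : IsAlgSpace Y) :
    IsOpenMap (Points.map (prod.snd : X ⨯ Y ⟶ Y)) := by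
  let B : Scheme.{u} := Spec (CommRingCat.of k)
  obtain ⟨U, a, ha, has⟩ := hX.atlas
  obtain ⟨V, b, hb, hbs⟩ := hY.atlas
  let tU : U ⟶ Over.mk (𝟙 B) := Over.homMk U.hom (Category.comp_id _)
  let tV : V ⟶ Over.mk (𝟙 B) := Over.homMk V.hom (Category.comp_id _)
  let W : Over B := Over.mk (pullback.fst U.hom V.hom ≫ U.hom)
  let q₁ : W ⟶ U := Over.homMk (pullback.fst U.hom V.hom) rfl
  let q₂ : W ⟶ V := Over.homMk (pullback.snd U.hom V.hom) pullback.condition.symm
  have sq : IsPullback q₁ q₂ tU tV :=
    IsPullback.of_map (Over.forget B) (Over.OverMorphism.ext pullback.condition)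
      (IsPullback.of_hasPullback U.hom V.hom)
  have sq' := sq.map (yon B)
  rw [← (isTerminalOne B).hom_ext ((isTerminalOne B).from ((yon B).obj U)) ((yon B).map tU),
    ← (isTerminalOne B).hom_ext ((isTerminalOne B).from ((yon B).obj V)) ((yon B).map tV)] at sq'
  let e := sq'.isoIsPullback _ _ (isPullback_prod ((yon B).obj U) ((yon B).obj V))
  let c : (yon B).obj W ⟶ X ⨯ Y := e.hom ≫ prod.map a b
  have hc : Function.Surjective (Points.map c) := by
    have h₁ := surjective_map_of_repWith
      (repWith_of_isPullback (isPullback_map_left a ((yon B).obj V)) has)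
    have h₂ := surjective_map_of_repWith (repWith_of_isPullback (isPullback_map_right X b) hbs)
    have h₀ := surjective_map_of_repWith (repWith_isIso (P := @Surjective) e.hom)
    intro x
    obtain ⟨x₂, rfl⟩ := h₂ x
    obtain ⟨x₁, rfl⟩ := h₁ x₂
    obtain ⟨x₀, rfl⟩ := h₀ x₁
    refine ⟨x₀, ?_⟩
    rw [← Points.map_comp, ← Points.map_comp]
    congr 1
    simp only [c, prod.map_map, Category.comp_id, Category.id_comp]
  have e₂ : c ≫ prod.snd = (yon B).map q₂ ≫ b := by
    simp only [c, Category.assoc, prod.map_snd]
    rw [← Category.assoc, IsPullback.isoIsPullback_hom_snd]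
  intro O hO
  have ho : IsOpenMap q₂.left := by
    have : UniversallyOpen U.hom := Groth.DescentBase.universallyOpen_of_field k _
    exact (pullback.snd U.hom V.hom).isOpenMap
  have : Points.map (prod.snd : X ⨯ Y ⟶ Y) '' O =
      Points.ofPt b '' (q₂.left '' (Points.ofPt c ⁻¹' O)) := by
    rw [Set.image_image]
    ext y
    constructor
    · rintro ⟨x, hx, rfl⟩
      obtain ⟨x₀, rfl⟩ := hc x
      obtain ⟨w, rfl⟩ := (Points.schemeEquiv W).surjective x₀
      have hw : Points.map c (Points.schemeEquiv W w) = Points.ofPt c w := (ofPt_eq_map c w).symm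
      refine ⟨w, ?_, ?_⟩
      · rw [Set.mem_preimage, ← hw]; exact hx
      · rw [hw, Points.map_ofPt, e₂, ofPt_comp_yon]
    · rintro ⟨w, hw, rfl⟩
      exact ⟨_, hw, by rw [Points.map_ofPt, e₂, ofPt_comp_yon]⟩
  rw [this]
  exact isOpenMap_ofPt_of_etale hb _ (ho _ (hO.preimage (Points.continuous_ofPt c)))

theorem isConnected_fibre_snd (hY : IsAlgSpace Y)
    (hX : ∀ (K : Type u) [Field K] [Algebra k K], ConnectedSpace (Points (bcS X K))) (y : Points Y) :
    IsConnected (Points.map (prod.snd : X ⨯ Y ⟶ Y) ⁻¹' {y}) := by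
  obtain ⟨V, b, -, hbs⟩ := hY.atlas
  obtain ⟨v, rfl⟩ := surjective_ofPt_of_repWith hbs y
  let φ := Spec.preimage (V.left.fromSpecResidueField v ≫ V.hom)
  letI : Algebra k (V.left.residueField v) := φ.hom.toAlgebra
  let ψ : T (k := k) (V.left.residueField v) ⟶ V :=
    Over.homMk (V.left.fromSpecResidueField v) (Spec.map_preimage _).symm
  let g := (yon _).map ψ ≫ b
  have hg : ∀ t, Points.map g t = Points.ofPt b v := by
    intro t
    obtain ⟨s, rfl⟩ := (Points.schemeEquiv _).surjective t
    refine (ofPt_eq_map g s).symm.trans ?_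
    rw [ofPt_comp_yon]
    exact congrArg _ (Scheme.fromSpecResidueField_apply _ _)
  have sq := isPullback_map_right X g
  have := hX (V.left.residueField v)
  have e : Points.map (prod.snd : X ⨯ Y ⟶ Y) ⁻¹' {Points.ofPt b v} =
      Points.map (prod.map (𝟙 X) g) '' Set.univ := by
    ext z
    constructor
    · intro hz
      obtain ⟨w, -, hw⟩ := exists_point_of_isPullback sq
        ((Points.schemeEquiv _) (⟨⊥, Ideal.isPrime_bot⟩ : PrimeSpectrum (V.left.residueField v))) z
        ((hg _).trans hz.symm)
      exact ⟨w, trivial, hw⟩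
    · rintro ⟨w, -, rfl⟩
      show Points.map _ _ = _
      rw [← Points.map_comp, prod.map_snd, Points.map_comp, hg]
  rw [e]
  exact isConnected_univ.image _ (Points.continuous_map _).continuousOn

theorem bijective_snd (hX : IsAlgSpace X) (hY : IsAlgSpace Y)
    (hc : ∀ (K : Type u) [Field K] [Algebra k K], ConnectedSpace (Points (bcS X K))) :
    Function.Bijective (Continuous.connectedComponentsMap
      (Points.continuous_map (prod.snd : X ⨯ Y ⟶ Y))) :=
  bijective_of_open (isOpenMap_snd hX hY) (isConnected_fibre_snd hY hc)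

end Field

end

end Groth.AlgSp2.GeomConnSp
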