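import Groth.Agent.AlgSp2.GeomConnFinSep
import Groth.Agent.AlgSp2.FieldPts
import Groth.Agent.AlgSp3.Shriek
import Groth.Agent.AlgSp3.ShriekEquiv
import Groth.Agent.Flatmor4.EtaleSplit

/-!
# Connected components of geometric fibres of morphisms of algebraic spaces
-/

set_option autoImplicit false
set_option backward.isDefEq.respectTransparency.types false
set_option linter.style.haveILetI false
universe u

open CategoryTheory CategoryTheory.Limits AlgebraicGeometry AlgSp Groth.AlgSpBasic
  Groth.AlgSp2.GeomConnSp TensorProduct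

namespace Groth.AlgSp2.GeomConnFibre

noncomputable section

variable {S : Scheme.{u}} {X Y : Sp S}

section AlgClosed

variable {K L : Type u} [Field K] [Field L] [IsAlgClosed K] {sK : Spec (CommRingCat.of K) ⟶ S}
  {sL : Spec (CommRingCat.of L) ⟶ S}

omit [IsAlgClosed K] in
theorem universallyOpen_left (φ : Over.mk sL ⟶ Over.mk sK) : UniversallyOpen φ.left := by
  rw [← Spec.map_preimage φ.left]
  exact universallyOpen_field (Spec.preimage φ.left).hom

theorem geometricallyConnected_left (φ : Over.mk sL ⟶ Over.mk sK) : GeometricallyConnected φ.left := by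
  rw [← Spec.map_preimage φ.left]
  exact geometricallyConnected_field (Spec.preimage φ.left).hom

/-- Extending an algebraically closed field does not change the connected components of a fibre. -/
theorem card_extension (f : X ⟶ Y) (c : (yon S).obj (Over.mk sK) ⟶ Y) (φ : Over.mk sL ⟶ Over.mk sK)
    {A B : Sp S} {a : A ⟶ X} {a' : A ⟶ (yon S).obj (Over.mk sK)} (hA : IsPullback a a' f c)
    {b : B ⟶ X} {b' : B ⟶ (yon S).obj (Over.mk sL)} (hB : IsPullback b b' f ((yon S).map φ ≫ c)) :
    ENat.card (ConnectedComponents (Points B)) = ENat.card (ConnectedComponents (Points A)) := by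
  let l : B ⟶ A := hA.lift b (b' ≫ (yon S).map φ) ((hB.w).trans (Category.assoc _ _ _).symm)
  have hl : IsPullback l b' a' ((yon S).map φ) :=
    IsPullback.of_right (by rw [hA.lift_fst]; exact hB) (hA.lift_snd _ _ _) hA
  have key : ∀ (P : MorphismProperty Scheme.{u}) [P.IsStableUnderBaseChange], P φ.left → RepWith P l :=
    fun P _ h => repWith_of_isPullback hl.flip ((repWith_yon_map_iff P φ).2 h)
  refine ENat.card_congr (Equiv.ofBijective _ (bijective_of_open
    (isOpenMap_map_of_repWith (P := @UniversallyOpen) (fun _ _ ψ (_ : UniversallyOpen ψ) => ψ.isOpenMap)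
      (key @UniversallyOpen (universallyOpen_left φ)))
    (isConnected_fibre (key @GeometricallyConnected (geometricallyConnected_left φ)))))

end AlgClosed

/-- Geometric fibres over equivalent field points have the same number of connected components. -/
theorem card_of_rel (f : X ⟶ Y) {p q : FieldPt Y} (hp : p.IsGeometric) (hq : q.IsGeometric)
    (h : FieldPt.Rel p q)
    {A B : Sp S} {a : A ⟶ X} {a' : A ⟶ (yon S).obj p.pt} (hA : IsPullback a a' f p.toHom)
    {b : B ⟶ X} {b' : B ⟶ (yon S).obj q.pt} (hB : IsPullback b b' f q.toHom) :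
    ENat.card (ConnectedComponents (Points A)) = ENat.card (ConnectedComponents (Points B)) := by
  obtain ⟨Ω, _, w, i, j, e⟩ := (Groth.AlgSp2.rel_iff p q).1 h
  have : IsAlgClosed p.K := hp
  have : IsAlgClosed q.K := hq
  have hC := IsPullback.of_hasPullback f ((yon S).map i ≫ p.toHom)
  exact (card_extension f p.toHom i hA hC).symm.trans (card_extension f q.toHom j hB (by rw [← e]; exact hC))

section Shriek

open Groth.AlgSp3

variable {k : Type u} [Field k] (g : Spec (CommRingCat.of k) ⟶ S)

theorem isAlgSpace_bcS {F : Sp (Spec (CommRingCat.of k))} (hF : IsAlgSpace F) (L : Type u) [Field L] [Algebra k L] :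
    IsAlgSpace (bcS F L) :=
  isAlgSpace_prod hF (IsAlgSpace.yon_obj _)

/-- Changing the base along a morphism does not change the space of points. -/
theorem connectedSpace_shriek_iff {F : Sp (Spec (CommRingCat.of k))} (hF : IsAlgSpace F) :
    ConnectedSpace (Points ((shriek g).obj F)) ↔ ConnectedSpace (Points F) := by
  obtain ⟨U, a, ha, has⟩ := hF.atlas
  obtain ⟨W, w₁, w₂, sq⟩ := exists_pullback_yon ha.rep a
  let a' := (shriekYonIso g U).inv ≫ (shriek g).map a
  have key : ∀ {P : MorphismProperty Scheme.{u}} [P.RespectsIso], RepWith P a → RepWith P a' := fun {P} _ h =>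
    MorphismProperty.RespectsIso.precomp _ (shriekYonIso g U).inv _ (repWith_shriek_map g h)
  have sq' : IsPullback ((yon S).map ((Over.map g).map w₁)) ((yon S).map ((Over.map g).map w₂)) a' a' :=
    (isPullback_shriek g sq).of_iso (shriekYonIso g W) (shriekYonIso g U) (shriekYonIso g U) (Iso.refl _)
      (shriekYonIso_naturality g w₁) (shriekYonIso_naturality g w₂) (by simp [a']) (by simp [a'])
  let h₁ := isQuotientMap_ofPt ha has
  let h₂ := isQuotientMap_ofPt (key ha) (key has)
  have hker : ∀ u v : U.left, Points.ofPt a u = Points.ofPt a v ↔ Points.ofPt a' u = Points.ofPt a' v :=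
    fun u v => (ofPt_eq_ofPt_iff sq u v).trans (ofPt_eq_ofPt_iff sq' u v).symm
  constructor <;> intro hc
  · have hs : Continuous (fun x => Points.ofPt a (Function.surjInv h₂.surjective x)) := by
      rw [h₂.continuous_iff]
      exact h₁.continuous.congr fun u => ((hker _ u).2 (Function.surjInv_eq h₂.surjective _)).symm
    refine Function.Surjective.connectedSpace (fun y => ?_) hs
    obtain ⟨u, rfl⟩ := h₁.surjective y
    exact ⟨Points.ofPt a' u, (hker _ u).2 (Function.surjInv_eq h₂.surjective _)⟩
  · have hs : Continuous (fun x => Points.ofPt a' (Function.surjInv h₁.surjective x)) := by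
      rw [h₁.continuous_iff]
      exact h₂.continuous.congr fun u => ((hker _ u).1 (Function.surjInv_eq h₁.surjective _)).symm
    refine Function.Surjective.connectedSpace (fun y => ?_) hs
    obtain ⟨u, rfl⟩ := h₂.surjective y
    exact ⟨Points.ofPt a u, (hker _ u).1 (Function.surjInv_eq h₁.surjective _)⟩

/-- The map to the old base induced by a field extension. -/
abbrev Tk (L : Type u) [Field L] [Algebra k L] :
    Over.mk (Spec.map (CommRingCat.ofHom (algebraMap k L)) ≫ g) ⟶ Over.mk g :=
  Over.homMk (Spec.map (CommRingCat.ofHom (algebraMap k L))) rfl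

theorem connectedSpace_of_iso {A B : Sp S} (e : A ≅ B) [ConnectedSpace (Points A)] :
    ConnectedSpace (Points B) :=
  connectedSpace_of_surjective (surjective_map_of_repWith (repWith_isIso (P := @Surjective) e.hom))

/-- A fibre over a field, as a space over that field. -/
theorem exists_model (hX : IsAlgSpace X) (hY : IsAlgSpace Y) (f : X ⟶ Y)
    (c : (yon S).obj (Over.mk g) ⟶ Y) :
    ∃ X' : Sp (Spec (CommRingCat.of k)), IsAlgSpace X' ∧
      ∀ (L : Type u) [Field L] [Algebra k L] {B : Sp S} {b : B ⟶ X}
        {b' : B ⟶ (yon S).obj (Over.mk (Spec.map (CommRingCat.ofHom (algebraMap k L)) ≫ g))},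
        IsPullback b b' f ((yon S).map (Tk g L) ≫ c) →
          (ConnectedSpace (Points B) ↔ ConnectedSpace (Points (bcS X' L))) := by
  have hA := IsPullback.of_hasPullback f c
  have hAa : IsAlgSpace (pullback f c) := isAlgSpace_of_isPullback hA hY.diag hX (IsAlgSpace.yon_obj _)
  obtain ⟨e, he⟩ := exists_shriek_fibre_iso g (G := pullback f c) (pullback.snd f c)
  have hX' : IsAlgSpace (fibre g (G := pullback f c) (pullback.snd f c)) :=
    (isAlgSpace_shriek_iff g _).1 ((isAlgSpace_iff_of_iso e).2 hAa)
  refine ⟨_, hX', fun L _ _ B b b' hB => ?_⟩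
  generalize hX'e : fibre g (G := pullback f c) (pullback.snd f c) = X' at e he hX' ⊢
  let i : (Over.map g).obj (Over.mk (𝟙 (Spec (CommRingCat.of k)))) ≅ Over.mk g :=
    Over.isoMk (Iso.refl _) (by simp)
  let e₄ := shriekYonIso g (Over.mk (𝟙 (Spec (CommRingCat.of k)))) ≪≫ (yon S).mapIso i
  have h₄ : e₄.hom = shriekToBase g (one (Spec (CommRingCat.of k))) := by
    ext Z q
    exact ULift.ext _ _ (Over.OverMorphism.ext ((Category.comp_id _).trans
      (((Category.comp_id q.2.down.left).symm).trans (Over.w q.2.down))))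
  have sq := (isPullback_shriek g (isPullback_prod X' ((yon _).obj (GeomConnSp.T (k := k) L)))).of_iso
    (Iso.refl _) e (shriekYonIso g (GeomConnSp.T (k := k) L)) e₄
    (fst' := (shriek g).map prod.fst ≫ e.hom)
    (snd' := (shriek g).map prod.snd ≫ (shriekYonIso g (GeomConnSp.T (k := k) L)).hom)
    (f' := pullback.snd f c) (g' := (yon S).map (Tk g L))
    (by simp) (by simp)
    (by rw [h₄, he]; exact shriek_map_toBase g _)
    (by
      rw [h₄]
      refine (shriek_map_toBase g _).trans ?_
      ext Z q
      exact ULift.ext _ _ (Over.OverMorphism.ext (Over.w q.2.down).symm))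
  let j := hB.isoIsPullback _ _ (sq.flip.paste_vert hA.flip).flip
  rw [← connectedSpace_shriek_iff g (GeomConnFibre.isAlgSpace_bcS hX' L)]
  exact ⟨fun _ => connectedSpace_of_iso j, fun _ => connectedSpace_of_iso j.symm⟩

end Shriek

/-- A morphism from a field point to a scheme factors through the residue field of its image. -/
theorem exists_factor {V : Over S} {K : Type u} [Field K] {sK : Spec (CommRingCat.of K) ⟶ S}
    (c : Over.mk sK ⟶ V) (v : V.left) (hv : c.left (IsLocalRing.closedPoint K) = v) :
    ∃ ψ : V.left.residueField v ⟶ CommRingCat.of K, Spec.map ψ ≫ V.left.fromSpecResidueField v = c.left := by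
  subst hv
  exact ⟨_, (Scheme.SpecToEquivOfField K V.left).symm_apply_apply c.left⟩

/-- The fibre over the residue field of a point below a field point is connected if the fibre over the latter is. -/
theorem connectedSpace_residue (f : X ⟶ Y) {V : Over S} (a : (yon S).obj V ⟶ Y) {K : Type u} [Field K]
    {sK : Spec (CommRingCat.of K) ⟶ S} (c : Over.mk sK ⟶ V) (v : V.left)
    (hv : c.left (IsLocalRing.closedPoint K) = v)
    {B : Sp S} {b : B ⟶ X} {b' : B ⟶ (yon S).obj (Over.mk sK)} (hB : IsPullback b b' f ((yon S).map c ≫ a))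
    [ConnectedSpace (Points B)] {A : Sp S} {p : A ⟶ X}
    {p' : A ⟶ (yon S).obj (Over.mk (V.left.fromSpecResidueField v ≫ V.hom))}
    (hA : IsPullback p p' f ((yon S).map (Over.homMk (V.left.fromSpecResidueField v) rfl :
      Over.mk (V.left.fromSpecResidueField v ≫ V.hom) ⟶ V) ≫ a)) :
    ConnectedSpace (Points A) := by
  obtain ⟨ψ, hψ⟩ := exists_factor c v hv
  let φ : Over.mk sK ⟶ Over.mk (V.left.fromSpecResidueField v ≫ V.hom) :=
    Over.homMk (Spec.map ψ) (by
      show Spec.map ψ ≫ V.left.fromSpecResidueField v ≫ V.hom = sK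
      rw [← Category.assoc, hψ]
      exact Over.w c)
  have hc : c = φ ≫ Over.homMk (V.left.fromSpecResidueField v) rfl := Over.OverMorphism.ext hψ.symm
  have hB' : IsPullback b b' f ((yon S).map φ ≫ ((yon S).map (Over.homMk (V.left.fromSpecResidueField v) rfl :
      Over.mk (V.left.fromSpecResidueField v ≫ V.hom) ⟶ V) ≫ a)) := by
    rw [← Category.assoc, ← Functor.map_comp, ← hc]; exact hB
  let l : B ⟶ A := hA.lift b (b' ≫ (yon S).map φ) ((hB'.w).trans (Category.assoc _ _ _).symm)
  have hl : IsPullback l b' p' ((yon S).map φ) :=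
    IsPullback.of_right (by rw [hA.lift_fst]; exact hB') (hA.lift_snd _ _ _) hA
  exact connectedSpace_of_surjective (surjective_map_of_repWith
    (repWith_of_isPullback hl.flip ((repWith_yon_map_iff @Surjective φ).2 (surjective_field ψ.hom))))

/-- Connectedness of a geometric fibre is detected on residue fields of etale neighbourhoods. -/
theorem connectedSpace_of_residue (hX : IsAlgSpace X) (hY : IsAlgSpace Y) (f : X ⟶ Y) (yb : FieldPt Y)
    (hyb : yb.IsGeometric) {B : Sp S} {b : B ⟶ X} {b' : B ⟶ (yon S).obj yb.pt} (hB : IsPullback b b' f yb.toHom)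
    (H : ∀ (V : Over S) (a : (yon S).obj V ⟶ Y), RepWith @Etale a →
      ∀ (v : V.left) (c : yb.pt ⟶ V), (yon S).map c ≫ a = yb.toHom →
        c.left (IsLocalRing.closedPoint yb.K) = v →
        ∀ (Xv : Sp S) (p : Xv ⟶ X) (p' : Xv ⟶ (yon S).obj (Over.mk (V.left.fromSpecResidueField v ≫ V.hom))),
          IsPullback p p' f ((yon S).map (Over.homMk (V.left.fromSpecResidueField v) rfl :
            Over.mk (V.left.fromSpecResidueField v ≫ V.hom) ⟶ V) ≫ a) → ConnectedSpace (Points Xv)) :
    ConnectedSpace (Points B) := by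
  have : IsAlgClosed yb.K := hyb
  obtain ⟨V, a, ha, has⟩ := hY.atlas
  obtain ⟨W, snd, fst, sq⟩ := has.rep yb.toHom
  have : Surjective snd.left := has.property yb.toHom fst snd sq
  have : Etale snd.left := ha.property yb.toHom fst snd sq
  obtain ⟨w, -⟩ := snd.left.surjective (IsLocalRing.closedPoint yb.K)
  obtain ⟨c, hc⟩ : ∃ c : yb.pt ⟶ V, (yon S).map c ≫ a = yb.toHom := by
    obtain ⟨σ, hσ, -⟩ := Scheme.exists_fac_of_etale_of_isSepClosed snd.left (𝟙 _) w
      (Subsingleton.elim (α := Spec (CommRingCat.of yb.K)) _ _)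
    let s : yb.pt ⟶ W := Over.homMk σ (by
      show σ ≫ W.hom = yb.str
      rw [← Over.w snd, ← Category.assoc, hσ, Category.id_comp]
      rfl)
    obtain ⟨c, hc⟩ := (yon S).map_surjective ((yon S).map s ≫ fst)
    refine ⟨c, ?_⟩
    rw [hc, Category.assoc, sq.w, ← Category.assoc, ← Functor.map_comp,
      show s ≫ snd = 𝟙 _ from Over.OverMorphism.ext hσ, CategoryTheory.Functor.map_id, Category.id_comp]
  generalize hv : c.left (IsLocalRing.closedPoint yb.K) = v
  obtain ⟨ψ, hψ⟩ := exists_factor c v hv
  let g := V.left.fromSpecResidueField v ≫ V.hom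
  let ι : Over.mk g ⟶ V := Over.homMk (V.left.fromSpecResidueField v) rfl
  obtain ⟨X', hX', hX'B⟩ := exists_model (k := V.left.residueField v) g hX hY f ((yon S).map ι ≫ a)
  letI : Algebra (V.left.residueField v) yb.K := ψ.hom.toAlgebra
  have hfin : ∀ (E : Type u) [Field E] [Algebra (V.left.residueField v) E],
      Module.Finite (V.left.residueField v) E → Algebra.IsSeparable (V.left.residueField v) E →
        ConnectedSpace (Points (bcS X' E)) := by
    intro E _ _ _ _
    obtain ⟨U, q, z, hz, hq, he⟩ :=
      Groth.Flatmor4.exists_etale_residueField V.left v E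
    letI := ((V.left.residueFieldCongr hz).inv ≫ q.residueFieldMap z).hom.toAlgebra
    obtain ⟨e⟩ := he
    let j : E →ₐ[V.left.residueField v] yb.K := IsAlgClosed.lift
    let V' : Over S := Over.mk (q ≫ V.hom)
    let η : V' ⟶ V := Over.homMk q rfl
    have hzmap : Spec.map (CommRingCat.ofHom (algebraMap (V.left.residueField v) (U.residueField z))) ≫
        V.left.fromSpecResidueField v = U.fromSpecResidueField z ≫ q := by
      show Spec.map ((V.left.residueFieldCongr hz).inv ≫ q.residueFieldMap z) ≫ _ = _
      rw [Spec.map_comp, Category.assoc, ← Scheme.Hom.SpecMap_residueFieldMap_fromSpecResidueField]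
      congr 1
      rw [← Scheme.residueFieldCongr_fromSpecResidueField hz, ← Category.assoc, ← Spec.map_comp,
        Iso.hom_inv_id, Spec.map_id, Category.id_comp]
    have hjmap : Spec.map (CommRingCat.ofHom (j.comp e.symm.toAlgHom).toRingHom) ≫
        Spec.map (CommRingCat.ofHom (algebraMap (V.left.residueField v) (U.residueField z))) = Spec.map ψ := by
      rw [← Spec.map_comp]
      congr 1
      ext x
      exact (j.comp e.symm.toAlgHom).commutes x
    let c' : yb.pt ⟶ V' := Over.homMk
      (Spec.map (CommRingCat.ofHom (j.comp e.symm.toAlgHom).toRingHom) ≫ U.fromSpecResidueField z) (by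
      show (_ ≫ _) ≫ q ≫ V.hom = yb.str
      rw [Category.assoc, ← Category.assoc (U.fromSpecResidueField z), ← hzmap, ← Category.assoc,
        ← Category.assoc, hjmap, hψ]
      exact Over.w c)
    have hcη : c' ≫ η = c := by
      refine Over.OverMorphism.ext ?_
      show (_ ≫ _) ≫ q = _
      rw [Category.assoc, ← hzmap, ← Category.assoc, hjmap, hψ]
    let gz := U.fromSpecResidueField z ≫ V'.hom
    let ιz : Over.mk gz ⟶ V' := Over.homMk (U.fromSpecResidueField z) rfl
    have hC := IsPullback.of_hasPullback f ((yon S).map ιz ≫ (yon S).map η ≫ a)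
    have hconn := H V' ((yon S).map η ≫ a) (repWith_comp ((repWith_yon_map_iff _ η).2 hq) ha) z c'
      (by rw [← Category.assoc, ← Functor.map_comp, hcη, hc])
      (by
        show U.fromSpecResidueField z _ = z
        exact Scheme.fromSpecResidueField_apply _ _)
      _ _ _ hC
    have hemap : Spec.map (CommRingCat.ofHom e.symm.toAlgHom.toRingHom) ≫
        Spec.map (CommRingCat.ofHom (algebraMap (V.left.residueField v) (U.residueField z))) =
          Spec.map (CommRingCat.ofHom (algebraMap (V.left.residueField v) E)) := by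
      rw [← Spec.map_comp]
      congr 1
      ext x
      exact e.symm.commutes x
    let φ : Over.mk (Spec.map (CommRingCat.ofHom (algebraMap (V.left.residueField v) E)) ≫ g) ⟶ Over.mk gz :=
      Over.homMk (Spec.map (CommRingCat.ofHom e.symm.toAlgHom.toRingHom)) (by
        show _ ≫ U.fromSpecResidueField z ≫ q ≫ V.hom = _ ≫ V.left.fromSpecResidueField v ≫ V.hom
        rw [← Category.assoc (U.fromSpecResidueField z), ← hzmap, Category.assoc]
        exact (Category.assoc _ _ _).symm.trans (congrArg (· ≫ _) hemap))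
    have : IsIso φ := by
      have h1 : IsIso (CommRingCat.ofHom e.symm.toAlgHom.toRingHom) :=
        (e.symm.toRingEquiv.toCommRingCatIso).isIso_hom
      have : IsIso ((Over.forget S).map φ) := inferInstanceAs
        (IsIso (Spec.map (CommRingCat.ofHom e.symm.toAlgHom.toRingHom)))
      exact isIso_of_reflects_iso φ (Over.forget S)
    have hD := hC.of_iso (fst' := pullback.fst f ((yon S).map ιz ≫ (yon S).map η ≫ a))
      (snd' := pullback.snd f ((yon S).map ιz ≫ (yon S).map η ≫ a) ≫ inv ((yon S).map φ))
      (f' := f) (g' := (yon S).map φ ≫ (yon S).map ιz ≫ (yon S).map η ≫ a)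
      (Iso.refl _) (Iso.refl _) (asIso ((yon S).map φ)).symm (Iso.refl _) (by simp) (by simp) (by simp)
      (by simp)
    refine (hX'B E (B := pullback f ((yon S).map ιz ≫ (yon S).map η ≫ a))
      (b := pullback.fst f ((yon S).map ιz ≫ (yon S).map η ≫ a))
      (b' := pullback.snd f ((yon S).map ιz ≫ (yon S).map η ≫ a) ≫ inv ((yon S).map φ)) ?_).1 hconn
    have hφ : φ ≫ ιz ≫ η = Tk (k := V.left.residueField v) g E ≫ ι := by
      refine Over.OverMorphism.ext ?_
      show _ ≫ U.fromSpecResidueField z ≫ q = _ ≫ V.left.fromSpecResidueField v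
      rw [← hzmap]
      exact (Category.assoc _ _ _).symm.trans (congrArg (· ≫ _) hemap)
    have e2 : (yon S).map (Tk (k := V.left.residueField v) g E) ≫ (yon S).map ι ≫ a =
        (yon S).map φ ≫ (yon S).map ιz ≫ (yon S).map η ≫ a := by
      rw [← Functor.map_comp_assoc, ← hφ, Functor.map_comp_assoc, Functor.map_comp_assoc]
    rw [e2]
    exact hD
  have hall := (GeomConnFinSep.geometricallyConnected_iff hX').2 hfin yb.K
  let φK : Over.mk yb.str ⟶ Over.mk (Spec.map (CommRingCat.ofHom (algebraMap (V.left.residueField v) yb.K)) ≫ g) :=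
    Over.homMk (𝟙 _) (by
      show 𝟙 _ ≫ Spec.map ψ ≫ V.left.fromSpecResidueField v ≫ V.hom = yb.str
      rw [Category.id_comp, ← Category.assoc, hψ]
      exact Over.w c)
  have : IsIso φK := by
    have : IsIso ((Over.forget S).map φK) := inferInstanceAs (IsIso (𝟙 (Spec (CommRingCat.of yb.K))))
    exact isIso_of_reflects_iso φK (Over.forget S)
  have hK : IsPullback b (b' ≫ (yon S).map φK) f ((yon S).map (Tk (k := V.left.residueField v) g yb.K) ≫ (yon S).map ι ≫ a) := by
    refine hB.of_iso (Iso.refl _) (Iso.refl _) ((yon S).mapIso (asIso φK)) (Iso.refl _) (by simp) (by simp) (by simp) ?_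
    simp only [Functor.mapIso_hom, asIso_hom, Iso.refl_hom, Category.comp_id, ← Category.assoc, ← Functor.map_comp]
    rw [← hc]
    congr 2
    refine Over.OverMorphism.ext ?_
    show c.left = (𝟙 _ ≫ Spec.map ψ) ≫ V.left.fromSpecResidueField v
    rw [Category.id_comp, hψ]
  exact (hX'B yb.K hK).2 hall

end

end Groth.AlgSp2.GeomConnFibre
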