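import Groth.Agent.S5792
import Groth.Agent.AlgSp3.NbhdInv
import Groth.Agent.AlgSp3.DimFacts
import Groth.Agent.AlgSp3.SchImage
import Groth.Agent.AlgSp2.CancelSep
import Groth.Agent.FibreDim.BaseChange
import Groth.Agent.FibreDim.Constructible

/-!
# The dimension of the fibres of a morphism of algebraic spaces
-/

set_option autoImplicit false
set_option backward.isDefEq.respectTransparency.types false
universe u

open CategoryTheory CategoryTheory.Limits AlgebraicGeometry Topology AlgSp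
  Groth.AlgSpBasic Groth.AlgSp3

namespace Groth.AlgSp2.FibreDimSpace

variable {S : Scheme.{u}}

/-- The dimension of an algebraic space is bounded iff the local dimensions of all charts are. -/
theorem dim_le_iff {F : Sp S} (d : WithBot ℕ∞) :
    AlgSp.dim F ≤ d ↔ ∀ (U : Over S) (a : (yon S).obj U ⟶ F), RepWith @Etale a →
      ∀ u : ↥U.left, FlatMor.localDim ↥U.left u ≤ d := by
  simp only [AlgSp.dim, iSup_le_iff, Groth.Agent.S5792.result]

/-- All points of `X` over `y` have relative dimension at most `d`. -/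
def RelDimLE {X Y : Sp S} (f : X ⟶ Y) (d : WithBot ℕ∞) (y : Points Y) : Prop :=
  ∀ x : Points X, Points.map f x = y →
    HasAtMor (fun _ _ h u => FlatMor.fibreDimAt h u ≤ d) f x

/-- The local dimension of a fibre is the relative dimension. -/
theorem exists_chart_fibre {X Y : Sp S} (hX : IsAlgSpace X) (hY : IsAlgSpace Y) {f : X ⟶ Y}
    (hf : LocP @LocallyOfFiniteType f) (k : FieldPt Y) {Xk : Sp S} {fst : Xk ⟶ X}
    {snd : Xk ⟶ (yon S).obj k.pt} (sq : IsPullback fst snd f k.toHom) (z : Points Xk) :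
    ∃ (U' : Over S) (a' : (yon S).obj U' ⟶ Xk) (u' : ↥U'.left), RepWith @Etale a' ∧
      Points.ofPt a' u' = z ∧
      HasAtMor (fun _ _ h u => FlatMor.fibreDimAt h u = FlatMor.localDim ↥U'.left u') f
        (Points.map fst z) := by
  obtain ⟨U, V, V', U', a, b, b', a', h, g, c, h', u', ha, hbb, hb', ha', comm, -, comm', -, hpb,
    rfl, hu⟩ := exists_chart_baseChange hX hY (IsAlgSpace.yon_obj _) sq z
  have : LocallyOfFiniteType h.left := hf a b h ha hbb comm
  refine ⟨U', a', u', ha', rfl, ?_⟩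
  rw [← hu]
  refine ⟨U, V, a, b, h, c.left u', ha, hbb, comm, rfl, ?_⟩
  refine (Groth.FibreDim.fibreDimAt_baseChange h.left g.left h'.left c.left hpb u').symm.trans ?_
  obtain ⟨β, hβ⟩ := (AlgSp.yon S).map_surjective b'
  have : Etale β.left := (repWith_yon_map_iff _ β).mp (hβ ▸ hb')
  rw [← fibreDimAt_comp_etale h'.left β.left u']
  exact Groth.FibreDim.fibreDimAt_eq_of_range (h'.left ≫ β.left) ((h'.left ≫ β.left) u')
    (A := ↥U'.left) (e := id) IsEmbedding.id (by
      rw [Set.range_id]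
      ext x
      simp only [Set.mem_univ, Set.mem_preimage, Set.mem_singleton_iff, true_iff]
      exact Subsingleton.elim (α := PrimeSpectrum k.K) _ _) u'

/-- **The dimension of the fibre is the supremum of the relative dimensions over the point.** -/
theorem dim_fibre_le_iff {X Y : Sp S} (hX : IsAlgSpace X) (hY : IsAlgSpace Y) {f : X ⟶ Y}
    (hf : LocP @LocallyOfFiniteType f) (k : FieldPt Y) {Xk : Sp S} {fst : Xk ⟶ X}
    {snd : Xk ⟶ (yon S).obj k.pt} (sq : IsPullback fst snd f k.toHom) (d : WithBot ℕ∞) :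
    AlgSp.dim Xk ≤ d ↔ RelDimLE f d (Points.mk k) := by
  have hXk : IsAlgSpace Xk := isAlgSpace_of_isPullback sq hY.diag hX (IsAlgSpace.yon_obj _)
  constructor
  · intro h x hx
    obtain ⟨z, hz, -⟩ := exists_point_of_isPullback sq (x := x)
      (z := Points.ofScheme k.pt (IsLocalRing.closedPoint k.K)) (by
        rw [hx, Points.map_ofPt, Category.id_comp, Points.ofPt_toHom])
    obtain ⟨U', a', u', ha', -, U, V, a, b, g, u, h₁, h₂, h₃, h₄, h₅⟩ :=
      exists_chart_fibre hX hY hf k sq z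
    exact ⟨U, V, a, b, g, u, h₁, h₂, h₃, h₄.trans hz,
      h₅.le.trans ((dim_le_iff d).1 h U' a' ha' u')⟩
  · intro h
    rw [dim_le_iff]
    intro U₁ a₁ ha₁ u₁
    obtain ⟨U', a', u', ha', hu', hH⟩ := exists_chart_fibre hX hY hf k sq (Points.ofPt a₁ u₁)
    have e : FlatMor.localDim ↥U₁.left u₁ = FlatMor.localDim ↥U'.left u' :=
      (inv_eq_of_ofPt_eq etaleInvariant_localDim hXk ha' ha₁ hu').symm
    have hx : Points.map f (Points.map fst (Points.ofPt a₁ u₁)) = Points.mk k := by
      rw [← Points.map_comp, sq.w, Points.map_comp]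
      obtain ⟨t, ht⟩ : ∃ t, Points.ofScheme k.pt t = Points.map snd (Points.ofPt a₁ u₁) :=
        ⟨_, Points.ofScheme_toScheme _ _⟩
      rw [← ht, Points.map_ofPt, Category.id_comp, Points.ofPt_toHom]
    obtain ⟨c, hc⟩ := exists_hasAtMor_eq (inv := fun _ _ h u => FlatMor.fibreDimAt h u) hX hY f
      (Points.map fst (Points.ofPt a₁ u₁))
    have hc' := eq_of_hasAtMor etMor_fibreDimAt hX hY hc hH
    obtain ⟨U, V, a, b, g, u, h₁, h₂, h₃, h₄, h₅⟩ := h _ hx
    rw [e, ← eq_of_hasAtMor etMor_fibreDimAt hX hY (d := FlatMor.fibreDimAt g.left u)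
      ⟨U, V, a, b, g, u, h₁, h₂, h₃, h₄, rfl⟩ hH]
    exact h₅

theorem relDimLE_bot_iff {X Y : Sp S} (hX : IsAlgSpace X) (hY : IsAlgSpace Y) (f : X ⟶ Y)
    (y : Points Y) : RelDimLE f ⊥ y ↔ y ∉ Set.range (Points.map f) := by
  refine ⟨?_, fun h x hx => absurd ⟨x, hx⟩ h⟩
  rintro h ⟨x, hx⟩
  obtain ⟨U, V, a, b, g, u, -, -, -, -, h₅⟩ := h x hx
  obtain ⟨W, hW, hd⟩ := Groth.SpectralTopology.exists_localDim_eq (g.left.asFiber u)
  have : Nonempty (TopologicalSpace.IrreducibleCloseds ↥W) :=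
    ⟨⟨closure {⟨_, hW⟩}, isIrreducible_singleton.closure, isClosed_closure⟩⟩
  have h0 : (0 : WithBot ℕ∞) ≤ topologicalKrullDim ↥W :=
    Order.krullDim_nonneg
  exact absurd (hd.trans (le_bot_iff.1 h₅)) (ne_bot_of_le_ne_bot (by simp) h0)

/-- The sets of field points with prescribed fibre dimension. -/
theorem setOf_fibre {X Y : Sp S} (hX : IsAlgSpace X) (hY : IsAlgSpace Y) {f : X ⟶ Y}
    (hf : LocP @LocallyOfFiniteType f) (P : WithBot ℕ∞ → Prop) (C : Points Y → Prop)
    (h : ∀ (k : FieldPt Y) (δ : WithBot ℕ∞),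
      (∀ d, δ ≤ d ↔ RelDimLE f d (Points.mk k)) → (P δ ↔ C (Points.mk k))) :
    {y : Points Y | ∀ (k : FieldPt Y), Points.mk k = y →
      ∀ (Xk : Sp S) (fst : Xk ⟶ X) (snd : Xk ⟶ (yon S).obj k.pt),
        IsPullback fst snd f k.toHom → P (AlgSp.dim Xk)} = {y | C y} := by
  ext y
  constructor
  · intro hy
    obtain ⟨k, rfl⟩ := Points.mk_surjective y
    exact (h k _ (dim_fibre_le_iff hX hY hf k (IsPullback.of_hasPullback f k.toHom))).1
      (hy k rfl _ _ _ (IsPullback.of_hasPullback f k.toHom))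
  · rintro hy k rfl Xk fst snd sq
    exact (h k _ (dim_fibre_le_iff hX hY hf k sq)).2 hy

/-- For a closed morphism locally of finite type the bound on fibre dimensions is open. -/
theorem isOpen_relDimLE {X Y : Sp S} (hX : IsAlgSpace X) (hY : IsAlgSpace Y) {f : X ⟶ Y}
    (hf : LocP @LocallyOfFiniteType f) (hcl : IsClosedMap (Points.map f)) (n : ℕ) :
    IsOpen {y | RelDimLE f (n : WithBot ℕ∞) y} := by
  have ho : IsOpen {x : Points X |
      HasAtMor (fun _ _ h u => FlatMor.fibreDimAt h u ≤ (n : WithBot ℕ∞)) f x} := by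
    obtain ⟨U, V, a, b, h, ha, has, hb, -, comm⟩ := exists_charts hX hY f
    have : LocallyOfFiniteType h.left := hf a b h ha hb comm
    rw [← (isQuotientMap_ofPt ha has).isOpen_preimage]
    convert Groth.FibreDim.isOpen_fibreDimAt_le h.left n using 1
    ext u
    exact hasAtMor_iff_of_chart etMor_fibreDimAt (fun d => d ≤ (n : WithBot ℕ∞)) hX.diag
      hY.diag ha hb comm u
  have hc := hcl _ ho.isClosed_compl
  rw [← isClosed_compl_iff]
  convert hc using 1
  ext y
  simp only [RelDimLE, Set.mem_compl_iff, Set.mem_setOf_eq, Set.mem_image, not_forall, exists_prop]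
  exact exists_congr fun x => and_comm

theorem isOpen_relDimLE_bot {X Y : Sp S} (hX : IsAlgSpace X) (hY : IsAlgSpace Y) {f : X ⟶ Y}
    (hcl : IsClosedMap (Points.map f)) : IsOpen {y | RelDimLE f ⊥ y} := by
  convert hcl.isClosed_range.isOpen_compl using 1
  ext y
  exact relDimLE_bot_iff hX hY f y

/-- Fibre dimensions on a chart: over a scheme point they are those of a scheme morphism. -/
theorem exists_chart_dim_fibre {X Y : Sp S} (hX : IsAlgSpace X) (hY : IsAlgSpace Y) {f : X ⟶ Y}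
    (hqc : IsQuasiCompactMor f) :
    ∃ (U V : Over S) (a : (yon S).obj U ⟶ X) (b : (yon S).obj V ⟶ Y) (h : U ⟶ V),
      RepWith @Etale a ∧ RepWith @Etale b ∧ RepWith @Surjective b ∧
        a ≫ f = (yon S).map h ≫ b ∧ QuasiCompact h.left ∧
        (LocP @LocallyOfFiniteType f → ∀ (d : WithBot ℕ∞) (v : ↥V.left),
          (RelDimLE f d (Points.ofPt b v) ↔ topologicalKrullDim ↥(h.left.fiber v) ≤ d)) := by
  obtain ⟨V₀, b₀, hb₀, hb₀s⟩ := hY.atlas
  obtain ⟨V, c, ι, K, hb, hbs, hK, hcov, hdisj⟩ := exists_atlas_affine_disjoint hb₀ hb₀s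
  obtain ⟨C, hC⟩ := exists_pullbackChart_quasiCompact hY hX hqc ((yon S).map c ≫ b₀) hK hcov hdisj
  have hP := isAlgSpace_of_isPullback C.sq hY.diag hX (IsAlgSpace.yon_obj V)
  refine ⟨C.W, V, C.w ≫ C.fst, _, C.α, C.etale_chart hb, hb, hbs, C.fac_chart, hC, ?_⟩
  intro hf d v
  have : LocallyOfFiniteType C.α.left := hf _ _ _ (C.etale_chart hb) hb C.fac_chart
  rw [Groth.FibreDim.dim_fiber_eq_iSup, iSup_le_iff]
  constructor
  · intro h z
    rw [← Groth.FibreDim.fibreDimAt_fiberι C.α.left v z]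
    refine (hasAtMor_iff_of_chart etMor_fibreDimAt (fun e => e ≤ d) hX.diag hY.diag
      (C.etale_chart hb) hb C.fac_chart _).1 (h _ ?_)
    rw [Points.map_ofPt, C.fac_chart, ofPt_comp_yon]
    congr 1
    exact (C.α.left.range_fiberι v).le ⟨z, rfl⟩
  · intro h x hx
    obtain ⟨p, hp₁, hp₂⟩ := exists_point_of_isPullback C.sq (x := x)
      (z := Points.ofScheme V v) (by rw [hx, Points.map_ofPt, Category.id_comp])
    obtain ⟨u, hu⟩ := surjective_ofPt_of_repWith C.surjective p
    have hv : C.α.left u = v := by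
      have e : Points.map C.snd (Points.ofPt C.w u) = Points.ofScheme V v := by rw [hu, hp₂]
      rw [Points.map_ofPt, C.fac] at e
      have e' := congrArg (Points.toScheme V) e
      rwa [Points.toScheme_ofPt, Points.toScheme_ofScheme] at e'
    have hxu : Points.ofPt (C.w ≫ C.fst) u = x := by
      rw [← Points.map_ofPt C.w C.fst u, hu, hp₁]
    obtain ⟨z, hz⟩ := (C.α.left.range_fiberι v).ge hv
    refine hxu ▸ (hasAtMor_iff_of_chart etMor_fibreDimAt (fun e => e ≤ d) hX.diag hY.diag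
      (C.etale_chart hb) hb C.fac_chart u).2 ?_
    rw [← hz, Groth.FibreDim.fibreDimAt_fiberι]
    exact h z

/-- Flat morphisms of finite presentation: the set of points with big fibres is open. -/
theorem isOpen_not_relDimLE {X Y : Sp S} (hX : IsAlgSpace X) (hY : IsAlgSpace Y) {f : X ⟶ Y}
    (hfl : LocP @Flat f) (hlfp : LocP @LocallyOfFinitePresentation f) (hqc : IsQuasiCompactMor f)
    (d : WithBot ℕ∞) :
    IsOpen {y | ¬ RelDimLE f d y} := by
  obtain ⟨U, V, a, b, h, ha, hb, hbs, comm, hq, key⟩ := exists_chart_dim_fibre hX hY hqc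
  have hlft : LocP @LocallyOfFiniteType f := fun U V a b h h₁ h₂ h₃ =>
    have := hlfp a b h h₁ h₂ h₃
    inferInstance
  have : LocallyOfFinitePresentation h.left := hlfp a b h ha hb comm
  have : Flat h.left := hfl a b h ha hb comm
  rw [← (isQuotientMap_ofPt hb hbs).isOpen_preimage]
  convert Groth.FibreDim.isOpen_lt_dim_fiber h.left d using 1
  ext v
  exact ((key hlft d v).not).trans (not_le (α := WithBot ℕ∞))

/-- The fibres of a morphism of finite type have finite dimension. -/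
theorem exists_relDimLE {X Y : Sp S} (hX : IsAlgSpace X) (hY : IsAlgSpace Y) {f : X ⟶ Y}
    (hf : LocP @LocallyOfFiniteType f) (hqc : IsQuasiCompactMor f) (y : Points Y) :
    ∃ n : ℕ, RelDimLE f (n : WithBot ℕ∞) y := by
  obtain ⟨U, V, a, b, h, ha, hb, hbs, comm, hq, key⟩ := exists_chart_dim_fibre hX hY hqc
  obtain ⟨v, rfl⟩ := surjective_ofPt_of_repWith hbs y
  have : LocallyOfFiniteType h.left := hf a b h ha hb comm
  simp only [key hf]
  have hne := Groth.FibreDim.dim_fiber_ne_top h.left v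
  generalize topologicalKrullDim ↥(h.left.fiber v) = δ at hne ⊢
  induction δ with
  | bot => exact ⟨0, bot_le⟩
  | coe c =>
    induction c with
    | top => exact absurd rfl hne
    | coe m => exact ⟨m, le_rfl⟩

end Groth.AlgSp2.FibreDimSpace
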