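import Groth.Agent.ModEtQCoh.LocFree
import Groth.Agent.ModEtQCoh.PushQCoh
import Groth.Agent.AlgSp2.AffineRows
import Groth.Agent.AlgSpBasic.AffineMor
import Groth.Agent.AlgSp2.Serre.Cohom
import Mathlib.RingTheory.Flat.EquationalCriterion
import Mathlib.RingTheory.Finiteness.ModuleFinitePresentation

/-!
# Finite locally free morphisms and direct images of the structure sheaf
-/

set_option autoImplicit false
set_option backward.isDefEq.respectTransparency.types false
set_option linter.style.haveILetI false
set_option maxHeartbeats 1600000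
universe u

open CategoryTheory CategoryTheory.Limits AlgebraicGeometry Opposite AlgSp

namespace Groth.AlgSp2.FinLocFreePush

open Groth.ModEtQCoh

noncomputable section

/-- Finite flat finitely presented algebras are the finite projective ones. -/
theorem ringHom_iff {A B : Type u} [CommRing A] [CommRing B] (φ : A →+* B) :
    (φ.Finite ∧ φ.Flat ∧ φ.FinitePresentation) ↔
      (letI := φ.toAlgebra; Module.Finite A B ∧ Module.Projective A B) := by
  letI := φ.toAlgebra
  constructor
  · rintro ⟨h1, h2, h3⟩
    haveI : Module.Finite A B := h1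
    haveI : Module.Flat A B := h2
    haveI : Algebra.FinitePresentation A B := h3
    haveI : Module.FinitePresentation A B := (Module.FinitePresentation.iff_finitePresentation_of_finite A B).2 h3
    exact ⟨h1, Module.Flat.projective_of_finitePresentation⟩
  · rintro ⟨h1, h2⟩
    haveI := h1
    haveI := h2
    haveI : Module.FinitePresentation A B := Module.finitePresentation_of_projective _ _
    exact ⟨h1, (inferInstance : Module.Flat A B), (Module.FinitePresentation.iff_finitePresentation_of_finite A B).1 inferInstance⟩

/-- Finite locally free morphisms of affine schemes. -/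
theorem finLocFree_iff_appTop {P T : Scheme.{u}} [IsAffine P] [IsAffine T] (q : P ⟶ T) :
    finLocFree q ↔ q.appTop.hom.Finite ∧ q.appTop.hom.Flat ∧ q.appTop.hom.FinitePresentation := by
  have hfin : IsFinite q ↔ IsAffine P ∧ q.appTop.hom.Finite := HasAffineProperty.iff_of_isAffine (P := @IsFinite)
  refine ⟨fun ⟨h1, h2, h3⟩ => ⟨(hfin.1 h1).2, HasRingHomProperty.appTop @Flat q h2,
    HasRingHomProperty.appTop @LocallyOfFinitePresentation q h3⟩, fun ⟨h1, h2, h3⟩ =>
    ⟨hfin.2 ⟨inferInstance, h1⟩, (HasRingHomProperty.iff_of_isAffine (P := @Flat)).2 h2,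
      (HasRingHomProperty.iff_of_isAffine (P := @LocallyOfFinitePresentation)).2 h3⟩⟩

variable {S : Scheme.{u}} {X Y : Sp S} {f : X ⟶ Y} (hf : Representable f)

/-- The direct image of the structure sheaf. -/
abbrev dirO : ModEt Y := (pushModEt hf).obj (unitModEt X)

/-- Its sections are functions on the base change. -/
def dirOEquiv (E : EtOver Y) :
    letI := (EtOver.bcπ hf E).left.appTop.hom.toAlgebra
    sectModEt (dirO hf) E ≃ₗ[fnA E] ULift.{u + 1} (fnA (EtOver.bcObj hf E)) :=
  letI := (EtOver.bcπ hf E).left.appTop.hom.toAlgebra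
  { toFun := fun s => s
    invFun := fun s => s
    left_inv := fun _ => rfl
    right_inv := fun _ => rfl
    map_add' := fun _ _ => rfl
    map_smul' := fun _ _ => rfl }

theorem small_dirO (E : EtOver Y) : Small.{u} (sectModEt (dirO hf) E) := by
  letI := (EtOver.bcπ hf E).left.appTop.hom.toAlgebra
  exact small_of_injective (f := fun s => (dirOEquiv hf E s).down)
    (ULift.down_injective.comp (dirOEquiv hf E).injective)

theorem sect_iff (haff : RepWith @IsAffineHom f) (E : EtOver Y) [IsAffine E.obj.left.left] :
    (Module.Finite (fnA E) (sectModEt (dirO hf) E) ∧ Module.Projective (fnA E) (sectModEt (dirO hf) E)) ↔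
      finLocFree (EtOver.bcπ hf E).left := by
  haveI := isAffine_bc hf haff E
  rw [finLocFree_iff_appTop, ringHom_iff]
  letI := (EtOver.bcπ hf E).left.appTop.hom.toAlgebra
  let e := (dirOEquiv hf E).trans ULift.moduleEquiv
  refine ⟨fun ⟨h1, h2⟩ => ?_, fun ⟨h1, h2⟩ => ?_⟩
  · haveI := h1
    haveI := h2
    exact ⟨Module.Finite.equiv e, Module.Projective.of_equiv' e⟩
  · haveI := h1
    haveI := h2
    exact ⟨Module.Finite.equiv e.symm, Module.Projective.of_equiv' e.symm⟩

theorem isQuasicoherent_dirO (haff : RepWith @IsAffineHom f) : (dirO hf).IsQuasicoherent :=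
  haveI : (unitModEt X).IsQuasicoherent := isQuasicoherent_of_hasBC (Groth.AlgSp2.Serre.hasBC_unit X)
  isQuasicoherent_push hf
    (MorphismProperty.relative_monotone
      (fun _ _ g (_ : IsAffineHom ((Over.forget S).map g)) =>
        (inferInstanceAs (QuasiCompact ((Over.forget S).map g)))) _ haff)
    (MorphismProperty.relative_monotone
      (fun _ _ g (_ : IsAffineHom ((Over.forget S).map g)) =>
        (inferInstanceAs (QuasiSeparated ((Over.forget S).map g)))) _ haff) _

/-- Finite locally free morphisms can be checked on affine etale objects. -/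
theorem repWith_of_forall_bc (hY : IsAlgSpace Y)
    (h : ∀ (E : EtOver Y), IsAffine E.obj.left.left → finLocFree (EtOver.bcπ hf E).left) :
    RepWith finLocFree f := by
  haveI : MorphismProperty.DescendsAlong finLocFree.{u} (@Surjective ⊓ @Flat ⊓ @LocallyOfFinitePresentation) :=
    { of_isPullback := fun sq hq hp =>
        ⟨MorphismProperty.of_isPullback_of_descendsAlong (P := @IsFinite) sq hq hp.1,
          MorphismProperty.of_isPullback_of_descendsAlong (P := @Flat) sq hq hp.2.1,
          MorphismProperty.of_isPullback_of_descendsAlong (P := @LocallyOfFinitePresentation) sq hq hp.2.2⟩ }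
  haveI : MorphismProperty.IsLocalAtTarget finLocFree.{u} Scheme.fppfPrecoverage :=
    Groth.AlgSpBasic.isLocalAtTarget_fppf _
  obtain ⟨V, b, hb, hbs⟩ := hY.atlas
  obtain ⟨T, snd, fst, sq⟩ := hf b
  haveI := Groth.AlgSpBasic.isLocallySurjective_of_etale b hb hbs
  refine Groth.AlgSpBasic.repWith_of_isLocallySurjective f hf b fst _ sq ((repWith_yon_map_iff _ snd).2 ?_)
  refine IsZariskiLocalAtTarget.of_openCover (P := finLocFree) V.left.affineCover fun k => ?_
  let Z : Over S := Over.mk (V.left.affineCover.f k ≫ V.hom)
  let z : Z ⟶ V := Over.homMk (V.left.affineCover.f k) rfl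
  let E : EtOver Y := EtOver.mk ((yon S).map z ≫ b)
    (Groth.AlgSpBasic.repWith_comp
      ((repWith_yon_map_iff _ z).2 (inferInstanceAs (Etale (V.left.affineCover.f k)))) hb)
  have hP := h E (inferInstanceAs (IsAffine (V.left.affineCover.X k)))
  have sq' := EtOver.isPullback_bcObj hf E
  obtain ⟨a, ha⟩ := (yon S).map_surjective (sq.lift (EtOver.bcObj hf E).obj.hom
    ((yon S).map (EtOver.bcπ hf E ≫ z))
    (by rw [Functor.map_comp, Category.assoc]; exact sq'.w))
  have hsq : IsPullback ((yon S).map a) ((yon S).map (EtOver.bcπ hf E)) ((yon S).map snd) ((yon S).map z) := by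
    refine IsPullback.of_right ?_ ?_ sq
    · rw [ha, IsPullback.lift_fst]; exact sq'
    · rw [ha, IsPullback.lift_snd, Functor.map_comp]
  have hsch := Groth.AlgSpBasic.isPullback_left (Groth.AlgSpBasic.isPullback_of_yon hsq)
  change finLocFree (pullback.snd snd.left z.left)
  rw [← hsch.isoPullback_inv_snd, finLocFree.cancel_left_of_respectsIso]
  exact hP

theorem isFinLocFreeMor_iff (hY : IsAlgSpace Y) :
    IsFinLocFreeMor f ↔ IsAffineMor f ∧
      ∃ q : SheafOfModules.LocalGeneratorsData.{u + 1} (dirO hf), q.IsLocallyFreeData ∧ q.IsFiniteType := by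
  constructor
  · intro h
    have haff : RepWith @IsAffineHom f := MorphismProperty.relative_monotone
      (fun _ _ g (hg : finLocFree ((Over.forget S).map g)) =>
        haveI := hg.1
        (inferInstanceAs (IsAffineHom ((Over.forget S).map g)))) _ h
    refine ⟨Groth.AlgSpBasic.isAffineMor_iff_repWith.2 haff, ?_⟩
    haveI := isQuasicoherent_dirO hf haff
    exact LocFree.exists_locallyFreeData _ fun E _ => (sect_iff hf haff E).2
      (h.property E.obj.hom (EtOver.bcObj hf E).obj.hom (EtOver.bcπ hf E) (EtOver.isPullback_bcObj hf E))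
  · rintro ⟨ha, q, hq, hft⟩
    have haff : RepWith @IsAffineHom f := Groth.AlgSpBasic.isAffineMor_iff_repWith.1 ha
    haveI := isQuasicoherent_dirO hf haff
    haveI := small_dirO hf
    exact repWith_of_forall_bc hf hY fun E hE =>
      (sect_iff hf haff E).1 (LocFree.finite_projective_of_data _ q hq hft E)

end

end Groth.AlgSp2.FinLocFreePush
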