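import Groth.Agent.AlgSp2.QfNbhd
import Groth.Agent.AlgSp2.FibreDimSpace
import Groth.Agent.AlgSp2.Decency
import Groth.Agent.AlgSpBasic.DecentFiniteDense

/-!
# Proper morphisms with a finite fibre
-/

set_option autoImplicit false
set_option backward.isDefEq.respectTransparency.types false
universe u

open CategoryTheory CategoryTheory.Limits AlgebraicGeometry Topology AlgSp
  Groth.AlgSpBasic Groth.AlgSp3

namespace Groth.AlgSp2

variable {S : Scheme.{u}}

/-- A decent space with finitely many points, locally of finite type over a field, has finite discrete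
affine charts. -/
theorem isOpen_singleton_chart_of_finite_points {X Y : Sp S} (hX : IsAlgSpace X) (hY : IsAlgSpace Y)
    {f : X ⟶ Y} (hf : LocP @LocallyOfFiniteType f) (k : FieldPt Y) {Xk : Sp S} {fst : Xk ⟶ X}
    {snd : Xk ⟶ (yon S).obj k.pt} (sq : IsPullback fst snd f k.toHom) [Finite (Points Xk)]
    (hd : IsDecent Xk) {U : Over S} {a : (yon S).obj U ⟶ Xk} (ha : RepWith @Etale a)
    (u : ↥U.left) : IsOpen ({u} : Set ↥U.left) := by
  obtain ⟨K, hK, huK, -⟩ :=
    exists_isAffineOpen_mem_and_subset (X := U.left) (x := u) (U := ⊤) trivial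
  have : IsAffine (K : Scheme) := hK
  let A : Over S := Over.mk (K.ι ≫ U.hom)
  let j : A ⟶ U := Over.homMk K.ι rfl
  have : CompactSpace ↥A.left := inferInstanceAs (CompactSpace ↥(K : Scheme))
  have hj : Etale j.left := inferInstanceAs (Etale K.ι)
  let g := (yon S).map j ≫ a
  have hg : RepWith @Etale g := repWith_comp ((repWith_yon_map_iff _ j).2 hj) ha
  obtain ⟨m, hm⟩ := (yon S).map_surjective (g ≫ snd)
  have hl : LocallyOfFiniteType m.left :=
    locP_of_isPullback hX hY (IsAlgSpace.yon_obj k.pt) sq hf g (𝟙 _) m hg (repWith_id _ _)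
      (by rw [Category.comp_id, hm])
  have : JacobsonSpace ↥k.pt.left :=
    inferInstanceAs (JacobsonSpace (PrimeSpectrum k.K))
  have : JacobsonSpace ↥A.left :=
    LocallyOfFiniteType.jacobsonSpace (m.left : A.left ⟶ Spec (CommRingCat.of k.K))
  have hfin : ∀ z : Points Xk, {w | Points.map g w = z}.Finite := fun z => by
    have sqI : IsPullback g (𝟙 _) (𝟙 Xk) g := IsPullback.of_vert_isIso ⟨by simp⟩
    exact finite_setOf_map_eq hd hg sqI z
  have : Finite ↥A.left := by
    have hall : (Set.univ : Set (Points ((yon S).obj A))).Finite :=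
      (Set.finite_univ.biUnion (fun z (_ : z ∈ (Set.univ : Set (Points Xk))) => hfin z)).subset
        (fun w _ => Set.mem_biUnion (Set.mem_univ (Points.map g w)) rfl)
    have : Finite (Points ((yon S).obj A)) := Set.finite_univ_iff.1 hall
    exact Finite.of_injective _ (Function.LeftInverse.injective (g := Points.toScheme A)
      (f := Points.ofScheme A) (Points.toScheme_ofScheme A))
  have : DiscreteTopology ↥A.left := inferInstance
  have h := K.ι.isOpenEmbedding.isOpenMap _ (isOpen_discrete ({(⟨u, huK⟩ : ↥K)} : Set ↥A.left))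
  erw [Set.image_singleton] at h
  exact h

/-- Over a field point with finite fibre, a proper morphism has relative dimension zero. -/
theorem exists_open_finite_of_finite_fibre {X Y : AlgSp.Space S} (f : X ⟶ Y)
    (hf : IsProperMor f.hom) (y : FieldPt Y.obj) {Xy : Sp S} {fst : Xy ⟶ X.obj}
    {snd : Xy ⟶ (yon S).obj y.pt} (sq : IsPullback fst snd f.hom y.toHom)
    [Finite (Points Xy)] :
    ∃ (V : AlgSp.Space S) (j : V ⟶ Y), RepWith @IsOpenImmersion j.hom ∧
      Points.mk y ∈ Set.range (Points.map j.hom) ∧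
        ∀ (P : AlgSp.Space S) (fst' : P ⟶ X) (snd' : P ⟶ V),
          IsPullback fst'.hom snd'.hom f.hom j.hom → IsFiniteMor snd'.hom := by
  have hqs : IsQuasiSeparatedMor f.hom :=
    ⟨hf.1.rep, fun _ _ g a b s => by
      have : IsClosedImmersion b.left := hf.1.property g a b s
      exact (inferInstance : QuasiCompact b.left)⟩
  have hd : IsDecent Xy := isDecentMor_of_qs X.property Y.property hqs y.toHom fst snd sq
  refine exists_open_finite_of_qf_over f _ hf fun x hx => ?_
  refine (hasAtMor_lqf_iff X.property Y.property hf.2.1.1 x).2 ?_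
  obtain ⟨z, hz, -⟩ := exists_point_of_isPullback sq (x := x)
    (z := Points.ofScheme y.pt (IsLocalRing.closedPoint y.K))
    (by rw [hx, Points.map_ofPt, Category.id_comp, Points.ofPt_toHom])
  obtain ⟨U', a', u', ha', -, U, V, a, b, g, u, h₁, h₂, h₃, h₄, h₅⟩ :=
    FibreDimSpace.exists_chart_fibre X.property Y.property hf.2.1.1 y sq z
  refine ⟨U, V, a, b, g, u, h₁, h₂, h₃, h₄.trans hz, h₅.trans ?_⟩
  have ho := isOpen_singleton_chart_of_finite_points X.property Y.property hf.2.1.1 y sq hd ha' u'
  refine le_antisymm ((Groth.SpectralTopology.localDim_le_of_mem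
    (U := (⟨{u'}, ho⟩ : TopologicalSpace.Opens ↥U'.left)) rfl).trans ?_)
    (Groth.SpectralTopology.localDim_nonneg u')
  refine Order.krullDim_nonpos_iff_forall_isMax.2 fun c c' hcc' => ?_
  intro w hw
  obtain ⟨w', hw'⟩ := c.isIrreducible.nonempty
  rwa [show w = w' from Subtype.ext ((w.2 : w.1 = u').trans (w'.2 : w'.1 = u').symm)]

end Groth.AlgSp2
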