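import Groth.Agent.AlgSp2.LocPSource
import Groth.Agent.AlgSp2.LocPFpqc

/-!
# Locality on the source of properties defined on etale charts
-/

set_option autoImplicit false
universe u

open CategoryTheory CategoryTheory.Limits AlgebraicGeometry AlgSp

namespace Groth.AlgSp2

variable {S : Scheme.{u}}

theorem isLocalOnSource_fpqc_flat : IsLocalOnSource (IsFpqcCover (S := S)) (LocP @Flat) :=
  isLocalOnSource_fpqc_locP @Flat

theorem isLocalOnSource_etale_of_etaleLocal (P : MorphismProperty Scheme.{u})
    [Groth.AlgSpBasic.EtaleLocal P] [IsZariskiLocalAtSource P] :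
    IsLocalOnSource (IsEtCover (S := S)) (LocP P) :=
  have := isLocalAtSource_etale_of_etaleLocal P
  isLocalOnSource_etale_locP P

theorem isLocalOnSource_etale_isEtaleMor : IsLocalOnSource (IsEtCover (S := S)) IsEtaleMor := by
  intro ι X Xi g hX hXi hg Y f hY
  rw [isEtaleMor_iff_locP hY, isLocalOnSource_etale_of_etaleLocal @Etale Xi g hX hXi hg f hY]
  exact forall_congr' fun i => (isEtaleMor_iff_locP hY).symm

end Groth.AlgSp2
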