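import Groth.Agent.AlgSp2.FiniteTfae
import Groth.Agent.AlgSp2.LocPRows
import Groth.Agent.AlgSp2.CancelSep
import Groth.Agent.AlgSp3.NbhdInv

/-!
# Images of finite morphisms under etale surjections
-/

set_option autoImplicit false
set_option backward.isDefEq.respectTransparency.types false
universe u

open CategoryTheory CategoryTheory.Limits AlgebraicGeometry AlgSp Groth.AlgSpBasic Groth.AlgSp3

namespace Groth.AlgSp2

variable {S : Scheme.{u}}

/-- Being universally closed passes to the image. -/
theorem isUnivClosedMor_of_surjective_comp {U X Y : Sp S} (p : U ⟶ X) (f : X ⟶ Y)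
    (hps : IsSurjectiveMor p) (h : IsUnivClosedMor (p ≫ f)) : IsUnivClosedMor f := by
  intro Z Z' hZ g fst snd sq W hW
  have sq' := IsPullback.of_hasPullback p fst
  have h' : IsClosedMap (Points.map (pullback.snd p fst ≫ snd)) :=
    h hZ g _ _ (sq'.paste_vert sq)
  have hs : Function.Surjective (Points.map (pullback.snd p fst)) := fun z => by
    obtain ⟨x, hx⟩ := hps (Points.map fst z)
    obtain ⟨w, -, hw⟩ := exists_point_of_isPullback sq' (x := x) (z := z) hx
    exact ⟨w, hw⟩
  have e := h' _ (hW.preimage (Points.continuous_map (pullback.snd p fst)))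
  have e' : Points.map (pullback.snd p fst ≫ snd) ''
      (Points.map (pullback.snd p fst) ⁻¹' W) = Points.map snd '' W := by
    rw [show Points.map (pullback.snd p fst ≫ snd) = Points.map snd ∘ Points.map (pullback.snd p fst)
      from funext fun x => Points.map_comp _ _ x, Set.image_comp, Set.image_preimage_eq _ hs]
  rwa [e'] at e

/-- Finiteness descends along etale surjections to separated morphisms. -/
theorem isFiniteMor_of_etale_surjective_comp {U X Y : Sp S} (hU : IsAlgSpace U) (hX : IsAlgSpace X)
    (hY : IsAlgSpace Y) (p : U ⟶ X) (f : X ⟶ Y) (hp : IsEtaleMor p) (hps : IsSurjectiveMor p)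
    (hf : IsSeparatedMor f) (h : IsFiniteMor (p ≫ f)) : IsFiniteMor f := by
  have hq : LocP (@LocallyQuasiFinite ⊓ @LocallyOfFiniteType) (p ≫ f) :=
    lqf_of_isFiniteMor hU hY h
  have hloc := isLocalOnSource_etale_of_etaleLocal (S := S)
    (P := (@LocallyQuasiFinite ⊓ @LocallyOfFiniteType : MorphismProperty Scheme.{u}))
  refine isFiniteMor_of_univClosed_sep_lqf hX hY
    (isUnivClosedMor_of_surjective_comp p f hps (isProperMor_of_isFiniteMor hU hY h).2.2) hf ?_
  exact (hloc (fun _ : PUnit.{u + 1} => U) (fun _ => p) hX (fun _ => hU)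
    ⟨fun _ => hp, fun x => ⟨PUnit.unit, hps x⟩⟩ f hY).2 fun _ => hq

end Groth.AlgSp2
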