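import Groth.Agent.AlgSp2.UnramMono
import Groth.Agent.AlgSpBasic.ClosedQC
import Groth.Agent.AlgSp3.Density
import Groth.Agent.AlgSp3.ClosedSub
import Groth.Agent.FlatmorDense.OpenImmersion
import Groth.Agent.S9969
import Groth.Agent.S9972
import Groth.Agent.S9973

/-!
# Flat morphisms which are isomorphisms over a schematically dense open subspace
-/

set_option autoImplicit false
set_option backward.isDefEq.respectTransparency.types false
universe u

open CategoryTheory CategoryTheory.Limits AlgebraicGeometry AlgSp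

namespace Groth.AlgSp2

open Groth.AlgSpBasic

noncomputable section

variable {S : Scheme.{u}} {X Y V P : AlgSp.Space S} {f : X ⟶ Y} {j : V ⟶ Y}

theorem mono_of_flat_separated_iso_over_dense (hs : IsSeparatedMor f.hom)
    (hf : LocP @Flat f.hom) (hq : IsQuasiCompactMor j.hom) (hd : IsSchDense j.hom)
    {fst : P ⟶ X} {snd : P ⟶ V} (hP : IsPullback fst.hom snd.hom f.hom j.hom)
    (hV : IsIso snd.hom) : Mono f.hom := by
  let sq₀ := IsPullback.of_hasPullback f.hom f.hom
  let XX : AlgSp.Space S := ⟨pullback f.hom f.hom,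
    isAlgSpace_of_isPullback sq₀ Y.property.diag X.property X.property⟩
  let p₁ : XX ⟶ X := ⟨pullback.fst f.hom f.hom⟩
  let p₂ : XX ⟶ X := ⟨pullback.snd f.hom f.hom⟩
  let π : XX ⟶ Y := ⟨pullback.fst f.hom f.hom ≫ f.hom⟩
  have hπ : LocP @Flat π.hom := locP_comp XX.property X.property Y.property
    (locP_of_isPullback X.property Y.property X.property sq₀.flip hf) hf
  let sq := IsPullback.of_hasPullback j.hom π.hom
  let V' : AlgSp.Space S := ⟨pullback j.hom π.hom,
    isAlgSpace_of_isPullback sq Y.property.diag V.property XX.property⟩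
  let q₁ : V' ⟶ V := ⟨pullback.fst j.hom π.hom⟩
  let jX : V' ⟶ XX := ⟨pullback.snd j.hom π.hom⟩
  have hd' : IsSchDense jX.hom := Groth.Agent.S9973.result π hπ j hd hq q₁ jX sq
  have hq' : IsQuasiCompactMor jX.hom := by
    exact isQuasiCompactMor_of_isPullback sq hq
  have heq : jX ≫ p₁ = jX ≫ p₂ := by
    ext : 1
    have e₁ : (jX.hom ≫ p₁.hom) ≫ f.hom = q₁.hom ≫ j.hom := by
      rw [Category.assoc]; exact sq.w.symm
    have e₂ : (jX.hom ≫ p₂.hom) ≫ f.hom = q₁.hom ≫ j.hom := by
      rw [Category.assoc]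
      show jX.hom ≫ pullback.snd f.hom f.hom ≫ f.hom = _
      rw [← pullback.condition]; exact sq.w.symm
    have h : hP.lift _ _ e₁ = hP.lift _ _ e₂ := by
      rw [← cancel_mono snd.hom, hP.lift_snd, hP.lift_snd]
    have := congrArg (· ≫ fst.hom) h
    simp only [IsPullback.lift_fst] at this
    exact this
  have h := Groth.Agent.S9972.result f hs p₁ p₂ (by ext : 1; exact pullback.condition) jX hd'.1
    ((Groth.Agent.S9969.result jX hd'.1 hq').1 hd') heq
  have h' : pullback.fst f.hom f.hom = pullback.snd f.hom f.hom := congrArg (fun φ => φ.hom) h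
  exact ⟨fun a b hab => by rw [← pullback.lift_fst a b hab, h', pullback.lift_snd]⟩

theorem repWith_isOpenImmersion_of_flat_iso_over_dense (hs : IsSeparatedMor f.hom)
    (hl : LocP @LocallyOfFiniteType f.hom) (hf : LocP @Flat f.hom)
    (hq : IsQuasiCompactMor j.hom) (hd : IsSchDense j.hom)
    {fst : P ⟶ X} {snd : P ⟶ V} (hP : IsPullback fst.hom snd.hom f.hom j.hom)
    (hV : IsIso snd.hom) : RepWith @IsOpenImmersion f.hom := by
  have := mono_of_flat_separated_iso_over_dense hs hf hq hd hP hV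
  obtain ⟨hr, -, -⟩ := representable_of_mono_lft X.property Y.property hl
  obtain ⟨V₀, φ, hφ, hφs⟩ := Y.property.atlas
  obtain ⟨U₀, h, a, sq⟩ := hr φ
  have := isLocallySurjective_of_etale φ hφ hφs
  refine repWith_of_isLocallySurjective f.hom hr φ a _ sq ((repWith_yon_map_iff _ h).2 ?_)
  have : LocallyOfFiniteType h.left :=
    (repWith_of_locP Y.property hr hl).property φ a h sq
  have : Flat h.left := (repWith_of_locP Y.property hr hf).property φ a h sq
  have : Mono h.left := (repWith_monomorphisms_of_mono hr).property φ a h sq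
  set W := Groth.AlgSp3.preimageOpens hd.1 φ
  obtain ⟨b, sqW⟩ := Groth.AlgSp3.exists_isPullback_preimageOpens hd.1 φ
  have : QuasiCompact W.ι := Groth.AlgSp3.quasiCompact_preimageOpens_ι hd.1 hq φ
  have hW : CInt.IsSchematicallyDense W :=
    Groth.AlgSp3.isSchematicallyDense_preimageOpens Y.property hd hφ
  obtain ⟨σ, hσ⟩ := (yon S).map_surjective (sq.lift ((b ≫ inv snd.hom) ≫ fst.hom)
    ((yon S).map (Over.homMk W.ι : Over.mk (W.ι ≫ V₀.hom) ⟶ V₀)) (by
      rw [Category.assoc, hP.w, Category.assoc, IsIso.inv_hom_id_assoc, sqW.w]))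
  have hσ' : σ ≫ h = Over.homMk W.ι := (yon S).map_injective (by
    rw [Functor.map_comp, hσ, sq.lift_snd])
  have hσ'' : σ.left ≫ h.left = W.ι := congr(($hσ').left)
  let s : W.toScheme ⟶ (h.left ⁻¹ᵁ W).toScheme :=
    IsOpenImmersion.lift (h.left ⁻¹ᵁ W).ι σ.left (by
      rintro _ ⟨w, rfl⟩
      rw [Scheme.Opens.range_ι]
      show h.left (σ.left w) ∈ W
      rw [← Scheme.Hom.comp_apply, hσ'']
      exact w.2)
  have hs' : s ≫ (h.left ∣_ W) = 𝟙 _ := by
    rw [← cancel_mono W.ι]
    simp [s, hσ'']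
  have : Mono (h.left ∣_ W) := MorphismProperty.of_isPullback (P := MorphismProperty.monomorphisms Scheme.{u})
    (isPullback_morphismRestrict h.left W).flip ‹Mono h.left›
  have : IsSplitEpi (h.left ∣_ W) := IsSplitEpi.mk' ⟨s, hs'⟩
  have : IsIso (h.left ∣_ W) := isIso_of_mono_of_isSplitEpi _
  exact Groth.FlatmorDense.isOpenImmersion_of_flat_mono h.left W hW

end

end Groth.AlgSp2
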