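import Groth.Agent.AlgSp3.HasAtMor
import Groth.Agent.FlatMor2.FibCrit.SchemeCrit
import Groth.Agent.FlatMor2.FibCrit.SchemeNoeth
import Groth.Agent.Misc13.FlatBC
import Mathlib.RingTheory.Flat.FaithfullyFlat.Algebra
import Mathlib.AlgebraicGeometry.Morphisms.Etale

/-!
# Flatness at a point: composition, cancellation, the criterion by fibres
-/

set_option autoImplicit false
set_option linter.style.haveILetI false
universe u

open CategoryTheory CategoryTheory.Limits AlgebraicGeometry IsLocalRing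

namespace Groth.AlgSp2.FlatFib

variable {X Y Z : Scheme.{u}}

theorem flat_at_comp (a : X ⟶ Y) (g : Y ⟶ Z) (x : X) (ha : (a.stalkMap x).hom.Flat)
    (hg : (g.stalkMap (a x)).hom.Flat) : ((a ≫ g).stalkMap x).hom.Flat := by
  rw [Scheme.Hom.stalkMap_comp]
  exact RingHom.Flat.comp hg ha

theorem flat_at_of_comp (a : X ⟶ Y) (g : Y ⟶ Z) (x : X) (ha : (a.stalkMap x).hom.Flat)
    (h : ((a ≫ g).stalkMap x).hom.Flat) : (g.stalkMap (a x)).hom.Flat := by
  rw [Scheme.Hom.stalkMap_comp] at h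
  letI := (g.stalkMap (a x)).hom.toAlgebra
  letI := (a.stalkMap x).hom.toAlgebra
  letI : Algebra (Z.presheaf.stalk (g (a x))) (X.presheaf.stalk x) :=
    ((a.stalkMap x).hom.comp (g.stalkMap (a x)).hom).toAlgebra
  haveI : IsScalarTower (Z.presheaf.stalk (g (a x))) (Y.presheaf.stalk (a x)) (X.presheaf.stalk x) :=
    .of_algebraMap_eq' rfl
  haveI : Module.Flat (Y.presheaf.stalk (a x)) (X.presheaf.stalk x) := ha
  haveI : Module.Flat (Z.presheaf.stalk (g (a x))) (X.presheaf.stalk x) := h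
  haveI : IsLocalHom (algebraMap (Y.presheaf.stalk (a x)) (X.presheaf.stalk x)) :=
    inferInstanceAs (IsLocalHom (a.stalkMap x).hom)
  haveI : Module.FaithfullyFlat (Y.presheaf.stalk (a x)) (X.presheaf.stalk x) :=
    Module.FaithfullyFlat.of_flat_of_isLocalHom
  exact Groth.FlatMor2.flat_of_tower (Q := Z.presheaf.stalk (g (a x))) (S := X.presheaf.stalk x)

theorem flat_at_of_comp_etale (h : X ⟶ Y) (e : Y ⟶ Z) [Etale e] (x : X)
    (hx : ((h ≫ e).stalkMap x).hom.Flat) : (h.stalkMap x).hom.Flat := by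
  let Γ : X ⟶ pullback (h ≫ e) e := pullback.lift (𝟙 X) h (Category.id_comp _)
  have hΓ₁ : Γ ≫ pullback.fst (h ≫ e) e = 𝟙 X := pullback.lift_fst _ _ _
  have : Etale (Γ ≫ pullback.fst (h ≫ e) e) := by rw [hΓ₁]; infer_instance
  have : Etale Γ := Etale.of_comp Γ (pullback.fst (h ≫ e) e)
  have e₁ : pullback.fst (h ≫ e) e (Γ x) = x := by
    rw [← Scheme.Hom.comp_apply, hΓ₁]; rfl
  have h₂ := Groth.Misc13.FlatBC.flat_stalkMap_baseChange (IsPullback.of_hasPullback (h ≫ e) e).flip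
    (Γ x) (e₁.symm ▸ hx)
  have := flat_at_comp Γ (pullback.snd (h ≫ e) e) x (Flat.stalkMap Γ x) h₂
  rwa [show Γ ≫ pullback.snd (h ≫ e) e = h from pullback.lift_snd _ _ _] at this

theorem etMor_flat : Groth.AlgSp3.EtMorInvariant.{u} fun _ _ h u => (h.stalkMap u).hom.Flat where
  precomp e _ h u := propext ⟨flat_at_of_comp e h u (Flat.stalkMap e u),
    flat_at_comp e h u (Flat.stalkMap e u)⟩
  postcomp h e _ u := propext ⟨flat_at_of_comp_etale h e u,
    fun hf => flat_at_comp h e u hf (Flat.stalkMap e _)⟩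

/-- The criterion by fibres for locally Noetherian schemes. -/
theorem flat_of_fibre_noetherian [IsLocallyNoetherian X] [IsLocallyNoetherian Y] (f : X ⟶ Y)
    (g : Y ⟶ Z) (x : X) (h₁ : ((f ≫ g).stalkMap x).hom.Flat)
    (h₂ : ((MoreMor.fiberMap f g (g (f x))).stalkMap ((f ≫ g).asFiber x)).hom.Flat) :
    (g.stalkMap (f x)).hom.Flat ∧ (f.stalkMap x).hom.Flat := by
  rw [Groth.FlatMor2.FibCrit.fiberMap_flat_iff f g (g (f x)) ((f ≫ g).asFiber x) x
    ((f ≫ g).fiberι_asFiber x)] at h₂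
  rw [Scheme.Hom.stalkMap_comp] at h₁
  letI : Algebra (Z.presheaf.stalk (g (f x))) (Y.presheaf.stalk (f x)) :=
    (g.stalkMap (f x)).hom.toAlgebra
  letI : Algebra (Y.presheaf.stalk (f x)) (X.presheaf.stalk x) := (f.stalkMap x).hom.toAlgebra
  letI : Algebra (Z.presheaf.stalk (g (f x))) (X.presheaf.stalk x) :=
    ((f.stalkMap x).hom.comp (g.stalkMap (f x)).hom).toAlgebra
  haveI : IsScalarTower (Z.presheaf.stalk (g (f x))) (Y.presheaf.stalk (f x)) (X.presheaf.stalk x) :=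
    .of_algebraMap_eq' rfl
  haveI : IsLocalHom (algebraMap (Z.presheaf.stalk (g (f x))) (Y.presheaf.stalk (f x))) :=
    inferInstanceAs (IsLocalHom (g.stalkMap (f x)).hom)
  haveI : IsLocalHom (algebraMap (Y.presheaf.stalk (f x)) (X.presheaf.stalk x)) :=
    inferInstanceAs (IsLocalHom (f.stalkMap x).hom)
  exact (Groth.FlatMor2.FibCrit.noetherian_local_iff (A := Z.presheaf.stalk (g (f x)))
    (Br := Y.presheaf.stalk (f x)) (Cq := X.presheaf.stalk x) (Mq := X.presheaf.stalk x)).1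
    ⟨h₁, h₂⟩

theorem isPullback_fiberMap (f : X ⟶ Y) (g : Y ⟶ Z) (s : Z) :
    IsPullback ((f ≫ g).fiberι s) (MoreMor.fiberMap f g s) f (g.fiberι s) := by
  refine IsPullback.of_bot ?_ (pullback.lift_fst _ _ _).symm
    (IsPullback.of_hasPullback g (Z.fromSpecResidueField s))
  rw [show MoreMor.fiberMap f g s ≫ pullback.snd g (Z.fromSpecResidueField s) =
    pullback.snd (f ≫ g) (Z.fromSpecResidueField s) from pullback.lift_snd _ _ _]
  exact IsPullback.of_hasPullback (f ≫ g) (Z.fromSpecResidueField s)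

/-- With `f ≫ g` flat and locally of finite presentation, flatness of `f` at a point is an open
condition. -/
theorem flat_at_iff_fibre (f : X ⟶ Y) (g : Y ⟶ Z) [LocallyOfFinitePresentation (f ≫ g)] [LocallyOfFiniteType g]
    [Flat (f ≫ g)] (x : X) :
    (f.stalkMap x).hom.Flat ↔
      ((MoreMor.fiberMap f g (g (f x))).stalkMap ((f ≫ g).asFiber x)).hom.Flat := by
  refine ⟨fun h => ?_, fun h =>
    ((Groth.FlatMor2.FibCrit.structureSheaf_iff f g x).1 ⟨Flat.stalkMap _ x, h⟩).2⟩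
  exact Groth.Misc13.FlatBC.flat_stalkMap_baseChange (isPullback_fiberMap f g _).flip
    ((f ≫ g).asFiber x) ((Scheme.Hom.fiberι_asFiber (f ≫ g) x).symm ▸ h)

theorem isOpen_flatLocus (f : X ⟶ Y) (g : Y ⟶ Z) [LocallyOfFinitePresentation (f ≫ g)]
    [LocallyOfFiniteType g] [Flat (f ≫ g)] : IsOpen {x : ↑X | (f.stalkMap x).hom.Flat} := by
  have e : {x : ↑X | (f.stalkMap x).hom.Flat} =
      {x : ↑X | (g.stalkMap (f x)).hom.Flat ∧ (f.stalkMap x).hom.Flat} :=
    Set.ext fun x => ⟨fun h => ⟨flat_at_of_comp f g x h (Flat.stalkMap _ x), h⟩, And.right⟩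
  rw [e]
  exact Groth.FlatMor2.FibCrit.isOpen_structureSheaf f g

/-- The comparison of fibres under base change is flat. -/
theorem exists_fibre_map {X' Y' : Scheme.{u}} {f : X ⟶ Y} {g : Y' ⟶ Y} {f' : X' ⟶ Y'} {g' : X' ⟶ X}
    (hc : IsPullback g' f' f g) (y' : Y') :
    ∃ q : f'.fiber y' ⟶ f.fiber (g y'), Flat q ∧ q ≫ f.fiberι (g y') = f'.fiberι y' ≫ g' ∧
      q ≫ f.fiberToSpecResidueField (g y') =
        f'.fiberToSpecResidueField y' ≫ Spec.map (g.residueFieldMap y') := by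
  let σ := g.residueFieldMap y'
  let q : f'.fiber y' ⟶ f.fiber (g y') := pullback.lift (f'.fiberι y' ≫ g')
    (f'.fiberToSpecResidueField y' ≫ Spec.map σ) (by
      rw [Category.assoc, hc.w, reassoc_of% (f'.fiber_fac y'), Category.assoc,
        Scheme.Hom.SpecMap_residueFieldMap_fromSpecResidueField])
  have hq1 : q ≫ f.fiberι (g y') = f'.fiberι y' ≫ g' := pullback.lift_fst ..
  have hq2 : q ≫ f.fiberToSpecResidueField (g y') = f'.fiberToSpecResidueField y' ≫ Spec.map σ :=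
    pullback.lift_snd ..
  have hbig : IsPullback (f'.fiberι y' ≫ g') (f'.fiberToSpecResidueField y') f
      (Y'.fromSpecResidueField y' ≫ g) :=
    IsPullback.paste_horiz (IsPullback.of_hasPullback f' (Y'.fromSpecResidueField y')) hc
  rw [← Scheme.Hom.SpecMap_residueFieldMap_fromSpecResidueField, ← hq1] at hbig
  have hsq : IsPullback q (f'.fiberToSpecResidueField y') (f.fiberToSpecResidueField (g y'))
      (Spec.map σ) :=
    hbig.of_right hq2 (IsPullback.of_hasPullback f (Y.fromSpecResidueField (g y')))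
  let := σ.hom.toAlgebra
  have h1 : Flat (Spec.map σ) := Flat.SpecMap_iff.mpr (Module.Flat.of_free : Module.Flat _ _)
  exact ⟨q, MorphismProperty.of_isPullback hsq.flip h1, hq1, hq2⟩

/-- Flatness descends from a base change when the composite is flat of finite presentation. -/
theorem flat_descend {U V W U' V' T : Scheme.{u}} {h : U ⟶ V} {k : V ⟶ W}
    [LocallyOfFinitePresentation (h ≫ k)] [LocallyOfFiniteType k] [Flat (h ≫ k)] {t : T ⟶ W}
    {v : V' ⟶ V} {b : V' ⟶ T} {u : U' ⟶ U} {m : U' ⟶ V'} (sV : IsPullback v b k t)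
    (sm : IsPullback u m h v) (sU : IsPullback u (m ≫ b) (h ≫ k) t) (z : U')
    (hz : (m.stalkMap z).hom.Flat) : (h.stalkMap (u z)).hom.Flat := by
  obtain ⟨qU, hqU, qU₁, qU₂⟩ := exists_fibre_map sU (b (m z))
  obtain ⟨qV, hqV, qV₁, qV₂⟩ := exists_fibre_map sV (b (m z))
  have e₁ : MoreMor.fiberMap h k (t (b (m z))) ≫ k.fiberι (t (b (m z))) =
      (h ≫ k).fiberι (t (b (m z))) ≫ h := pullback.lift_fst _ _ _
  have e₂ : MoreMor.fiberMap h k (t (b (m z))) ≫ k.fiberToSpecResidueField (t (b (m z))) =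
      (h ≫ k).fiberToSpecResidueField (t (b (m z))) := pullback.lift_snd _ _ _
  have e₃ : MoreMor.fiberMap m b (b (m z)) ≫ b.fiberι (b (m z)) =
      (m ≫ b).fiberι (b (m z)) ≫ m := pullback.lift_fst _ _ _
  have e₄ : MoreMor.fiberMap m b (b (m z)) ≫ b.fiberToSpecResidueField (b (m z)) =
      (m ≫ b).fiberToSpecResidueField (b (m z)) := pullback.lift_snd _ _ _
  have e : qU ≫ MoreMor.fiberMap h k (t (b (m z))) = MoreMor.fiberMap m b (b (m z)) ≫ qV := by
    refine (IsPullback.of_hasPullback k (W.fromSpecResidueField _)).hom_ext ?_ ?_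
    · change (qU ≫ _) ≫ k.fiberι _ = (_ ≫ qV) ≫ k.fiberι _
      rw [Category.assoc, e₁, reassoc_of% qU₁, Category.assoc, qV₁, reassoc_of% e₃, sm.w]
    · change (qU ≫ _) ≫ k.fiberToSpecResidueField _ = (_ ≫ qV) ≫ k.fiberToSpecResidueField _
      rw [Category.assoc, e₂, qU₂, Category.assoc, qV₂, reassoc_of% e₄]
  let z₀ : (m ≫ b).fiber (b (m z)) := (m ≫ b).asFiber z
  have hm : ((MoreMor.fiberMap m b (b (m z))).stalkMap z₀).hom.Flat :=
    Groth.Misc13.FlatBC.flat_stalkMap_baseChange (isPullback_fiberMap m b _).flip z₀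
      ((Scheme.Hom.fiberι_asFiber (m ≫ b) z).symm ▸ hz)
  have hc := flat_at_comp (MoreMor.fiberMap m b (b (m z))) qV z₀ hm (Flat.stalkMap qV _)
  rw [← e] at hc
  have hd := flat_at_of_comp qU (MoreMor.fiberMap h k (t (b (m z)))) z₀ (Flat.stalkMap qU _) hc
  have hι : (h ≫ k).fiberι (t (b (m z))) (qU z₀) = u z := by
    refine (Scheme.Hom.comp_apply _ _ _).symm.trans ?_
    exact (congrArg (fun (q : (m ≫ b).fiber (b (m z)) ⟶ U) => q z₀) qU₁).trans
      ((Scheme.Hom.comp_apply _ _ _).trans (congrArg u (Scheme.Hom.fiberι_asFiber (m ≫ b) z)))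
  exact (flat_at_iff_fibre h k (u z)).2
    ((Groth.FlatMor2.FibCrit.fiberMap_flat_iff h k _ ((h ≫ k).asFiber (u z)) (u z)
      ((h ≫ k).fiberι_asFiber (u z))).2
      ((Groth.FlatMor2.FibCrit.fiberMap_flat_iff h k _ (qU z₀) (u z) hι).1 hd))

end Groth.AlgSp2.FlatFib
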