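import Groth.Prelude.Def_AlgSpInf

/-!
Composition and base change of formally smooth / etale / unramified morphisms of sheaves.
-/

universe u

open CategoryTheory CategoryTheory.Limits AlgebraicGeometry Opposite

namespace Groth.AlgSp2

open AlgSp

variable {S : Scheme.{u}} {F G H P : Sp S}

/-- Push a lifting square for `a` forward along `b`. -/
noncomputable def pushSq {a : F ⟶ G} (sq : InfSq a) (b : G ⟶ H) : InfSq (a ≫ b) where
  A := sq.A
  I := sq.I
  sq_zero := sq.sq_zero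
  str := sq.str
  top := sq.top
  bot := sq.bot ≫ b
  comm := by rw [← Category.assoc, sq.comm, Category.assoc]

/-- The lifting square for `b` under a square for `a ≫ b`. -/
noncomputable def belowSq {a : F ⟶ G} {b : G ⟶ H} (sq : InfSq (a ≫ b)) : InfSq b where
  A := sq.A
  I := sq.I
  sq_zero := sq.sq_zero
  str := sq.str
  top := sq.top ≫ a
  bot := sq.bot
  comm := by rw [Category.assoc]; exact sq.comm

/-- The lifting square for `a` above a lift for the square below. -/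
noncomputable def aboveSq {a : F ⟶ G} {b : G ⟶ H} (sq : InfSq (a ≫ b))
    (m : (yon S).obj sq.ptT' ⟶ G) (h : (yon S).map sq.j ≫ m = sq.top ≫ a) : InfSq a where
  A := sq.A
  I := sq.I
  sq_zero := sq.sq_zero
  str := sq.str
  top := sq.top
  bot := m
  comm := h.symm

theorem smooth_comp {a : F ⟶ G} {b : G ⟶ H} (ha : IsFormallySmoothMor a)
    (hb : IsFormallySmoothMor b) : IsFormallySmoothMor (a ≫ b) := by
  intro sq
  obtain ⟨m, hm₁, hm₂⟩ := hb (belowSq sq)
  obtain ⟨l, hl₁, hl₂⟩ := ha (aboveSq sq m hm₁)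
  exact ⟨l, hl₁, (Category.assoc _ _ _).symm.trans ((congrArg (· ≫ b) hl₂).trans hm₂)⟩

theorem unramified_comp {a : F ⟶ G} {b : G ⟶ H} (ha : IsFormallyUnramifiedMor a)
    (hb : IsFormallyUnramifiedMor b) : IsFormallyUnramifiedMor (a ≫ b) := by
  intro sq l l' h₁ h₂ h₁' h₂'
  have e : l ≫ a = l' ≫ a :=
    hb (belowSq sq) (l ≫ a) (l' ≫ a)
      ((Category.assoc _ _ _).symm.trans (congrArg (· ≫ a) h₁)) ((Category.assoc _ _ _).trans h₂)
      ((Category.assoc _ _ _).symm.trans (congrArg (· ≫ a) h₁')) ((Category.assoc _ _ _).trans h₂')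
  exact ha (aboveSq sq (l ≫ a) ((Category.assoc _ _ _).symm.trans (congrArg (· ≫ a) h₁)))
    l l' h₁ rfl h₁' e.symm

theorem etale_iff {a : F ⟶ G} :
    IsFormallyEtaleMor a ↔ IsFormallySmoothMor a ∧ IsFormallyUnramifiedMor a := by
  refine ⟨fun h => ⟨fun sq => (h sq).exists, fun sq l l' h₁ h₂ h₁' h₂' => ?_⟩, fun h sq => ?_⟩
  · exact (h sq).unique ⟨h₁, h₂⟩ ⟨h₁', h₂'⟩
  · obtain ⟨l, hl⟩ := h.1 sq
    exact ⟨l, hl, fun l' hl' => h.2 sq l' l hl'.1 hl'.2 hl.1 hl.2⟩

theorem etale_comp {a : F ⟶ G} {b : G ⟶ H} (ha : IsFormallyEtaleMor a)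
    (hb : IsFormallyEtaleMor b) : IsFormallyEtaleMor (a ≫ b) :=
  etale_iff.2 ⟨smooth_comp (etale_iff.1 ha).1 (etale_iff.1 hb).1,
    unramified_comp (etale_iff.1 ha).2 (etale_iff.1 hb).2⟩

theorem unramified_of_comp {a : F ⟶ G} {b : G ⟶ H}
    (hab : IsFormallyUnramifiedMor (a ≫ b)) : IsFormallyUnramifiedMor a := by
  intro sq l l' h₁ h₂ h₁' h₂'
  exact hab (pushSq sq b) l l' h₁ ((Category.assoc _ _ _).symm.trans (congrArg (· ≫ b) h₂)) h₁'
    ((Category.assoc _ _ _).symm.trans (congrArg (· ≫ b) h₂'))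

theorem smooth_of_comp {a : F ⟶ G} {b : G ⟶ H} (hb : IsFormallyUnramifiedMor b)
    (hab : IsFormallySmoothMor (a ≫ b)) : IsFormallySmoothMor a := by
  intro sq
  obtain ⟨l, hl₁, hl₂⟩ := hab (pushSq sq b)
  refine ⟨l, hl₁, hb (belowSq (pushSq sq b)) (l ≫ a) sq.bot
    ((Category.assoc _ _ _).symm.trans (congrArg (· ≫ a) hl₁)) ((Category.assoc _ _ _).trans hl₂)
    sq.comm.symm rfl⟩

theorem etale_of_comp {a : F ⟶ G} {b : G ⟶ H} (hb : IsFormallyUnramifiedMor b)
    (hab : IsFormallyEtaleMor (a ≫ b)) : IsFormallyEtaleMor a :=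
  etale_iff.2 ⟨smooth_of_comp hb (etale_iff.1 hab).1, unramified_of_comp (etale_iff.1 hab).2⟩

section BaseChange

variable {a : F ⟶ G} {b : H ⟶ G} {b' : P ⟶ F} {a' : P ⟶ H} (hP : IsPullback b' a' a b)

/-- Push a lifting square for a base change down to the original morphism. -/
noncomputable def baseSq (sq : InfSq a') : InfSq a where
  A := sq.A
  I := sq.I
  sq_zero := sq.sq_zero
  str := sq.str
  top := sq.top ≫ b'
  bot := sq.bot ≫ b
  comm := by rw [Category.assoc, hP.w, ← Category.assoc, sq.comm, Category.assoc]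

include hP in
theorem smooth_baseChange (ha : IsFormallySmoothMor a) : IsFormallySmoothMor a' := by
  intro sq
  obtain ⟨l, hl₁, hl₂⟩ := ha (baseSq hP sq)
  refine ⟨hP.lift l sq.bot hl₂, ?_, hP.lift_snd _ _ _⟩
  refine hP.hom_ext ?_ ?_
  · exact (Category.assoc _ _ _).trans ((congrArg (_ ≫ ·) (hP.lift_fst _ _ _)).trans hl₁)
  · exact (Category.assoc _ _ _).trans ((congrArg (_ ≫ ·) (hP.lift_snd _ _ _)).trans sq.comm.symm)

include hP in
theorem unramified_baseChange (ha : IsFormallyUnramifiedMor a) : IsFormallyUnramifiedMor a' := by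
  intro sq l l' h₁ h₂ h₁' h₂'
  refine hP.hom_ext (ha (baseSq hP sq) (l ≫ b') (l' ≫ b') ?_ ?_ ?_ ?_) (h₂.trans h₂'.symm)
  · exact (Category.assoc _ _ _).symm.trans (congrArg (· ≫ b') h₁)
  · show (l ≫ b') ≫ a = sq.bot ≫ b
    rw [Category.assoc, hP.w, ← Category.assoc, h₂]
  · exact (Category.assoc _ _ _).symm.trans (congrArg (· ≫ b') h₁')
  · show (l' ≫ b') ≫ a = sq.bot ≫ b
    rw [Category.assoc, hP.w, ← Category.assoc, h₂']

end BaseChange

end Groth.AlgSp2
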