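import Groth.Agent.AlgSp2.InfSmooth
import Groth.Agent.AlgSp2.LocPFpqc
import Groth.Agent.AlgSpBasic.LocPInst
import Groth.Agent.S9447
import Groth.Agent.S1486

/-!
# Formally smooth morphisms of schemes: étale locality and fpqc descent
-/

set_option autoImplicit false
set_option backward.isDefEq.respectTransparency.types false
universe u

open CategoryTheory CategoryTheory.Limits AlgebraicGeometry AlgSp TopologicalSpace TensorProduct

namespace Groth.AlgSp2

open Groth.AlgSpBasic Groth.EtaleBase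

/-- Formally smooth morphisms of schemes. -/
abbrev FSHom : MorphismProperty Scheme.{u} := @MoreMor.IsFormallySmoothHom

theorem fsHom_comp {X Y Z : Scheme.{u}} (f : X ⟶ Y) (g : Y ⟶ Z) (hf : FSHom f) (hg : FSHom g) :
    FSHom (f ≫ g) := by
  intro A _ I hI a b w
  obtain ⟨m, hm₁, hm₂⟩ := hg A I hI (a ≫ f) b (by rw [Category.assoc, w])
  obtain ⟨l, hl₁, hl₂⟩ := hf A I hI a m hm₁
  exact ⟨l, hl₁, by rw [← Category.assoc, hl₂, hm₂]⟩

theorem fsHom_of_smooth {X Y : Scheme.{u}} (f : X ⟶ Y) [Smooth f] : FSHom f :=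
  Groth.FlatmorThree.SmoothLift.isFormallySmoothHom_of_smooth f

instance : (FSHom.{u}).IsStableUnderBaseChange where
  of_isPullback {X Y Y' S f g f' g'} sq h := by
    intro A _ I hI a b w
    obtain ⟨l, hl₁, hl₂⟩ := h A I hI (a ≫ f') (b ≫ f) (by
      rw [Category.assoc, sq.w, ← Category.assoc, w, Category.assoc])
    refine ⟨sq.lift l b hl₂, sq.hom_ext ?_ ?_, sq.lift_snd _ _ _⟩
    · rw [Category.assoc, sq.lift_fst, hl₁]
    · rw [Category.assoc, sq.lift_snd, w]

instance : (FSHom.{u}).IsStableUnderComposition where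
  comp_mem f g hf hg := fsHom_comp f g hf hg

/-- Cancellation of a formally unramified morphism. -/
theorem fsHom_of_comp {X Y Z : Scheme.{u}} (f : X ⟶ Y) (g : Y ⟶ Z) [FormallyUnramified g]
    (h : FSHom (f ≫ g)) : FSHom f := by
  intro A _ I hI a b w
  obtain ⟨l, hl₁, hl₂⟩ := h A I hI a (b ≫ g) (by rw [← Category.assoc, w, Category.assoc])
  have ht := Groth.FlatmorThree.FormalLift.isFirstOrderThickening_specMap_mk I hI
  have : IsClosedImmersion (Spec.map (CommRingCat.ofHom (Ideal.Quotient.mk I))) := ht.1.1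
  have : Surjective (Spec.map (CommRingCat.ofHom (Ideal.Quotient.mk I))) := ht.1.2
  refine ⟨l, hl₁, FormallyUnramified.hom_ext (Spec.map (CommRingCat.ofHom (Ideal.Quotient.mk I)))
    ⟨2, by rw [pow_two]; exact ht.2⟩ g ?_ ((Category.assoc _ _ _).trans hl₂)⟩
  rw [← Category.assoc, hl₁, w]

theorem formallySmooth_of_specMap {R T : CommRingCat.{u}} (φ : R ⟶ T) (h : FSHom (Spec.map φ)) :
    φ.hom.FormallySmooth := by
  let _ : Algebra R T := φ.hom.toAlgebra
  refine Algebra.FormallySmooth.of_comp_surjective fun B _ _ I hI g => ?_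
  have hg : φ ≫ CommRingCat.ofHom g.toRingHom =
      CommRingCat.ofHom (algebraMap R B) ≫ CommRingCat.ofHom (Ideal.Quotient.mk I) :=
    CommRingCat.hom_ext g.comp_algebraMap
  obtain ⟨l, hl₁, hl₂⟩ := h B I hI (Spec.map (CommRingCat.ofHom g.toRingHom))
    (Spec.map (CommRingCat.ofHom (algebraMap R B)))
    (by rw [← Spec.map_comp, ← hg, Spec.map_comp])
  obtain ⟨l, rfl⟩ := Spec.map_surjective l
  rw [← Spec.map_comp] at hl₁ hl₂
  exact ⟨⟨l.hom, fun r => congr(($(Spec.map_injective hl₂)).hom r)⟩,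
    AlgHom.ext fun t => congr(($(Spec.map_injective hl₁)).hom t)⟩

/-- Formal smoothness is local on the source. -/
theorem fsHom_of_forall_exists_opens {X Y : Scheme.{u}} (f : X ⟶ Y)
    (H : ∀ x : X, ∃ U : X.Opens, x ∈ U ∧ FSHom (U.ι ≫ f)) : FSHom f := by
  intro A _ I hI a b w
  refine Groth.FlatmorThree.SmoothLift.exists_lift f a b w hI (fun x => ?_)
    fun d s hs _ hP => Groth.FlatmorThree.projective_of_localized_span d.T.Coker s hs hP
  obtain ⟨U₀, hx, hU₀⟩ := H x
  obtain ⟨V, hV, hfx, -⟩ := Opens.isBasis_iff_nbhd.mp Y.isBasis_affineOpens (Opens.mem_top (f x))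
  obtain ⟨U, hU, hxU, e⟩ := Opens.isBasis_iff_nbhd.mp X.isBasis_affineOpens
    (show x ∈ U₀ ⊓ f ⁻¹ᵁ V from ⟨hx, hfx⟩)
  refine ⟨U, V, hU, hV, e.trans inf_le_right, hxU, ?_⟩
  let j : Spec Γ(X, U) ⟶ U₀ := IsOpenImmersion.lift U₀.ι hU.fromSpec (by
    rw [Scheme.Opens.range_ι, hU.range_fromSpec]
    exact fun z hz => (e hz).1)
  have hj : j ≫ U₀.ι = hU.fromSpec := IsOpenImmersion.lift_fac _ _ _
  have : IsOpenImmersion (j ≫ U₀.ι) := by rw [hj]; infer_instance
  have : IsOpenImmersion j := IsOpenImmersion.of_comp j U₀.ι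
  have h1 : FSHom (Spec.map (f.appLE V U (e.trans inf_le_right)) ≫ hV.fromSpec) := by
    rw [hV.SpecMap_appLE_fromSpec f hU (e.trans inf_le_right), ← hj, Category.assoc]
    exact fsHom_comp _ _ (fsHom_of_smooth j) hU₀
  have h2 := fsHom_of_comp _ _ h1
  exact formallySmooth_of_specMap _ h2

instance : IsZariskiLocalAtTarget (FSHom.{u}) := by
  have : (FSHom.{u}).RespectsIso := MorphismProperty.IsStableUnderBaseChange.respectsIso
  refine IsZariskiLocalAtTarget.mk' (fun {X Y} f U h => ?_) fun {X Y} f {ι} U hU h => ?_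
  · exact MorphismProperty.of_isPullback (isPullback_morphismRestrict f U).flip h
  · refine fsHom_of_forall_exists_opens f fun x => ?_
    obtain ⟨i, hi⟩ := Opens.mem_iSup.1 (hU.ge (Opens.mem_top (f x)))
    refine ⟨f ⁻¹ᵁ U i, hi, ?_⟩
    rw [← morphismRestrict_ι]
    exact fsHom_comp _ _ (h i) (fsHom_of_smooth _)

/-- Formal smoothness descends along flat morphisms with enough compact opens upstairs. -/
theorem fsHom_descends {X Y Y' : Scheme.{u}} (f : X ⟶ Y) (g : Y' ⟶ Y) [Flat g]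
    (hg : ∀ {T : Scheme.{u}} [IsAffine T] (i : T ⟶ Y), ∃ K : (pullback g i).Opens,
      IsCompact (K : Set ↥(pullback g i)) ∧ ∀ t, ∃ z ∈ K, pullback.snd g i z = t)
    (h : FSHom (pullback.snd f g)) : FSHom f := by
  refine (Groth.Agent.S1486.result f).2 fun U V hU hV e => ?_
  let R := Γ(Y, V)
  let T := Γ(X, U)
  let φ : R ⟶ T := f.appLE V U e
  obtain ⟨K, hK, hsurj⟩ := hg hV.fromSpec
  have : CompactSpace ↥K.toScheme := isCompact_iff_compactSpace.1 hK
  obtain ⟨W, ζ, hζs, hζe, hW⟩ :=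
    K.toScheme.exists_hom_isAffine_of_isZariskiLocalAtSource @Etale
  let j : W ⟶ Y' := ζ ≫ K.ι ≫ pullback.fst g hV.fromSpec
  obtain ⟨ψ, hψ⟩ := Spec.map_surjective (W.isoSpec.inv ≫ ζ ≫ K.ι ≫ pullback.snd g hV.fromSpec)
  have : Flat (Spec.map ψ) := by rw [hψ]; infer_instance
  have : Surjective (Spec.map ψ) := by
    rw [hψ]
    refine ⟨fun t => ?_⟩
    obtain ⟨z, hz, rfl⟩ := hsurj t
    obtain ⟨w, hw⟩ := ζ.surjective ⟨z, hz⟩
    obtain ⟨w', rfl⟩ := W.isoSpec.inv.surjective w
    exact ⟨w', congrArg (fun v : K.toScheme => pullback.snd g hV.fromSpec (K.ι v)) hw⟩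
  let j' : Spec Γ(W, ⊤) ⟶ Y' := W.isoSpec.inv ≫ j
  have hjg : j' ≫ g = Spec.map ψ ≫ hV.fromSpec := by
    rw [hψ]
    simp only [j', j, Category.assoc, pullback.condition]
  -- formal smoothness after base change
  have hfst : FSHom (pullback.fst (Spec.map ψ) (Spec.map φ)) := by
    have sq : IsPullback (pullback.snd (Spec.map ψ) (Spec.map φ))
        (pullback.fst (Spec.map ψ) (Spec.map φ)) (hU.fromSpec ≫ f) (j' ≫ g) := by
      rw [hjg, ← hV.SpecMap_appLE_fromSpec f hU e]
      refine ⟨⟨by rw [← pullback.condition_assoc]⟩, ⟨PullbackCone.IsLimit.mk _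
        (fun s => pullback.lift s.snd s.fst ((cancel_mono hV.fromSpec).1 (by
          rw [Category.assoc, Category.assoc]; exact s.condition.symm)))
        (fun s => pullback.lift_snd _ _ _) (fun s => pullback.lift_fst _ _ _)
        fun s m h₁ h₂ => pullback.hom_ext (by rw [pullback.lift_fst, h₂])
          (by rw [pullback.lift_snd, h₁])⟩⟩
    have hP : FSHom (pullback.snd f (j' ≫ g)) := by
      have hp := (IsPullback.of_hasPullback (pullback.snd f g) j').paste_horiz
        (IsPullback.of_hasPullback f g).flip.flip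
      rw [← hp.isoPullback_inv_snd]
      exact fsHom_comp _ _ (fsHom_of_smooth _) (MorphismProperty.pullback_snd _ _ h)
    let m := pullback.lift (pullback.snd (Spec.map ψ) (Spec.map φ) ≫ hU.fromSpec)
      (pullback.fst (Spec.map ψ) (Spec.map φ)) ((Category.assoc _ _ _).trans sq.w)
    have hm : IsPullback (pullback.snd (Spec.map ψ) (Spec.map φ)) m hU.fromSpec
        (pullback.fst f (j' ≫ g)) :=
      IsPullback.of_bot (by rw [pullback.lift_snd]; exact sq) (pullback.lift_fst _ _ _).symm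
        (IsPullback.of_hasPullback f (j' ≫ g))
    have : IsOpenImmersion m := MorphismProperty.of_isPullback hm inferInstance
    rw [show pullback.fst (Spec.map ψ) (Spec.map φ) = m ≫ pullback.snd f (j' ≫ g) from
      (pullback.lift_snd _ _ _).symm]
    exact fsHom_comp _ _ (fsHom_of_smooth m) hP
  algebraize [φ.hom, ψ.hom]
  have : Module.Flat R Γ(W, ⊤) := (HasRingHomProperty.Spec_iff (P := @Flat)).1 ‹Flat (Spec.map ψ)›
  have : Module.FaithfullyFlat R Γ(W, ⊤) :=
    Module.FaithfullyFlat.of_comap_surjective fun x => (‹Surjective (Spec.map ψ)›).surj x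
  rw [Groth.Agent.S9447.result R T Γ(W, ⊤)]
  have h2 : FSHom (Spec.map (CommRingCat.ofHom
      (algebraMap Γ(W, ⊤) (Γ(W, ⊤) ⊗[R] T)))) := by
    refine Eq.mp ?_ (fsHom_comp (pullbackSpecIso R Γ(W, ⊤) T).inv _ (fsHom_of_smooth _) hfst)
    exact congrArg (fun z => FSHom z) (pullbackSpecIso_inv_fst R Γ(W, ⊤) T)
  exact RingHom.formallySmooth_algebraMap.1 (formallySmooth_of_specMap _ h2)

instance : (FSHom.{u}).DescendsAlong Fpqc := by
  have : (FSHom.{u}).RespectsIso := MorphismProperty.IsStableUnderBaseChange.respectsIso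
  refine MorphismProperty.DescendsAlong.mk' fun {X Y Z f g} _ hf h => ?_
  obtain ⟨⟨hs, hfl⟩, hqc⟩ := hf
  refine fsHom_descends g f (fun {T} _ i => ?_) ?_
  · have : Surjective (pullback.snd f i) := inferInstance
    have : CompactSpace ↥(pullback f i) := QuasiCompact.compactSpace_of_compactSpace (pullback.snd f i)
    exact ⟨⊤, CompactSpace.isCompact_univ, fun t =>
      let ⟨z, hz⟩ := (pullback.snd f i).surjective t
      ⟨z, trivial, hz⟩⟩
  · rw [← pullbackSymmetry_hom_comp_fst]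
    exact fsHom_comp _ _ (fsHom_of_smooth _) h

instance : (FSHom.{u}).DescendsAlong (@Surjective ⊓ @Flat ⊓ @LocallyOfFinitePresentation) := by
  have : (FSHom.{u}).RespectsIso := MorphismProperty.IsStableUnderBaseChange.respectsIso
  refine MorphismProperty.DescendsAlong.mk' fun {X Y Z f g} _ hf h => ?_
  obtain ⟨⟨hs, hfl⟩, hlfp⟩ := hf
  refine fsHom_descends g f (fun {T} _ i => ?_) ?_
  · let k := pullback.snd f i
    have : Surjective k := inferInstance
    let 𝒰 := (pullback f i).affineCover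
    have hcov : (Set.univ : Set T) ⊆ ⋃ n, k '' ((𝒰.f n).opensRange : Set ↥(pullback f i)) := by
      intro x _
      obtain ⟨w, rfl⟩ := k.surjective x
      obtain ⟨n, y, hy⟩ := 𝒰.exists_eq w
      exact Set.mem_iUnion.2 ⟨n, w, ⟨y, hy⟩, rfl⟩
    obtain ⟨t, ht⟩ := isCompact_univ.elim_finite_subcover _
      (fun n => k.isOpenMap _ (𝒰.f n).opensRange.isOpen) hcov
    refine ⟨⨆ n ∈ t, (𝒰.f n).opensRange, ?_, fun x => ?_⟩
    · simp only [Opens.coe_iSup]
      exact t.finite_toSet.isCompact_biUnion fun n _ => isCompact_range (𝒰.f n).continuous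
    · obtain ⟨n, hn, z, hz, rfl⟩ := Set.mem_iUnion₂.1 (ht (Set.mem_univ x))
      refine ⟨z, ?_, rfl⟩
      simp only [Opens.mem_iSup]
      exact ⟨n, hn, hz⟩
  · rw [← pullbackSymmetry_hom_comp_fst]
    exact fsHom_comp _ _ (fsHom_of_smooth _) h

instance : EtaleLocal (FSHom.{u}) where
  of_etale _ _ f hf := fsHom_of_smooth f
  localAtTarget := isLocalAtTarget_fppf _
  of_comp_surjective A B C χ h hχ hs H := by
    let V : Over C := Over.mk (𝟙 C)
    let U : Over C := Over.mk h
    let W : Over C := Over.mk (χ ≫ h)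
    let k : W ⟶ U := Over.homMk χ rfl
    let l : U ⟶ V := Over.homMk h (Category.comp_id _)
    refine (Inf.smooth_yon_iff l).1 (Inf.smooth_of_precomp ((yon C).map k)
      ((repWith_yon_map_iff _ k).2 hχ) ((repWith_yon_map_iff _ k).2 hs)
      (representable_of_yon _) ?_)
    rw [← Functor.map_comp]
    exact (Inf.smooth_yon_iff (k ≫ l)).2 H

theorem isLocalOnBase_fpqc_isFormallySmoothMor {S : Scheme.{u}} :
    IsLocalOnBase (IsFpqcCover (S := S)) IsFormallySmoothMor := by
  intro ι Y Yi g hY hYi hg X f hX Xi p q hXi hsq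
  rw [Inf.smooth_iff_locP hX hY,
    isLocalOnBase_fpqc_locP FSHom Yi g hY hYi hg f hX Xi p q hXi hsq]
  exact forall_congr' fun i => (Inf.smooth_iff_locP (hXi i) (hYi i)).symm

end Groth.AlgSp2
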