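import Groth.Agent.AlgSp2.FppfProps
import Groth.Agent.AlgSp2.LocPFpqc
import Groth.Agent.StkGerb.SchRetract
import Groth.Agent.FppfSmooth.Basic

/-!
# Properties of morphisms of algebraic spaces descending on the source along fppf surjections
-/

set_option autoImplicit false
set_option backward.isDefEq.respectTransparency.types false
universe u

open CategoryTheory CategoryTheory.Limits AlgebraicGeometry AlgSp

namespace Groth.AlgSp2

open Groth.AlgSpBasic

noncomputable section

/-- Local finite type descends along a section. -/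
theorem lft_of_section {Q W U : Scheme.{u}} (p : Q ⟶ W) (s : W ⟶ Q) (hs : s ≫ p = 𝟙 W) (g : W ⟶ U)
    [LocallyOfFiniteType (p ≫ g)] : LocallyOfFiniteType g := by
  have : LocallyOfFiniteType p := locallyOfFiniteType_of_comp p g
  have : LocallyOfFinitePresentation (s ≫ p) := by rw [hs]; infer_instance
  have : LocallyOfFinitePresentation s := Groth.PropsBasic2.lfp_of_comp s p
  rw [← Category.id_comp g, ← hs, Category.assoc]
  infer_instance

/-- Descent along an fppf-locally split map of schemes. -/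
theorem of_locally_split (P : MorphismProperty Scheme.{u})
    (hP₁ : ∀ {A B C : Scheme.{u}} (f : A ⟶ B) (g : B ⟶ C), Flat f → LocallyOfFinitePresentation f →
      P g → P (f ≫ g))
    (hP₂ : ∀ {Q W U : Scheme.{u}} (p : Q ⟶ W) (s : W ⟶ Q) (_ : s ≫ p = 𝟙 W) (g : W ⟶ U),
      P (p ≫ g) → P g)
    (hP₃ : ∀ {A B C : Scheme.{u}} (f : A ⟶ B) (g : B ⟶ C), Flat f → LocallyOfFinitePresentation f →
      Surjective f → P (f ≫ g) → P g)
    {T A V U : Scheme.{u}} (e : T ⟶ V) [Flat e] [LocallyOfFinitePresentation e] [Surjective e]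
    (α : A ⟶ V) (m : T ⟶ A) (hm : m ≫ α = e) (k : V ⟶ U) (h : P (α ≫ k)) : P k := by
  refine hP₃ e k ‹_› ‹_› ‹_› (hP₂ (pullback.snd α e) (pullback.lift m (𝟙 T) (by simp [hm]))
    (pullback.lift_snd _ _ _) (e ≫ k) ?_)
  rw [← Category.assoc, ← pullback.condition, Category.assoc]
  exact hP₁ _ _ (inferInstance) (inferInstance) h

variable {S : Scheme.{u}} {X Y Z : Sp S}

/-- Properties of a composite with a surjection of fppf sheaves pass to the second map. -/
theorem locP_of_comp_isLocallySurjective (P : MorphismProperty Scheme.{u}) [EtaleLocal P]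
    (hP₁ : ∀ {A B C : Scheme.{u}} (f : A ⟶ B) (g : B ⟶ C), Flat f → LocallyOfFinitePresentation f →
      P g → P (f ≫ g))
    (hP₂ : ∀ {Q W U : Scheme.{u}} (p : Q ⟶ W) (s : W ⟶ Q) (_ : s ≫ p = 𝟙 W) (g : W ⟶ U),
      P (p ≫ g) → P g)
    (hP₃ : ∀ {A B C : Scheme.{u}} (f : A ⟶ B) (g : B ⟶ C), Flat f → LocallyOfFinitePresentation f →
      Surjective f → P (f ≫ g) → P g)
    (hX : IsAlgSpace X) (hY : IsAlgSpace Y) (hZ : IsAlgSpace Z) (g : X ⟶ Y) (h : Y ⟶ Z)
    [Sheaf.IsLocallySurjective g] (hgh : LocP P (g ≫ h)) : LocP P h := by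
  obtain ⟨V, U, b, c, k, hb, hbs, hc, -, comm⟩ := exists_charts hY hZ h
  refine locP_of_chart hY.diag hZ.diag hb hbs hc comm ?_
  have sq := IsPullback.of_hasPullback g b
  have hG : IsAlgSpace (pullback g b) := isAlgSpace_of_isPullback sq hY.diag hX (IsAlgSpace.yon_obj V)
  obtain ⟨A, a, ha, has⟩ := hG.atlas
  obtain ⟨α, hα⟩ := (yon S).map_surjective (a ≫ pullback.snd g b)
  have hα' : P (α ≫ k).left := hgh (a ≫ pullback.fst g b) c _
    (repWith_comp ha (repWith_of_isPullback sq.flip hb)) hc (by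
      rw [Category.assoc, ← Category.assoc (pullback.fst g b), pullback.condition, Category.assoc, comm,
        ← Category.assoc, ← Category.assoc, ← hα, ← Functor.map_comp])
  -- local lifts
  obtain ⟨C, hC, hl⟩ := exists_local_lift g b
  obtain ⟨ι, T, i, rfl⟩ := C.exists_eq_ofArrows
  rw [Scheme.fppfPrecoverage, Scheme.ofArrows_mem_precoverage_iff] at hC
  have key : ∀ n, ∃ (T' : Scheme.{u}) (w : T' ⟶ T n) (m : T' ⟶ A.left), Etale w ∧ Surjective w ∧
      m ≫ α.left = w ≫ i n := by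
    intro n
    obtain ⟨l, hl⟩ := hl (i n) (Presieve.ofArrows.mk n)
    let lG : (yon S).obj (Over.mk (i n ≫ V.hom)) ⟶ pullback g b := sq.lift l _ hl
    obtain ⟨T', w, m, sqT⟩ := ha.rep lG
    obtain ⟨m, rfl⟩ := (yon S).map_surjective m
    refine ⟨T'.left, w.left, m.left, ha.property _ _ _ sqT, has.property _ _ _ sqT, ?_⟩
    have e : m ≫ α = w ≫ (Over.homMk (i n) : Over.mk (i n ≫ V.hom) ⟶ V) := by
      refine (yon S).map_injective ?_
      rw [Functor.map_comp, hα, ← Category.assoc, sqT.w, Category.assoc, sq.lift_snd, ← Functor.map_comp]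
    exact congrArg CommaMorphism.left e
  choose T₀ w₀ m₀ hwe₀ hws₀ hm₀ using key
  choose ν hν using hC.1
  -- a small reindexing
  let T' : V.left → Scheme.{u} := fun x => T₀ (ν x)
  let w : ∀ x, T' x ⟶ T (ν x) := fun x => w₀ (ν x)
  let m : ∀ x, T' x ⟶ A.left := fun x => m₀ (ν x)
  let e : (∐ T') ⟶ V.left := Sigma.desc fun n => w n ≫ i (ν n)
  have hι : ∀ n, (sigmaOpenCover T').f n ≫ e = w n ≫ i (ν n) := fun n => Sigma.ι_desc _ _
  have : Flat e := (IsZariskiLocalAtSource.iff_of_openCover (P := @Flat) (sigmaOpenCover T')).2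
    fun n => by
      rw [hι]
      have : Etale (w n) := hwe₀ (ν n)
      exact MorphismProperty.comp_mem @Flat (w n) (i (ν n)) inferInstance (hC.2 (ν n)).1
  have : LocallyOfFinitePresentation e := (IsZariskiLocalAtSource.iff_of_openCover
    (P := @LocallyOfFinitePresentation) (sigmaOpenCover T')).2 fun n => by
      rw [hι]
      have : Etale (w n) := hwe₀ (ν n)
      exact MorphismProperty.comp_mem @LocallyOfFinitePresentation (w n) (i (ν n)) inferInstance
        (hC.2 (ν n)).2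
  have : Surjective e := ⟨fun x => by
    obtain ⟨z, hz⟩ := hν x
    obtain ⟨z', rfl⟩ := (hws₀ (ν x)).surj z
    exact ⟨(sigmaOpenCover T').f x z', by rw [← Scheme.Hom.comp_apply, hι]; exact hz⟩⟩
  refine of_locally_split P hP₁ hP₂ hP₃ e α.left (Sigma.desc m) (Sigma.hom_ext _ _ fun n => ?_) k.left hα'
  rw [Sigma.ι_desc_assoc, Sigma.ι_desc]
  exact hm₀ (ν n)

theorem locP_flat_lft_lfp_of_comp (hX : IsAlgSpace X) (hY : IsAlgSpace Y) (hZ : IsAlgSpace Z)
    (g : X ⟶ Y) (h : Y ⟶ Z) (hg : Sheaf.IsLocallySurjective g) :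
    (LocP @Flat (g ≫ h) → LocP @Flat h) ∧
    (LocP @LocallyOfFiniteType (g ≫ h) → LocP @LocallyOfFiniteType h) ∧
    (LocP @LocallyOfFinitePresentation (g ≫ h) → LocP @LocallyOfFinitePresentation h) := by
  refine ⟨locP_of_comp_isLocallySurjective @Flat ?_ ?_ ?_ hX hY hZ g h,
    locP_of_comp_isLocallySurjective @LocallyOfFiniteType ?_ ?_ ?_ hX hY hZ g h,
    locP_of_comp_isLocallySurjective @LocallyOfFinitePresentation ?_ ?_ ?_ hX hY hZ g h⟩
  · intro A B C f g _ _ _; exact (inferInstance : Flat (f ≫ g))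
  · intro Q W U p s hs g _; exact Groth.StkGerb.flat_of_section p s hs g
  · intro A B C f g _ _ _ _; exact Groth.FlatMor2.flat_of_comp_surjective f g
  · intro A B C f g _ _ _; exact (inferInstance : LocallyOfFiniteType (f ≫ g))
  · intro Q W U p s hs g _; exact lft_of_section p s hs g
  · intro A B C f g _ _ _ _; exact Groth.GitQuot.FppfSource.locallyOfFiniteType_of_fppf f g
  · intro A B C f g _ _ _; exact (inferInstance : LocallyOfFinitePresentation (f ≫ g))
  · intro Q W U p s hs g _; exact Groth.StkGerb.lfp_of_section p s hs g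
  · intro A B C f g _ _ _ _; exact Groth.GitQuot.FppfSource.locallyOfFinitePresentation_of_fppf f g

/-- Chart-level descent along fppf surjections. -/
theorem locP_of_fppf_comp (P : MorphismProperty Scheme.{u}) [EtaleLocal P]
    (hP : ∀ {A B C : Scheme.{u}} (f : A ⟶ B) (g : B ⟶ C), Flat f → LocallyOfFinitePresentation f →
      Surjective f → P (f ≫ g) → P g)
    (hX : IsAlgSpace X) (hY : IsAlgSpace Y) (hZ : IsAlgSpace Z) (f : X ⟶ Y) (q : Y ⟶ Z)
    (hs : IsSurjectiveMor f) (hfl : LocP @Flat f) (hfp : LocP @LocallyOfFinitePresentation f)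
    (h : LocP P (f ≫ q)) : LocP P q := by
  obtain ⟨V, U, b, c, k, hb, hbs, hc, -, commk⟩ := exists_charts hY hZ q
  obtain ⟨U₀, φ, hφ, hφs⟩ := hX.atlas
  obtain ⟨W, u₁, u₂, -, ha, -, comm, hsurj⟩ := exists_chart_pair (f := f) hX hY hφ hφs hb hbs
  have hc2 : P (u₂ ≫ k).left := h _ c _ ha hc (by
    rw [← Category.assoc, comm, Category.assoc, commk, Functor.map_comp, Category.assoc])
  exact locP_of_chart hY.diag hZ.diag hb hbs hc commk
    (hP u₂.left k.left (hfl _ b u₂ ha hb comm) (hfp _ b u₂ ha hb comm) (hsurj hs) hc2)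

theorem fppf_comp (hX : IsAlgSpace X) (hY : IsAlgSpace Y) (hZ : IsAlgSpace Z) (f : X ⟶ Y) (q : Y ⟶ Z)
    (hs : IsSurjectiveMor f) (hfl : LocP @Flat f) (hfp : LocP @LocallyOfFinitePresentation f) :
    ((LocP @LocallyOfFinitePresentation (f ≫ q) → LocP @LocallyOfFinitePresentation q) ∧
      (LocP @LocallyOfFiniteType (f ≫ q) → LocP @LocallyOfFiniteType q)) ∧
    ((LocP @Smooth (f ≫ q) → LocP @Smooth q) ∧ (IsEtaleMor (f ≫ q) → IsEtaleMor q)) :=
  ⟨⟨locP_of_fppf_comp @LocallyOfFinitePresentation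
      (fun f g _ _ _ _ => Groth.GitQuot.FppfSource.locallyOfFinitePresentation_of_fppf f g)
      hX hY hZ f q hs hfl hfp,
    locP_of_fppf_comp @LocallyOfFiniteType
      (fun f g _ _ _ _ => Groth.GitQuot.FppfSource.locallyOfFiniteType_of_fppf f g)
      hX hY hZ f q hs hfl hfp⟩,
   locP_of_fppf_comp @Smooth (fun f g _ _ _ _ => Groth.FppfSmooth.smooth_of_fppf f g)
      hX hY hZ f q hs hfl hfp,
   fun he => isEtaleMor_of_locP hZ (locP_of_fppf_comp @Etale
      (fun f g _ _ _ _ => Groth.FppfSmooth.etale_of_fppf f g) hX hY hZ f q hs hfl hfp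
      (locP_of_isEtaleMor he))⟩

end

end Groth.AlgSp2
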