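import Groth.Agent.AlgSp2.LocPSource
import Groth.Agent.AlgSp2.LocPFpqc
import Groth.Agent.AlgSp2.FppfSource

/-!
# Finite presentation and finite type are fppf local on the source
-/

set_option autoImplicit false
set_option backward.isDefEq.respectTransparency.types false
universe u

open CategoryTheory CategoryTheory.Limits AlgebraicGeometry AlgSp

namespace Groth.AlgSp2

open Groth.AlgSpBasic

variable {S : Scheme.{u}}

theorem isLocalOnSource_fppf_lfp :
    IsLocalOnSource (IsFppfCover (S := S)) (LocP @LocallyOfFinitePresentation) :=
  have : MorphismProperty.IsLocalAtSource (@LocallyOfFinitePresentation : MorphismProperty Scheme.{u})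
      Scheme.fppfPrecoverage :=
    isLocalAtSource_precoverage @LocallyOfFinitePresentation.{u}
      (@Flat ⊓ @LocallyOfFinitePresentation) (fun _ _ _ h => h.2)
      (fun _ _ _ χ h (hχ : Flat χ ∧ LocallyOfFinitePresentation χ) (_ : Surjective χ)
          (_ : LocallyOfFinitePresentation (χ ≫ h)) =>
        have := hχ.1
        have := hχ.2
        Groth.GitQuot.FppfSource.locallyOfFinitePresentation_of_fppf χ h)
  isLocalOnSource_fppf_locP _

theorem isLocalOnSource_fppf_lft :
    IsLocalOnSource (IsFppfCover (S := S)) (LocP @LocallyOfFiniteType) :=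
  have : MorphismProperty.IsLocalAtSource (@LocallyOfFiniteType : MorphismProperty Scheme.{u})
      Scheme.fppfPrecoverage :=
    isLocalAtSource_precoverage @LocallyOfFiniteType.{u}
      (@Flat ⊓ @LocallyOfFinitePresentation)
      (fun _ _ k h => have := h.2; (inferInstance : LocallyOfFiniteType k))
      (fun _ _ _ χ h (hχ : Flat χ ∧ LocallyOfFinitePresentation χ) (_ : Surjective χ)
          (_ : LocallyOfFiniteType (χ ≫ h)) =>
        have := hχ.1
        have := hχ.2
        Groth.GitQuot.FppfSource.locallyOfFiniteType_of_fppf χ h)
  isLocalOnSource_fppf_locP _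

end Groth.AlgSp2
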