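import Groth.Prelude.Def_AlgSpCov
import Groth.Agent.AlgSpBasic.Compact
import Groth.Agent.AlgSpBasic.AlgSpace
import Groth.Agent.AlgSp2.DecencyDescent
import Mathlib.AlgebraicGeometry.Morphisms.Flat

/-!
# Topological properties are fpqc local on the base
-/

set_option autoImplicit false
set_option backward.isDefEq.respectTransparency.types false
universe u

open CategoryTheory CategoryTheory.Limits AlgebraicGeometry Opposite AlgSp Topology

namespace Groth.AlgSp2

open Groth.AlgSpBasic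

noncomputable section

variable {S : Scheme.{u}}

theorem univSp_baseChange {Q : MorphismProperty (Sp S)} {X Y X' Y' : Sp S} {f : X ⟶ Y}
    {g : Y' ⟶ Y} {f' : X' ⟶ Y'} {g' : X' ⟶ X} (sq : IsPullback g' f' f g) (h : UnivSp Q f) :
    UnivSp Q f' := fun Z Z' hZ φ fst snd sq' => h hZ (φ ≫ g) _ snd (sq'.paste_horiz sq)

theorem isQuasiCompactMor_baseChange {X Y X' Y' : Sp S} {f : X ⟶ Y}
    {g : Y' ⟶ Y} {f' : X' ⟶ Y'} {g' : X' ⟶ X} (sq : IsPullback g' f' f g)
    (h : IsQuasiCompactMor f) : IsQuasiCompactMor f' :=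
  fun Z Z' hZ hq φ fst snd sq' => h hZ hq (φ ≫ g) _ snd (sq'.paste_horiz sq)

/-- A family of morphisms from affine schemes over an affine `T`, flat and jointly surjective. -/
structure AffCover {T : Over S} where
  m : ℕ
  W : Fin m → Over S
  c : ∀ j, W j ⟶ T
  affine : ∀ j, IsAffine (W j).left
  flat : ∀ j, Flat (c j).left
  surj : ∀ t : ↥T.left, ∃ j, t ∈ Set.range (c j).left

theorem AffCover.isOpen_iff {T : Over S} [IsAffine T.left] (𝒲 : AffCover (T := T))
    {s : Set ↥T.left} : IsOpen s ↔ ∀ j, IsOpen ((𝒲.c j).left ⁻¹' s) := by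
  refine ⟨fun h j => h.preimage (𝒲.c j).left.continuous, fun h => ?_⟩
  have := 𝒲.affine
  let d : (∐ fun j => (𝒲.W j).left) ⟶ T.left := Sigma.desc fun j => (𝒲.c j).left
  have e : ∀ j, Sigma.ι (fun j => (𝒲.W j).left) j ≫ d = (𝒲.c j).left := fun j => Sigma.ι_desc _ _
  have : Surjective d := ⟨fun t => by
    obtain ⟨j, w, hw⟩ := 𝒲.surj t
    exact ⟨Sigma.ι (fun j => (𝒲.W j).left) j w, by rw [← Scheme.Hom.comp_apply, e, hw]⟩⟩
  have : Flat d := by
    rw [IsZariskiLocalAtSource.iff_of_openCover (P := @Flat) (sigmaOpenCover _)]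
    intro j
    rw [show (sigmaOpenCover fun j => (𝒲.W j).left).f j ≫ d = (𝒲.c j).left from e j]
    exact 𝒲.flat j
  rw [← (Flat.isQuotientMap_of_surjective d).isOpen_preimage]
  have key : d ⁻¹' s = ⋃ j, (Sigma.ι (fun j => (𝒲.W j).left) j) '' ((𝒲.c j).left ⁻¹' s) := by
    ext z
    constructor
    · intro hz
      obtain ⟨j, w, rfl⟩ := (sigmaOpenCover fun j => (𝒲.W j).left).exists_eq z
      refine Set.mem_iUnion.2 ⟨j, w, ?_, rfl⟩
      rw [Set.mem_preimage, ← e j, Scheme.Hom.comp_apply]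
      exact hz
    · intro hz
      obtain ⟨j, w, hw, rfl⟩ := Set.mem_iUnion.1 hz
      rw [Set.mem_preimage, ← Scheme.Hom.comp_apply, e]
      exact hw
  rw [key]
  exact isOpen_iUnion fun j =>
    ((sigmaOpenCover fun j => (𝒲.W j).left).f j).isOpenEmbedding.isOpenMap _ (h j)

variable {ι : Type u} {X Y : Sp S} {Yi Xi : ι → Sp S} {g : ∀ i, Yi i ⟶ Y} {f : X ⟶ Y}
  {p : ∀ i, Xi i ⟶ Yi i} {q : ∀ i, Xi i ⟶ X}

/-- Above a map from an affine scheme, base changes of `f` are covered by base changes of the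
`p i`. -/
theorem exists_affCover (hg : IsFpqcCover Yi g) (hsq : ∀ i, IsPullback (q i) (p i) f (g i))
    {Z Z' : Sp S} (a : Z ⟶ Y) {fst : Z' ⟶ X} {snd : Z' ⟶ Z} (sq : IsPullback fst snd f a)
    {T : Over S} (hT : IsAffine T.left) (φ : (yon S).obj T ⟶ Z) :
    ∃ 𝒲 : AffCover (T := T), ∀ j, ∃ (i : ι) (l : (yon S).obj (𝒲.W j) ⟶ Yi i)
      (l' : pullback snd ((yon S).map (𝒲.c j) ≫ φ) ⟶ Xi i),
      IsPullback l' (pullback.snd snd ((yon S).map (𝒲.c j) ≫ φ)) (p i) l := by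
  obtain ⟨m, W, c, hW, hc, hs, hl⟩ := hg.2 T hT (φ ≫ a)
  refine ⟨⟨m, W, c, hW, hc, hs⟩, fun j => ?_⟩
  obtain ⟨i, l, hl⟩ := hl j
  have out : IsPullback (pullback.fst snd ((yon S).map (c j) ≫ φ) ≫ fst)
      (pullback.snd snd ((yon S).map (c j) ≫ φ)) f (l ≫ g i) := by
    rw [hl, ← Category.assoc]
    exact (IsPullback.of_hasPullback snd _).paste_horiz sq
  refine ⟨i, l, (hsq i).lift (pullback.fst snd _ ≫ fst) (pullback.snd snd _ ≫ l)
    (by rw [Category.assoc]; exact out.w.trans rfl), ?_⟩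
  refine IsPullback.of_right ?_ ((hsq i).lift_snd _ _ _) (hsq i)
  rw [(hsq i).lift_fst]
  exact out

theorem isOpen_image_iff {Z Z' P : Sp S} {snd : Z' ⟶ Z} {T : Over S} {φ : (yon S).obj T ⟶ Z}
    {pf : P ⟶ Z'} {ps : P ⟶ (yon S).obj T} (sq : IsPullback pf ps snd φ) (E : Set (Points Z')) :
    Points.ofPt φ ⁻¹' (Points.map snd '' E) =
      Points.schemeHomeo T ⁻¹' (Points.map ps '' (Points.map pf ⁻¹' E)) := by
  ext t
  constructor
  · rintro ⟨x, hx, e⟩
    obtain ⟨a, ha, hb⟩ := Groth.AlgSpBasic.exists_point_of_isPullback sq x (Points.schemeHomeo T t)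
      (e.trans (Points.ofPt_eq_map_ofScheme φ t))
    exact ⟨a, (congrArg (· ∈ E) ha).mpr hx, hb⟩
  · rintro ⟨a, ha, hb⟩
    refine ⟨Points.map pf a, ha, ?_⟩
    rw [← Points.map_comp, sq.w, Points.map_comp, hb]
    exact (Points.ofPt_eq_map_ofScheme φ t).symm

theorem isOpen_points_of_affine {Z : Sp S} (hZ : IsAlgSpace Z) {A : Set (Points Z)}
    (h : ∀ (T : Over S) (φ : (yon S).obj T ⟶ Z), IsAffine T.left → IsOpen (Points.ofPt φ ⁻¹' A)) :
    IsOpen A := by
  obtain ⟨U, φ, he, hs⟩ := hZ.atlas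
  rw [← (isQuotientMap_ofPt he hs).isOpen_preimage]
  have key : Points.ofPt φ ⁻¹' A = ⋃ k, U.left.affineCover.f k ''
      (U.left.affineCover.f k ⁻¹' (Points.ofPt φ ⁻¹' A)) := by
    refine Set.Subset.antisymm (fun x hx => ?_)
      (Set.iUnion_subset fun k => Set.image_preimage_subset _ _)
    obtain ⟨k, w, rfl⟩ := U.left.affineCover.exists_eq x
    exact Set.mem_iUnion.2 ⟨k, w, hx, rfl⟩
  rw [key]
  refine isOpen_iUnion fun k => (U.left.affineCover.f k).isOpenEmbedding.isOpenMap _ ?_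
  let T : Over S := Over.mk (U.left.affineCover.f k ≫ U.hom)
  let t : T ⟶ U := Over.homMk (U.left.affineCover.f k) rfl
  have h1 := h T ((yon S).map t ≫ φ) (inferInstanceAs (IsAffine (U.left.affineCover.X k)))
  rw [show Points.ofPt ((yon S).map t ≫ φ) = Points.ofPt φ ∘ t.left from
    funext fun x => ofPt_comp_yon t φ x] at h1
  exact h1

theorem isOpen_preimage_of_affCover {Z : Sp S} {T : Over S} [IsAffine T.left]
    (φ : (yon S).obj T ⟶ Z) (𝒲 : AffCover (T := T)) (A : Set (Points Z))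
    (h : ∀ j, IsOpen (Points.ofPt ((yon S).map (𝒲.c j) ≫ φ) ⁻¹' A)) :
    IsOpen (Points.ofPt φ ⁻¹' A) := by
  refine 𝒲.isOpen_iff.2 fun j => ?_
  have := h j
  rwa [show Points.ofPt ((yon S).map (𝒲.c j) ≫ φ) = Points.ofPt φ ∘ (𝒲.c j).left from
    funext fun x => ofPt_comp_yon _ φ x] at this

theorem univOpen_of_cover (hg : IsFpqcCover Yi g) (hsq : ∀ i, IsPullback (q i) (p i) f (g i))
    (hp : ∀ i, IsUnivOpenMor (p i)) : IsUnivOpenMor f := by
  intro Z Z' hZ a fst snd sq E hE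
  refine isOpen_points_of_affine hZ fun T φ hT => ?_
  obtain ⟨𝒲, h𝒲⟩ := exists_affCover hg hsq a sq hT φ
  refine isOpen_preimage_of_affCover φ 𝒲 _ fun j => ?_
  obtain ⟨i, l, l', sq'⟩ := h𝒲 j
  rw [isOpen_image_iff (IsPullback.of_hasPullback snd ((yon S).map (𝒲.c j) ≫ φ)) E]
  exact (Points.schemeHomeo _).isOpen_preimage.2
    (hp i (IsAlgSpace.yon_obj _) l l' _ sq' _ (hE.preimage (Points.continuous_map _)))

theorem univClosed_of_cover (hg : IsFpqcCover Yi g) (hsq : ∀ i, IsPullback (q i) (p i) f (g i))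
    (hp : ∀ i, IsUnivClosedMor (p i)) : IsUnivClosedMor f := by
  intro Z Z' hZ a fst snd sq E hE
  rw [← isOpen_compl_iff]
  refine isOpen_points_of_affine hZ fun T φ hT => ?_
  obtain ⟨𝒲, h𝒲⟩ := exists_affCover hg hsq a sq hT φ
  refine isOpen_preimage_of_affCover φ 𝒲 _ fun j => ?_
  obtain ⟨i, l, l', sq'⟩ := h𝒲 j
  rw [Set.preimage_compl, isOpen_compl_iff,
    isOpen_image_iff (IsPullback.of_hasPullback snd ((yon S).map (𝒲.c j) ≫ φ)) E]
  exact (Points.schemeHomeo _).isClosed_preimage.2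
    (hp i (IsAlgSpace.yon_obj _) l l' _ sq' _ (hE.preimage (Points.continuous_map _)))

/-- Lifting a point of `Z` to one of the covers. -/
theorem exists_point_cover (hg : IsFpqcCover Yi g) (hsq : ∀ i, IsPullback (q i) (p i) f (g i))
    {Z Z' : Sp S} (hZ : IsAlgSpace Z) (a : Z ⟶ Y) {fst : Z' ⟶ X} {snd : Z' ⟶ Z}
    (sq : IsPullback fst snd f a) (z : Points Z) :
    ∃ (W : Over S) (v : (yon S).obj W ⟶ Z) (w : Points ((yon S).obj W)) (i : ι)
      (l : (yon S).obj W ⟶ Yi i) (l' : pullback snd v ⟶ Xi i),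
      Points.map v w = z ∧ IsPullback l' (pullback.snd snd v) (p i) l := by
  obtain ⟨U, φ, -, hs⟩ := hZ.atlas
  obtain ⟨u, rfl⟩ := surjective_ofPt_of_repWith hs z
  obtain ⟨k, x, rfl⟩ := U.left.affineCover.exists_eq u
  let T : Over S := Over.mk (U.left.affineCover.f k ≫ U.hom)
  let t : T ⟶ U := Over.homMk (U.left.affineCover.f k) rfl
  obtain ⟨𝒲, h𝒲⟩ := exists_affCover hg hsq a sq (T := T)
    (inferInstanceAs (IsAffine (U.left.affineCover.X k))) ((yon S).map t ≫ φ)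
  obtain ⟨j, y, hy⟩ := 𝒲.surj x
  obtain ⟨i, l, l', sq'⟩ := h𝒲 j
  refine ⟨_, _, Points.ofScheme _ y, i, l, l', ?_, sq'⟩
  rw [← Points.ofPt_eq_map_ofScheme, ofPt_comp_yon, hy, ofPt_comp_yon]
  rfl

theorem univInjective_of_cover (hg : IsFpqcCover Yi g) (hsq : ∀ i, IsPullback (q i) (p i) f (g i))
    (hp : ∀ i, IsUnivInjectiveMor (p i)) : IsUnivInjectiveMor f := by
  intro Z Z' hZ a fst snd sq x y hxy
  obtain ⟨W, v, w, i, l, l', hw, sq'⟩ := exists_point_cover hg hsq hZ a sq (Points.map snd x)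
  obtain ⟨x', hx, hx'⟩ := Groth.AlgSpBasic.exists_point_of_isPullback (IsPullback.of_hasPullback snd v) x w hw.symm
  obtain ⟨y', hy, hy'⟩ :=
    Groth.AlgSpBasic.exists_point_of_isPullback (IsPullback.of_hasPullback snd v) y w (hxy.symm.trans hw.symm)
  rw [← hx, ← hy, hp i (IsAlgSpace.yon_obj _) l l' _ sq' (hx'.trans hy'.symm)]

theorem univSurjective_of_cover (hg : IsFpqcCover Yi g) (hsq : ∀ i, IsPullback (q i) (p i) f (g i))
    (hp : ∀ i, UnivSp (fun _ _ h => IsSurjectiveMor h) (p i)) :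
    UnivSp (fun _ _ h => IsSurjectiveMor h) f := by
  intro Z Z' hZ a fst snd sq z
  obtain ⟨W, v, w, i, l, l', rfl, sq'⟩ := exists_point_cover hg hsq hZ a sq z
  obtain ⟨b, rfl⟩ := hp i (IsAlgSpace.yon_obj _) l l' _ sq' w
  exact ⟨Points.map (pullback.fst snd v) b, by
    rw [← Points.map_comp, pullback.condition, Points.map_comp]⟩

theorem univHomeo_of_cover (hg : IsFpqcCover Yi g) (hsq : ∀ i, IsPullback (q i) (p i) f (g i))
    (hp : ∀ i, IsUnivHomeoMor (p i)) : IsUnivHomeoMor f := by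
  intro Z Z' hZ a fst snd sq
  exact ⟨Points.continuous_map snd,
    univOpen_of_cover hg hsq (fun i Z Z' h a b c d => (hp i h a b c d).isOpenMap) hZ a fst snd sq,
    univInjective_of_cover hg hsq (fun i Z Z' h a b c d => (hp i h a b c d).bijective.1) hZ a fst
      snd sq,
    univSurjective_of_cover hg hsq (fun i Z Z' h a b c d => (hp i h a b c d).bijective.2) hZ a fst
      snd sq⟩

theorem univSubmersive_of_cover (hg : IsFpqcCover Yi g) (hsq : ∀ i, IsPullback (q i) (p i) f (g i))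
    (hp : ∀ i, IsUnivSubmersiveMor (p i)) : IsUnivSubmersiveMor f := by
  intro Z Z' hZ a fst snd sq
  have hs : Function.Surjective (Points.map snd) := univSurjective_of_cover hg hsq
      (fun i Z Z' h a b c d => (hp i h a b c d).surjective) hZ a fst snd sq
  refine (isQuotientMap_iff _).2 ⟨isCoinducing_iff.2 fun A =>
    ⟨fun hA => ?_, fun hA => hA.preimage (Points.continuous_map snd)⟩, hs⟩
  refine isOpen_points_of_affine hZ fun T φ hT => ?_
  obtain ⟨𝒲, h𝒲⟩ := exists_affCover hg hsq a sq hT φ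
  refine isOpen_preimage_of_affCover φ 𝒲 _ fun j => ?_
  obtain ⟨i, l, l', sq'⟩ := h𝒲 j
  have h2 : IsOpen (Points.map ((yon S).map (𝒲.c j) ≫ φ) ⁻¹' A) := by
    rw [← (hp i (IsAlgSpace.yon_obj _) l l' _ sq').isOpen_preimage]
    have : IsOpen (Points.map (pullback.fst snd ((yon S).map (𝒲.c j) ≫ φ)) ⁻¹'
        (Points.map snd ⁻¹' A)) := hA.preimage (Points.continuous_map _)
    convert this using 1
    ext b
    simp only [Set.mem_preimage]
    rw [← Points.map_comp, ← Points.map_comp, pullback.condition]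
  have h3 := (Points.schemeHomeo (𝒲.W j)).isOpen_preimage.2 h2
  convert h3 using 1
  ext w
  exact Iff.of_eq (congrArg (· ∈ A) (Points.ofPt_eq_map_ofScheme _ w))

theorem quasiCompact_of_cover (hY : IsAlgSpace Y) (hX : IsAlgSpace X)
    (hg : IsFpqcCover Yi g) (hsq : ∀ i, IsPullback (q i) (p i) f (g i))
    (hp : ∀ i, IsQuasiCompactMor (p i)) : IsQuasiCompactMor f := by
  intro Z Z' hZ hq a fst snd sq
  rw [isQuasiCompactSp_iff_compactSpace (isAlgSpace_of_isPullback sq hY.diag hX hZ)]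
  obtain ⟨T, φ, hT, hφ, hs⟩ := exists_affine_chart hZ hq
  obtain ⟨𝒲, h𝒲⟩ := exists_affCover hg hsq a sq hT φ
  have hc : ∀ j, IsCompact (Set.range (Points.map (pullback.fst snd ((yon S).map (𝒲.c j) ≫ φ)))) :=
    fun j => by
    obtain ⟨i, l, l', sq'⟩ := h𝒲 j
    have : IsAffine (𝒲.W j).left := 𝒲.affine j
    obtain ⟨M, b, -, hb, hM⟩ :=
      hp i (IsAlgSpace.yon_obj _) (isQuasiCompactSp_yon (𝒲.W j)) l l' _ sq'
    have := compactSpace_points (U := M) (F := pullback snd ((yon S).map (𝒲.c j) ≫ φ)) hb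
    exact isCompact_range (Points.continuous_map _)
  constructor
  have : (Set.univ : Set (Points Z')) =
      ⋃ j, Set.range (Points.map (pullback.fst snd ((yon S).map (𝒲.c j) ≫ φ))) := by
    refine (Set.eq_univ_of_forall fun x => ?_).symm
    obtain ⟨t, ht⟩ := surjective_ofPt_of_repWith hs (Points.map snd x)
    obtain ⟨j, w, rfl⟩ := 𝒲.surj t
    obtain ⟨b, hb, -⟩ := Groth.AlgSpBasic.exists_point_of_isPullback
      (IsPullback.of_hasPullback snd ((yon S).map (𝒲.c j) ≫ φ)) x (Points.ofScheme _ w)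
      (by rw [← ht, ← Points.ofPt_eq_map_ofScheme, ofPt_comp_yon])
    exact Set.mem_iUnion.2 ⟨j, b, hb⟩
  rw [this]
  exact isCompact_iUnion hc

end

end Groth.AlgSp2
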