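import Groth.Agent.AlgSp2.GeomConnSp
import Groth.Agent.AlgSpBasic.Univ
import Groth.Agent.VarietyBC.QcOpen
import Groth.Agent.VarietyBC.BCMaps
import Groth.Agent.S7621
import Mathlib.FieldTheory.KrullTopology

/-!
# Galois descent for subsets of base changes of algebraic spaces over a field
-/

set_option autoImplicit false
set_option backward.isDefEq.respectTransparency.types false
universe u

open CategoryTheory CategoryTheory.Limits AlgebraicGeometry AlgSp Groth.AlgSpBasic
  Groth.AlgSp2.GeomConnSp Groth.VarietyBC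

namespace Groth.AlgSp2.GaloisDescSp

noncomputable section

variable {k : Type u} [Field k]

/-- The structure morphism of a chart as an instance. -/
@[reducible] def overInst (U : Over (Spec (CommRingCat.of k))) :
    U.left.Over (Spec (CommRingCat.of k)) := ⟨U.hom⟩

attribute [local instance] overInst

variable (U : Over (Spec (CommRingCat.of k))) (K : Type u) [Field K] [Algebra k K]

/-- The base change of a chart, over `k`. -/
abbrev W : Over (Spec (CommRingCat.of k)) := Over.mk (Curv2.bcFst k U.left K ≫ U.hom)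

/-- First projection. -/
abbrev pr₁ : W U K ⟶ U := Over.homMk (Curv2.bcFst k U.left K) rfl

/-- Second projection. -/
abbrev pr₂ : W U K ⟶ T (k := k) K :=
  Over.homMk (Curv2.bcSnd k U.left K) pullback.condition.symm

variable {U K} {X : Sp (Spec (CommRingCat.of k))}

/-- The base changed chart. -/
abbrev chart (a : (yon _).obj U ⟶ X) : (yon _).obj (W U K) ⟶ bcS X K :=
  prod.lift ((yon _).map (pr₁ U K) ≫ a) ((yon _).map (pr₂ U K))

theorem chart_sq (a : (yon _).obj U ⟶ X) :
    IsPullback ((yon _).map (pr₁ U K)) (chart a) a (prod.fst : bcS X K ⟶ X) := by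
  let S : Scheme.{u} := Spec (CommRingCat.of k)
  let tU : U ⟶ Over.mk (𝟙 S) := Over.homMk U.hom (Category.comp_id _)
  let tT : T (k := k) K ⟶ Over.mk (𝟙 S) := Over.homMk (T (k := k) K).hom (Category.comp_id _)
  have sq₀ : IsPullback (pr₁ U K) (pr₂ U K) tU tT :=
    IsPullback.of_map (Over.forget S) (Over.OverMorphism.ext pullback.condition)
      (IsPullback.of_hasPullback U.hom (T (k := k) K).hom)
  have sq₁ := sq₀.map (yon S)
  rw [← (isTerminalOne S).hom_ext (a ≫ (isTerminalOne S).from X) ((yon S).map tU),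
    ← (isTerminalOne S).hom_ext ((isTerminalOne S).from ((yon S).obj (T (k := k) K))) ((yon S).map tT)]
    at sq₁
  have big : IsPullback ((yon _).map (pr₁ U K)) (chart a ≫ prod.snd) (a ≫ (isTerminalOne S).from X)
      ((isTerminalOne S).from ((yon S).obj (T (k := k) K))) := by
    rw [prod.lift_snd]; exact sq₁
  exact IsPullback.of_bot big (prod.lift_fst _ _).symm (isPullback_prod X _)

/-- `bcMap` over `k`. -/
abbrev γ {L : Type u} [Field L] [Algebra k L] (i : K →ₐ[k] L) : W U L ⟶ W U K :=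
  Over.homMk (bcMap (X := U.left) i) (by
    show bcMap i ≫ Curv2.bcFst k U.left K ≫ U.hom = Curv2.bcFst k U.left L ≫ U.hom
    rw [← Category.assoc, bcMap_fst])

theorem chart_map (a : (yon _).obj U ⟶ X) {L : Type u} [Field L] [Algebra k L] (i : K →ₐ[k] L) :
    chart a ≫ prod.map (𝟙 X) ((yon _).map (Tmap i)) = (yon _).map (γ (U := U) i) ≫ chart a := by
  have h₁ : γ (U := U) i ≫ pr₁ U K = pr₁ U L := Over.OverMorphism.ext (bcMap_fst i)
  have h₂ : γ (U := U) i ≫ pr₂ U K = pr₂ U L ≫ Tmap i := Over.OverMorphism.ext (bcMap_snd i)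
  apply prod.hom_ext
  · simp only [Category.assoc, prod.map_fst, prod.lift_fst_assoc, Category.comp_id, prod.lift_fst]
    rw [← Category.assoc, ← Functor.map_comp, h₁]
  · simp only [Category.assoc, prod.map_snd, prod.lift_snd_assoc, prod.lift_snd]
    rw [← Functor.map_comp, ← Functor.map_comp, h₂]

theorem chart_map_sq (a : (yon _).obj U ⟶ X) {L : Type u} [Field L] [Algebra k L] (i : K →ₐ[k] L) :
    IsPullback ((yon _).map (γ (U := U) i)) (chart (K := L) a) (chart (K := K) a)
      (prod.map (𝟙 X) ((yon _).map (Tmap i))) := by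
  have h₁ : γ (U := U) i ≫ pr₁ U K = pr₁ U L := Over.OverMorphism.ext (bcMap_fst i)
  refine IsPullback.of_right ?_ (chart_map a i).symm (chart_sq a)
  rw [← Functor.map_comp, h₁, prod.map_fst, Category.comp_id]
  exact chart_sq a

theorem map_chart {L : Type u} [Field L] [Algebra k L] (a : (yon _).obj U ⟶ X) (i : K →ₐ[k] L)
    (w : ↥(W U L).left) :
    Points.map (prod.map (𝟙 X) ((yon _).map (Tmap i))) (Points.ofPt (chart a) w) =
      Points.ofPt (chart a) (bcMap i w) := by
  rw [Points.map_ofPt, chart_map, ofPt_comp_yon]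
  rfl

theorem fst_chart (a : (yon _).obj U ⟶ X) (w : ↥(W U K).left) :
    Points.map (prod.fst : bcS X K ⟶ X) (Points.ofPt (chart a) w) =
      Points.ofPt a (Curv2.bcFst k U.left K w) := by
  rw [Points.map_ofPt, prod.lift_fst, ofPt_comp_yon]
  rfl

theorem exists_lift (a : (yon _).obj U ⟶ X) {y : Points (bcS X K)} {u : ↥U.left}
    (h : Points.map (prod.fst : bcS X K ⟶ X) y = Points.ofPt a u) :
    ∃ w : ↥(W U K).left, Points.ofPt (chart a) w = y ∧ Curv2.bcFst k U.left K w = u := by
  obtain ⟨p, hp₁, hp₂⟩ := exists_point_of_isPullback (chart_sq a) (Points.schemeEquiv U u) y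
    ((ofPt_eq_map a u).symm.trans h.symm)
  obtain ⟨w, rfl⟩ := (Points.schemeEquiv (W U K)).surjective p
  exact ⟨w, (ofPt_eq_map _ w).trans hp₂,
    (Points.schemeEquiv U).injective ((Points.map_yon_map_apply (pr₁ U K) w).symm.trans hp₁)⟩

theorem Tmap_eq_of_left {σ : K ≃ₐ[k] K} {g : T (k := k) K ⟶ T K}
    (hg : g.left = Spec.map (CommRingCat.ofHom (σ : K ≃ₐ[k] K).toRingHom)) :
    g = Tmap (σ : K →ₐ[k] K) := Over.OverMorphism.ext hg

/-- Closed Galois stable subsets descend. -/
theorem exists_closed_descent [IsGalois k K] (hX : IsAlgSpace X) (C : Set (Points (bcS X K)))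
    (hC : IsClosed C) (hσ : ∀ σ : K ≃ₐ[k] K,
      Points.map (prod.map (𝟙 X) ((yon _).map (Tmap (σ : K →ₐ[k] K)))) '' C = C) :
    ∃ C₀ : Set (Points X), IsClosed C₀ ∧ Points.map (prod.fst : bcS X K ⟶ X) ⁻¹' C₀ = C := by
  have hr : RepWith @IsIntegralHom (prod.fst : bcS X K ⟶ X) :=
    repWith_fst X (T K) @IsIntegralHom
      ((IsIntegralHom.SpecMap_iff).2 (algebraMap_isIntegral_iff.2 inferInstance))
  refine ⟨_, isClosedMap_map_of_repWith (P := @IsIntegralHom)
    (fun _ _ φ (_ : IsIntegralHom φ) => φ.isClosedMap) hr _ hC,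
    subset_antisymm ?_ (Set.subset_preimage_image _ _)⟩
  obtain ⟨U, a, ha, has⟩ := hX.atlas
  rintro y' ⟨y, hy, e⟩
  obtain ⟨u, hu⟩ := surjective_ofPt_of_repWith has (Points.map (prod.fst : bcS X K ⟶ X) y')
  obtain ⟨w', rfl, rfl⟩ := exists_lift a hu.symm
  obtain ⟨w, rfl, hw⟩ := exists_lift a (e.trans hu.symm)
  obtain ⟨σ, hσw⟩ := Groth.VarietyBC.exists_galAct_eq (X := U.left) w w' hw
  rw [← hσ σ]
  refine ⟨_, hy, ?_⟩
  rw [map_chart, ← galAct_eq_bcMap, hσw]

theorem exists_compact_open_lift (hX : IsAlgSpace X) {V : Set (Points (bcS X K))} (hV : IsOpen V)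
    (hVc : IsCompact V) :
    ∃ (U : Over (Spec (CommRingCat.of k))) (a : (yon _).obj U ⟶ X) (W' : Set ↥(W U K).left),
      RepWith @Etale a ∧ IsOpen W' ∧ IsCompact W' ∧ Points.ofPt (chart a) '' W' = V := by
  obtain ⟨U, a, ha, has⟩ := hX.atlas
  have hc : RepWith @Etale (chart (K := K) a) := repWith_of_isPullback (chart_sq a) ha
  have hcs : RepWith @Surjective (chart (K := K) a) := repWith_of_isPullback (chart_sq a) has
  let O : Set ↥(W U K).left := Points.ofPt (chart a) ⁻¹' V
  have hO : IsOpen O := hV.preimage (Points.continuous_ofPt _)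
  have hb := (W U K).left.isBasis_affineOpens
  have hch : ∀ w ∈ O, ∃ A : (W U K).left.Opens, IsAffineOpen A ∧ w ∈ A ∧ (A : Set _) ⊆ O := by
    intro w hw
    obtain ⟨_, ⟨A, hA, rfl⟩, h₁, h₂⟩ := hb.exists_subset_of_mem_open hw hO
    exact ⟨A, hA, h₁, h₂⟩
  choose A hA hwA hAO using hch
  obtain ⟨t, ht⟩ := hVc.elim_finite_subcover
    (fun w : O => Points.ofPt (chart a) '' (A w.1 w.2 : Set ↥(W U K).left))
    (fun w => isOpenMap_ofPt_of_etale hc _ (A w.1 w.2).2) (fun y hy => by
      obtain ⟨w, rfl⟩ := surjective_ofPt_of_repWith hcs y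
      exact Set.mem_iUnion.2 ⟨⟨w, hy⟩, w, hwA w hy, rfl⟩)
  refine ⟨U, a, ⋃ w ∈ t, (A w.1 w.2 : Set ↥(W U K).left), ha,
    isOpen_biUnion fun w _ => (A w.1 w.2).2, t.isCompact_biUnion fun w _ => (hA w.1 w.2).isCompact, ?_⟩
  rw [Set.image_iUnion₂]
  refine subset_antisymm (Set.iUnion₂_subset fun w _ => ?_) ht
  rintro _ ⟨z, hz, rfl⟩
  exact hAO w.1 w.2 hz

/-- Quasi-compact opens are stable under an open subgroup. -/
theorem exists_open_subgroup [IsGalois k K] (hX : IsAlgSpace X) {V : Set (Points (bcS X K))}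
    (hV : IsOpen V) (hVc : IsCompact V) :
    ∃ H : Subgroup (K ≃ₐ[k] K), IsOpen (H : Set (K ≃ₐ[k] K)) ∧
      ∀ σ ∈ H, Points.map (prod.map (𝟙 X) ((yon _).map (Tmap ((σ : K ≃ₐ[k] K) : K →ₐ[k] K)))) '' V = V := by
  obtain ⟨U, a, W', -, hW', hWc, hWV⟩ := exists_compact_open_lift hX hV hVc
  obtain ⟨E, hE, hσ⟩ := Groth.Agent.S7621.result k K U.left W' hW' hWc
  refine ⟨E.fixingSubgroup, E.fixingSubgroup_isOpen, fun σ hm => ?_⟩
  have h := hσ σ fun x hx => (IntermediateField.mem_fixingSubgroup_iff E σ).1 hm x hx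
  conv_lhs => rw [← hWV]
  rw [Set.image_image]
  conv_rhs => rw [← hWV, ← h, Set.image_image]
  refine Set.image_congr fun w _ => ?_
  rw [map_chart, ← galAct_eq_bcMap]

/-- Quasi-compact opens descend to a finite subextension. -/
theorem exists_finite_descent [IsGalois k K] (hX : IsAlgSpace X) {V : Set (Points (bcS X K))}
    (hV : IsOpen V) (hVc : IsCompact V) :
    ∃ (E : IntermediateField k K) (_ : FiniteDimensional k E) (V' : Set (Points (bcS X E))),
      IsOpen V' ∧ IsCompact V' ∧
        Points.map (prod.map (𝟙 X) ((yon _).map (Tmap E.val))) ⁻¹' V' = V := by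
  obtain ⟨U, a, W', ha, hW', hWc, hWV⟩ := exists_compact_open_lift hX hV hVc
  obtain ⟨A', ⟨s, hs⟩, V₀, -, -, hπ⟩ := exists_fg_descend_open (k := k) (X := U.left) K W' hW' hWc
  let E : IntermediateField k K := IntermediateField.adjoin k (s : Set K)
  have hfd : FiniteDimensional k E :=
    IntermediateField.finiteDimensional_adjoin fun x _ => (Algebra.IsAlgebraic.isAlgebraic x).isIntegral
  have hle : A' ≤ E.toSubalgebra := hs ▸ Algebra.adjoin_le (IntermediateField.subset_adjoin k _)
  let πE : Curv2.bc k U.left E ⟶ ringBC k U.left A' :=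
    pullback.lift (pullback.fst _ _)
      (pullback.snd _ _ ≫ Spec.map (CommRingCat.ofHom (Subalgebra.inclusion hle).toRingHom)) (by
      rw [Category.assoc, ← Spec.map_comp, ← CommRingCat.ofHom_comp, AlgHom.toRingHom_eq_coe,
        AlgHom.comp_algebraMap]
      exact pullback.condition)
  have hsat : bcMap (X := U.left) E.val ⁻¹' (bcMap (X := U.left) E.val '' W') = W' := by
    refine subset_antisymm ?_ (Set.subset_preimage_image _ _)
    rintro y ⟨w, hw, e⟩
    have hV₀ := hπ (bcMap (X := U.left) E.val ≫ πE)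
      (by rw [Category.assoc, pullback.lift_fst]; exact bcMap_fst _)
      (by
        rw [Category.assoc, pullback.lift_snd, ← Category.assoc]
        refine (congrArg (· ≫ _) (bcMap_snd _)).trans ?_
        rw [Category.assoc, ← Spec.map_comp, ← CommRingCat.ofHom_comp]
        rfl)
    rw [← hV₀] at hw ⊢
    rw [Set.mem_preimage, Scheme.Hom.comp_apply] at hw ⊢
    rwa [← e]
  refine ⟨E, hfd, Points.ofPt (chart a) '' (bcMap (X := U.left) E.val '' W'),
    isOpenMap_ofPt_of_etale (repWith_of_isPullback (chart_sq a) ha) _ ?_,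
    (hWc.image (bcMap (X := U.left) E.val).continuous).image (Points.continuous_ofPt _), ?_⟩
  · have := universallyOpen_bcMap (X := U.left) E.val
    exact (bcMap (X := U.left) E.val).isOpenMap _ hW'
  ext y
  constructor
  · rintro ⟨w', hw', e⟩
    obtain ⟨p, hp₁, hp₂⟩ := exists_point_of_isPullback (chart_map_sq a E.val)
      (Points.schemeEquiv (W U E) w') y ((ofPt_eq_map _ w').symm.trans e)
    obtain ⟨w, rfl⟩ := (Points.schemeEquiv (W U K)).surjective p
    have hw : bcMap (X := U.left) E.val w = w' :=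
      (Points.schemeEquiv (W U E)).injective
        ((Points.map_yon_map_apply (γ (U := U) E.val) w).symm.trans hp₁)
    rw [← hWV, ← hp₂]
    refine ⟨w, hsat.le ?_, ofPt_eq_map _ w⟩
    rw [Set.mem_preimage, hw]; exact hw'
  · intro hy
    rw [← hWV] at hy
    obtain ⟨w, hw, rfl⟩ := hy
    exact ⟨_, ⟨w, hw, rfl⟩, (map_chart a E.val w).symm⟩

end

end Groth.AlgSp2.GaloisDescSp
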