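import Groth.Agent.AlgSp2.GaloisDescSp
import Groth.Agent.VarietyBC.Components

/-!
# Geometric connectedness is detected by finite separable extensions
-/

set_option autoImplicit false
set_option backward.isDefEq.respectTransparency.types false
universe u

open CategoryTheory CategoryTheory.Limits AlgebraicGeometry AlgSp Groth.AlgSpBasic
  Groth.AlgSp2.GeomConnSp Groth.AlgSp2.GaloisDescSp Groth.VarietyBC

namespace Groth.AlgSp2.GeomConnFinSep

noncomputable section

attribute [local instance] overInst

variable {k : Type u} [Field k] {X : Sp (Spec (CommRingCat.of k))}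

theorem connected_sepClosure (hX : IsAlgSpace X)
    (h : ∀ (E : Type u) [Field E] [Algebra k E], Module.Finite k E → Algebra.IsSeparable k E →
      ConnectedSpace (Points (bcS X E))) :
    ConnectedSpace (Points (bcS X (SeparableClosure k))) := by
  let S := SeparableClosure k
  have hk := h k inferInstance inferInstance
  have := connected_of_bc X (K := k)
  obtain ⟨U, a, ha, has⟩ := hX.atlas
  obtain ⟨x⟩ := (this).toNonempty
  obtain ⟨u, rfl⟩ := surjective_ofPt_of_repWith has x
  obtain ⟨A, hA, huA, -⟩ := exists_isAffineOpen_mem_and_subset (U := (⊤ : U.left.Opens)) (x := u) trivial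
  have hS : Nonempty (Points (bcS X S)) := by
    obtain ⟨y, -⟩ := surjective_map_of_repWith
      (repWith_fst X (T (k := k) S) @Surjective (surjective_field _)) (Points.ofPt a u)
    exact ⟨y⟩
  refine connectedSpace_iff_clopen.2 ⟨hS, fun W₀ hW => ?_⟩
  by_contra hn
  obtain ⟨h1, h2⟩ := not_or.1 hn
  have hW' := hW.preimage (Points.continuous_ofPt (chart (K := S) a))
  obtain ⟨E, hE⟩ := exists_finExt_sep (k := k) (X := U.left) S hA _ _ hW'.1 hW'.compl.1
    disjoint_compl_right
  have := E.2
  have : Algebra.IsSeparable k E.1 := Algebra.IsSeparable.of_algHom k S E.1.val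
  have := h E.1 inferInstance inferInstance
  let π := Points.map (prod.map (𝟙 X) ((yon _).map (Tmap (k := k) E.1.val)))
  have hi : IsIntegralHom (Tmap (k := k) E.1.val).left := by
    refine (IsIntegralHom.SpecMap_iff).2 ?_
    have : Algebra.IsAlgebraic k S := inferInstance
    have : Algebra.IsAlgebraic E.1 S := Algebra.IsAlgebraic.tower_top (K := k) E.1
    exact algebraMap_isIntegral_iff.2 (Algebra.IsAlgebraic.isIntegral)
  have ho : IsOpenMap π := isOpenMap_map_of_repWith (P := @UniversallyOpen)
    (fun _ _ φ (_ : UniversallyOpen φ) => φ.isOpenMap)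
    (repWith_map_yon X (Tmap E.1.val) @UniversallyOpen (universallyOpen_field _))
  have hc : IsClosedMap π := isClosedMap_map_of_repWith (P := @IsIntegralHom)
    (fun _ _ φ (_ : IsIntegralHom φ) => φ.isClosedMap)
    (repWith_map_yon X (Tmap E.1.val) @IsIntegralHom hi)
  obtain ⟨z, hz⟩ := surjective_map_of_repWith
    (repWith_fst X (T (k := k) E.1) @Surjective (surjective_field _)) (Points.ofPt a u)
  obtain ⟨w, rfl, hw⟩ := exists_lift a hz
  have lift : ∀ V : Set (Points (bcS X S)), IsClopen V → V.Nonempty →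
      ∃ v : ↥(GaloisDescSp.W U S).left, Points.ofPt (chart a) v ∈ V ∧ bcMap E.1.val v = w := by
    intro V hV hne
    obtain ⟨y, hy, e⟩ := (image_eq_univ_of_isClopen ho hc hV hne).ge
      (Set.mem_univ (Points.ofPt (chart a) w))
    obtain ⟨p, hp₁, hp₂⟩ := exists_point_of_isPullback (chart_map_sq a E.1.val)
      (Points.schemeEquiv (GaloisDescSp.W U E.1) w) y ((ofPt_eq_map _ w).symm.trans e.symm)
    obtain ⟨v, rfl⟩ := (Points.schemeEquiv (GaloisDescSp.W U S)).surjective p
    exact ⟨v, by rw [ofPt_eq_map]; exact hp₂ ▸ hy, (Points.schemeEquiv (GaloisDescSp.W U E.1)).injective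
      ((Points.map_yon_map_apply (γ (U := U) E.1.val) v).symm.trans hp₁)⟩
  obtain ⟨v, hv, hvw⟩ := lift W₀ hW (Set.nonempty_iff_ne_empty.2 h1)
  obtain ⟨v', hv', hvw'⟩ := lift W₀ᶜ hW.compl (Set.nonempty_compl.2 h2)
  refine hE v hv v' hv' (hvw.trans hvw'.symm) ?_
  rw [← bcMap_fst_apply E.1.val v, hvw, hw]
  exact huA

theorem geometricallyConnected_iff (hX : IsAlgSpace X) :
    (∀ (K : Type u) [Field K] [Algebra k K], ConnectedSpace (Points (bcS X K))) ↔
      ∀ (E : Type u) [Field E] [Algebra k E], Module.Finite k E → Algebra.IsSeparable k E →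
        ConnectedSpace (Points (bcS X E)) := by
  refine ⟨fun h E _ _ _ _ => h E, fun h K _ _ => ?_⟩
  obtain ⟨Ω, _, _, ⟨i⟩, ⟨j⟩⟩ := exists_common (k := k) (SeparableClosure k) K
  have := connected_sepClosure hX h
  have := connected_of_sepClosed_extension X i
  exact connected_of_extension X j

end

end Groth.AlgSp2.GeomConnFinSep
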