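import Groth.Agent.AlgSp2.GeomReducedSp
import Groth.Agent.AlgSp2.FieldPts
import Groth.Agent.S2549
import Groth.Agent.S10686

/-! Openness of the locus of geometrically reduced fibres of a flat proper morphism of spaces. -/

set_option autoImplicit false
set_option backward.isDefEq.respectTransparency.types false
set_option linter.style.haveILetI false
universe u

open CategoryTheory CategoryTheory.Limits AlgebraicGeometry AlgSp Groth.AlgSpBasic
  Groth.AlgSp2.GeomReducedSp

namespace Groth.AlgSp2.GeomRedLocus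

noncomputable section

/-- The fibre of `q` through `x` is geometrically reduced at `x`. -/
def GRFib {W V : Scheme.{u}} (q : W ⟶ V) (x : W) : Prop :=
  FBase.IsGeomReducedAt (q.fiberToSpecResidueField (q x)) (q.asFiber x)

theorem gr_fibre_etale {M W V : Scheme.{u}} (m : M ⟶ W) [Etale m] (q : W ⟶ V) (v : V)
    (z : (m ≫ q).fiber v) :
    ∃ z' : q.fiber v, q.fiberι v z' = m ((m ≫ q).fiberι v z) ∧
      (FBase.IsGeomReducedAt ((m ≫ q).fiberToSpecResidueField v) z ↔
        FBase.IsGeomReducedAt (q.fiberToSpecResidueField v) z') := by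
  let g : (m ≫ q).fiber v ⟶ q.fiber v := pullback.map _ _ _ _ m (𝟙 _) (𝟙 _) (Category.comp_id _) (by simp)
  have h1 : g ≫ q.fiberι v = (m ≫ q).fiberι v ≫ m := pullback.lift_fst _ _ _
  have h2 : g ≫ q.fiberToSpecResidueField v = (m ≫ q).fiberToSpecResidueField v :=
    (pullback.lift_snd _ _ _).trans (Category.comp_id _)
  have sq : IsPullback ((m ≫ q).fiberι v) g m (q.fiberι v) :=
    IsPullback.of_bot (h2.symm ▸ IsPullback.of_hasPullback (m ≫ q) (V.fromSpecResidueField v)) h1.symm
      (IsPullback.of_hasPullback q (V.fromSpecResidueField v))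
  have : Etale g := MorphismProperty.of_isPullback sq ‹_›
  refine ⟨g z, ?_, isGeomReducedAt_etale_iff g _ z h2 rfl⟩
  rw [← Scheme.Hom.comp_apply, h1, Scheme.Hom.comp_apply]

theorem grFib_iff {W V : Scheme.{u}} (q : W ⟶ V) {x : W} {v : V} (z : q.fiber v) (hz : q.fiberι v z = x) :
    GRFib q x ↔ FBase.IsGeomReducedAt (q.fiberToSpecResidueField v) z := by
  have hv : q x = v := by
    subst hz
    exact (q.range_fiberι v).le ⟨z, rfl⟩
  subst hv
  rw [show z = q.asFiber x from (q.fiberι (q x)).isEmbedding.injective (hz.trans (q.fiberι_asFiber x).symm)]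
  rfl

theorem grFib_comp_etale {M W V : Scheme.{u}} (m : M ⟶ W) [Etale m] (q : W ⟶ V) (x : M) :
    GRFib (m ≫ q) x ↔ GRFib q (m x) := by
  obtain ⟨z', hz', h⟩ := gr_fibre_etale m q ((m ≫ q) x) ((m ≫ q).asFiber x)
  rw [Scheme.Hom.fiberι_asFiber] at hz'
  rw [grFib_iff q z' hz', ← h]
  rfl

variable {S : Scheme.{u}}

/-- The image in the points of a space over a scheme of the bad points of an etale chart is closed. -/
theorem isClosed_bad {P : Sp S} (hP : IsAlgSpace P) {V W : Over S} (snd : P ⟶ (yon S).obj V)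
    {w : (yon S).obj W ⟶ P} (hw : RepWith @Etale w) (hws : RepWith @Surjective w) (q : W ⟶ V)
    (hq : w ≫ snd = (yon S).map q) [Flat q.left] [LocallyOfFinitePresentation q.left] :
    IsClosed (Points.ofPt w '' {x | ¬ GRFib q.left x}) := by
  rw [← (isQuotientMap_ofPt hw hws).isClosed_preimage]
  have hsat : Points.ofPt w ⁻¹' (Points.ofPt w '' {x | ¬ GRFib q.left x}) = {x | ¬ GRFib q.left x} := by
    ext x
    refine ⟨?_, fun hx => ⟨x, hx, rfl⟩⟩
    rintro ⟨x', hx', hxx'⟩
    obtain ⟨M, m, n, z, hm, hn, hmz, hnz, e⟩ := exists_common_chart hP hw hw hxx'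
    have e' : m ≫ q = n ≫ q := (yon S).map_injective (by
      simp only [Functor.map_comp, ← hq, ← Category.assoc, e])
    have e'' : m.left ≫ q.left = n.left ≫ q.left := congrArg CommaMorphism.left e'
    show ¬ GRFib q.left x
    rw [← hnz, ← grFib_comp_etale, ← e'', grFib_comp_etale, hmz]
    exact hx'
  rw [hsat]
  exact (Groth.Agent.S2549.result q.left).isClosed_compl

/-- Openness of the locus of geometrically reduced fibres. -/
theorem isOpen_geomReducedFibre {X Y : AlgSp.Space S} (f : X ⟶ Y) (hfl : AlgSp.LocP @Flat f.hom)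
    (hcl : AlgSp.IsUnivClosedMor f.hom) (hfp : AlgSp.LocP @LocallyOfFinitePresentation f.hom) :
    IsOpen {y : AlgSp.Points Y.obj | ∀ (k : AlgSp.FieldPt Y.obj), AlgSp.Points.mk k = y →
        ∀ (k' : Type u) [Field k'] (φ : k.K →+* k') (Xk' : AlgSp.Sp S) (a : Xk' ⟶ X.obj)
          (b : Xk' ⟶ (AlgSp.yon S).obj (Over.mk (Spec.map (CommRingCat.ofHom φ) ≫ k.str))),
          IsPullback a b f.hom ((AlgSp.yon S).map (Over.homMk (Spec.map (CommRingCat.ofHom φ)) rfl :
            Over.mk (Spec.map (CommRingCat.ofHom φ) ≫ k.str) ⟶ k.pt) ≫ k.toHom) →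
          AlgSp.EtaleLocally (fun U => IsReduced U) Xk'} := by
  obtain ⟨V, b, hb, hbs⟩ := Y.property.atlas
  let P := pullback f.hom b
  have sqV : IsPullback (pullback.fst f.hom b) (pullback.snd f.hom b) f.hom b := IsPullback.of_hasPullback _ _
  have hP : IsAlgSpace P := isAlgSpace_of_isPullback sqV Y.property.diag X.property (IsAlgSpace.yon_obj V)
  obtain ⟨W, w, hw, hws⟩ := hP.atlas
  obtain ⟨q, hq⟩ := (yon S).map_surjective (w ≫ pullback.snd f.hom b)
  have hwf : RepWith @Etale (w ≫ pullback.fst f.hom b) := repWith_comp hw (repWith_of_isPullback sqV.flip hb)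
  have comm : (w ≫ pullback.fst f.hom b) ≫ f.hom = (yon S).map q ≫ b := by
    rw [Category.assoc, sqV.w, hq, Category.assoc]
  have : Flat q.left := hfl _ b q hwf hb comm
  have : LocallyOfFinitePresentation q.left := hfp _ b q hwf hb comm
  let B := Points.ofPt w '' {x | ¬ GRFib q.left x}
  have hB : IsClosed (Points.map (pullback.snd f.hom b) '' B) :=
    hcl (IsAlgSpace.yon_obj V) b _ _ sqV _ (isClosed_bad hP _ hw hws q hq.symm)
  rw [← (isQuotientMap_ofPt hb hbs).isOpen_preimage]
  convert (hB.preimage (Points.schemeHomeo V).continuous).isOpen_compl using 1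
  ext v
  have himg : (Points.schemeHomeo V v ∈ Points.map (pullback.snd f.hom b) '' B) ↔
      ∃ x : W.left, q.left x = v ∧ ¬ GRFib q.left x := by
    constructor
    · rintro ⟨_, ⟨x, hx, rfl⟩, hxv⟩
      refine ⟨x, ?_, hx⟩
      rw [Points.map_ofPt, ← hq] at hxv
      have := congrArg (Points.toScheme V) hxv
      rw [Points.toScheme_ofPt] at this
      exact this.trans ((Points.schemeEquiv V).symm_apply_apply v)
    · rintro ⟨x, hxv, hx⟩
      refine ⟨_, ⟨x, hx, rfl⟩, ?_⟩
      rw [Points.map_ofPt, ← hq]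
      apply (Points.schemeEquiv V).symm.injective
      exact (Points.toScheme_ofPt q x).trans (hxv.trans ((Points.schemeEquiv V).symm_apply_apply v).symm)
  simp only [Set.mem_compl_iff, Set.mem_preimage, Set.mem_setOf_eq, himg, not_exists, not_and, not_not]
  -- the fibre over `v`
  let p := FieldPt.ofPt b v
  have key : ∀ (K : Type u) [Field K] (φ : IsLocalRing.ResidueField (V.left.presheaf.stalk v) →+* K) (Xk' : AlgSp.Sp S) (a : Xk' ⟶ X.obj)
      (c : Xk' ⟶ (AlgSp.yon S).obj (Over.mk (Spec.map (CommRingCat.ofHom φ) ≫ p.str))),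
      IsPullback a c f.hom ((AlgSp.yon S).map (Over.homMk (Spec.map (CommRingCat.ofHom φ)) rfl :
            Over.mk (Spec.map (CommRingCat.ofHom φ) ≫ p.str) ⟶ p.pt) ≫ p.toHom) →
      letI : Algebra (IsLocalRing.ResidueField (V.left.presheaf.stalk v)) K := φ.toAlgebra
      (EtaleLocally (fun U => IsReduced U) Xk' ↔
        IsReduced (FBase.bc (q.left.fiberToSpecResidueField v) K)) := by
    intro K _ φ Xk' a c sqk
    letI : Algebra (IsLocalRing.ResidueField (V.left.presheaf.stalk v)) K := φ.toAlgebra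
    let F := q.left.fiberToSpecResidueField v
    let T : Over S := Over.mk (Spec.map (CommRingCat.ofHom φ) ≫ p.str)
    let j : T ⟶ V := Over.homMk (Spec.map (CommRingCat.ofHom φ) ≫ V.left.fromSpecResidueField v)
      (by rw [Category.assoc]; rfl)
    have hj : (yon S).map (Over.homMk (Spec.map (CommRingCat.ofHom φ)) rfl :
            Over.mk (Spec.map (CommRingCat.ofHom φ) ≫ p.str) ⟶ p.pt) ≫ p.toHom = (yon S).map j ≫ b := by
      rw [FieldPt.toHom_ofPt, ← Category.assoc]
      exact congrArg (· ≫ b) ((yon S).map_comp _ _).symm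
    rw [hj] at sqk
    let l : Xk' ⟶ P := pullback.lift a (c ≫ (yon S).map j) (by rw [sqk.w, Category.assoc])
    have sql : IsPullback l c (pullback.snd f.hom b) ((yon S).map j) :=
      IsPullback.of_right (by rw [pullback.lift_fst]; exact sqk) (pullback.lift_snd _ _ _) sqV
    let Zs := FBase.bc F K
    let Z : Over S := Over.mk ((FBase.bcπ F K ≫ q.left.fiberι v) ≫ W.hom)
    let z₁ : Z ⟶ W := Over.homMk (FBase.bcπ F K ≫ q.left.fiberι v) rfl
    have hcond : FBase.bcπ F K ≫ q.left.fiberι v ≫ q.left =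
        FBase.bcStr F K ≫ Spec.map (CommRingCat.ofHom φ) ≫ V.left.fromSpecResidueField v := by
      have h1 : q.left.fiberι v ≫ q.left = F ≫ V.left.fromSpecResidueField v := pullback.condition
      have h2 : FBase.bcπ F K ≫ F = FBase.bcStr F K ≫ Spec.map (CommRingCat.ofHom φ) := pullback.condition
      exact (congrArg (FBase.bcπ F K ≫ ·) h1).trans
        (((Category.assoc _ _ _).symm.trans (congrArg (· ≫ V.left.fromSpecResidueField v) h2)).trans (Category.assoc _ _ _))
    let z₂ : Z ⟶ T := Over.homMk (FBase.bcStr F K) (by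
      show FBase.bcStr F K ≫ Spec.map (CommRingCat.ofHom φ) ≫ V.left.fromSpecResidueField v ≫ V.hom =
        (FBase.bcπ F K ≫ q.left.fiberι v) ≫ W.hom
      rw [← Over.w q, Category.assoc]
      simpa only [Category.assoc] using (congrArg (· ≫ V.hom) hcond).symm)
    have sqs : IsPullback z₁.left z₂.left q.left j.left :=
      ((IsPullback.of_hasPullback F (Spec.map (CommRingCat.ofHom φ))).flip.paste_vert
        (IsPullback.of_hasPullback q.left (V.left.fromSpecResidueField v)).flip).flip
    have sqo : IsPullback z₁ z₂ q j :=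
      IsPullback.of_map (Over.forget S) (Over.OverMorphism.ext sqs.w) sqs
    have big := sqo.map (yon S)
    let a' : (yon S).obj Z ⟶ Xk' := sql.lift ((yon S).map z₁ ≫ w) ((yon S).map z₂)
      (by rw [Category.assoc, ← hq]; exact big.w)
    have sqa : IsPullback ((yon S).map z₁) a' w l :=
      IsPullback.of_bot (by rw [sql.lift_snd, ← hq]; exact big) (sql.lift_fst _ _ _).symm sql
    have hXk : IsAlgSpace Xk' := isAlgSpace_of_isPullback sql (IsAlgSpace.yon_obj V).diag hP (IsAlgSpace.yon_obj T)
    constructor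
    · exact fun h => Groth.AlgSp3.isReduced_etale_chart hXk h (repWith_of_isPullback sqa hw)
    · exact fun h => ⟨Z, a', repWith_of_isPullback sqa hw, repWith_of_isPullback sqa hws, h⟩
  have hfib : (∀ x : W.left, q.left x = v → GRFib q.left x) ↔
      ∀ z, FBase.IsGeomReducedAt (q.left.fiberToSpecResidueField v) z := by
    constructor
    · intro h z
      exact (grFib_iff q.left z rfl).1 (h _ ((q.left.range_fiberι v).le ⟨z, rfl⟩))
    · intro h x hx
      subst hx
      exact h _
  rw [hfib, forall_isGeomReducedAt_iff]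
  constructor
  · intro h K _ alg
    have hr := (key K (algebraMap (IsLocalRing.ResidueField (V.left.presheaf.stalk v)) K) _ _ _
      (IsPullback.of_hasPullback _ _)).1 (h p rfl K
        (algebraMap (IsLocalRing.ResidueField (V.left.presheaf.stalk v)) K) _ _ _ (IsPullback.of_hasPullback _ _))
    convert hr using 2
    exact (Algebra.algebra_ext _ _ fun _ => rfl)
  · intro h k hk
    have h12 := (Groth.Agent.S10686.result f (Points.ofPt b v)).out 0 1
    refine h12.1 ⟨p, rfl, fun K _ φ Xk' a c hsq =>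
      letI : Algebra (IsLocalRing.ResidueField (V.left.presheaf.stalk v)) K := φ.toAlgebra
      (key K φ Xk' a c hsq).2 (h K)⟩ k hk

end

end Groth.AlgSp2.GeomRedLocus
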