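import Groth.Agent.AlgSp2.GeomReducedSp
import Groth.Agent.AlgSp2.FieldPts
import Mathlib.AlgebraicGeometry.Morphisms.Flat

/-!
# Reducedness of fibres of morphisms of algebraic spaces and field extensions
-/

set_option autoImplicit false
set_option backward.isDefEq.respectTransparency.types false
set_option linter.style.haveILetI false
universe u

open CategoryTheory CategoryTheory.Limits AlgebraicGeometry AlgSp Groth.AlgSpBasic

namespace Groth.AlgSp2.GeomReducedFibre

noncomputable section

variable {S : Scheme.{u}} {X Y : Sp S}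

theorem flat_of_fields {K L : Type u} [Field K] [Field L] (ψ : CommRingCat.of K ⟶ CommRingCat.of L) :
    Flat (Spec.map ψ) := by
  rw [HasRingHomProperty.Spec_iff (P := @Flat), RingHom.Flat]
  algebraize [ψ.hom]
  infer_instance

/-- Reducedness descends along representable flat surjective morphisms. -/
theorem reduced_of_flat_surjective {A B : Sp S} (hA : IsAlgSpace A) (hB : IsAlgSpace B) (l : B ⟶ A)
    (hf : RepWith @Flat l) (hs : RepWith @Surjective l) (h : EtaleLocally (fun U => IsReduced U) B) :
    EtaleLocally (fun U => IsReduced U) A := by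
  obtain ⟨U, a, ha, has⟩ := hA.atlas
  obtain ⟨W, snd, fst, sq⟩ := hf.rep a
  have : Flat snd.left := hf.property a fst snd sq
  have : Surjective snd.left := hs.property a fst snd sq
  have : IsReduced W.left := Groth.AlgSp3.isReduced_etale_chart hB h (repWith_of_isPullback sq.flip ha)
  refine ⟨U, a, ha, has, ?_⟩
  have : ∀ z, _root_.IsReduced (U.left.presheaf.stalk z) := fun z => by
    obtain ⟨w, hw⟩ := snd.left.surjective z
    exact Groth.VarietyBC.isReduced_stalk_of_flat snd.left w hw
  exact isReduced_of_isReduced_stalk _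

/-- A fibre is reduced if its base change to a field extension is. -/
theorem reduced_of_extension (hX : IsAlgSpace X) (hY : IsAlgSpace Y) (f : X ⟶ Y) {K L : Type u} [Field K] [Field L]
    {sK : Spec (CommRingCat.of K) ⟶ S} {sL : Spec (CommRingCat.of L) ⟶ S}
    (c : (yon S).obj (Over.mk sK) ⟶ Y) (φ : Over.mk sL ⟶ Over.mk sK)
    {A B : Sp S} {a : A ⟶ X} {a' : A ⟶ (yon S).obj (Over.mk sK)} (hA : IsPullback a a' f c)
    {b : B ⟶ X} {b' : B ⟶ (yon S).obj (Over.mk sL)} (hB : IsPullback b b' f ((yon S).map φ ≫ c))
    (h : EtaleLocally (fun U => IsReduced U) B) : EtaleLocally (fun U => IsReduced U) A := by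
  let l : B ⟶ A := hA.lift b (b' ≫ (yon S).map φ) ((hB.w).trans (Category.assoc _ _ _).symm)
  have hl : IsPullback l b' a' ((yon S).map φ) :=
    IsPullback.of_right (by rw [hA.lift_fst]; exact hB) (hA.lift_snd _ _ _) hA
  have key : ∀ (P : MorphismProperty Scheme.{u}) [P.IsStableUnderBaseChange], P φ.left → RepWith P l :=
    fun P _ h => repWith_of_isPullback hl.flip ((repWith_yon_map_iff P φ).2 h)
  refine reduced_of_flat_surjective (isAlgSpace_of_isPullback hA hY.diag hX (IsAlgSpace.yon_obj _))
    (isAlgSpace_of_isPullback hB hY.diag hX (IsAlgSpace.yon_obj _)) l (key @Flat ?_) (key @Surjective ?_) h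
  · rw [← Spec.map_preimage φ.left]
    exact flat_of_fields _
  · exact ⟨fun y => ⟨IsLocalRing.closedPoint L, Subsingleton.elim (α := Spec (CommRingCat.of K)) _ y⟩⟩

end

end Groth.AlgSp2.GeomReducedFibre
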