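import Groth.Prelude.Def_FDesc
import Groth.Prelude.Def_AlgSp4
import Groth.Agent.AlgSp3.ImmersionImage
import Groth.Agent.AlgSpBasic.AlgSpace
import Groth.Agent.VarietyBC.Reduced
import Groth.Agent.S1545
import Groth.Agent.S1560
import Groth.Agent.S1610
import Mathlib.FieldTheory.IsAlgClosed.Basic

/-!
# Geometrically reduced points of algebraic spaces over a field
-/

set_option autoImplicit false
set_option backward.isDefEq.respectTransparency.types false
universe u

open CategoryTheory CategoryTheory.Limits AlgebraicGeometry AlgSp Groth.AlgSpBasic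

namespace Groth.AlgSp2.GeomReducedSp

noncomputable section

theorem isReduced_stalk_of_etale {U V : Scheme.{u}} (g : U ⟶ V) [Etale g] (x : U)
    [_root_.IsReduced (V.presheaf.stalk (g x))] : _root_.IsReduced (U.presheaf.stalk x) := by
  have := Groth.VarietyBC.flat_fromSpecStalk V (g x)
  obtain ⟨p, hp, -⟩ := Scheme.Pullback.exists_preimage_pullback (f := g) (g := V.fromSpecStalk (g x))
    x (IsLocalRing.closedPoint _) (Scheme.fromSpecStalk_closedPoint).symm
  have : IsReduced (Spec (V.presheaf.stalk (g x))) := inferInstance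
  have : IsReduced (pullback g (V.fromSpecStalk (g x))) :=
    Groth.AlgSp2.isReduced_of_smooth_morphism (pullback.snd g (V.fromSpecStalk (g x)))
  have := Groth.VarietyBC.isIso_stalkMap_of_flat_preimmersion
    (pullback.fst g (V.fromSpecStalk (g x))) p
  have := isReduced_of_injective ((pullback.fst g (V.fromSpecStalk (g x))).stalkMap p).hom
    (ConcreteCategory.bijective_of_isIso ((pullback.fst g (V.fromSpecStalk (g x))).stalkMap p)).injective
  convert this
  all_goals rw [hp]

theorem isReduced_stalk_etale_iff {U V : Scheme.{u}} (g : U ⟶ V) [Etale g] (x : U) :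
    _root_.IsReduced (U.presheaf.stalk x) ↔ _root_.IsReduced (V.presheaf.stalk (g x)) :=
  ⟨fun _ => Groth.VarietyBC.isReduced_stalk_of_flat g x rfl,
    fun _ => isReduced_stalk_of_etale g x⟩

variable {k : Type u} [Field k]

/-- Geometric reducedness at a point is etale local on the source. -/
theorem isGeomReducedAt_etale_iff {U V : Scheme.{u}} (g : U ⟶ V) [Etale g]
    (f : V ⟶ Spec (CommRingCat.of k)) (x : U) {f' : U ⟶ Spec (CommRingCat.of k)}
    (hf : g ≫ f = f') {y : V} (hy : g x = y) :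
    FBase.IsGeomReducedAt f' x ↔ FBase.IsGeomReducedAt f y := by
  subst hf hy
  have key : ∀ (K : Type u) [Field K] [Algebra k K],
      ∃ m : FBase.bc (g ≫ f) K ⟶ FBase.bc f K, Etale m ∧ m ≫ FBase.bcπ f K = FBase.bcπ (g ≫ f) K ≫ g ∧
        IsPullback m (FBase.bcπ (g ≫ f) K) (FBase.bcπ f K) g := by
    intro K _ _
    let σ := Spec.map (CommRingCat.ofHom (algebraMap k K))
    let m : FBase.bc (g ≫ f) K ⟶ FBase.bc f K :=
      pullback.lift (FBase.bcπ (g ≫ f) K ≫ g) (FBase.bcStr (g ≫ f) K)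
        (by rw [Category.assoc]; exact pullback.condition)
    have h₁ : m ≫ FBase.bcπ f K = FBase.bcπ (g ≫ f) K ≫ g := pullback.lift_fst ..
    have h₂ : m ≫ FBase.bcStr f K = FBase.bcStr (g ≫ f) K := pullback.lift_snd ..
    have big : IsPullback (FBase.bcπ (g ≫ f) K) (m ≫ FBase.bcStr f K) (g ≫ f) σ :=
      h₂ ▸ IsPullback.of_hasPullback (g ≫ f) σ
    have sq : IsPullback (FBase.bcπ (g ≫ f) K) m g (FBase.bcπ f K) :=
      IsPullback.of_bot big h₁.symm (IsPullback.of_hasPullback f σ)
    exact ⟨m, MorphismProperty.of_isPullback sq ‹Etale g›, h₁, sq.flip⟩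
  constructor
  · intro h K _ _ z hz
    obtain ⟨m, hm, -, sq⟩ := key K
    obtain ⟨p, hp₁, hp₂⟩ := Scheme.exists_preimage_of_isPullback sq z x hz
    exact hp₁ ▸ (isReduced_stalk_etale_iff m p).1 (h K p hp₂)
  · intro h K _ _ z hz
    obtain ⟨m, hm, h₁, -⟩ := key K
    refine (isReduced_stalk_etale_iff m z).2 (h K (m z) ?_)
    rw [← Scheme.Hom.comp_apply, h₁, Scheme.Hom.comp_apply]
    exact congrArg g hz

theorem surjective_bcπ {X : Scheme.{u}} (f : X ⟶ Spec (CommRingCat.of k)) (K : Type u) [Field K]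
    [Algebra k K] : Surjective (FBase.bcπ f K) := by
  have : Surjective (Spec.map (CommRingCat.ofHom (algebraMap k K))) :=
    ⟨fun y => ⟨⟨⊥, Ideal.isPrime_bot⟩, Subsingleton.elim (α := PrimeSpectrum k) _ y⟩⟩
  exact MorphismProperty.pullback_fst (P := @Surjective) _ _ this

theorem forall_isGeomReducedAt_iff {X : Scheme.{u}} (f : X ⟶ Spec (CommRingCat.of k)) :
    (∀ x, FBase.IsGeomReducedAt f x) ↔
      ∀ (K : Type u) [Field K] [Algebra k K], IsReduced (FBase.bc f K) := by
  constructor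
  · intro h K _ _
    have : ∀ z, _root_.IsReduced ((FBase.bc f K).presheaf.stalk z) := fun z => h _ K z rfl
    exact isReduced_of_isReduced_stalk _
  · intro h x K _ _ z _
    have := h K
    infer_instance

/-- Over a perfect field, reduced means geometrically reduced. -/
theorem isGeomReducedAt_of_perfect [PerfectField k] {X : Scheme.{u}}
    (f : X ⟶ Spec (CommRingCat.of k)) [IsReduced X] (x : X) : FBase.IsGeomReducedAt f x := by
  letI : X.Over (Spec (CommRingCat.of k)) := ⟨f⟩
  exact Groth.Agent.S1560.result k X x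

theorem isGeomReducedAt_tower {X : Scheme.{u}} (f : X ⟶ Spec (CommRingCat.of k)) (K : Type u)
    [Field K] [Algebra k K] {x : X} (z : FBase.bc f K) (hz : FBase.bcπ f K z = x) :
    FBase.IsGeomReducedAt f x ↔ FBase.IsGeomReducedAt (FBase.bcStr f K) z := by
  letI : X.Over (Spec (CommRingCat.of k)) := ⟨f⟩
  exact Groth.Agent.S1545.result k X K x z hz

theorem forall_isGeomReducedAt_of_perfect_bc {X : Scheme.{u}} (f : X ⟶ Spec (CommRingCat.of k))
    (K : Type u) [Field K] [Algebra k K] [PerfectField K] [IsReduced (FBase.bc f K)] (x : X) :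
    FBase.IsGeomReducedAt f x := by
  obtain ⟨z, rfl⟩ := (surjective_bcπ f K).surj x
  exact (isGeomReducedAt_tower f K z rfl).2 (isGeomReducedAt_of_perfect _ z)

theorem forall_isGeomReducedAt_of_finite_purelyInseparable (p : ℕ) [Fact p.Prime] [CharP k p]
    {X : Scheme.{u}} (f : X ⟶ Spec (CommRingCat.of k))
    (h : ∀ (K : Type u) [Field K] [Algebra k K], Module.Finite k K → IsPurelyInseparable k K →
      IsReduced (FBase.bc f K)) (x : X) : FBase.IsGeomReducedAt f x := by
  letI : X.Over (Spec (CommRingCat.of k)) := ⟨f⟩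
  refine (Groth.Agent.S1610.result k p X x).2 fun K _ _ _ _ z _ => ?_
  have := h K inferInstance inferInstance
  exact inferInstanceAs (_root_.IsReduced ((FBase.bc f K).presheaf.stalk z))

section Space

variable {S : Scheme.{u}}

/-- Two etale charts through the same point have a common refinement. -/
theorem exists_common_chart {X : Sp S} (hX : IsAlgSpace X) {U V : Over S}
    {a : (yon S).obj U ⟶ X} {b : (yon S).obj V ⟶ X} (ha : RepWith @Etale a)
    (hb : RepWith @Etale b) {x : ↥U.left} {y : ↥V.left} (h : Points.ofPt a x = Points.ofPt b y) :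
    ∃ (M : Over S) (m : M ⟶ U) (n : M ⟶ V) (w : ↥M.left), Etale m.left ∧ Etale n.left ∧
      m.left w = x ∧ n.left w = y ∧ (yon S).map m ≫ a = (yon S).map n ≫ b := by
  obtain ⟨M, m, n, sq⟩ := exists_pullback_of_diag hX.diag a b
  obtain ⟨w, hw₁, hw₂⟩ := (ofPt_eq_ofPt_iff sq x y).1 h
  exact ⟨M, m, n, w, (repWith_yon_map_iff _ m).1 (repWith_of_isPullback sq.flip hb),
    (repWith_yon_map_iff _ n).1 (repWith_of_isPullback sq ha), hw₁, hw₂, sq.w⟩

end Space

/-- Geometric reducedness of a space at a point, through some etale chart. -/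
def GRAt {X : Sp (Spec (CommRingCat.of k))} (x : Points X) : Prop :=
  ∃ (U : Over (Spec (CommRingCat.of k))) (a : (yon (Spec (CommRingCat.of k))).obj U ⟶ X) (u : ↥U.left),
    RepWith @Etale a ∧ Points.ofPt a u = x ∧ FBase.IsGeomReducedAt U.hom u

theorem grAt_iff {X : Sp (Spec (CommRingCat.of k))} (hX : IsAlgSpace X)
    {U : Over (Spec (CommRingCat.of k))} {a : (yon (Spec (CommRingCat.of k))).obj U ⟶ X}
    (ha : RepWith @Etale a) {x : Points X} {z : ↥U.left} (hz : Points.ofPt a z = x) :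
    GRAt x ↔ FBase.IsGeomReducedAt U.hom z := by
  refine ⟨?_, fun h => ⟨U, a, z, ha, hz, h⟩⟩
  rintro ⟨V, b, v, hb, hv, h⟩
  obtain ⟨M, m, n, w, hm, hn, hw₁, hw₂, -⟩ := exists_common_chart hX hb ha (hv.trans hz.symm)
  exact (isGeomReducedAt_etale_iff n.left U.hom w (Over.w n) hw₂).1
    ((isGeomReducedAt_etale_iff m.left V.hom w (Over.w m) hw₁).2 h)

theorem forall_grAt_iff {X : Sp (Spec (CommRingCat.of k))} (hX : IsAlgSpace X)
    {U : Over (Spec (CommRingCat.of k))} {a : (yon (Spec (CommRingCat.of k))).obj U ⟶ X}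
    (ha : RepWith @Etale a) (hs : RepWith @Surjective a) :
    (∀ x : Points X, GRAt x) ↔ ∀ z : ↥U.left, FBase.IsGeomReducedAt U.hom z := by
  refine ⟨fun h z => (grAt_iff hX ha rfl).1 (h _), fun h x => ?_⟩
  obtain ⟨z, rfl⟩ := surjective_ofPt_of_repWith hs x
  exact ⟨U, a, z, ha, rfl, h z⟩

/-- The base change of a space to a field extension. -/
abbrev bcSp (X : Sp (Spec (CommRingCat.of k))) (K : Type u) [Field K] [Algebra k K] :
    Sp (Spec (CommRingCat.of k)) :=
  X ⨯ (yon (Spec (CommRingCat.of k))).obj (Over.mk (Spec.map (CommRingCat.ofHom (algebraMap k K))))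

/-- The base change of a chart. -/
theorem exists_chart_bc {X : Sp (Spec (CommRingCat.of k))}
    {U : Over (Spec (CommRingCat.of k))} {a : (yon (Spec (CommRingCat.of k))).obj U ⟶ X}
    (ha : RepWith @Etale a) (hs : RepWith @Surjective a) (K : Type u) [Field K] [Algebra k K] :
    ∃ (pr₁ : Over.mk (FBase.bcπ U.hom K ≫ U.hom) ⟶ U)
      (pr₂ : Over.mk (FBase.bcπ U.hom K ≫ U.hom) ⟶
        Over.mk (Spec.map (CommRingCat.ofHom (algebraMap k K))))
      (a' : (yon (Spec (CommRingCat.of k))).obj (Over.mk (FBase.bcπ U.hom K ≫ U.hom)) ⟶ bcSp X K),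
      pr₁.left = FBase.bcπ U.hom K ∧ pr₂.left = FBase.bcStr U.hom K ∧
      RepWith @Etale a' ∧ RepWith @Surjective a' ∧
      a' ≫ prod.fst = (yon (Spec (CommRingCat.of k))).map pr₁ ≫ a ∧
      a' ≫ prod.snd = (yon (Spec (CommRingCat.of k))).map pr₂ := by
  let S : Scheme.{u} := Spec (CommRingCat.of k)
  let T : Over S := Over.mk (Spec.map (CommRingCat.ofHom (algebraMap k K)))
  let W : Over S := Over.mk (FBase.bcπ U.hom K ≫ U.hom)
  let pr₁ : W ⟶ U := Over.homMk (FBase.bcπ U.hom K) rfl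
  let pr₂ : W ⟶ T := Over.homMk (FBase.bcStr U.hom K) pullback.condition.symm
  let one : Over S := Over.mk (𝟙 S)
  let tU : U ⟶ one := Over.homMk U.hom (Category.comp_id _)
  let tT : T ⟶ one := Over.homMk T.hom (Category.comp_id _)
  let h1 : IsTerminal ((yon S).obj one) := Over.mkIdTerminal.isTerminalObj (yon S) _
  have sq₀ : IsPullback pr₁ pr₂ tU tT :=
    IsPullback.of_map (Over.forget S) (Over.OverMorphism.ext pullback.condition)
      (IsPullback.of_hasPullback U.hom T.hom)
  have sq₁ := sq₀.map (yon S)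
  let a' : (yon S).obj W ⟶ bcSp X K := prod.lift ((yon S).map pr₁ ≫ a) ((yon S).map pr₂)
  have small : IsPullback (prod.fst : bcSp X K ⟶ X) prod.snd (h1.from X) ((yon S).map tT) := by
    rw [← h1.hom_ext (h1.from ((yon S).obj T)) ((yon S).map tT)]
    exact IsPullback.of_is_product (prodIsProd X ((yon S).obj T)) h1
  have big : IsPullback ((yon S).map pr₁) (a' ≫ prod.snd) (a ≫ h1.from X) ((yon S).map tT) := by
    rw [prod.lift_snd, h1.hom_ext (a ≫ h1.from X) ((yon S).map tU)]
    exact sq₁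
  have sq : IsPullback ((yon S).map pr₁) a' a prod.fst :=
    IsPullback.of_bot big (prod.lift_fst _ _).symm small
  exact ⟨pr₁, pr₂, a', rfl, rfl, repWith_of_isPullback sq ha, repWith_of_isPullback sq hs,
    prod.lift_fst _ _, prod.lift_snd _ _⟩

theorem representable_fst_bc (X : Sp (Spec (CommRingCat.of k))) (K : Type u) [Field K]
    [Algebra k K] : Representable (prod.fst : bcSp X K ⟶ X) := by
  let S : Scheme.{u} := Spec (CommRingCat.of k)
  let T : Over S := Over.mk (Spec.map (CommRingCat.ofHom (algebraMap k K)))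
  let one : Over S := Over.mk (𝟙 S)
  let tT : T ⟶ one := Over.homMk T.hom (Category.comp_id _)
  let h1 : IsTerminal ((yon S).obj one) := Over.mkIdTerminal.isTerminalObj (yon S) _
  have small : IsPullback (prod.fst : bcSp X K ⟶ X) prod.snd (h1.from X) ((yon S).map tT) := by
    rw [← h1.hom_ext (h1.from ((yon S).obj T)) ((yon S).map tT)]
    exact IsPullback.of_is_product (prodIsProd X ((yon S).obj T)) h1
  exact MorphismProperty.of_isPullback (P := Representable (S := S)) small.flip
    (representable_yon_map tT)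

theorem isAlgSpace_bcSp {X : Sp (Spec (CommRingCat.of k))} (hX : IsAlgSpace X) (K : Type u) [Field K]
    [Algebra k K] : IsAlgSpace (bcSp X K) := by
  exact isAlgSpace_of_representable hX prod.fst (representable_fst_bc X K)

theorem isReducedSp_bc_iff {X : Sp (Spec (CommRingCat.of k))} (hX : IsAlgSpace X)
    {U : Over (Spec (CommRingCat.of k))} {a : (yon (Spec (CommRingCat.of k))).obj U ⟶ X}
    (ha : RepWith @Etale a) (hs : RepWith @Surjective a) (K : Type u) [Field K] [Algebra k K] :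
    EtaleLocally (fun U => IsReduced U) (bcSp X K) ↔ IsReduced (FBase.bc U.hom K) := by
  obtain ⟨pr₁, pr₂, a', -, -, ha', hs', -, -⟩ := exists_chart_bc ha hs K
  exact ⟨fun h => Groth.AlgSp3.isReduced_etale_chart (isAlgSpace_bcSp hX K) h ha',
    fun h => ⟨_, a', ha', hs', h⟩⟩

theorem forall_grAt_iff_forall_bc {X : Sp (Spec (CommRingCat.of k))} (hX : IsAlgSpace X) :
    (∀ x : Points X, GRAt x) ↔
      ∀ (K : Type u) [Field K] [Algebra k K], EtaleLocally (fun U => IsReduced U) (bcSp X K) := by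
  obtain ⟨U, a, ha, hs⟩ := hX.atlas
  rw [forall_grAt_iff hX ha hs, forall_isGeomReducedAt_iff]
  exact forall_congr' fun K => forall_congr' fun _ => forall_congr' fun _ =>
    (isReducedSp_bc_iff hX ha hs K).symm

theorem grAt_of_perfect [PerfectField k] {X : Sp (Spec (CommRingCat.of k))}
    (hr : EtaleLocally (fun U => IsReduced U) X) (x : Points X) : GRAt x := by
  obtain ⟨U, a, ha, hs, hU⟩ := hr
  obtain ⟨z, rfl⟩ := surjective_ofPt_of_repWith hs x
  have : IsReduced U.left := hU
  exact ⟨U, a, z, ha, rfl, isGeomReducedAt_of_perfect _ z⟩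

theorem forall_bc_of_perfect_bc {X : Sp (Spec (CommRingCat.of k))} (hX : IsAlgSpace X) (L : Type u)
    [Field L] [Algebra k L] [PerfectField L] (h : EtaleLocally (fun U => IsReduced U) (bcSp X L))
    (K : Type u) [Field K] [Algebra k K] : EtaleLocally (fun U => IsReduced U) (bcSp X K) := by
  obtain ⟨U, a, ha, hs⟩ := hX.atlas
  have := (isReducedSp_bc_iff hX ha hs L).1 h
  exact (isReducedSp_bc_iff hX ha hs K).2
    ((forall_isGeomReducedAt_iff _).1 (forall_isGeomReducedAt_of_perfect_bc U.hom L) K)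

theorem forall_bc_of_finite_purelyInseparable (p : ℕ) [Fact p.Prime] [CharP k p]
    {X : Sp (Spec (CommRingCat.of k))} (hX : IsAlgSpace X)
    (h : ∀ (K : Type u) [Field K] [Algebra k K], Module.Finite k K → IsPurelyInseparable k K →
      EtaleLocally (fun U => IsReduced U) (bcSp X K))
    (K : Type u) [Field K] [Algebra k K] : EtaleLocally (fun U => IsReduced U) (bcSp X K) := by
  obtain ⟨U, a, ha, hs⟩ := hX.atlas
  exact (isReducedSp_bc_iff hX ha hs K).2 ((forall_isGeomReducedAt_iff _).1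
    (forall_isGeomReducedAt_of_finite_purelyInseparable p U.hom
      fun L _ _ h₁ h₂ => (isReducedSp_bc_iff hX ha hs L).1 (h L h₁ h₂)) K)

theorem surjective_map_fst_bc {X : Sp (Spec (CommRingCat.of k))} (hX : IsAlgSpace X) (K : Type u)
    [Field K] [Algebra k K] :
    Function.Surjective (Points.map (prod.fst : bcSp X K ⟶ X)) := by
  intro x
  obtain ⟨U, a, ha, hs⟩ := hX.atlas
  obtain ⟨pr₁, pr₂, a', h₁, -, -, -, e₁, -⟩ := exists_chart_bc ha hs K
  obtain ⟨z, rfl⟩ := surjective_ofPt_of_repWith hs x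
  obtain ⟨w, hw⟩ := (surjective_bcπ U.hom K).surj z
  refine ⟨Points.ofPt a' w, ?_⟩
  rw [Points.map_ofPt, e₁, ofPt_comp_yon, h₁, hw]

/-- Geometric reducedness at a point is insensitive to field extensions. -/
theorem grAt_iff_bc {X : Sp (Spec (CommRingCat.of k))} (hX : IsAlgSpace X) (K : Type u) [Field K]
    [Algebra k K] (x' : Points (bcSp X K)) :
    GRAt (Points.map (prod.fst : bcSp X K ⟶ X) x') ↔
      ∃ (U' : Over (Spec (CommRingCat.of k)))
        (a' : (yon (Spec (CommRingCat.of k))).obj U' ⟶ bcSp X K)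
        (q : U' ⟶ Over.mk (Spec.map (CommRingCat.ofHom (algebraMap k K)))) (u' : ↥U'.left),
        RepWith @Etale a' ∧ a' ≫ prod.snd = (yon (Spec (CommRingCat.of k))).map q ∧
          Points.ofPt a' u' = x' ∧ FBase.IsGeomReducedAt q.left u' := by
  obtain ⟨U, a, ha, hs⟩ := hX.atlas
  obtain ⟨pr₁, pr₂, a', h₁, h₂, ha', hs', e₁, e₂⟩ := exists_chart_bc ha hs K
  obtain ⟨w, rfl⟩ := surjective_ofPt_of_repWith hs' x'
  have hx : Points.map (prod.fst : bcSp X K ⟶ X) (Points.ofPt a' w) = Points.ofPt a (pr₁.left w) := by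
    rw [Points.map_ofPt, e₁, ofPt_comp_yon]
  have base : GRAt (Points.map (prod.fst : bcSp X K ⟶ X) (Points.ofPt a' w)) ↔
      FBase.IsGeomReducedAt pr₂.left w := by
    rw [hx, grAt_iff hX ha rfl, h₁, h₂]
    exact isGeomReducedAt_tower U.hom K w rfl
  rw [base]
  refine ⟨fun h => ⟨_, a', pr₂, w, ha', e₂, rfl, h⟩, ?_⟩
  rintro ⟨V, b, q, v, hb, hq, hv, h⟩
  obtain ⟨M, m, n, z, hm, hn, hw₁, hw₂, e⟩ :=
    exists_common_chart (isAlgSpace_bcSp hX K) hb ha' hv
  have e' : m ≫ q = n ≫ pr₂ := (yon (Spec (CommRingCat.of k))).map_injective (by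
    simp only [Functor.map_comp, ← hq, ← e₂, ← Category.assoc, e])
  exact (isGeomReducedAt_etale_iff n.left pr₂.left z (congrArg CommaMorphism.left e').symm hw₂).1
    ((isGeomReducedAt_etale_iff m.left q.left z rfl hw₁).2 h)

theorem grAt_map_iff_of_etaleAt {X Y : Sp (Spec (CommRingCat.of k))} (hX : IsAlgSpace X)
    (hY : IsAlgSpace Y) (f : X ⟶ Y) (x : Points X)
    (he : HasAtMor (fun U _ h u => ∃ W : U.Opens, u ∈ W ∧ Etale (W.ι ≫ h)) f x) :
    GRAt x ↔ GRAt (Points.map f x) := by
  obtain ⟨U, V, a, b, h, z, ha, hb, hc, rfl, W, hzW, hW⟩ := he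
  have hy : Points.ofPt b (h.left z) = Points.map f (Points.ofPt a z) := by
    rw [Points.map_ofPt, hc, ofPt_comp_yon]
  rw [grAt_iff hX ha rfl, grAt_iff hY hb hy,
    ← isGeomReducedAt_etale_iff W.ι U.hom ⟨z, hzW⟩ rfl (y := z) rfl]
  refine isGeomReducedAt_etale_iff (W.ι ≫ h.left) V.hom ⟨z, hzW⟩ ?_ rfl
  rw [Category.assoc, Over.w h]

theorem forall_grAt_iff_of_etale_surjective {X Y : Sp (Spec (CommRingCat.of k))} (hX : IsAlgSpace X)
    (hY : IsAlgSpace Y) (f : X ⟶ Y) (he : IsEtaleMor f) (hs : IsSurjectiveMor f) :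
    (∀ x : Points X, GRAt x) ↔ ∀ y : Points Y, GRAt y := by
  obtain ⟨U, a, ha, has⟩ := hX.atlas
  have key : ∀ x : Points X, GRAt x ↔ GRAt (Points.map f x) := fun x => by
    obtain ⟨z, rfl⟩ := surjective_ofPt_of_repWith has x
    rw [grAt_iff hX ha rfl, grAt_iff hY (he a ha) (Points.map_ofPt (f := f) (g := a) z).symm]
  refine ⟨fun h y => ?_, fun h x => (key x).2 (h _)⟩
  obtain ⟨x, rfl⟩ := hs y
  exact (key x).1 (h x)

end

end Groth.AlgSp2.GeomReducedSp
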