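import Groth.Agent.AlgSp2.Decency
import Groth.Agent.AlgSpBasic.Diag
import Mathlib.AlgebraicGeometry.Morphisms.Immersion
import Mathlib.AlgebraicGeometry.AffineSpace
import Mathlib.LinearAlgebra.TensorProduct.Finiteness
import Mathlib.LinearAlgebra.Dimension.StrongRankCondition

/-!
For a locally separated algebraic space the geometric fibres of an étale morphism from an affine
scheme are finite.
-/

universe u

open CategoryTheory CategoryTheory.Limits AlgebraicGeometry Opposite
open scoped TensorProduct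

noncomputable section

namespace Groth.AlgSp2

section Algebra

/-- Among more than `n` points, a bilinear expression of length `n` which is nonzero on the diagonal is
nonzero at some pair of distinct points. -/
theorem exists_pair_ne_zero {B Ω : Type*} [CommRing B] [Field Ω] {n : ℕ}
    (h : Fin (n + 1) → B →+* Ω) (a b : Fin n → B) (hd : ∀ i, h i (∑ l, a l * b l) ≠ 0) :
    ∃ i j, i ≠ j ∧ ∑ l, h i (a l) * h j (b l) ≠ 0 := by
  by_contra hc
  simp only [not_exists, not_and, not_not] at hc
  have hli : LinearIndependent Ω fun i => fun l => h i (a l) := by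
    rw [Fintype.linearIndependent_iff]
    intro c hsum j
    have hj := congrArg (fun v : Fin n → Ω => ∑ l, v l * h j (b l)) hsum
    simp only [Finset.sum_apply, Pi.smul_apply, smul_eq_mul, Pi.zero_apply, zero_mul,
      Finset.sum_const_zero, Finset.sum_mul] at hj
    rw [Finset.sum_comm, Finset.sum_eq_single j] at hj
    · simp only [mul_assoc, ← Finset.mul_sum, ← map_mul, ← map_sum] at hj
      exact (mul_eq_zero.1 hj).resolve_right (hd j)
    · intro i _ hij
      simp only [mul_assoc, ← Finset.mul_sum, hc i j hij, mul_zero]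
    · simp
  have := hli.fintype_card_le_finrank
  simp at this

/-- A set of field-valued points of `Spec B` in which distinct points form pairs avoiding a
neighbourhood of the diagonal is finite. -/
theorem finite_of_diag_nbhd {K B Ω : Type u} [CommRing K] [CommRing B] [Algebra K B] [Field Ω]
    (H : Set (B →+* Ω)) (hH : ∀ h ∈ H, ∀ h' ∈ H, ∀ x : K, h (algebraMap K B x) = h' (algebraMap K B x))
    (O : Set (PrimeSpectrum (B ⊗[K] B))) (hO : IsOpen O)
    (hΔ : ∀ z : PrimeSpectrum B,
      PrimeSpectrum.comap (Algebra.TensorProduct.lmul' K : B ⊗[K] B →ₐ[K] B).toRingHom z ∈ O)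
    (hpair : ∀ h ∈ H, ∀ h' ∈ H, ∀ H₂ : B ⊗[K] B →+* Ω, (∀ x, H₂ (x ⊗ₜ 1) = h x) →
      (∀ x, H₂ (1 ⊗ₜ x) = h' x) → PrimeSpectrum.comap H₂ (IsLocalRing.closedPoint Ω) ∈ O → h = h') :
    H.Finite := by
  have key : ∀ z : PrimeSpectrum B, ∃ g : B, z ∈ PrimeSpectrum.basicOpen g ∧
      {h | h ∈ H ∧ h g ≠ 0}.Finite := by
    intro z
    obtain ⟨_, ⟨f, rfl⟩, hzf, hfO⟩ :=
      PrimeSpectrum.isTopologicalBasis_basic_opens.exists_subset_of_mem_open (hΔ z) hO
    obtain ⟨s, hs⟩ := TensorProduct.exists_finset f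
    obtain ⟨n, ⟨σ⟩⟩ := Finite.exists_equiv_fin s
    let a : Fin n → B := fun l => (σ.symm l).1.1
    let b : Fin n → B := fun l => (σ.symm l).1.2
    have hf : f = ∑ l, a l ⊗ₜ[K] b l := by
      rw [hs, ← Finset.sum_coe_sort s]
      exact (Fintype.sum_equiv σ _ _ fun i => by simp [a, b])
    refine ⟨∑ l, a l * b l, ?_, ?_⟩
    · have : (Algebra.TensorProduct.lmul' K : B ⊗[K] B →ₐ[K] B) f = ∑ l, a l * b l := by
        rw [hf, map_sum]; simp
      rw [PrimeSpectrum.mem_basicOpen, ← this]
      exact hzf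
    · by_contra hinf
      obtain ⟨e⟩ : Nonempty (Fin (n + 1) ↪ {h | h ∈ H ∧ h (∑ l, a l * b l) ≠ 0}) :=
        ⟨(⟨_, Fin.val_injective⟩ : Fin (n + 1) ↪ ℕ).trans
          (Set.Infinite.natEmbedding _ hinf)⟩
      obtain ⟨i, j, hij, hne⟩ := exists_pair_ne_zero (fun i => (e i).1) a b fun i => (e i).2.2
      letI : Algebra K Ω := ((e i).1.comp (algebraMap K B)).toAlgebra
      let g₁ : B →ₐ[K] Ω := ⟨(e i).1, fun _ => rfl⟩
      let g₂ : B →ₐ[K] Ω := ⟨(e j).1, fun x => hH _ (e j).2.1 _ (e i).2.1 x⟩
      let H₂ := Algebra.TensorProduct.lift g₁ g₂ fun _ _ => Commute.all _ _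
      refine hij (e.injective (Subtype.ext (hpair _ (e i).2.1 _ (e j).2.1 H₂.toRingHom
        (fun x => by simp [H₂, g₁]) (fun x => by simp [H₂, g₂]) (hfO ?_))))
      show H₂ f ∉ IsLocalRing.maximalIdeal Ω
      rw [hf, map_sum]
      simp only [IsLocalRing.mem_maximalIdeal, mem_nonunits_iff, isUnit_iff_ne_zero, not_not]
      simpa [H₂, g₁, g₂] using hne
  choose g hg hfin using key
  obtain ⟨t, ht⟩ := isCompact_univ.elim_finite_subcover
    (fun z => (PrimeSpectrum.basicOpen (g z) : Set (PrimeSpectrum B)))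
    (fun z => (PrimeSpectrum.basicOpen (g z)).isOpen)
    (fun z _ => Set.mem_iUnion.2 ⟨z, hg z⟩)
  refine (t.finite_toSet.biUnion fun z _ => hfin z).subset fun h hh => ?_
  obtain ⟨z, hz, hzm⟩ := Set.mem_iUnion₂.1
    (ht (Set.mem_univ (PrimeSpectrum.comap h (IsLocalRing.closedPoint Ω))))
  refine Set.mem_iUnion₂.2 ⟨z, hz, hh, fun h0 => hzm ?_⟩
  show h (g z) ∈ IsLocalRing.maximalIdeal Ω
  rw [h0]
  exact zero_mem _

end Algebra

open AlgSp

variable {S : Scheme.{u}} {X : Sp S}

instance : MorphismProperty.HasOfPostcompProperty @IsOpenImmersion.{u} @Etale.{u} :=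
  MorphismProperty.hasOfPostcompProperty_iff_le_diagonal.mpr fun _ _ f (_ : Etale f) =>
    (inferInstance : IsOpenImmersion (pullback.diagonal f))

theorem finite_geometricFibre_aux (hls : RepWith @IsImmersion (Limits.diag X))
    {K B : Type u} [CommRing K] [CommRing B] [Algebra K B]
    (hK : IsTerminal (Spec (CommRingCat.of K))) {U : Over S} (α₀ : U.left ≅ Spec (CommRingCat.of B))
    {φ : (yon S).obj U ⟶ X} (hφ : RepWith @Etale φ)
    {Ω : Type u} [Field Ω] {w : Spec (CommRingCat.of Ω) ⟶ S}
    (y : (yon S).obj (Over.mk w) ⟶ X) :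
    {h : Over.mk w ⟶ U | (yon S).map h ≫ φ = y}.Finite := by
  obtain ⟨R, t, s, sq⟩ := AlgSpBasic.exists_pullback_yon hφ.rep φ
  have : Etale s.left := hφ.property _ _ _ sq
  have hl : IsImmersion (Limits.prod.lift t s).left := AlgSpBasic.prop_lift_of_repWith_diag hls sq
  let α : U.left ⟶ Spec (CommRingCat.of B) := α₀.hom
  let i : S ⟶ Spec (CommRingCat.of K) := hK.from _
  let g : Spec (CommRingCat.of B) ⟶ Spec (CommRingCat.of K) :=
    Spec.map (CommRingCat.ofHom (algebraMap K B))
  let incl₁ := CommRingCat.ofHom (R := B) (S := B ⊗[K] B)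
    Algebra.TensorProduct.includeLeftRingHom
  let incl₂ := CommRingCat.ofHom (R := B) (S := B ⊗[K] B)
    (RingHomClass.toRingHom (Algebra.TensorProduct.includeRight : B →ₐ[K] B ⊗[K] B))
  let f : R.left ⟶ Spec (CommRingCat.of (B ⊗[K] B)) :=
    ((Limits.prod.lift t s).left ≫ (Over.prodLeftIsoPullback U U).hom) ≫
      pullback.mapDesc U.hom U.hom i ≫
        pullback.map (U.hom ≫ i) (U.hom ≫ i) g g α α (𝟙 _)
          (hK.hom_ext _ _) (hK.hom_ext _ _) ≫
            (pullbackSpecIso K B B).hom
  have hf₁ : f ≫ Spec.map incl₁ = t.left ≫ α := by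
    simp only [f, g, incl₁, Category.assoc, pullbackSpecIso_hom_fst, pullback.map,
      pullback.mapDesc, pullback.lift_fst, pullback.lift_fst_assoc,
      Over.prodLeftIsoPullback_hom_fst_assoc, Category.comp_id]
    rw [← Category.assoc, ← Over.comp_left, Limits.prod.lift_fst]
  have hf₂ : f ≫ Spec.map incl₂ = s.left ≫ α := by
    simp only [f, g, incl₂, Category.assoc, pullbackSpecIso_hom_snd, pullback.map,
      pullback.mapDesc, pullback.lift_snd, pullback.lift_snd_assoc,
      Over.prodLeftIsoPullback_hom_snd_assoc, Category.comp_id]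
    rw [← Category.assoc, ← Over.comp_left, Limits.prod.lift_snd]
  have hext : ∀ {Z : Scheme.{u}} {a b : Z ⟶ Spec (CommRingCat.of (B ⊗[K] B))},
      a ≫ Spec.map incl₁ = b ≫ Spec.map incl₁ → a ≫ Spec.map incl₂ = b ≫ Spec.map incl₂ →
        a = b := by
    intro Z a b h₁ h₂
    rw [← cancel_mono (pullbackSpecIso K B B).inv]
    apply pullback.hom_ext
    · simpa only [Category.assoc, pullbackSpecIso_inv_fst] using h₁
    · simpa only [Category.assoc, pullbackSpecIso_inv_snd] using h₂
  have : IsImmersion ((Limits.prod.lift t s).left ≫ (Over.prodLeftIsoPullback U U).hom) :=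
    inferInstance
  have hf : IsImmersion f := inferInstance
  -- the diagonal section
  obtain ⟨e, he⟩ := (yon S).map_surjective
    (sq.lift ((yon S).map (𝟙 U)) ((yon S).map (𝟙 U)) rfl)
  have het : e ≫ t = 𝟙 U := (yon S).map_injective (by rw [Functor.map_comp, he, sq.lift_fst])
  have hes : e ≫ s = 𝟙 U := (yon S).map_injective (by rw [Functor.map_comp, he, sq.lift_snd])
  have : IsOpenImmersion e.left :=
    MorphismProperty.HasOfPostcompProperty.of_postcomp (W' := @Etale.{u}) e.left s.left
      ‹Etale s.left› (by rw [← Over.comp_left, hes]; exact (inferInstance : IsOpenImmersion (𝟙 U.left)))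
  obtain ⟨O, hO, hOe⟩ := f.isEmbedding.isInducing.isOpen_iff.1 e.left.isOpenEmbedding.isOpen_range
  -- translate the geometric points to ring homomorphisms
  let hom : (Over.mk w ⟶ U) → B →+* Ω := fun h => (Spec.preimage (h.left ≫ α)).hom
  have hhom : ∀ h, Spec.map (CommRingCat.ofHom (hom h)) = h.left ≫ α := fun h =>
    Spec.map_preimage (h.left ≫ α)
  have hinj : Function.Injective hom := fun h h' e' => Over.OverMorphism.ext (by
    rw [← cancel_mono α, ← hhom, ← hhom, e'])
  refine Set.Finite.of_finite_image ?_ hinj.injOn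
  refine finite_of_diag_nbhd (K := K) _ (fun h _ h' _ x => ?_) O hO (fun z => ?_) ?_
  · exact RingHom.congr_fun ((fun {a b} e => congrArg CommRingCat.Hom.hom e : ∀ {a b : K →+* Ω}, CommRingCat.ofHom a = CommRingCat.ofHom b → a = b) (Spec.map_injective (hK.hom_ext
      (Spec.map (CommRingCat.ofHom (h.comp (algebraMap K B))))
      (Spec.map (CommRingCat.ofHom (h'.comp (algebraMap K B))))))) x
  · have hΔ : Spec.map (CommRingCat.ofHom
        (Algebra.TensorProduct.lmul' K : B ⊗[K] B →ₐ[K] B).toRingHom) =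
        CategoryTheory.inv α ≫ e.left ≫ f := by
      rw [IsIso.eq_inv_comp]
      refine hext ?_ ?_ <;> simp only [Category.assoc, hf₁, hf₂, incl₁, incl₂, ← Spec.map_comp]
      · rw [← Category.assoc e.left, ← Over.comp_left, het, ← CommRingCat.ofHom_comp]
        refine Eq.trans ?_ (Category.id_comp _).symm
        refine (congrArg (α ≫ ·) ?_).trans (Category.comp_id _)
        rw [← Spec.map_id]
        congr 1
        ext x
        simp
      · rw [← Category.assoc e.left, ← Over.comp_left, hes, ← CommRingCat.ofHom_comp]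
        refine Eq.trans ?_ (Category.id_comp _).symm
        refine (congrArg (α ≫ ·) ?_).trans (Category.comp_id _)
        rw [← Spec.map_id]
        congr 1
        ext x
        simp
    have hz : Spec.map (CommRingCat.ofHom
        (Algebra.TensorProduct.lmul' K : B ⊗[K] B →ₐ[K] B).toRingHom) z ∈ O := by
      rw [hΔ]
      exact hOe.ge ⟨(CategoryTheory.inv α) z, rfl⟩
    exact hz
  · rintro _ ⟨h, hh, rfl⟩ _ ⟨h', hh', rfl⟩ H₂ h₁ h₂ hmem
    obtain ⟨q, hq⟩ := (yon S).map_surjective
      (sq.lift ((yon S).map h) ((yon S).map h') (hh.trans hh'.symm))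
    have hq₁ : q ≫ t = h := (yon S).map_injective (by rw [Functor.map_comp, hq, sq.lift_fst])
    have hq₂ : q ≫ s = h' := (yon S).map_injective (by rw [Functor.map_comp, hq, sq.lift_snd])
    have hH₂ : Spec.map (CommRingCat.ofHom H₂) = q.left ≫ f := by
      refine hext ?_ ?_
      · refine Eq.trans ?_ ((congrArg (q.left ≫ ·) hf₁).symm.trans (Category.assoc _ _ _).symm)
        rw [← Spec.map_comp, ← Category.assoc q.left, ← Over.comp_left, hq₁, ← hhom]
        congr 1
        ext x
        exact h₁ x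
      · refine Eq.trans ?_ ((congrArg (q.left ≫ ·) hf₂).symm.trans (Category.assoc _ _ _).symm)
        rw [← Spec.map_comp, ← Category.assoc q.left, ← Over.comp_left, hq₂, ← hhom]
        congr 1
        ext x
        exact h₂ x
    have hqe : Set.range q.left ⊆ Set.range e.left := by
      rintro _ ⟨p, rfl⟩
      rw [← hOe]
      rw [Subsingleton.elim (α := ↥(Spec (CommRingCat.of Ω))) p (IsLocalRing.closedPoint Ω)]
      have : (q.left ≫ f) (IsLocalRing.closedPoint Ω) ∈ O := by rw [← hH₂]; exact hmem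
      exact this
    let l := IsOpenImmersion.lift e.left q.left hqe
    have hle : l ≫ e.left = q.left := IsOpenImmersion.lift_fac _ _ _
    have : h.left = h'.left := by
      rw [← hq₁, ← hq₂, Over.comp_left, Over.comp_left, ← hle, Category.assoc, Category.assoc,
        ← Over.comp_left, ← Over.comp_left, het, hes]
    exact congrArg hom (Over.OverMorphism.ext this)

/-- An affine scheme étale over a locally separated space has finite geometric fibres. -/
theorem finite_geometricFibre_of_locallySeparated (hls : RepWith @IsImmersion (Limits.diag X))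
    {U : Over S} [IsAffine U.left] {φ : (yon S).obj U ⟶ X} (hφ : RepWith @Etale φ)
    {Ω : Type u} [Field Ω] {w : Spec (CommRingCat.of Ω) ⟶ S}
    (y : (yon S).obj (Over.mk w) ⟶ X) :
    {h : Over.mk w ⟶ U | (yon S).map h ≫ φ = y}.Finite := by
  letI : Algebra (ULift.{u} ℤ) ↑Γ(U.left, ⊤) :=
    ((Int.castRingHom ↑Γ(U.left, ⊤)).comp ULift.ringEquiv.toRingHom).toAlgebra
  exact finite_geometricFibre_aux hls (K := ULift.{u} ℤ) (B := ↑Γ(U.left, ⊤)) specULiftZIsTerminal
    U.left.isoSpec hφ y

end Groth.AlgSp2
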