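import Groth.Agent.AlgSp2.NormalChart
import Groth.Agent.AlgSp3.ImmersionImage
import Groth.Agent.S10494
import Groth.Prelude.Def_AlgSpOX

/-!
# Global functions on normal integral algebraic spaces
-/

set_option autoImplicit false
set_option backward.isDefEq.respectTransparency.types false
universe u

open CategoryTheory CategoryTheory.Limits AlgebraicGeometry AlgSp Groth.AlgSpBasic

namespace Groth.AlgSp2.GlobalSectionsNormal

noncomputable section

variable {S : Scheme.{u}} {X : Sp S}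

/-- Sections of the structure sheaf. -/
abbrev R (E : EtOver X) : Type u := Γ(E.obj.left.left, ⊤)

/-- Restriction of sections. -/
abbrev res {E E' : EtOver X} (g : E ⟶ E') : R E' →+* R E := g.hom.left.left.appTop.hom

/-- Evaluation of a global function. -/
def ev (E : EtOver X) : ↥(gsectEt (OEt X)) →+* R E :=
  ULift.ringEquiv.toRingHom.comp (limit.π (OEt X).obj (Opposite.op E)).hom

theorem res_ev {E E' : EtOver X} (g : E ⟶ E') (s : ↥(gsectEt (OEt X))) :
    res g (ev E' s) = ev E s :=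
  congrArg ULift.down (ConcreteCategory.congr_hom (limit.w (OEt X).obj g.op) s)

theorem ev_ext {s t : ↥(gsectEt (OEt X))} (h : ∀ E, ev E s = ev E t) : s = t :=
  Limits.Concrete.limit_ext _ _ _ fun j => ULift.ext _ _ (h j.unop)

theorem exists_gsect (r : ∀ E : EtOver X, R E) (h : ∀ {E E' : EtOver X} (g : E ⟶ E'), res g (r E') = r E) :
    ∃ s : ↥(gsectEt (OEt X)), ∀ E, ev E s = r E := by
  have hl := isLimitOfPreserves (CategoryTheory.forget CommRingCat.{u + 1}) (limit.isLimit (OEt X).obj)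
  obtain ⟨s, hs, -⟩ := (Types.isLimit_iff _).1 ⟨hl⟩ (fun j => (ULift.up (r j.unop) : ULift.{u + 1} _))
    (fun {i j} g => ULift.ext _ _ (h g.unop))
  exact ⟨s, fun E => congrArg ULift.down (hs (Opposite.op E))⟩

/-- Amalgamation of functions along a covering. -/
theorem existsUnique_glue {E : EtOver X} {ι : Type u} (Y : ι → EtOver X) (g : ∀ i, Y i ⟶ E)
    (hg : ∀ x : ↥E.obj.left.left, ∃ i, x ∈ Set.range (g i).hom.left.left) (r : ∀ i, R (Y i))
    (hr : ∀ i j (Z : EtOver X) (a : Z ⟶ Y i) (b : Z ⟶ Y j), a ≫ g i = b ≫ g j →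
      res a (r i) = res b (r j)) :
    ∃! t : R E, ∀ i, res (g i) t = r i := by
  have hT : Presieve.IsSheaf (etTop X) ((OEt X).obj ⋙ CategoryTheory.forget CommRingCat.{u + 1}) :=
    (isSheaf_iff_isSheaf_of_type _ _).1
      (Presheaf.isSheaf_comp_of_isSheaf (etTop X) (OEt X).obj (CategoryTheory.forget CommRingCat.{u + 1})
        (OEt X).property)
  have h := (Presieve.isSheafFor_iff_generate _).2 (hT _ (ofArrows_mem_etTop Y g hg))
  obtain ⟨t, ht, huniq⟩ := (Presieve.isSheafFor_arrows_iff _ _).1 h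
    (fun i => (ULift.up (r i) : ULift.{u + 1} _))
    (fun i j Z a b e => ULift.ext _ _ (hr i j Z a b e))
  exact ⟨t.down, fun i => congrArg ULift.down (ht i), fun y hy =>
    congrArg ULift.down (huniq (ULift.up y) fun i => ULift.ext _ _ (hy i))⟩

variable (hA : IsAlgSpace X)
include hA

theorem mem_basicOpen_iff (s : ↥(gsectEt (OEt X))) (E E' : EtOver X) {v : ↥E.obj.left.left}
    {v' : ↥E'.obj.left.left} (h : AlgSp.Points.ofPt E.obj.hom v = AlgSp.Points.ofPt E'.obj.hom v') :
    v ∈ E.obj.left.left.basicOpen (ev E s) ↔ v' ∈ E'.obj.left.left.basicOpen (ev E' s) := by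
  obtain ⟨M, m, n, sq⟩ := exists_pullback_of_diag hA.diag E.obj.hom E'.obj.hom
  obtain ⟨w, rfl, rfl⟩ := (ofPt_eq_ofPt_iff sq v v').1 h
  have hM : RepWith @Etale ((yon S).map m ≫ E.obj.hom) :=
    repWith_comp (repWith_of_isPullback sq.flip E'.property) E.property
  let g : EtOver.mk _ hM ⟶ E := EtOver.homMk m rfl
  let g' : EtOver.mk _ hM ⟶ E' := EtOver.homMk n sq.w.symm
  change w ∈ g.hom.left.left ⁻¹ᵁ E.obj.left.left.basicOpen (ev E s) ↔
    w ∈ g'.hom.left.left ⁻¹ᵁ E'.obj.left.left.basicOpen (ev E' s)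
  rw [Scheme.preimage_basicOpen_top, Scheme.preimage_basicOpen_top]
  exact (congrArg (fun r => w ∈ (EtOver.mk _ hM).obj.left.left.basicOpen r)
    ((res_ev g s).trans (res_ev g' s).symm)).to_iff

/-- A nonzero global function is a nonzerodivisor on every etale chart of an integral space. -/
theorem eq_zero_of_mul (hr : EtaleLocally (fun U => IsReduced U) X) [IrreducibleSpace (AlgSp.Points X)]
    {t : ↥(gsectEt (OEt X))} (ht : t ≠ 0) (E : EtOver X) {y : R E} (h : ev E t * y = 0) : y = 0 := by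
  have hE := Groth.AlgSp3.isReduced_etale_chart hA hr E.property
  refine (basicOpen_eq_bot_iff _).1 (eq_bot_iff.2 fun v hv => ?_)
  have : ∃ E' : EtOver X, ∃ v' : ↥E'.obj.left.left, v' ∈ E'.obj.left.left.basicOpen (ev E' t) := by
    by_contra hn
    push Not at hn
    refine ht (ev_ext fun E' => ?_)
    rw [map_zero]
    have := Groth.AlgSp3.isReduced_etale_chart hA hr E'.property
    exact (basicOpen_eq_bot_iff _).1 (eq_bot_iff.2 fun v' hv' => (hn E' v' hv').elim)
  obtain ⟨E', v', hv'⟩ := this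
  obtain ⟨_, ⟨v₁, hv₁, rfl⟩, v₂, hv₂, e⟩ := nonempty_preirreducible_inter
    (isOpenMap_ofPt_of_etale E.property _ (E.obj.left.left.basicOpen y).2)
    (isOpenMap_ofPt_of_etale E'.property _ (E'.obj.left.left.basicOpen (ev E' t)).2)
    ⟨_, v, hv, rfl⟩ ⟨_, v', hv', rfl⟩
  have hm : v₁ ∈ E.obj.left.left.basicOpen (ev E t * y) := by
    rw [Scheme.basicOpen_mul]
    exact ⟨(mem_basicOpen_iff hA t E' E e).1 hv₂, hv₁⟩
  rw [h, Scheme.basicOpen_zero] at hm
  exact hm.elim

/-- A quotient of global functions which exists locally exists globally. -/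
theorem exists_quotient_of_local (hr : EtaleLocally (fun U => IsReduced U) X)
    [IrreducibleSpace (AlgSp.Points X)] {s t : ↥(gsectEt (OEt X))} (ht : t ≠ 0) {ι : Type u}
    (C : ι → EtOver X)
    (hC : ∀ (E : EtOver X) (v : ↥E.obj.left.left), ∃ i, ∃ w : ↥(C i).obj.left.left,
      AlgSp.Points.ofPt E.obj.hom v = AlgSp.Points.ofPt (C i).obj.hom w)
    (hloc : ∀ i, ∃ r : R (C i), ev (C i) t * r = ev (C i) s) :
    ∃ q, t * q = s := by
  have hz : ∀ E (y y' : R E), ev E t * y = ev E t * y' → y = y' := fun E y y' e =>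
    sub_eq_zero.1 (eq_zero_of_mul hA hr ht E (by rw [mul_sub, e, sub_self]))
  choose rC hrC using hloc
  have hpush : ∀ {E E' : EtOver X} (g : E ⟶ E') (y : R E'), ev E' t * y = ev E' s →
      ev E t * res g y = ev E s := by
    intro E E' g y hy
    rw [← res_ev g t, ← map_mul, hy, res_ev]
  have hE : ∀ E : EtOver X, ∃ r : R E, ev E t * r = ev E s := by
    intro E
    have hp : ∀ v : ↥E.obj.left.left, ∃ i, ∃ (M : EtOver X) (m : M ⟶ E) (_ : M ⟶ C i),
        v ∈ Set.range m.hom.left.left := by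
      intro v
      obtain ⟨i, w, e⟩ := hC E v
      obtain ⟨M, m, n, sq⟩ := exists_pullback_of_diag hA.diag E.obj.hom (C i).obj.hom
      obtain ⟨x, hx, -⟩ := (ofPt_eq_ofPt_iff sq v w).1 e
      have hM : RepWith @Etale ((yon S).map m ≫ E.obj.hom) :=
        repWith_comp (repWith_of_isPullback sq.flip (C i).property) E.property
      exact ⟨i, EtOver.mk _ hM, EtOver.homMk m rfl, EtOver.homMk n sq.w.symm, x, hx⟩
    choose i M m n hv using hp
    have hM : ∀ v, ev (M v) t * res (n v) (rC (i v)) = ev (M v) s := fun v => hpush (n v) _ (hrC (i v))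
    obtain ⟨r, hr', -⟩ := existsUnique_glue M m (fun v => ⟨v, hv v⟩) (fun v => res (n v) (rC (i v)))
      (fun v v' Z b b' _ => hz Z _ _ ((hpush b _ (hM v)).trans (hpush b' _ (hM v')).symm))
    obtain ⟨y, -, huniq⟩ := existsUnique_glue M m (fun v => ⟨v, hv v⟩) (fun v => ev (M v) s)
      (fun v v' Z b b' _ => (res_ev b s).trans (res_ev b' s).symm)
    refine ⟨r, (huniq _ fun v => ?_).trans (huniq _ fun v => res_ev (m v) s).symm⟩
    rw [map_mul, res_ev, hr', hM]
  choose r hr' using hE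
  obtain ⟨q, hq⟩ := exists_gsect r fun {E E'} g => hz E _ _ ((hpush g _ (hr' E')).trans (hr' E).symm)
  exact ⟨q, ev_ext fun E => by rw [map_mul, hq, hr']⟩

/-- Over a normal domain chart an integral fraction is a function. -/
theorem exists_local_quotient [IsDomain ↥(gsectEt (OEt X))] (hr : EtaleLocally (fun U => IsReduced U) X)
    [IrreducibleSpace (AlgSp.Points X)] (K : Type (u + 1)) [Field K]
    [Algebra ↥(gsectEt (OEt X)) K] [IsFractionRing ↥(gsectEt (OEt X)) K]
    {s t : ↥(gsectEt (OEt X))} (ht : t ≠ 0)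
    (hx : _root_.IsIntegral ↥(gsectEt (OEt X))
      (algebraMap ↥(gsectEt (OEt X)) K s / algebraMap ↥(gsectEt (OEt X)) K t))
    (E : EtOver X) [IsDomain (R E)] [IsIntegrallyClosed (R E)] :
    ∃ r : R E, ev E t * r = ev E s := by
  let L := FractionRing (R E)
  let φ : ↥(gsectEt (OEt X)) →+* L := (algebraMap (R E) L).comp (ev E)
  have hφ : ∀ y, y ≠ 0 → φ y ≠ 0 := by
    intro y hy e
    have e' : ev E y = 0 := IsFractionRing.injective (R E) L (e.trans (map_zero _).symm)
    exact one_ne_zero (eq_zero_of_mul hA hr hy E (y := (1 : R E)) (by rw [e', zero_mul]))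
  let ψ : K →+* L := IsLocalization.lift (M := nonZeroDivisors ↥(gsectEt (OEt X))) (g := φ)
    fun y => (hφ y.1 (nonZeroDivisors.ne_zero y.2)).isUnit
  have hψ : ∀ y, ψ (algebraMap ↥(gsectEt (OEt X)) K y) = φ y := IsLocalization.lift_eq _
  obtain ⟨r, hr'⟩ := IsIntegrallyClosed.isIntegral_iff.1
    (IsIntegral.map_of_comp_eq (ev E) ψ (RingHom.ext fun y => (hψ y).symm) hx)
  refine ⟨r, IsFractionRing.injective (R E) L ?_⟩
  rw [map_mul, hr', map_div₀, hψ, hψ]
  show φ t * (φ s / φ t) = φ s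
  rw [mul_div_cancel₀ _ (hφ t ht)]

omit hA in
theorem isIntegrallyClosed (X : Space S) (hXi : IsIntegralSp X.obj)
    (hXn : EtaleLocally (fun U => ∀ z : ↥U, IsDomain ↥(U.presheaf.stalk z) ∧
      IsIntegrallyClosed ↥(U.presheaf.stalk z)) X.obj) :
    IsIntegrallyClosed ↥(gsectEt (OEt X.obj)) := by
  have hA := X.property
  let G : Type (u + 1) := ↥(gsectEt (OEt X.obj))
  have : IsDomain G := Groth.Agent.S10494.result X hXi
  have := hXi.2.2
  obtain ⟨U, a, ha, hs, hU⟩ := hXn
  choose W hzW hWa hWi hWn using fun z => Groth.AlgSp2.NormalChart.exists_nhd hXi ha hU z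
  let UW : ↥U.left → Over S := fun z => Over.mk ((W z).ι ≫ U.hom)
  let j : ∀ z, UW z ⟶ U := fun z => Over.homMk (W z).ι rfl
  have hc : ∀ z, RepWith @Etale ((yon S).map (j z) ≫ a) := fun z =>
    repWith_comp ((repWith_yon_map_iff _ (j z)).2 (inferInstanceAs (Etale (W z).ι))) ha
  let C : ↥U.left → EtOver X.obj := fun z => EtOver.mk _ (hc z)
  refine (isIntegrallyClosed_iff (FractionRing G)).2 fun {x} hx => ?_
  obtain ⟨s, t, ht, rfl⟩ := IsFractionRing.div_surjective G x
  have ht0 : t ≠ 0 := nonZeroDivisors.ne_zero ht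
  have hloc : ∀ z, ∃ r : R (C z), ev (C z) t * r = ev (C z) s := by
    intro z
    have : IsIntegral (C z).obj.left.left := hWi z
    have : IsDomain (R (C z)) := inferInstanceAs (IsDomain Γ((W z : Scheme.{u}), ⊤))
    have : IsIntegrallyClosed (R (C z)) :=
      IsIntegrallyClosed.of_equiv (W z).topIso.symm.commRingCatIsoToRingEquiv (h := hWn z)
    exact exists_local_quotient hA hXi.1 (FractionRing G) ht0 hx (C z)
  have hC : ∀ (E : EtOver X.obj) (v : ↥E.obj.left.left), ∃ z, ∃ w : ↥(C z).obj.left.left,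
      AlgSp.Points.ofPt E.obj.hom v = AlgSp.Points.ofPt (C z).obj.hom w := by
    intro E v
    obtain ⟨z, hz⟩ := surjective_ofPt_of_repWith hs (AlgSp.Points.ofPt E.obj.hom v)
    let w : ↥(UW z).left := (⟨z, hzW z⟩ : ↥(W z : Scheme.{u}))
    have e : AlgSp.Points.ofPt ((yon S).map (j z) ≫ a) w = AlgSp.Points.ofPt a ((j z).left w) :=
      ofPt_comp_yon (j z) a w
    refine ⟨z, w, hz.symm.trans ?_⟩
    exact (e.trans (congrArg (AlgSp.Points.ofPt a) (show (j z).left w = z from rfl))).symm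
  obtain ⟨q, hq⟩ := exists_quotient_of_local (X := X.obj) (s := s) (t := t) hA hXi.1 ht0 C hC hloc
  refine ⟨q, ?_⟩
  rw [eq_div_iff (IsFractionRing.to_map_ne_zero_of_mem_nonZeroDivisors ht), ← map_mul, mul_comm, hq]

end

end Groth.AlgSp2.GlobalSectionsNormal
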