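import Groth.Prelude.Def_AlgSpGpd
import Mathlib.CategoryTheory.Monoidal.Cartesian.Grp

/-!
# The diagonal and the unit section of a group object over a base
-/

set_option autoImplicit false
set_option backward.isDefEq.respectTransparency.types false
universe u

open CategoryTheory CategoryTheory.Limits MonoidalCategory CartesianMonoidalCategory MonObj
open AlgebraicGeometry AlgSp

namespace Groth.AlgSp2.GrpDiagonal

section

variable {C : Type*} [Category C] [CartesianMonoidalCategory C] (G : C) [GrpObj G]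

/-- The map `(g, h) ↦ g⁻¹ h`. -/
def diffMap : G ⊗ G ⟶ G := (fst G G)⁻¹ * snd G G

theorem isPullback_lift_unit :
    IsPullback (toUnit G) (lift (𝟙 G) (𝟙 G)) η[G] (diffMap G) := by
  have key : ∀ {Z : C} (a : Z ⟶ G ⊗ G) (b : Z ⟶ 𝟙_ C), b ≫ η[G] = a ≫ diffMap G →
      a ≫ fst G G = a ≫ snd G G := by
    intro Z a b h
    have hb : b ≫ η[G] = 1 := by rw [Hom.one_def]; exact congrArg (· ≫ η[G]) (toUnit_unique _ _)
    rw [hb, diffMap, comp_mul, GrpObj.comp_inv] at h
    exact inv_mul_eq_one.1 h.symm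
  have w : toUnit G ≫ η[G] = lift (𝟙 G) (𝟙 G) ≫ diffMap G := by
    rw [diffMap, comp_mul, GrpObj.comp_inv, lift_fst, lift_snd, inv_mul_cancel, Hom.one_def]
  refine ⟨⟨w⟩, ⟨PullbackCone.IsLimit.mk w
    (fun s => s.snd ≫ fst G G) (fun s => toUnit_unique _ _) (fun s => ?_) (fun s m _ h₂ => ?_)⟩⟩
  · refine CartesianMonoidalCategory.hom_ext _ _ ?_ ?_
    · rw [Category.assoc, lift_fst, Category.comp_id]
    · rw [Category.assoc, lift_snd, Category.comp_id]
      exact key s.snd s.fst s.condition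
  · rw [← h₂, Category.assoc, lift_fst, Category.comp_id]

theorem isPullback_unit_lift :
    IsPullback η[G] η[G] (lift (𝟙 G) (𝟙 G)) (lift (𝟙 G) (toUnit G ≫ η[G])) := by
  have w : η[G] ≫ lift (𝟙 G) (𝟙 G) = η[G] ≫ lift (𝟙 G) (toUnit G ≫ η[G]) := by
    refine CartesianMonoidalCategory.hom_ext _ _ ?_ ?_ <;>
      simp only [Category.assoc, lift_fst, lift_snd, Category.comp_id]
    rw [← Category.assoc, toUnit_unique (η[G] ≫ toUnit G) (𝟙 _), Category.id_comp]
  have key : ∀ s : PullbackCone (lift (𝟙 G) (𝟙 G)) (lift (𝟙 G) (toUnit G ≫ η[G])),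
      toUnit s.pt ≫ η[G] = s.fst ∧ toUnit s.pt ≫ η[G] = s.snd := by
    intro s
    have h₁ := s.condition =≫ fst G G
    have h₂ := s.condition =≫ snd G G
    simp only [Category.assoc, lift_fst, lift_snd, Category.comp_id] at h₁ h₂
    rw [← Category.assoc, toUnit_unique (s.snd ≫ toUnit G) (toUnit _)] at h₂
    exact ⟨h₂.symm, h₂.symm.trans h₁⟩
  exact ⟨⟨w⟩, ⟨PullbackCone.IsLimit.mk w (fun s => toUnit s.pt) (fun s => (key s).1)
    (fun s => (key s).2) (fun s m _ _ => toUnit_unique _ _)⟩⟩

end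

noncomputable section

variable {S : Scheme.{u}} {B : Sp S} (G : Over B) [GrpObj G]

theorem lift_id_left : (lift (𝟙 G) (𝟙 G)).left = pullback.diagonal G.hom := rfl

theorem isPullback_diagonal :
    IsPullback G.hom (pullback.diagonal G.hom) (η[G]).left (diffMap G).left := by
  have h := (isPullback_lift_unit G).map (Over.forget B)
  exact h

theorem isPullback_unit :
    IsPullback (η[G]).left (η[G]).left (pullback.diagonal G.hom)
      (lift (𝟙 G) (toUnit G ≫ η[G])).left := by
  have h := (isPullback_unit_lift G).map (Over.forget B)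
  exact h

end

end Groth.AlgSp2.GrpDiagonal
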