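import Groth.Agent.AlgSp2.LocPFpqc
import Groth.Agent.AlgSp3.NbhdInv
import Groth.Agent.PropsBasic.LociBaseChange.Scheme

/-!
# The unramified locus of a morphism of algebraic spaces
-/

set_option autoImplicit false
set_option backward.isDefEq.respectTransparency.types false
universe u

open CategoryTheory CategoryTheory.Limits AlgebraicGeometry AlgSp

namespace Groth.AlgSp2

open Groth.AlgSpBasic Groth.AlgSp3

variable {S : Scheme.{u}} {X Y : Sp S}

instance unramified_isZariskiLocalAtSource :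
    IsZariskiLocalAtSource (@LocallyOfFiniteType ⊓ @FormallyUnramified : MorphismProperty Scheme.{u}) :=
  isZariskiLocalAtSource_inf _ @LocallyOfFiniteType @FormallyUnramified fun _ _ _ => Iff.rfl

/-- The morphism is unramified near the point. -/
abbrev UnramAt (f : X ⟶ Y) (x : AlgSp.Points X) : Prop :=
  HasAtMor (fun U _ h u => ∃ W : U.Opens, u ∈ W ∧ LocallyOfFiniteType (W.ι ≫ h) ∧
    FormallyUnramified (W.ι ≫ h)) f x

theorem isOpen_unramAt (hX : IsAlgSpace X) (hY : IsAlgSpace Y) (f : X ⟶ Y) :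
    IsOpen {x | UnramAt f x} :=
  isOpen_hasAtMor_nbhd (@LocallyOfFiniteType ⊓ @FormallyUnramified : MorphismProperty Scheme.{u})
    hX hY f

theorem locP_unramified_iff (hX : IsAlgSpace X) (hY : IsAlgSpace Y) (f : X ⟶ Y) :
    LocP (@LocallyOfFiniteType ⊓ @FormallyUnramified : MorphismProperty Scheme.{u}) f ↔
      ∀ x, UnramAt f x :=
  locP_iff_forall_nbhd (@LocallyOfFiniteType ⊓ @FormallyUnramified : MorphismProperty Scheme.{u})
    hX hY

/-- The unramified locus commutes with arbitrary base change. -/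
theorem unramAt_baseChange_iff {X' Y' : Sp S} {f : X ⟶ Y} {g' : X' ⟶ X} {f' : X' ⟶ Y'}
    {g : Y' ⟶ Y} (hX : IsAlgSpace X) (hY : IsAlgSpace Y) (hX' : IsAlgSpace X') (hY' : IsAlgSpace Y')
    (hf : LocP @LocallyOfFiniteType f) (sq : IsPullback g' f' f g) (x' : AlgSp.Points X') :
    UnramAt f' x' ↔ UnramAt f (AlgSp.Points.map g' x') := by
  obtain ⟨U, V, V', U', a, b, b', a', h, k, p, h', u', ha, hb, hb', ha', comm, -, comm', -, sq', rfl,
    hu⟩ := exists_chart_baseChange hX hY hY' sq x'
  have hinv := etMor_nbhd (@LocallyOfFiniteType ⊓ @FormallyUnramified : MorphismProperty Scheme.{u})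
  rw [← hu]
  refine ((hasAtMor_iff_of_chart hinv id hX'.diag hY'.diag ha' hb' comm' u').trans ?_).trans
    (hasAtMor_iff_of_chart hinv id hX.diag hY.diag ha hb comm (p.left u')).symm
  have hl : LocallyOfFiniteType h.left := hf a b h ha hb comm
  have hl' : LocallyOfFiniteType h'.left :=
    MorphismProperty.of_isPullback (P := @LocallyOfFiniteType) sq' hl
  refine ⟨fun ⟨W, hW, _, hW'⟩ => ?_, fun ⟨W, hW, hW'⟩ => ?_⟩
  · obtain ⟨O, hO, hO'⟩ :=
      Groth.PropsBasic.Loci.exists_formallyUnramified_of_baseChange sq' ⟨W, hW, hW'⟩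
    exact ⟨O, hO, inferInstance, hO'⟩
  · exact ⟨p.left ⁻¹ᵁ W, hW, MorphismProperty.of_isPullback
      (P := (@LocallyOfFiniteType ⊓ @FormallyUnramified : MorphismProperty Scheme.{u}))
      ((isPullback_morphismRestrict p.left W).paste_vert sq') hW'⟩

end Groth.AlgSp2
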