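import Groth.Prelude.Def_AlgSpGpd
import Groth.Agent.AlgSp2.UnramLocus
import Groth.Agent.AlgSp2.FibreDimSpace
import Groth.Agent.AlgSpBasic.Immersion
import Mathlib.CategoryTheory.Monoidal.Cartesian.Grp

/-!
# Pointwise properties of group spaces are read off along the unit section
-/

set_option autoImplicit false
set_option backward.isDefEq.respectTransparency.types false
universe u

open CategoryTheory CategoryTheory.Limits MonoidalCategory CartesianMonoidalCategory MonObj
open AlgebraicGeometry AlgSp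
open Groth.AlgSpBasic Groth.AlgSp3

namespace Groth.AlgSp2.GrpTranslate

noncomputable section

variable {S : Scheme.{u}}

/-- Some neighbourhood has the property. -/
abbrev NbhdAt (P : MorphismProperty Scheme.{u}) {X Y : Sp S} (f : X ⟶ Y) (x : AlgSp.Points X) : Prop :=
  HasAtMor (fun U _ h u => ∃ W : U.Opens, u ∈ W ∧ P (W.ι ≫ h)) f x

/-- The neighbourhood property is insensitive to base change. -/
def NbhdBaseChange (P : MorphismProperty Scheme.{u}) : Prop :=
  ∀ {X Y X' Y' : Sp S} {f : X ⟶ Y} {g' : X' ⟶ X} {f' : X' ⟶ Y'} {g : Y' ⟶ Y}, IsAlgSpace X →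
    IsAlgSpace Y → IsAlgSpace X' → IsAlgSpace Y' → LocP @LocallyOfFiniteType f →
    IsPullback g' f' f g → ∀ x' : AlgSp.Points X', NbhdAt P f' x' ↔ NbhdAt P f (AlgSp.Points.map g' x')

theorem nbhdBaseChange_unramified :
    NbhdBaseChange (S := S) (@LocallyOfFiniteType ⊓ @FormallyUnramified : MorphismProperty Scheme.{u}) :=
  fun hX hY hX' hY' hf sq x' => unramAt_baseChange_iff hX hY hX' hY' hf sq x'

instance lqf_isZariskiLocalAtSource :
    IsZariskiLocalAtSource (@LocallyQuasiFinite ⊓ @LocallyOfFiniteType : MorphismProperty Scheme.{u}) :=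
  isZariskiLocalAtSource_inf _ @LocallyQuasiFinite @LocallyOfFiniteType fun _ _ _ => Iff.rfl

theorem nbhdBaseChange_lqf :
    NbhdBaseChange (S := S) (@LocallyQuasiFinite ⊓ @LocallyOfFiniteType : MorphismProperty Scheme.{u}) := by
  intro X Y X' Y' f g' f' g hX hY hX' hY' hf sq x'
  obtain ⟨U, V, V', U', a, b, b', a', h, k, c, h', u', ha, hb, hb', ha', comm, -, comm', -, sq', rfl,
    hu⟩ := exists_chart_baseChange hX hY hY' sq x'
  have hinv := etMor_nbhd (@LocallyQuasiFinite ⊓ @LocallyOfFiniteType : MorphismProperty Scheme.{u})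
  rw [← hu]
  refine ((hasAtMor_iff_of_chart hinv id hX'.diag hY'.diag ha' hb' comm' u').trans ?_).trans
    (hasAtMor_iff_of_chart hinv id hX.diag hY.diag ha hb comm (c.left u')).symm
  have hl : LocallyOfFiniteType h.left := hf a b h ha hb comm
  have hl' : LocallyOfFiniteType h'.left :=
    MorphismProperty.of_isPullback (P := @LocallyOfFiniteType) sq' hl
  have e := Groth.FibreDim.fibreDimAt_baseChange h.left k.left h'.left c.left sq' u'
  exact (nbhd_lqf_iff_fibreDimAt h'.left u').trans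
    ((Iff.of_eq (congrArg (· = 0) e)).trans (nbhd_lqf_iff_fibreDimAt h.left (c.left u')).symm)

theorem nbhdAt_isoOver {P : MorphismProperty Scheme.{u}} [EtaleLocal P] {X' X Y : Sp S}
    (hX' : IsAlgSpace X') (hX : IsAlgSpace X) (hY : IsAlgSpace Y) (τ : X' ⟶ X) [IsIso τ]
    (f : X ⟶ Y) (z : AlgSp.Points X') :
    NbhdAt P (τ ≫ f) z ↔ NbhdAt P f (AlgSp.Points.map τ z) :=
  hasAtMor_comp_openImmersion_iff hX' hX hY (repWith_isIso τ) f (etMor_nbhd P) id z

variable {B : Sp S} (G : Over B) [GrpObj G]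

/-- A point of a group space moves to the unit point over the same point of the base. -/
theorem nbhdAt_iff_unit {P : MorphismProperty Scheme.{u}} [EtaleLocal P]
    (hbc : NbhdBaseChange (S := S) P) (hB : IsAlgSpace B) (hG : IsAlgSpace G.left)
    (hlft : LocP @LocallyOfFiniteType G.hom) (x : AlgSp.Points G.left) :
    NbhdAt P G.hom x ↔
      NbhdAt P G.hom (AlgSp.Points.map (η[G]).left (AlgSp.Points.map G.hom x)) := by
  obtain ⟨T, g, t, rfl⟩ := exists_ofPt x
  let K : Over B := Over.mk (g ≫ G.hom)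
  let gK : K ⟶ G := Over.homMk g rfl
  let τ : G ⊗ K ⟶ G ⊗ K :=
    lift (CartesianMonoidalCategory.snd G K ≫ gK * CartesianMonoidalCategory.fst G K)
      (CartesianMonoidalCategory.snd G K)
  let τ' : G ⊗ K ⟶ G ⊗ K :=
    lift ((CartesianMonoidalCategory.snd G K ≫ gK)⁻¹ * CartesianMonoidalCategory.fst G K)
      (CartesianMonoidalCategory.snd G K)
  have h₁ : τ ≫ τ' = 𝟙 _ := by
    refine CartesianMonoidalCategory.hom_ext _ _ ?_ ?_
    · simp only [τ, τ', Category.assoc, lift_fst, comp_mul, GrpObj.comp_inv, Category.id_comp]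
      rw [← Category.assoc, lift_snd, inv_mul_cancel_left]
    · simp only [τ, τ', Category.assoc, lift_snd, Category.id_comp]
  have h₂ : τ' ≫ τ = 𝟙 _ := by
    refine CartesianMonoidalCategory.hom_ext _ _ ?_ ?_
    · simp only [τ, τ', Category.assoc, lift_fst, comp_mul, Category.id_comp]
      rw [← Category.assoc, lift_snd, mul_inv_cancel_left]
    · simp only [τ, τ', Category.assoc, lift_snd, Category.id_comp]
  have hτ : IsIso τ := ⟨τ', h₁, h₂⟩
  let σ : pullback G.hom K.hom ⟶ pullback G.hom K.hom := τ.left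
  have hσ : IsIso σ := Functor.map_isIso (Over.forget B) τ
  have hσs : σ ≫ pullback.snd G.hom K.hom = pullback.snd G.hom K.hom := by
    have := congrArg (fun k : G ⊗ K ⟶ K => k.left) (lift_snd
      (CartesianMonoidalCategory.snd G K ≫ gK * CartesianMonoidalCategory.fst G K)
      (CartesianMonoidalCategory.snd G K))
    exact (Over.comp_left _ _ _ _ _).symm.trans this
  let s₁ : K ⟶ G ⊗ K := lift (toUnit K ≫ η[G]) (𝟙 K)
  let s₂ : K ⟶ G ⊗ K := lift gK (𝟙 K)
  have hs : s₁ ≫ τ = s₂ := by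
    refine CartesianMonoidalCategory.hom_ext _ _ ?_ ?_
    · simp only [s₁, s₂, τ, Category.assoc, lift_fst, comp_mul]
      rw [← Category.assoc, lift_snd, Category.id_comp, ← Hom.one_def, _root_.mul_one]
    · simp only [s₁, s₂, τ, Category.assoc, lift_snd]
  let p₁ : (yon S).obj T ⟶ pullback G.hom K.hom := s₁.left
  let p₂ : (yon S).obj T ⟶ pullback G.hom K.hom := s₂.left
  have hp : p₁ ≫ σ = p₂ := (Over.comp_left _ _ _ _ _).symm.trans (congrArg (fun k => k.left) hs)
  have hf₁ : p₁ ≫ pullback.fst G.hom K.hom = (g ≫ G.hom) ≫ (η[G]).left := by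
    have := congrArg (fun k : K ⟶ G => k.left) (lift_fst (toUnit K ≫ η[G]) (𝟙 K))
    exact ((Over.comp_left _ _ _ _ _).symm.trans this).trans
      ((Over.comp_left _ _ _ _ _).trans rfl)
  have hf₂ : p₂ ≫ pullback.fst G.hom K.hom = g :=
    (Over.comp_left _ _ _ _ _).symm.trans (congrArg (fun k : K ⟶ G => k.left) (lift_fst gK (𝟙 K)))
  have hP : IsAlgSpace (pullback G.hom K.hom) :=
    isAlgSpace_pullback ⟨_, hG⟩ ⟨_, IsAlgSpace.yon_obj T⟩ ⟨B, hB⟩ G.hom K.hom
  have key : ∀ z, NbhdAt P (pullback.snd G.hom K.hom) z ↔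
      NbhdAt P G.hom (AlgSp.Points.map (pullback.fst G.hom K.hom) z) := fun z =>
    hbc hG hB hP (IsAlgSpace.yon_obj T) hlft (IsPullback.of_hasPullback _ _) z
  have key' := nbhdAt_isoOver (P := P) hP hP (IsAlgSpace.yon_obj T) σ (pullback.snd G.hom K.hom)
    (AlgSp.Points.ofPt p₁ t)
  rw [hσs, key, key, AlgSp.Points.map_ofPt, AlgSp.Points.map_ofPt, AlgSp.Points.map_ofPt, hf₁, hp,
    hf₂] at key'
  rw [AlgSp.Points.map_ofPt, AlgSp.Points.map_ofPt]
  exact key'.symm

/-- The points of the base over which the group has the property. -/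
def goodSet (P : MorphismProperty Scheme.{u}) : Set (AlgSp.Points B) :=
  {b | NbhdAt P G.hom (AlgSp.Points.map (η[G]).left b)}

variable {P : MorphismProperty Scheme.{u}} [EtaleLocal P] [IsZariskiLocalAtSource P]

theorem locP_iff_unit (hbc : NbhdBaseChange (S := S) P) (hB : IsAlgSpace B)
    (hG : IsAlgSpace G.left) (hlft : LocP @LocallyOfFiniteType G.hom) :
    LocP P G.hom ↔ ∀ b, NbhdAt P G.hom (AlgSp.Points.map (η[G]).left b) :=
  (locP_iff_forall_nbhd P hG hB).trans
    ⟨fun h _ => h _, fun h x => (nbhdAt_iff_unit G hbc hB hG hlft x).2 (h _)⟩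

theorem isOpen_goodSet (hB : IsAlgSpace B) (hG : IsAlgSpace G.left) : IsOpen (goodSet G P) :=
  (isOpen_hasAtMor_nbhd P hG hB G.hom).preimage (AlgSp.Points.continuous_map _)

theorem locP_baseChange_iff (hbc : NbhdBaseChange (S := S) P) (hB : IsAlgSpace B)
    (hG : IsAlgSpace G.left) (hlft : LocP @LocallyOfFiniteType G.hom) {Z Q : Sp S} (hZ : IsAlgSpace Z)
    {a : Z ⟶ B} {p : Q ⟶ G.left} {q : Q ⟶ Z} (sq : IsPullback p q G.hom a) :
    LocP P q ↔ Set.range (AlgSp.Points.map a) ⊆ goodSet G P := by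
  have hQ : IsAlgSpace Q := isAlgSpace_of_isPullback sq hB.diag hG hZ
  rw [locP_iff_forall_nbhd P hQ hZ]
  constructor
  · rintro h _ ⟨z, rfl⟩
    have hsec : ∀ b, AlgSp.Points.map G.hom (AlgSp.Points.map (η[G]).left b) = b := fun b => by
      rw [← AlgSp.Points.map_comp, Over.w η[G]]
      exact AlgSp.Points.map_id b
    obtain ⟨w, hw, -⟩ := exists_point_of_isPullback sq (hsec (AlgSp.Points.map a z))
    show NbhdAt P G.hom _
    rw [← hw]
    exact (hbc hG hB hQ hZ hlft sq w).1 (h w)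
  · intro h w
    refine (hbc hG hB hQ hZ hlft sq w).2 ((nbhdAt_iff_unit G hbc hB hG hlft _).2 (h ?_))
    exact ⟨AlgSp.Points.map q w, by rw [← AlgSp.Points.map_comp, ← sq.w, AlgSp.Points.map_comp]⟩

theorem exists_largest (hbc : NbhdBaseChange (S := S) P) (hB : IsAlgSpace B)
    (hG : IsAlgSpace G.left) (hlft : LocP @LocallyOfFiniteType G.hom) :
    ∃ (W : Sp S) (w : W ⟶ B), RepWith @IsOpenImmersion w ∧
      (∀ (W' : Sp S) (w' : W' ⟶ B), RepWith @IsOpenImmersion w' →
        (LocP P (pullback.snd G.hom w') ↔ ∃ k : W' ⟶ W, k ≫ w = w')) ∧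
      (∀ (B' : Sp S), IsAlgSpace B' → ∀ (f : B' ⟶ B) (W'' : Sp S) (w'' : W'' ⟶ B'),
        RepWith @IsOpenImmersion w'' →
        (LocP P (pullback.snd (pullback.snd G.hom f) w'') ↔
          ∃ k : W'' ⟶ pullback w f, k ≫ pullback.snd w f = w'')) := by
  have hj := repWith_openSubι (X := B) (isOpen_goodSet G (P := P) hB hG)
  have : Mono (openSubι B (goodSet G P)) := mono_of_repWith
    (fun _ _ k (_ : IsOpenImmersion k) => (inferInstance : Mono k)) hj
  have key : ∀ {Z : Sp S}, IsAlgSpace Z → ∀ (a : Z ⟶ B),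
      Set.range (AlgSp.Points.map a) ⊆ goodSet G P ↔
        ∃ k, k ≫ openSubι B (goodSet G P) = a := by
    intro Z hZ a
    constructor
    · intro h
      exact exists_lift_of_range_openImmersion hZ hj a (h.trans range_map_openSubι.ge)
    · rintro ⟨k, rfl⟩ _ ⟨z, rfl⟩
      rw [AlgSp.Points.map_comp]
      exact range_map_openSubι.le ⟨_, rfl⟩
  refine ⟨_, openSubι B (goodSet G P), hj, fun W' w' hw' => ?_, fun B' hB' f W'' w'' hw'' => ?_⟩
  · have hW' := isAlgSpace_of_representable hB w' hw'.rep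
    exact (locP_baseChange_iff G hbc hB hG hlft hW' (IsPullback.of_hasPullback _ _)).trans (key hW' w')
  · have hW'' := isAlgSpace_of_representable hB' w'' hw''.rep
    have sq := (IsPullback.of_hasPullback (pullback.snd G.hom f) w'').paste_horiz
      (IsPullback.of_hasPullback G.hom f)
    refine ((locP_baseChange_iff G hbc hB hG hlft hW'' sq).trans (key hW'' (w'' ≫ f))).trans ⟨?_, ?_⟩
    · rintro ⟨k, hk⟩
      exact ⟨pullback.lift k w'' hk, pullback.lift_snd _ _ _⟩
    · rintro ⟨k, hk⟩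
      exact ⟨k ≫ pullback.fst _ _, by rw [Category.assoc, pullback.condition, ← Category.assoc, hk]⟩

end

end Groth.AlgSp2.GrpTranslate
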