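import Groth.Prelude.Def_AlgSpGpd
import Groth.Agent.AlgSpBasic.Immersion

/-!
# Algebra in groupoids of sheaves, and their points
-/

set_option autoImplicit false
set_option backward.isDefEq.respectTransparency.types false
universe u

open CategoryTheory CategoryTheory.Limits AlgebraicGeometry AlgSp
open Groth.AlgSpBasic

namespace Groth.AlgSp2.GrpdAlg

noncomputable section

variable {S : Scheme.{u}} {B : Sp S} (G : GroupoidSp B) {T : Sp S}

/-- Composition of two generalized arrows. -/
def comp (α β : T ⟶ G.R) (h : α ≫ G.s = β ≫ G.t) : T ⟶ G.R := pullback.lift α β h ≫ G.c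

theorem comp_congr {α α' β β' : T ⟶ G.R} {h : α ≫ G.s = β ≫ G.t} (hα : α = α') (hβ : β = β') :
    comp G α β h = comp G α' β' (by rw [← hα, ← hβ]; exact h) := by subst hα hβ; rfl

@[simp] theorem comp_src {α β : T ⟶ G.R} (h : α ≫ G.s = β ≫ G.t) :
    comp G α β h ≫ G.s = β ≫ G.s := G.comp_s α β h

@[simp] theorem comp_tgt {α β : T ⟶ G.R} (h : α ≫ G.s = β ≫ G.t) :
    comp G α β h ≫ G.t = α ≫ G.t := G.comp_t α β h

theorem nat {T' : Sp S} (k : T' ⟶ T) {α β : T ⟶ G.R} (h : α ≫ G.s = β ≫ G.t) :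
    k ≫ comp G α β h = comp G (k ≫ α) (k ≫ β) (by simp only [Category.assoc, h]) := by
  have e : k ≫ pullback.lift α β h = pullback.lift (k ≫ α) (k ≫ β)
      (by simp only [Category.assoc, h]) :=
    pullback.hom_ext (by rw [Category.assoc, pullback.lift_fst, pullback.lift_fst])
      (by rw [Category.assoc, pullback.lift_snd, pullback.lift_snd])
  rw [comp, comp, ← Category.assoc, e]

theorem comp_assoc {α β γ : T ⟶ G.R} (h₁ : α ≫ G.s = β ≫ G.t) (h₂ : β ≫ G.s = γ ≫ G.t) :
    comp G (comp G α β h₁) γ ((comp_src G h₁).trans h₂) =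
      comp G α (comp G β γ h₂) (h₁.trans (comp_tgt G h₂).symm) :=
  G.assoc α β γ h₁ h₂

theorem comp_unit {α β : T ⟶ G.R} (h : α ≫ G.s = β ≫ G.t) (hβ : β = α ≫ G.s ≫ G.e) :
    comp G α β h = α := by subst hβ; exact G.comp_e α

theorem unit_comp {α β : T ⟶ G.R} (h : α ≫ G.s = β ≫ G.t) (hα : α = β ≫ G.t ≫ G.e) :
    comp G α β h = β := by subst hα; exact G.e_comp β

theorem inv_src (α : T ⟶ G.R) : (α ≫ G.i) ≫ G.s = α ≫ G.t := by rw [Category.assoc, G.i_s]

theorem inv_tgt (α : T ⟶ G.R) : (α ≫ G.i) ≫ G.t = α ≫ G.s := by rw [Category.assoc, G.i_t]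

theorem cancel_inv_right {α β : T ⟶ G.R} (h : α ≫ G.s = β ≫ G.t) :
    comp G (comp G α β h) (β ≫ G.i) ((comp_src G h).trans (inv_tgt G β).symm) = α := by
  rw [comp_assoc G h (inv_tgt G β).symm]
  refine comp_unit G _ ?_
  rw [show comp G β (β ≫ G.i) (inv_tgt G β).symm = β ≫ G.t ≫ G.e from G.comp_i β,
    ← Category.assoc, ← Category.assoc, h]

theorem cancel_inv_left {α β : T ⟶ G.R} (h : α ≫ G.s = (β ≫ G.i) ≫ G.t) :
    comp G (comp G α (β ≫ G.i) h) β ((comp_src G h).trans (inv_src G β)) = α := by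
  rw [comp_assoc G h (inv_src G β)]
  refine comp_unit G _ ?_
  rw [show comp G (β ≫ G.i) β (inv_src G β) = β ≫ G.s ≫ G.e from G.i_comp β,
    ← Category.assoc, ← Category.assoc, h, inv_tgt]

theorem inv_comp_cancel {α β : T ⟶ G.R} (h : α ≫ G.s = β ≫ G.t) :
    comp G (α ≫ G.i) (comp G α β h) ((inv_src G α).trans (comp_tgt G h).symm) = β := by
  rw [← comp_assoc G (inv_src G α) h]
  refine unit_comp G _ ?_
  rw [show comp G (α ≫ G.i) α (inv_src G α) = α ≫ G.s ≫ G.e from G.i_comp α,
    ← Category.assoc, ← Category.assoc, h]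

theorem comp_inv_cancel {α β : T ⟶ G.R} (h : (α ≫ G.i) ≫ G.s = β ≫ G.t) :
    comp G α (comp G (α ≫ G.i) β h) ((inv_tgt G α).symm.trans (comp_tgt G h).symm) = β := by
  rw [← comp_assoc G (inv_tgt G α).symm h]
  refine unit_comp G _ ?_
  rw [show comp G α (α ≫ G.i) (inv_tgt G α).symm = α ≫ G.t ≫ G.e from G.comp_i α,
    ← Category.assoc, ← Category.assoc, ← h, inv_src]

/-- Two points which agree at source and target compose. -/
theorem exists_comp_point (p q : Points G.R) (h : Points.map G.s p = Points.map G.t q) :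
    ∃ r : Points G.R, Points.map G.t r = Points.map G.t p ∧ Points.map G.s r = Points.map G.s q := by
  obtain ⟨z, h₁, h₂⟩ := exists_point_of_isPullback (IsPullback.of_hasPullback G.s G.t) p q h
  have e : pullback.lift (pullback.fst G.s G.t) (pullback.snd G.s G.t) pullback.condition = 𝟙 _ :=
    pullback.hom_ext (by simp) (by simp)
  have ht := G.comp_t (pullback.fst G.s G.t) (pullback.snd G.s G.t) pullback.condition
  have hs := G.comp_s (pullback.fst G.s G.t) (pullback.snd G.s G.t) pullback.condition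
  rw [e, Category.id_comp] at ht hs
  refine ⟨Points.map G.c z, ?_, ?_⟩
  · rw [← Points.map_comp, ht, Points.map_comp, h₁]
  · rw [← Points.map_comp, hs, Points.map_comp, h₂]

theorem map_inv_src (p : Points G.R) :
    Points.map G.s (Points.map G.i p) = Points.map G.t p := by rw [← Points.map_comp, G.i_s]

theorem map_inv_tgt (p : Points G.R) :
    Points.map G.t (Points.map G.i p) = Points.map G.s p := by rw [← Points.map_comp, G.i_t]

/-- An open subspace is invariant as soon as its set of points is. -/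
theorem isInvariant_of_points {W : Sp S} (w : W ⟶ G.U) (hw : RepWith @IsOpenImmersion w)
    (h : ∀ p : Points G.R, Points.map G.t p ∈ Set.range (Points.map w) ↔
      Points.map G.s p ∈ Set.range (Points.map w)) : G.IsInvariant w := by
  have : Mono w := mono_of_repWith
    (fun _ _ k (_ : IsOpenImmersion k) => (inferInstance : Mono k)) hw
  have key : ∀ {a b : G.R ⟶ G.U}, (∀ p, Points.map a p ∈ Set.range (Points.map w) →
      Points.map b p ∈ Set.range (Points.map w)) → ∀ ⦃T : Over S⦄ (r : (yon S).obj T ⟶ G.R),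
        (∃ x : (yon S).obj T ⟶ W, x ≫ w = r ≫ a) → ∃ x : (yon S).obj T ⟶ W, x ≫ w = r ≫ b := by
    rintro a b hab T r ⟨x, hx⟩
    refine exists_lift_of_range_openImmersion (IsAlgSpace.yon_obj T) hw _ ?_
    rintro _ ⟨q, rfl⟩
    rw [Points.map_comp]
    exact hab _ ⟨Points.map x q, by rw [← Points.map_comp, hx, Points.map_comp]⟩
  exact fun T r => ⟨key (fun p => (h p).1) r, key (fun p => (h p).2) r⟩

/-- The saturation of a set of objects is saturated. -/
theorem saturated_image_preimage (O : Set (Points G.U)) (p : Points G.R) :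
    Points.map G.t p ∈ Points.map G.s '' (Points.map G.t ⁻¹' O) ↔
      Points.map G.s p ∈ Points.map G.s '' (Points.map G.t ⁻¹' O) := by
  constructor
  · rintro ⟨q, hq, e⟩
    obtain ⟨r, hrt, hrs⟩ := exists_comp_point G q p e
    exact ⟨r, show Points.map G.t r ∈ O by rw [hrt]; exact hq, hrs⟩
  · rintro ⟨q, hq, e⟩
    obtain ⟨r, hrt, hrs⟩ := exists_comp_point G q (Points.map G.i p)
      (e.trans (map_inv_tgt G p).symm)
    exact ⟨r, show Points.map G.t r ∈ O by rw [hrt]; exact hq, hrs.trans (map_inv_src G p)⟩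

end

end Groth.AlgSp2.GrpdAlg
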