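import Groth.Agent.SpLimit.GrpdDim
import Groth.Agent.Calg4.GrpdFieldDim
import Groth.Agent.AlgSp3.DimFacts
import Groth.Agent.AlgSpBasic.Diag

/-!
# The dimension of a groupoid space over a field and of its stabilizer
-/

set_option autoImplicit false
set_option backward.isDefEq.respectTransparency.types false
universe u

open CategoryTheory CategoryTheory.Limits AlgebraicGeometry Opposite AlgSp

namespace Groth.AlgSp2.GrpdDimStab

open Groth.AlgSpBasic Groth.AlgSp2

noncomputable section

/-- For a scheme locally of finite type over a field by one map, a second map to the spectrum of the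
field is constant along specializations, as a point of the fibre product. -/
theorem eq_of_specializes {k : Type u} [Field k] {W S : Scheme.{u}} {σ : Spec (CommRingCat.of k) ⟶ S}
    (s t : W ⟶ Spec (CommRingCat.of k)) [LocallyOfFiniteType s] (h : t ≫ σ = s ≫ σ) {r r' : W}
    (hr : r' ⤳ r) :
    (pullback.lift t s h : W ⟶ pullback σ σ) r' = (pullback.lift t s h : W ⟶ pullback σ σ) r := by
  obtain ⟨O, hO, hrO, -⟩ := exists_isAffineOpen_mem_and_subset (U := ⊤) (Set.mem_univ r)
  have hr'O : r' ∈ O := hr.mem_open O.isOpen hrO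
  let p' := hO.primeIdealOf ⟨r', hr'O⟩
  let p := hO.primeIdealOf ⟨r, hrO⟩
  have hle : p'.asIdeal ≤ p.asIdeal := by
    have : p' ⤳ p := by
      refine hO.fromSpec.isOpenEmbedding.toIsEmbedding.specializes_iff.1 ?_
      simp only [p, p']
      erw [hO.fromSpec_primeIdealOf, hO.fromSpec_primeIdealOf]
      exact hr
    exact (PrimeSpectrum.le_iff_specializes _ _).2 this
  let B := Γ(W, O) ⧸ p'.asIdeal
  let mk : Γ(W, O) ⟶ CommRingCat.of B := CommRingCat.ofHom (Ideal.Quotient.mk p'.asIdeal)
  let ι : Spec (CommRingCat.of B) ⟶ W := Spec.map mk ≫ hO.fromSpec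
  obtain ⟨σ₁, hσ⟩ := Spec.map_surjective (ι ≫ s)
  obtain ⟨τ, hτ⟩ := Spec.map_surjective (ι ≫ t)
  algebraize [σ₁.hom]
  have : Algebra.FiniteType k B := by
    have : IsClosedImmersion (Spec.map mk) :=
      IsClosedImmersion.spec_of_surjective _ Ideal.Quotient.mk_surjective
    have : LocallyOfFiniteType (Spec.map σ₁) := by rw [hσ]; infer_instance
    exact (HasRingHomProperty.Spec_iff (P := @LocallyOfFiniteType)).1 this
  let C : Subalgebra k B := Algebra.adjoin k (Set.range τ.hom)
  have : Algebra.IsIntegral k C := by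
    refine Algebra.IsIntegral.adjoin ?_
    rintro _ ⟨a, rfl⟩
    exact isAlgebraic_iff_isIntegral.1 (Groth.Calg4.GrpdDim.isAlgebraic_of_hom τ.hom a)
  have hC : IsField C := isField_of_isIntegral_of_isField' (Field.toIsField k)
  let _ : Field C := hC.toField
  let π : Spec (CommRingCat.of B) ⟶ Spec (CommRingCat.of C) :=
    Spec.map (CommRingCat.ofHom C.val.toRingHom)
  have : Subsingleton (Spec (CommRingCat.of C)) := inferInstanceAs (Subsingleton (PrimeSpectrum C))
  have : Flat π := by
    rw [HasRingHomProperty.Spec_iff (P := @Flat)]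
    exact inferInstanceAs (Module.Flat C B)
  have : Nonempty (Spec (CommRingCat.of B)) := inferInstanceAs (Nonempty (PrimeSpectrum B))
  have : Surjective π := ⟨fun x => ⟨Classical.arbitrary _, Subsingleton.elim _ _⟩⟩
  have : Epi π := Flat.epi_of_flat_of_surjective π
  let a : Spec (CommRingCat.of C) ⟶ Spec (CommRingCat.of k) := Spec.map (CommRingCat.ofHom
    (τ.hom.codRestrict C fun x => Algebra.subset_adjoin ⟨x, rfl⟩))
  let b : Spec (CommRingCat.of C) ⟶ Spec (CommRingCat.of k) :=
    Spec.map (CommRingCat.ofHom (algebraMap k C))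
  have ha : π ≫ a = ι ≫ t := by rw [← hτ, ← Spec.map_comp]; rfl
  have hb : π ≫ b = ι ≫ s := by rw [← hσ, ← Spec.map_comp]; rfl
  have hab : a ≫ σ = b ≫ σ := by
    rw [← cancel_epi π, reassoc_of% ha, reassoc_of% hb, h]
  have hj : π ≫ pullback.lift a b hab = ι ≫ pullback.lift t s h := by
    apply pullback.hom_ext
    · rw [Category.assoc, Category.assoc, pullback.lift_fst, pullback.lift_fst, ha]
    · rw [Category.assoc, Category.assoc, pullback.lift_snd, pullback.lift_snd, hb]
  have hmem : ∀ (q : W) (hq : q ∈ O), p'.asIdeal ≤ (hO.primeIdealOf ⟨q, hq⟩).asIdeal →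
      ∃ x, ι x = q := by
    intro q hq hpq
    obtain ⟨x, hx⟩ : hO.primeIdealOf ⟨q, hq⟩ ∈ Set.range (Spec.map mk) := by
      change _ ∈ Set.range (PrimeSpectrum.comap (Ideal.Quotient.mk p'.asIdeal))
      rw [range_comap_of_surjective _ _ Ideal.Quotient.mk_surjective, Ideal.mk_ker]
      exact hpq
    exact ⟨x, by rw [Scheme.Hom.comp_apply, hx, hO.fromSpec_primeIdealOf]⟩
  obtain ⟨x, hx⟩ := hmem r' hr'O le_rfl
  obtain ⟨y, hy⟩ := hmem r hrO hle
  rw [← hx, ← hy, ← Scheme.Hom.comp_apply ι, ← Scheme.Hom.comp_apply ι, ← hj, Scheme.Hom.comp_apply,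
    Scheme.Hom.comp_apply, Subsingleton.elim (π x) (π y)]

variable {S : Scheme.{u}}

/-- The dimension of a fibre product with a scheme, computed on a chart. -/
theorem dim_pullback_eq {R : Sp S} (hR : IsAlgSpace R) {W E T : Over S} {a : (yon S).obj W ⟶ R}
    (ha : RepWith @Etale a) (has : RepWith @Surjective a) {j : R ⟶ (yon S).obj E} {J : W ⟶ E}
    (hJ : a ≫ j = (yon S).map J) (g : T ⟶ E) :
    AlgSp.dim (pullback j ((yon S).map g)) = topologicalKrullDim ↥(pullback J.left g.left) := by
  have hA : IsAlgSpace (pullback j ((yon S).map g)) :=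
    isAlgSpace_of_isPullback (IsPullback.of_hasPullback _ _) (IsAlgSpace.yon_obj E).diag hR
      (IsAlgSpace.yon_obj T)
  let C : Over S := Over.mk (pullback.fst J.left g.left ≫ W.hom)
  let fst : C ⟶ W := Over.homMk (pullback.fst J.left g.left)
  let snd : C ⟶ T := Over.homMk (pullback.snd J.left g.left) (by
    show pullback.snd J.left g.left ≫ T.hom = pullback.fst J.left g.left ≫ W.hom
    rw [← Over.w g, ← Over.w J, pullback.condition_assoc])
  have sq : IsPullback ((yon S).map fst) ((yon S).map snd) ((yon S).map J) ((yon S).map g) :=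
    (IsPullback.of_map (f := fst) (g := snd) (h := J) (i := g) (Over.forget S)
      (Over.OverMorphism.ext pullback.condition) (IsPullback.of_hasPullback J.left g.left)).map (yon S)
  let c : (yon S).obj C ⟶ pullback j ((yon S).map g) :=
    pullback.lift ((yon S).map fst ≫ a) ((yon S).map snd) (by rw [Category.assoc, hJ]; exact sq.w)
  have sqc : IsPullback ((yon S).map fst) c a (pullback.fst j ((yon S).map g)) :=
    IsPullback.of_bot (by rw [hJ, pullback.lift_snd]; exact sq) (pullback.lift_fst _ _ _).symm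
      (IsPullback.of_hasPullback j ((yon S).map g))
  exact Groth.AlgSp3.dim_eq_of_chart hA (repWith_of_isPullback sqc ha) (repWith_of_isPullback sqc has)

variable {B : Sp S} (G : GroupoidSp B) {k : Type u} [Field k]

/-- Over a field a groupoid space and its stabilizer have the same dimension. -/
theorem dim_eq (hB : IsAlgSpace B) (hR : IsAlgSpace G.R) {σ : Spec (CommRingCat.of k) ⟶ S}
    (eU : G.U ≅ (yon S).obj (Over.mk σ)) (hs : LocP @LocallyOfFiniteType G.s) :
    AlgSp.dim G.R = AlgSp.dim G.stabilizer := by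
  let K : Over S := Over.mk σ
  obtain ⟨E, e₁, e₂, sqE⟩ := exists_pullback_of_diag hB.diag (U := K) (V := K) (eU.inv ≫ G.pU)
    (eU.inv ≫ G.pU)
  have sqE' : IsPullback ((yon S).map e₁ ≫ eU.inv) ((yon S).map e₂ ≫ eU.inv) G.pU G.pU :=
    sqE.of_iso (Iso.refl _) eU.symm eU.symm (Iso.refl B) (by simp) (by simp) (by simp [K]) (by simp [K])
  let Φ : (yon S).obj E ≅ pullback G.pU G.pU := sqE'.isoPullback
  let jE : G.R ⟶ (yon S).obj E := G.j ≫ Φ.inv
  have hjE₁ : jE ≫ (yon S).map e₁ = G.t ≫ eU.hom := by
    have h : Φ.inv ≫ (yon S).map e₁ ≫ eU.inv = pullback.fst G.pU G.pU := sqE'.isoPullback_inv_fst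
    rw [← cancel_mono eU.inv]
    simp only [jE, Category.assoc, h, Iso.hom_inv_id, Category.comp_id, GroupoidSp.j_fst]
  have hjE₂ : jE ≫ (yon S).map e₂ = G.s ≫ eU.hom := by
    have h : Φ.inv ≫ (yon S).map e₂ ≫ eU.inv = pullback.snd G.pU G.pU := sqE'.isoPullback_inv_snd
    rw [← cancel_mono eU.inv]
    simp only [jE, Category.assoc, h, Iso.hom_inv_id, Category.comp_id, GroupoidSp.j_snd]
  obtain ⟨δ, hδ⟩ := (yon S).map_surjective (eU.inv ≫ G.diag ≫ Φ.inv)
  have hδ' : eU.hom ≫ (yon S).map δ = G.diag ≫ Φ.inv := by rw [hδ, eU.hom_inv_id_assoc]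
  have hδ₁ : δ ≫ e₁ = 𝟙 K := by
    apply (yon S).map_injective
    have h : Φ.inv ≫ (yon S).map e₁ ≫ eU.inv = pullback.fst G.pU G.pU := sqE'.isoPullback_inv_fst
    rw [Functor.map_comp, hδ, (yon S).map_id, ← cancel_mono eU.inv]
    simp only [Category.assoc, h, GroupoidSp.diag, pullback.lift_fst, Category.comp_id]
    exact (Category.id_comp _).symm
  have hδ₂ : δ ≫ e₂ = 𝟙 K := by
    apply (yon S).map_injective
    have h : Φ.inv ≫ (yon S).map e₂ ≫ eU.inv = pullback.snd G.pU G.pU := sqE'.isoPullback_inv_snd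
    rw [Functor.map_comp, hδ, (yon S).map_id, ← cancel_mono eU.inv]
    simp only [Category.assoc, h, GroupoidSp.diag, pullback.lift_snd, Category.comp_id]
    exact (Category.id_comp _).symm
  -- points of `E` are determined in `Spec k ×_S Spec k`
  let μ : E.left ⟶ pullback σ σ :=
    pullback.lift e₁.left e₂.left ((Over.w e₁).trans (Over.w e₂).symm)
  have : Mono μ := by
    let P : Over S := Over.mk (pullback.fst σ σ ≫ σ)
    let μ' : E ⟶ P := Over.homMk μ (by
      show μ ≫ pullback.fst σ σ ≫ σ = E.hom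
      rw [pullback.lift_fst_assoc]; exact Over.w e₁)
    have : Mono μ' := ⟨fun {Z} x y hxy => by
      have h₁ : x ≫ e₁ = y ≫ e₁ := Over.OverMorphism.ext (by
        have := congrArg (fun l => l.left ≫ pullback.fst σ σ) hxy
        simp only [μ', μ, Over.comp_left, Over.homMk_left, Category.assoc] at this
        erw [pullback.lift_fst] at this
        exact this)
      have h₂ : x ≫ e₂ = y ≫ e₂ := Over.OverMorphism.ext (by
        have := congrArg (fun l => l.left ≫ pullback.snd σ σ) hxy
        simp only [μ', μ, Over.comp_left, Over.homMk_left, Category.assoc] at this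
        erw [pullback.lift_snd] at this
        exact this)
      exact (yon S).map_injective (sqE.hom_ext (by rw [← Functor.map_comp, h₁, Functor.map_comp])
        (by rw [← Functor.map_comp, h₂, Functor.map_comp]))⟩
    exact inferInstanceAs (Mono μ'.left)
  have hd₁ : G.diag ≫ pullback.fst G.pU G.pU = 𝟙 _ := pullback.lift_fst _ _ _
  have hd₂ : G.diag ≫ pullback.snd G.pU G.pU = 𝟙 _ := pullback.lift_snd _ _ _
  -- the chart
  obtain ⟨W, a, ha, has⟩ := hR.atlas
  obtain ⟨J, hJ⟩ := (yon S).map_surjective (a ≫ jE)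
  have hJs : (yon S).map (J ≫ e₂) = a ≫ G.s ≫ eU.hom := by
    rw [Functor.map_comp, hJ, Category.assoc, hjE₂]
  have hs' : LocallyOfFiniteType (J ≫ e₂).left := by
    refine hs a eU.inv (J ≫ e₂) ha (repWith_isIso _) ?_
    rw [hJs]; simp [K]
  have : LocallyOfFiniteType (J.left ≫ e₂.left) := hs'
  have : LocallyOfFiniteType J.left := locallyOfFiniteType_of_comp J.left e₂.left
  -- the dimensions of the fibres
  have hfib : ∀ r : W.left, topologicalKrullDim ↥(J.left.fiber (J.left r)) =
      AlgSp.dim G.stabilizer := by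
    intro r
    let T : Over S := Over.mk (W.left.fromSpecResidueField r ≫ W.hom)
    let i : T ⟶ W := Over.homMk (W.left.fromSpecResidueField r)
    let o : T.left := IsLocalRing.closedPoint (W.left.residueField r)
    have hio : i.left o = r := Scheme.fromSpecResidueField_apply r o
    have : Subsingleton T.left := inferInstanceAs (Subsingleton (PrimeSpectrum _))
    have key : ∀ g : T ⟶ E, topologicalKrullDim ↥(J.left.fiber (g.left o)) =
        AlgSp.dim (pullback jE ((yon S).map g)) := by
      intro g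
      rw [dim_pullback_eq hR ha has hJ.symm g,
        ← Groth.FibreDim.dim_fiber_baseChange J.left g.left (pullback.snd J.left g.left)
          (pullback.fst J.left g.left) (IsPullback.of_hasPullback _ _) o]
      have hpre : (pullback.snd J.left g.left) ⁻¹' {o} = Set.univ :=
        Set.eq_univ_of_forall fun x => Subsingleton.elim _ _
      exact (((pullback.snd J.left g.left).fiberHomeo o).trans
        ((Homeomorph.setCongr hpre).trans (Homeomorph.Set.univ _))).isHomeomorph.topologicalKrullDim_eq _
    let ρ : (yon S).obj T ⟶ G.R := (yon S).map i ≫ a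
    let g₁ : T ⟶ E := i ≫ J
    let g₂ : T ⟶ E := i ≫ J ≫ e₂ ≫ δ
    have hg₁ : (yon S).map g₁ = ρ ≫ jE := by simp only [g₁, ρ, Functor.map_comp, hJ, Category.assoc]
    have hg₂ : (yon S).map g₂ = ρ ≫ G.s ≫ G.diag ≫ Φ.inv := by
      rw [← hδ']
      simp only [g₂, ρ, Functor.map_comp, reassoc_of% hJ, reassoc_of% hjE₂, Category.assoc]
    let A₁ := pullback jE ((yon S).map g₁)
    let A₂ := pullback jE ((yon S).map g₂)
    let f₁ : A₁ ⟶ G.R := pullback.fst _ _
    let q₁ : A₁ ⟶ G.R := pullback.snd jE ((yon S).map g₁) ≫ ρ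
    let f₂ : A₂ ⟶ G.R := pullback.fst _ _
    let q₂ : A₂ ⟶ G.R := pullback.snd jE ((yon S).map g₂) ≫ ρ
    have c₁ : f₁ ≫ G.j = q₁ ≫ G.j := by
      refine (cancel_mono Φ.inv).1 ?_
      simp only [f₁, q₁, Category.assoc]
      exact pullback.condition.trans (congrArg (pullback.snd _ _ ≫ ·) hg₁)
    have c₂ : f₂ ≫ G.j = q₂ ≫ G.s ≫ G.diag := by
      refine (cancel_mono Φ.inv).1 ?_
      simp only [f₂, q₂, Category.assoc]
      exact pullback.condition.trans (congrArg (pullback.snd _ _ ≫ ·) hg₂)
    have c₁t : f₁ ≫ G.t = q₁ ≫ G.t := by simpa using congrArg (· ≫ pullback.fst G.pU G.pU) c₁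
    have c₁s : f₁ ≫ G.s = q₁ ≫ G.s := by simpa using congrArg (· ≫ pullback.snd G.pU G.pU) c₁
    have c₂t : f₂ ≫ G.t = q₂ ≫ G.s := by
      simpa [hd₁] using congrArg (· ≫ pullback.fst G.pU G.pU) c₂
    have c₂s : f₂ ≫ G.s = q₂ ≫ G.s := by
      simpa [hd₂] using congrArg (· ≫ pullback.snd G.pU G.pU) c₂
    let fw : A₁ ⟶ A₂ := pullback.lift
      (GrpdAlg.comp G (q₁ ≫ G.i) f₁ ((GrpdAlg.inv_src G q₁).trans c₁t.symm))
      (pullback.snd jE ((yon S).map g₁)) (by
        rw [hg₂, ← cancel_mono Φ.hom]
        simp only [jE, Category.assoc, Iso.inv_hom_id, Category.comp_id]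
        apply pullback.hom_ext
        · simp only [Category.assoc, GroupoidSp.j_fst, GrpdAlg.comp_tgt, GrpdAlg.inv_tgt,
            hd₁, Category.comp_id, q₁, G.i_t]; rfl
        · simp only [Category.assoc, GroupoidSp.j_snd, GrpdAlg.comp_src, c₁s,
            hd₂, Category.comp_id, q₁]; rfl)
    let bw : A₂ ⟶ A₁ := pullback.lift (GrpdAlg.comp G q₂ f₂ c₂t.symm)
      (pullback.snd jE ((yon S).map g₂)) (by
        rw [hg₁, ← cancel_mono Φ.hom]
        simp only [jE, Category.assoc, Iso.inv_hom_id, Category.comp_id]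
        apply pullback.hom_ext
        · simp only [Category.assoc, GroupoidSp.j_fst, GrpdAlg.comp_tgt, q₂]; rfl
        · simp only [Category.assoc, GroupoidSp.j_snd, GrpdAlg.comp_src, c₂s, q₂]; rfl)
    have hfw : fw ≫ pullback.snd _ _ = pullback.snd jE ((yon S).map g₁) := pullback.lift_snd _ _ _
    have hbw : bw ≫ pullback.snd _ _ = pullback.snd jE ((yon S).map g₂) := pullback.lift_snd _ _ _
    have hfw' : fw ≫ q₂ = q₁ := by simp only [q₁, q₂, ← Category.assoc, hfw]
    have hbw' : bw ≫ q₁ = q₂ := by simp only [q₁, q₂, ← Category.assoc, hbw]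
    let iso : A₁ ≅ A₂ := ⟨fw, bw, by
      apply pullback.hom_ext
      · rw [Category.assoc, pullback.lift_fst, Category.id_comp, GrpdAlg.nat]
        exact (GrpdAlg.comp_congr G hfw' (pullback.lift_fst _ _ _)).trans
          (GrpdAlg.comp_inv_cancel G ((GrpdAlg.inv_src G q₁).trans c₁t.symm))
      · rw [Category.assoc, hbw, hfw, Category.id_comp], by
      apply pullback.hom_ext
      · rw [Category.assoc, pullback.lift_fst, Category.id_comp, GrpdAlg.nat]
        exact (GrpdAlg.comp_congr G (by rw [← Category.assoc, hbw']) (pullback.lift_fst _ _ _)).trans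
          (GrpdAlg.inv_comp_cancel G c₂t.symm)
      · rw [Category.assoc, hfw, hbw, Category.id_comp]⟩
    have e1 : g₁.left o = J.left r := by
      show J.left (i.left o) = _; rw [hio]
    have e2 : g₂.left o = δ.left (IsLocalRing.closedPoint k) := by
      show δ.left (e₂.left (J.left (i.left o))) = _
      exact congrArg δ.left (Subsingleton.elim (α := PrimeSpectrum k) _ _)
    have hdim : AlgSp.dim A₁ = AlgSp.dim A₂ := by
      obtain ⟨V, b, hb, hbs⟩ := (isAlgSpace_of_isPullback (IsPullback.of_hasPullback jE ((yon S).map g₁))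
        (IsAlgSpace.yon_obj E).diag hR (IsAlgSpace.yon_obj T)).atlas
      have h₂ : IsAlgSpace A₂ := isAlgSpace_of_isPullback (IsPullback.of_hasPullback jE ((yon S).map g₂))
        (IsAlgSpace.yon_obj E).diag hR (IsAlgSpace.yon_obj T)
      have : IsIso iso.hom := iso.isIso_hom
      rw [Groth.AlgSp3.dim_eq_of_chart (h₂.of_iso iso.symm) hb hbs,
        Groth.AlgSp3.dim_eq_of_chart h₂ (repWith_comp hb (repWith_isIso iso.hom))
          (repWith_comp hbs (repWith_isIso iso.hom))]
    have hstab : topologicalKrullDim ↥(J.left.fiber (δ.left (IsLocalRing.closedPoint k))) =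
        AlgSp.dim G.stabilizer := by
      let e : pullback jE ((yon S).map δ) ≅ G.stabilizer :=
        ((IsPullback.of_hasPullback jE ((yon S).map δ)).of_iso (Iso.refl _) (Iso.refl _) eU.symm Φ
          (fst' := pullback.fst jE ((yon S).map δ)) (snd' := pullback.snd jE ((yon S).map δ) ≫ eU.inv)
          (f' := G.j) (g' := G.diag)
          (by simp) (by simp) (by simp [jE]) (by rw [hδ]; simp)).isoPullback
      have hP : IsAlgSpace (pullback jE ((yon S).map δ)) := isAlgSpace_of_isPullback
        (IsPullback.of_hasPullback _ _) (IsAlgSpace.yon_obj E).diag hR (IsAlgSpace.yon_obj K)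
      have hdim' : AlgSp.dim (pullback jE ((yon S).map δ)) = AlgSp.dim G.stabilizer := by
        obtain ⟨V, b, hb, hbs⟩ := hP.atlas
        have : IsIso e.hom := e.isIso_hom
        rw [Groth.AlgSp3.dim_eq_of_chart hP hb hbs,
          Groth.AlgSp3.dim_eq_of_chart (hP.of_iso e) (repWith_comp hb (repWith_isIso e.hom))
            (repWith_comp hbs (repWith_isIso e.hom))]
      have : Subsingleton K.left := inferInstanceAs (Subsingleton (PrimeSpectrum k))
      rw [← hdim', dim_pullback_eq hR ha has hJ.symm δ,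
        ← Groth.FibreDim.dim_fiber_baseChange J.left δ.left (pullback.snd J.left δ.left)
          (pullback.fst J.left δ.left) (IsPullback.of_hasPullback _ _) (IsLocalRing.closedPoint k)]
      have hpre : (pullback.snd J.left δ.left) ⁻¹' {IsLocalRing.closedPoint k} = Set.univ :=
        Set.eq_univ_of_forall fun x => Subsingleton.elim (α := K.left) _ _
      exact (((pullback.snd J.left δ.left).fiberHomeo _).trans
        ((Homeomorph.setCongr hpre).trans (Homeomorph.Set.univ _))).isHomeomorph.topologicalKrullDim_eq _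
    rw [← e1, key g₁, hdim, ← key g₂, e2, hstab]
  obtain ⟨r₀, -⟩ := surjective_ofPt_of_repWith has
    (Points.ofPt (eU.inv ≫ G.e) (IsLocalRing.closedPoint k))
  rw [Groth.AlgSp3.dim_eq_of_chart hR ha has]
  refine le_antisymm ?_ ?_
  · rw [Groth.Variety2.Dim.dim_eq_iSup_height]
    refine iSup_le fun η => ?_
    rw [← hfib η, (J.left.fiberHomeo _).isHomeomorph.topologicalKrullDim_eq,
      ← Groth.Variety2.Dim.dim_closure_singleton]
    have hsub : closure ({η} : Set W.left) ⊆ J.left ⁻¹' {J.left η} := by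
      intro x hx
      have : UniversallyInjective μ := inferInstance
      refine μ.injective ?_
      have : LocallyOfFiniteType (J ≫ e₂).left := hs'
      have h := eq_of_specializes (σ := σ) (J ≫ e₂).left (J ≫ e₁).left
        ((Over.w (J ≫ e₁)).trans (Over.w (J ≫ e₂)).symm) (specializes_iff_mem_closure.2 hx)
      have hl : pullback.lift (J ≫ e₁).left (J ≫ e₂).left
          ((Over.w (J ≫ e₁)).trans (Over.w (J ≫ e₂)).symm) = J.left ≫ μ := by
        apply pullback.hom_ext
        · rw [pullback.lift_fst, Category.assoc]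
          exact (congrArg (J.left ≫ ·) (pullback.lift_fst e₁.left e₂.left
            ((Over.w e₁).trans (Over.w e₂).symm))).symm
        · rw [pullback.lift_snd, Category.assoc]
          exact (congrArg (J.left ≫ ·) (pullback.lift_snd e₁.left e₂.left
            ((Over.w e₁).trans (Over.w e₂).symm))).symm
      erw [hl] at h
      exact h.symm
    exact (Topology.IsEmbedding.inclusion hsub).toIsInducing.topologicalKrullDim_le
  · rw [← hfib r₀, (J.left.fiberHomeo _).isHomeomorph.topologicalKrullDim_eq]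
    exact topologicalKrullDim_subspace_le _ _

end

end Groth.AlgSp2.GrpdDimStab
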