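import Groth.Prelude.Def_AlgSpGpd

/-!
# The restriction of a groupoid, taken apart into fibre products
-/

set_option autoImplicit false
set_option backward.isDefEq.respectTransparency.types false
universe u

open CategoryTheory CategoryTheory.Limits AlgebraicGeometry AlgSp

namespace Groth.AlgSp2.GrpdRestrict

noncomputable section

variable {S : Scheme.{u}} {B : Sp S} {G' G : GroupoidSp B} (φ : GroupoidSp.Hom G' G)

/-- Arrows of the restriction are arrows with chosen lifts of source and target. -/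
theorem exists_lift (hφ : φ.IsRestriction) {Z : Sp S} (a b : Z ⟶ G'.U) (r : Z ⟶ G.R)
    (hr₁ : r ≫ G.t = a ≫ φ.fU) (hr₂ : r ≫ G.s = b ≫ φ.fU) :
    ∃ r' : Z ⟶ G'.R, r' ≫ G'.t = a ∧ r' ≫ G'.s = b ∧ r' ≫ φ.fR = r := by
  have hp : a ≫ G'.pU = b ≫ G'.pU := by
    rw [← φ.fU_over, ← Category.assoc, ← Category.assoc, ← hr₁, ← hr₂, Category.assoc,
      Category.assoc, G.t_over, G.s_over]
  let p := pullback.lift a b hp
  have w : r ≫ G.j = p ≫ φ.prodMap := by
    apply pullback.hom_ext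
    · simp only [p, Category.assoc, GroupoidSp.Hom.prodMap, GroupoidSp.j, pullback.map,
        pullback.lift_fst, pullback.lift_fst_assoc, hr₁]
    · simp only [p, Category.assoc, GroupoidSp.Hom.prodMap, GroupoidSp.j, pullback.map,
        pullback.lift_snd, pullback.lift_snd_assoc, hr₂]
  have hsq : IsPullback φ.fR G'.j G.j φ.prodMap := hφ
  refine ⟨hsq.lift r p w, ?_, ?_, hsq.lift_fst r p w⟩
  · have := hsq.lift_snd r p w =≫ pullback.fst _ _
    simpa only [p, Category.assoc, GroupoidSp.j, pullback.lift_fst] using this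
  · have := hsq.lift_snd r p w =≫ pullback.snd _ _
    simpa only [p, Category.assoc, GroupoidSp.j, pullback.lift_snd] using this

theorem hom_ext (hφ : φ.IsRestriction) {Z : Sp S} {x y : Z ⟶ G'.R} (ht : x ≫ G'.t = y ≫ G'.t)
    (hs : x ≫ G'.s = y ≫ G'.s) (hR : x ≫ φ.fR = y ≫ φ.fR) : x = y := by
  have hsq : IsPullback φ.fR G'.j G.j φ.prodMap := hφ
  refine hsq.hom_ext hR (pullback.hom_ext ?_ ?_)
  · simpa only [Category.assoc, GroupoidSp.j, pullback.lift_fst] using ht
  · simpa only [Category.assoc, GroupoidSp.j, pullback.lift_snd] using hs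

theorem exists_isPullback_t (hφ : φ.IsRestriction) :
    ∃ l : G'.R ⟶ pullback G.s φ.fU, l ≫ pullback.snd G.s φ.fU = G'.s ∧
      IsPullback G'.t l φ.fU (pullback.fst G.s φ.fU ≫ G.t) := by
  refine ⟨pullback.lift φ.fR G'.s φ.comm_s, pullback.lift_snd _ _ _, ?_⟩
  have w : G'.t ≫ φ.fU = pullback.lift φ.fR G'.s φ.comm_s ≫ pullback.fst G.s φ.fU ≫ G.t := by
    rw [pullback.lift_fst_assoc, φ.comm_t]
  choose L hL₁ hL₂ hL₃ using fun s : PullbackCone φ.fU (pullback.fst G.s φ.fU ≫ G.t) =>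
    exists_lift φ hφ s.fst (s.snd ≫ pullback.snd G.s φ.fU) (s.snd ≫ pullback.fst G.s φ.fU)
      (by rw [Category.assoc]; exact s.condition.symm)
      (by rw [Category.assoc, Category.assoc, pullback.condition])
  refine ⟨⟨w⟩, ⟨PullbackCone.IsLimit.mk w L hL₁ (fun s => ?_) fun s m h₁ h₂ => ?_⟩⟩
  · apply pullback.hom_ext
    · rw [Category.assoc, pullback.lift_fst, hL₃]
    · rw [Category.assoc, pullback.lift_snd, hL₂]
  · refine hom_ext φ hφ (h₁.trans (hL₁ s).symm) ?_ ?_
    · rw [hL₂, ← h₂, Category.assoc, pullback.lift_snd]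
    · rw [hL₃, ← h₂, Category.assoc, pullback.lift_fst]

theorem exists_isPullback_s (hφ : φ.IsRestriction) :
    ∃ l : G'.R ⟶ pullback G.t φ.fU, l ≫ pullback.snd G.t φ.fU = G'.t ∧
      IsPullback G'.s l φ.fU (pullback.fst G.t φ.fU ≫ G.s) := by
  refine ⟨pullback.lift φ.fR G'.t φ.comm_t, pullback.lift_snd _ _ _, ?_⟩
  have w : G'.s ≫ φ.fU = pullback.lift φ.fR G'.t φ.comm_t ≫ pullback.fst G.t φ.fU ≫ G.s := by
    rw [pullback.lift_fst_assoc, φ.comm_s]
  choose L hL₁ hL₂ hL₃ using fun s : PullbackCone φ.fU (pullback.fst G.t φ.fU ≫ G.s) =>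
    exists_lift φ hφ (s.snd ≫ pullback.snd G.t φ.fU) s.fst (s.snd ≫ pullback.fst G.t φ.fU)
      (by rw [Category.assoc, Category.assoc, pullback.condition])
      (by rw [Category.assoc]; exact s.condition.symm)
  refine ⟨⟨w⟩, ⟨PullbackCone.IsLimit.mk w L hL₂ (fun s => ?_) fun s m h₁ h₂ => ?_⟩⟩
  · apply pullback.hom_ext
    · rw [Category.assoc, pullback.lift_fst, hL₃]
    · rw [Category.assoc, pullback.lift_snd, hL₁]
  · refine hom_ext φ hφ ?_ (h₁.trans (hL₂ s).symm) ?_
    · rw [hL₁, ← h₂, Category.assoc, pullback.lift_snd]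
    · rw [hL₃, ← h₂, Category.assoc, pullback.lift_fst]

end

end Groth.AlgSp2.GrpdRestrict
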