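import Groth.Agent.AlgSp2.InvariantLargest

/-!
# The diagonal of `j` and the unit section of the stabilizer
-/

set_option autoImplicit false
set_option backward.isDefEq.respectTransparency.types false
universe u

open CategoryTheory CategoryTheory.Limits AlgebraicGeometry AlgSp
open Groth.AlgSpBasic

namespace Groth.AlgSp2.GrpdStabilizer

noncomputable section

variable {S : Scheme.{u}}

/-- A section is a base change of the diagonal. -/
theorem isPullback_section {X Y : Sp S} (p : X ⟶ Y) (e : Y ⟶ X) (h : e ≫ p = 𝟙 Y) :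
    IsPullback e e (pullback.diagonal p)
      (pullback.lift (𝟙 X) (p ≫ e) (by rw [Category.id_comp, Category.assoc, h, Category.comp_id])) := by
  have w : e ≫ pullback.diagonal p = e ≫ pullback.lift (𝟙 X) (p ≫ e)
      (by rw [Category.id_comp, Category.assoc, h, Category.comp_id]) := by
    apply pullback.hom_ext
    · rw [Category.assoc, Category.assoc, pullback.diagonal_fst, pullback.lift_fst]
    · rw [Category.assoc, Category.assoc, pullback.diagonal_snd, pullback.lift_snd, reassoc_of% h,
        Category.comp_id]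
  have key : ∀ s : PullbackCone (pullback.diagonal p) (pullback.lift (𝟙 X) (p ≫ e)
      (by rw [Category.id_comp, Category.assoc, h, Category.comp_id])),
      s.fst = s.snd ∧ s.fst = (s.fst ≫ p) ≫ e := by
    intro s
    have e₁ := s.condition =≫ pullback.fst p p
    have e₂ := s.condition =≫ pullback.snd p p
    simp only [Category.assoc, pullback.diagonal_fst, pullback.diagonal_snd, pullback.lift_fst,
      pullback.lift_snd, Category.comp_id] at e₁ e₂
    refine ⟨e₁, ?_⟩
    exact (e₂.trans (congrArg (· ≫ p ≫ e) e₁.symm)).trans (Category.assoc _ _ _).symm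
  exact ⟨⟨w⟩, ⟨PullbackCone.IsLimit.mk w (fun s => s.fst ≫ p) (fun s => (key s).2.symm)
    (fun s => (key s).2.symm.trans (key s).1)
    fun s m h₁ _ => ((congrArg (· ≫ p) h₁.symm).trans ((Category.assoc _ _ _).trans
      ((congrArg (m ≫ ·) h).trans (Category.comp_id m)))).symm⟩⟩

variable {B : Sp S} (G : GroupoidSp B) (eG : G.U ⟶ G.stabilizer)

theorem section_of_unit (heG : eG ≫ G.stabilizerι = G.e) : eG ≫ G.stabilizerToU = 𝟙 G.U := by
  rw [← InvariantLargest.ι_tgt, reassoc_of% heG, G.e_t]

theorem j_fst_snd :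
    pullback.fst G.j G.j ≫ G.t = pullback.snd G.j G.j ≫ G.t ∧
      pullback.fst G.j G.j ≫ G.s = pullback.snd G.j G.j ≫ G.s := by
  have h := pullback.condition (f := G.j) (g := G.j)
  constructor
  · simpa only [Category.assoc, GroupoidSp.j_fst] using h =≫ pullback.fst G.pU G.pU
  · simpa only [Category.assoc, GroupoidSp.j_snd] using h =≫ pullback.snd G.pU G.pU

theorem exists_isPullback_diagonal (heG : eG ≫ G.stabilizerι = G.e) :
    ∃ d : pullback G.j G.j ⟶ G.stabilizer, IsPullback G.t (pullback.diagonal G.j) eG d := by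
  let a := pullback.fst G.j G.j
  let b := pullback.snd G.j G.j
  obtain ⟨ht, hs⟩ := j_fst_snd G
  have hab : a ≫ G.s = (b ≫ G.i) ≫ G.t := by rw [GrpdAlg.inv_tgt]; exact hs
  let γ := GrpdAlg.comp G a (b ≫ G.i) hab
  have hγ : γ ≫ G.t = γ ≫ G.s := by
    rw [GrpdAlg.comp_tgt, GrpdAlg.comp_src, GrpdAlg.inv_src]; exact ht
  refine ⟨InvariantLargest.stabMk G γ hγ, ?_⟩
  have w : G.t ≫ eG = pullback.diagonal G.j ≫ InvariantLargest.stabMk G γ hγ := by
    refine InvariantLargest.stab_hom_ext G ?_
    rw [Category.assoc, Category.assoc, heG, InvariantLargest.stabMk_ι, GrpdAlg.nat]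
    refine Eq.symm ((GrpdAlg.comp_congr G (α' := 𝟙 G.R) (β' := 𝟙 G.R ≫ G.i) ?_ ?_).trans
      ((G.comp_i (𝟙 G.R)).trans (Category.id_comp _)))
    · exact pullback.diagonal_fst _
    · rw [← Category.assoc, pullback.diagonal_snd]
  refine ⟨⟨w⟩, ⟨PullbackCone.IsLimit.mk w (fun s => s.snd ≫ a) (fun s => ?_) (fun s => ?_)
    fun s m _ h₂ => ?_⟩⟩
  · have e := s.condition =≫ G.stabilizerι
    rw [Category.assoc, Category.assoc, heG, InvariantLargest.stabMk_ι] at e
    have e' := e =≫ G.t
    rw [Category.assoc, Category.assoc, G.e_t, Category.comp_id, GrpdAlg.comp_tgt] at e'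
    rw [Category.assoc]
    exact e'.symm
  · have e := s.condition =≫ G.stabilizerι
    rw [Category.assoc, Category.assoc, heG, InvariantLargest.stabMk_ι, GrpdAlg.nat] at e
    have e' := e =≫ G.t
    rw [Category.assoc, G.e_t, Category.comp_id, GrpdAlg.comp_tgt, Category.assoc, ht] at e'
    have hh : (s.snd ≫ a) ≫ G.s = ((s.snd ≫ b) ≫ G.i) ≫ G.t := by
      rw [GrpdAlg.inv_tgt, Category.assoc, Category.assoc, hs]
    have key : s.snd ≫ a = s.snd ≫ b := by
      refine (GrpdAlg.cancel_inv_left G hh).symm.trans ((GrpdAlg.comp_congr G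
        (α' := s.fst ≫ G.e) ?_ rfl).trans (GrpdAlg.unit_comp G _ ?_))
      · rw [e]
        exact GrpdAlg.comp_congr G rfl (Category.assoc _ _ _)
      · rw [e']
        simp only [b, Category.assoc]
    apply pullback.hom_ext
    · simp only [Category.assoc, pullback.diagonal_fst, Category.comp_id, a]
    · simp only [Category.assoc, pullback.diagonal_snd, Category.comp_id]
      exact key
  · rw [← h₂, Category.assoc]
    show m = m ≫ pullback.diagonal G.j ≫ pullback.fst G.j G.j
    rw [pullback.diagonal_fst, Category.comp_id]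

end

end Groth.AlgSp2.GrpdStabilizer
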