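import Groth.Agent.AlgSp2.FormalLifting
import Groth.Agent.AlgSp2.InfGlue
import Groth.Agent.FlatmorThree.FormalLift
import Groth.Agent.FlatmorThree.SmoothLift
import Mathlib.RingTheory.TensorProduct.Quotient

/-!
# Infinitesimal lifting squares: restriction, schemes, representable morphisms
-/

set_option autoImplicit false
set_option backward.isDefEq.respectTransparency.types false
universe u

open CategoryTheory CategoryTheory.Limits AlgebraicGeometry Opposite AlgSp TensorProduct

namespace Groth.AlgSp2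

open Groth.AlgSpBasic

noncomputable section

variable {S : Scheme.{u}} {F G H : Sp S} {f : F ⟶ G}

namespace Inf

theorem isPullback_spec_quot {A : Type u} [CommRing A] (I : Ideal A) (A' : Type u) [CommRing A']
    [Algebra A A'] :
    IsPullback
      (Spec.map (CommRingCat.ofHom
        (Ideal.quotientMap (I.map (algebraMap A A')) (algebraMap A A') Ideal.le_comap_map)))
      (Spec.map (CommRingCat.ofHom (Ideal.Quotient.mk (I.map (algebraMap A A')))))
      (Spec.map (CommRingCat.ofHom (Ideal.Quotient.mk I)))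
      (Spec.map (CommRingCat.ofHom (algebraMap A A'))) := by
  let J := I.map (algebraMap A A')
  let r : A' →ₐ[A] (A ⧸ I) ⊗[A] A' := Algebra.TensorProduct.includeRight
  have hr : ∀ x ∈ J, r x = 0 := fun x hx => by
    have hle : J ≤ RingHom.ker r.toRingHom := Ideal.map_le_iff_le_comap.2 fun a ha => by
      rw [Ideal.mem_comap, RingHom.mem_ker, AlgHom.toRingHom_eq_coe, RingHom.coe_coe,
        AlgHom.commutes, Algebra.TensorProduct.algebraMap_apply, Ideal.Quotient.algebraMap_eq,
        Ideal.Quotient.eq_zero_iff_mem.2 ha, TensorProduct.zero_tmul]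
    exact hle hx
  let e₁ : A' ⧸ J →+* (A ⧸ I) ⊗[A] A' := Ideal.Quotient.lift J r.toRingHom hr
  let q : A ⧸ I →ₐ[A] A' ⧸ J := Ideal.Quotient.liftₐ I (Algebra.ofId A (A' ⧸ J)) fun a ha =>
    Ideal.Quotient.eq_zero_iff_mem.2 (Ideal.mem_map_of_mem _ ha)
  let e₂ : (A ⧸ I) ⊗[A] A' →+* A' ⧸ J :=
    (Algebra.TensorProduct.productMap q (Ideal.Quotient.mkₐ A J)).toRingHom
  have h₁ : e₂.comp e₁ = RingHom.id _ := by
    refine Ideal.Quotient.ringHom_ext (RingHom.ext fun x => ?_)
    simp [e₁, e₂, r]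
  have h₂ : e₁.comp e₂ = RingHom.id _ := by
    refine Algebra.TensorProduct.ringHom_ext ?_ ?_
    · refine RingHom.ext fun x => ?_
      obtain ⟨x, rfl⟩ := Ideal.Quotient.mk_surjective x
      simp only [e₂, q, RingHom.comp_apply, AlgHom.toRingHom_eq_coe, RingHom.coe_coe]
      change e₁ (Algebra.TensorProduct.productMap _ _ (Ideal.Quotient.mk I x ⊗ₜ (1 : A'))) = _
      rw [Algebra.TensorProduct.productMap_left_apply]
      exact r.commutes x
    · exact RingHom.ext fun x => by simp [e₁, e₂, r]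
  let e : Spec (.of ((A ⧸ I) ⊗[A] A')) ≅ Spec (.of (A' ⧸ J)) :=
    ⟨Spec.map (CommRingCat.ofHom e₁), Spec.map (CommRingCat.ofHom e₂),
      (Spec.map_comp _ _).symm.trans ((congrArg Spec.map (CommRingCat.hom_ext h₂)).trans
        (Spec.map_id _)),
      (Spec.map_comp _ _).symm.trans ((congrArg Spec.map (CommRingCat.hom_ext h₁)).trans
        (Spec.map_id _))⟩
  refine (IsPullback.of_hasPullback (Spec.map (CommRingCat.ofHom (algebraMap A (A ⧸ I))))
    (Spec.map (CommRingCat.ofHom (algebraMap A A')))).of_iso (pullbackSpecIso A (A ⧸ I) A' ≪≫ e)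
    (Iso.refl _) (Iso.refl _) (Iso.refl _) ?_ ?_ ?_ ?_
  · rw [Iso.refl_hom, Category.comp_id, Iso.trans_hom, Category.assoc,
      ← pullbackSpecIso_hom_fst A (A ⧸ I) A']
    refine congrArg (_ ≫ ·) ?_
    refine Eq.trans ?_ (Spec.map_comp _ _)
    refine congrArg Spec.map (CommRingCat.hom_ext (RingHom.ext fun x => ?_))
    obtain ⟨x, rfl⟩ := Ideal.Quotient.mk_surjective x
    exact (r.commutes x).symm
  · rw [Iso.refl_hom, Category.comp_id, Iso.trans_hom, Category.assoc,
      ← pullbackSpecIso_hom_snd A (A ⧸ I) A']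
    refine congrArg (_ ≫ ·) ?_
    refine Eq.trans ?_ (Spec.map_comp _ _)
    exact congrArg Spec.map (CommRingCat.hom_ext (RingHom.ext fun x => rfl))
  · simp
  · simp

section Res

variable (sq : InfSq f) (A' : Type u) [CommRing A'] [Algebra sq.A A']

/-- The restriction of the smaller scheme of a square to an algebra over the bigger one. -/
abbrev resI : Ideal A' := sq.I.map (algebraMap sq.A A')

/-- `Spec (A' ⧸ I A')` over `S`. -/
abbrev resT : Over S :=
  Over.mk (Spec.map (CommRingCat.ofHom (Ideal.Quotient.mk (resI sq A'))) ≫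
    (specObj sq.str A').hom)

/-- The closed immersion `Spec (A' ⧸ I A') ⟶ Spec A'`. -/
abbrev resJ : resT sq A' ⟶ specObj sq.str A' :=
  Over.homMk (Spec.map (CommRingCat.ofHom (Ideal.Quotient.mk (resI sq A')))) rfl

/-- The map `Spec A' ⟶ Spec A`. -/
abbrev resMap : specObj sq.str A' ⟶ sq.ptT' :=
  Over.homMk (Spec.map (CommRingCat.ofHom (algebraMap sq.A A'))) rfl

/-- The map `Spec (A' ⧸ I A') ⟶ Spec (A ⧸ I)`. -/
def resMap₀ : resT sq A' ⟶ sq.ptT :=
  Over.homMk (Spec.map (CommRingCat.ofHom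
    (Ideal.quotientMap (resI sq A') (algebraMap sq.A A') Ideal.le_comap_map))) (by
      change Spec.map _ ≫ Spec.map _ ≫ sq.str = Spec.map _ ≫ Spec.map _ ≫ sq.str
      rw [← Spec.map_comp_assoc, ← Spec.map_comp_assoc]
      rfl)

@[reassoc]
theorem resMap₀_j : resMap₀ sq A' ≫ sq.j = resJ sq A' ≫ resMap sq A' := by
  refine Over.OverMorphism.ext ?_
  change Spec.map _ ≫ Spec.map _ = Spec.map _ ≫ Spec.map _
  rw [← Spec.map_comp, ← Spec.map_comp]
  rfl

theorem resI_sq : resI sq A' ^ 2 = ⊥ := by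
  rw [← Ideal.map_pow, sq.sq_zero, Ideal.map_bot]

/-- The restriction of a square to an algebra, with a new top arrow. -/
def resWith {F' G' : Sp S} (f' : F' ⟶ G') (top : (yon S).obj (resT sq A') ⟶ F')
    (bot : (yon S).obj (specObj sq.str A') ⟶ G')
    (h : top ≫ f' = (yon S).map (resJ sq A') ≫ bot) : InfSq f' where
  A := A'
  I := resI sq A'
  sq_zero := resI_sq sq A'
  str := (specObj sq.str A').hom
  top := top
  bot := bot
  comm := h

theorem res_comm : ((yon S).map (resMap₀ sq A') ≫ sq.top) ≫ f =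
    (yon S).map (resJ sq A') ≫ (yon S).map (resMap sq A') ≫ sq.bot := by
  rw [Category.assoc, sq.comm, ← Functor.map_comp_assoc, ← Functor.map_comp_assoc, ← resMap₀_j]

/-- The restriction of a square to an algebra. -/
def res : InfSq f := resWith sq A' f _ _ (res_comm sq A')

theorem isPullback_res :
    IsPullback (resMap₀ sq A') (resJ sq A') sq.j (resMap sq A') :=
  IsPullback.of_map (Over.forget S) (resMap₀_j sq A') (isPullback_spec_quot sq.I A')

end Res

/-- A square for a morphism of schemes, in terms of schemes. -/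
theorem yon_square {U V : Over S} {h : U ⟶ V} (sq : InfSq ((yon S).map h)) :
    ∃ (a : sq.ptT ⟶ U) (b : sq.ptT' ⟶ V), sq.top = (yon S).map a ∧ sq.bot = (yon S).map b ∧
      a ≫ h = sq.j ≫ b := by
  obtain ⟨a, ha⟩ := (yon S).map_surjective sq.top
  obtain ⟨b, hb⟩ := (yon S).map_surjective sq.bot
  exact ⟨a, b, ha.symm, hb.symm, (yon S).map_injective (by
    rw [Functor.map_comp, Functor.map_comp, ha, hb]; exact sq.comm)⟩

/-- A scheme lifting square gives a square of sheaves. -/
def ofScheme {U V : Over S} (h : U ⟶ V) (A : Type u) [CommRing A] (I : Ideal A) (hI : I ^ 2 = ⊥)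
    (a : Spec (CommRingCat.of (A ⧸ I)) ⟶ U.left) (b : Spec (CommRingCat.of A) ⟶ V.left)
    (w : Spec.map (CommRingCat.ofHom (Ideal.Quotient.mk I)) ≫ b = a ≫ h.left) :
    InfSq ((yon S).map h) where
  A := A
  I := I
  sq_zero := hI
  str := b ≫ V.hom
  top := (yon S).map (Over.homMk a (by
    change a ≫ U.hom = Spec.map _ ≫ b ≫ V.hom
    rw [← Over.w h, ← Category.assoc, ← w, Category.assoc]))
  bot := (yon S).map (Over.homMk b rfl)
  comm := by
    rw [← Functor.map_comp, ← Functor.map_comp]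
    exact congrArg _ (Over.OverMorphism.ext w.symm)

variable {U V : Over S} (h : U ⟶ V)

theorem smooth_yon_iff :
    IsFormallySmoothMor ((yon S).map h) ↔ MoreMor.IsFormallySmoothHom h.left := by
  constructor
  · intro H A _ I hI a b w
    obtain ⟨l, hl₁, hl₂⟩ := H (ofScheme h A I hI a b w)
    obtain ⟨l, rfl⟩ := (yon S).map_surjective l
    rw [← Functor.map_comp] at hl₁ hl₂
    exact ⟨l.left, congrArg CommaMorphism.left ((yon S).map_injective hl₁),
      congrArg CommaMorphism.left ((yon S).map_injective hl₂)⟩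
  · intro H sq
    obtain ⟨a, b, ha, hb, w⟩ := yon_square sq
    obtain ⟨l, hl₁, hl₂⟩ := H sq.A sq.I sq.sq_zero a.left b.left (congrArg CommaMorphism.left w).symm
    let l' : sq.ptT' ⟶ U := Over.homMk l (by
      rw [← Over.w h, reassoc_of% hl₂]; exact Over.w b)
    refine ⟨(yon S).map l', ?_, ?_⟩
    · rw [ha, ← Functor.map_comp]
      exact congrArg _ (Over.OverMorphism.ext hl₁)
    · rw [hb, ← Functor.map_comp]
      exact congrArg _ (Over.OverMorphism.ext hl₂)

theorem unramified_yon_iff :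
    IsFormallyUnramifiedMor ((yon S).map h) ↔ FormallyUnramified h.left := by
  constructor
  · intro H
    refine FormallyUnramified.of_hom_ext _ fun R R' φ hφ hsq g₁ g₂ h₁ h₂ => ?_
    let e := RingHom.quotientKerEquivOfSurjective hφ
    let I := RingHom.ker φ.hom
    let π : Spec (CommRingCat.of (R ⧸ I)) ⟶ Spec R := Spec.map (CommRingCat.ofHom (Ideal.Quotient.mk I))
    have hπ : CommRingCat.ofHom (Ideal.Quotient.mk I) = φ ≫ CommRingCat.ofHom e.symm.toRingHom := by
      ext r
      exact ((RingHom.quotientKerEquivOfSurjective hφ).symm_apply_eq.mpr rfl).symm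
    have h₁' : π ≫ g₁ = π ≫ g₂ := by
      simp only [π, hπ, Spec.map_comp, Category.assoc]
      rw [h₁]
    let sq := ofScheme h R I hsq (π ≫ g₁) (g₁ ≫ h.left) (by simp [π])
    let l₁ : sq.ptT' ⟶ U := Over.homMk g₁ (by
      change g₁ ≫ U.hom = (g₁ ≫ h.left) ≫ V.hom
      rw [Category.assoc, Over.w h])
    let l₂ : sq.ptT' ⟶ U := Over.homMk g₂ (by
      change g₂ ≫ U.hom = (g₁ ≫ h.left) ≫ V.hom
      rw [h₂, Category.assoc, Over.w h])
    have key := H sq ((yon S).map l₁) ((yon S).map l₂) ?_ ?_ ?_ ?_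
    · exact congrArg CommaMorphism.left ((yon S).map_injective key)
    · rw [← Functor.map_comp]; exact congrArg _ (Over.OverMorphism.ext rfl)
    · rw [← Functor.map_comp]; exact congrArg _ (Over.OverMorphism.ext rfl)
    · rw [← Functor.map_comp]; exact congrArg _ (Over.OverMorphism.ext h₁'.symm)
    · rw [← Functor.map_comp]; exact congrArg _ (Over.OverMorphism.ext h₂.symm)
  · intro H sq l l' h₁ h₂ h₁' h₂'
    obtain ⟨l, rfl⟩ := (yon S).map_surjective l
    obtain ⟨l', rfl⟩ := (yon S).map_surjective l'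
    have e₁ := h₁.trans h₁'.symm
    have e₂ := h₂.trans h₂'.symm
    rw [← Functor.map_comp, ← Functor.map_comp] at e₁ e₂
    have ht := Groth.FlatmorThree.FormalLift.isFirstOrderThickening_specMap_mk sq.I sq.sq_zero
    have : IsClosedImmersion (Spec.map (CommRingCat.ofHom (Ideal.Quotient.mk sq.I))) := ht.1.1
    have : Surjective (Spec.map (CommRingCat.ofHom (Ideal.Quotient.mk sq.I))) := ht.1.2
    refine congrArg _ (Over.OverMorphism.ext ?_)
    exact FormallyUnramified.hom_ext (Spec.map (CommRingCat.ofHom (Ideal.Quotient.mk sq.I)))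
      ⟨2, by rw [pow_two]; exact ht.2⟩ h.left
      (congrArg CommaMorphism.left ((yon S).map_injective e₁))
      (congrArg CommaMorphism.left ((yon S).map_injective e₂))

theorem etale_yon_iff :
    IsFormallyEtaleMor ((yon S).map h) ↔ MoreMor.IsFormallyEtaleHom h.left := by
  rw [etale_iff, smooth_yon_iff, unramified_yon_iff]
  constructor
  · rintro ⟨hs, hu⟩ A _ I hI a b w
    obtain ⟨l, hl⟩ := hs A I hI a b w
    refine ⟨l, hl, fun l' hl' => ?_⟩
    have ht := Groth.FlatmorThree.FormalLift.isFirstOrderThickening_specMap_mk I hI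
    have : IsClosedImmersion (Spec.map (CommRingCat.ofHom (Ideal.Quotient.mk I))) := ht.1.1
    have : Surjective (Spec.map (CommRingCat.ofHom (Ideal.Quotient.mk I))) := ht.1.2
    exact FormallyUnramified.hom_ext _ ⟨2, by rw [pow_two]; exact ht.2⟩ h.left
      (hl'.1.trans hl.1.symm) (hl'.2.trans hl.2.symm)
  · exact fun H => ⟨fun A _ I hI a b w => (H A I hI a b w).exists,
      Groth.FlatmorThree.FormalLift.formallyUnramified_of_isFormallyEtaleHom H⟩

section Rep

variable {a : F ⟶ G}

/-- The square on a representing scheme under a lifting square. -/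
def repSq (sq : InfSq a) {W : Over S} {fst : (yon S).obj W ⟶ F} {snd : W ⟶ sq.ptT'}
    (P : IsPullback fst ((yon S).map snd) a sq.bot) : InfSq ((yon S).map snd) where
  A := sq.A
  I := sq.I
  sq_zero := sq.sq_zero
  str := sq.str
  top := P.lift sq.top ((yon S).map sq.j) sq.comm
  bot := 𝟙 _
  comm := by rw [P.lift_snd]; exact (Category.comp_id _).symm

theorem smooth_of_repWith {P : MorphismProperty Scheme.{u}} (ha : RepWith P a)
    (hP : ∀ ⦃A B : Scheme.{u}⦄ (g : A ⟶ B), P g → MoreMor.IsFormallySmoothHom g) :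
    IsFormallySmoothMor a := by
  intro sq
  obtain ⟨W, snd, fst, hW⟩ := ha.rep sq.bot
  obtain ⟨l, hl₁, hl₂⟩ := (smooth_yon_iff snd).2 (hP _ (ha.property _ fst snd hW)) (repSq sq hW)
  refine ⟨l ≫ fst, ?_, ?_⟩
  · rw [← Category.assoc]
    exact (congrArg (· ≫ fst) hl₁).trans (hW.lift_fst _ _ _)
  · rw [Category.assoc, hW.w, ← Category.assoc]
    exact (congrArg (· ≫ sq.bot) hl₂).trans (Category.id_comp _)

theorem unramified_of_repWith {P : MorphismProperty Scheme.{u}} (ha : RepWith P a)
    (hP : ∀ ⦃A B : Scheme.{u}⦄ (g : A ⟶ B), P g → FormallyUnramified g) :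
    IsFormallyUnramifiedMor a := by
  intro sq l l' h₁ h₂ h₁' h₂'
  obtain ⟨W, snd, fst, hW⟩ := ha.rep sq.bot
  let L := hW.lift l (𝟙 _) (by rw [Category.id_comp, h₂])
  let L' := hW.lift l' (𝟙 _) (by rw [Category.id_comp, h₂'])
  have hlift : ∀ (m : (yon S).obj sq.ptT' ⟶ F) (hm : m ≫ a = 𝟙 _ ≫ sq.bot),
      (yon S).map sq.j ≫ m = sq.top →
      (yon S).map sq.j ≫ hW.lift m (𝟙 _) hm = (repSq sq hW).top := by
    intro m hm hm₁
    refine hW.hom_ext ?_ ?_
    · rw [Category.assoc, hW.lift_fst, hm₁]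
      exact (hW.lift_fst _ _ _).symm
    · rw [Category.assoc, hW.lift_snd, Category.comp_id]
      exact (hW.lift_snd _ _ _).symm
  have key : L = L' := (unramified_yon_iff snd).2 (hP _ (ha.property _ fst snd hW)) (repSq sq hW) L L'
    (hlift l _ h₁) (hW.lift_snd _ _ _) (hlift l' _ h₁') (hW.lift_snd _ _ _)
  rw [← hW.lift_fst l (𝟙 _) (by rw [Category.id_comp, h₂]),
    ← hW.lift_fst l' (𝟙 _) (by rw [Category.id_comp, h₂'])]
  exact congrArg (· ≫ fst) key

theorem formallyUnramified_of_etale {A B : Scheme.{u}} (g : A ⟶ B) (hg : Etale g) :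
    FormallyUnramified g := inferInstance

theorem formallySmoothHom_of_etale {A B : Scheme.{u}} (g : A ⟶ B) (hg : Etale g) :
    MoreMor.IsFormallySmoothHom g :=
  Groth.FlatmorThree.SmoothLift.isFormallySmoothHom_of_smooth g

theorem etale_of_repWith (ha : RepWith @Etale a) : IsFormallyEtaleMor a :=
  etale_iff.2 ⟨smooth_of_repWith ha fun _ _ g hg => formallySmoothHom_of_etale g hg,
    unramified_of_repWith ha fun _ _ g hg => formallyUnramified_of_etale g hg⟩

end Rep

end Inf

end

end Groth.AlgSp2
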