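import Groth.Agent.AlgSp2.InfBasic
import Groth.Agent.AlgStBasic.SmoothDescent
import Mathlib.AlgebraicGeometry.Morphisms.Etale

/-!
# Étale-local lifts for infinitesimal lifting squares
-/

set_option autoImplicit false
set_option backward.isDefEq.respectTransparency.types false
universe u

open CategoryTheory CategoryTheory.Limits AlgebraicGeometry Opposite AlgSp TensorProduct
  TopologicalSpace

namespace Groth.AlgSp2.Inf

open Groth.AlgSpBasic

noncomputable section

variable {S : Scheme.{u}} {F G H : Sp S} {f : F ⟶ G}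

/-- An étale surjective scheme over an affine scheme is dominated by an affine one. -/
theorem exists_affine_etale_refinement {W T : Scheme.{u}} [IsAffine T] (k : W ⟶ T) [Etale k]
    [Surjective k] : ∃ (Y : Scheme.{u}) (φ : Y ⟶ W), IsAffine Y ∧ Etale (φ ≫ k) ∧
      Surjective (φ ≫ k) := by
  let 𝒰 := W.affineCover
  have hcov : (Set.univ : Set T) ⊆ ⋃ i, k '' ((𝒰.f i).opensRange : Set W) := by
    intro x _
    obtain ⟨w, rfl⟩ := k.surjective x
    obtain ⟨i, y, hy⟩ := 𝒰.exists_eq w
    exact Set.mem_iUnion.2 ⟨i, w, ⟨y, hy⟩, rfl⟩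
  obtain ⟨t, ht⟩ := isCompact_univ.elim_finite_subcover _
    (fun i => k.isOpenMap _ (𝒰.f i).opensRange.isOpen) hcov
  let K : W.Opens := ⨆ i ∈ t, (𝒰.f i).opensRange
  have hK : IsCompact (K : Set W) := by
    simp only [K, Opens.coe_iSup]
    exact t.finite_toSet.isCompact_biUnion fun i _ => isCompact_range (𝒰.f i).continuous
  have : CompactSpace ↥K.toScheme := isCompact_iff_compactSpace.1 hK
  obtain ⟨Y, φ, hφs, hφe, hY⟩ :=
    K.toScheme.exists_hom_isAffine_of_isZariskiLocalAtSource @Etale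
  refine ⟨Y, φ ≫ K.ι, hY, inferInstance, ⟨fun x => ?_⟩⟩
  obtain ⟨i, hi, w, hw, rfl⟩ := Set.mem_iUnion₂.1 (ht (Set.mem_univ x))
  have hwK : w ∈ K := by
    simp only [K, Opens.mem_iSup]
    exact ⟨i, hi, hw⟩
  obtain ⟨y, hy⟩ := φ.surjective ⟨w, hwK⟩
  exact ⟨y, congrArg (fun z : K.toScheme => k (K.ι z)) hy⟩

/-- An étale covering of `Spec (A ⧸ I)` lifts to an étale algebra over `A`. -/
theorem exists_cover_spec {A : Type u} [CommRing A] (I : Ideal A) (hI : I ^ 2 = ⊥)
    {W : Scheme.{u}} (k : W ⟶ Spec (CommRingCat.of (A ⧸ I))) [Etale k] [Surjective k] :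
    ∃ (Q : Type u) (_ : CommRing Q) (_ : Algebra A Q)
      (m : Spec (CommRingCat.of (Q ⧸ I.map (algebraMap A Q))) ⟶ W),
      Algebra.Etale A Q ∧ Surjective (Spec.map (CommRingCat.ofHom (algebraMap A Q))) ∧
      m ≫ k = Spec.map (CommRingCat.ofHom
        (Ideal.quotientMap (I.map (algebraMap A Q)) (algebraMap A Q) Ideal.le_comap_map)) := by
  obtain ⟨Y, φ, hY, he, hs⟩ := exists_affine_etale_refinement k
  obtain ⟨c, hc⟩ := Spec.map_surjective (Y.isoSpec.inv ≫ φ ≫ k)
  let C : Type u := Γ(Y, ⊤)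
  let _ : Algebra (A ⧸ I) C := c.hom.toAlgebra
  let algAC : Algebra A C := (c.hom.comp (Ideal.Quotient.mk I)).toAlgebra
  have : IsScalarTower A (A ⧸ I) C := IsScalarTower.of_algebraMap_eq fun _ => rfl
  have hce : Etale (Spec.map c) := by
    rw [hc]
    exact MorphismProperty.comp_mem @Etale _ _ inferInstance he
  have hcs : Surjective (Spec.map c) := by
    rw [hc]
    exact MorphismProperty.comp_mem @Surjective _ _ inferInstance hs
  have : Algebra.Etale (A ⧸ I) C := (HasRingHomProperty.Spec_iff (P := @Etale)).1 hce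
  obtain ⟨Q, iQ, aQ, π, hQ, hπs, hπk⟩ := Groth.AlgStBasic.SmoothDescent.exists_etale_lift
    (P := A) (B := A ⧸ I) (C := C) Ideal.Quotient.mk_surjective
  have hk : RingHom.ker π.toRingHom = I.map (algebraMap A Q) := by
    rw [hπk, Ideal.Quotient.algebraMap_eq, Ideal.mk_ker]
  let e : Q ⧸ I.map (algebraMap A Q) ≃+* C :=
    (Ideal.quotEquivOfEq hk.symm).trans (RingHom.quotientKerEquivOfSurjective hπs)
  have hmk : ∀ x, e (Ideal.Quotient.mk _ x) = π x := fun x => rfl
  have hq : CommRingCat.ofHom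
      (Ideal.quotientMap (I.map (algebraMap A Q)) (algebraMap A Q) Ideal.le_comap_map) =
      c ≫ CommRingCat.ofHom e.symm.toRingHom := by
    refine CommRingCat.hom_ext (Ideal.Quotient.ringHom_ext (RingHom.ext fun x => e.injective ?_))
    change e (Ideal.Quotient.mk _ (algebraMap A Q x)) =
      e (e.symm (c.hom (Ideal.Quotient.mk I x)))
    rw [hmk, e.apply_symm_apply]
    exact π.commutes x
  refine ⟨Q, iQ, aQ, Spec.map (CommRingCat.ofHom e.symm.toRingHom) ≫ Y.isoSpec.inv ≫ φ, hQ,
    ⟨fun x => ?_⟩, ?_⟩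
  · obtain ⟨x₀, rfl⟩ :=
      (Groth.FlatmorThree.FormalLift.isFirstOrderThickening_specMap_mk I hI).1.2.surj x
    obtain ⟨y, rfl⟩ := hcs.surj x₀
    refine ⟨(Spec.map (CommRingCat.ofHom π.toRingHom)) y, ?_⟩
    rw [← Scheme.Hom.comp_apply, ← Spec.map_comp, ← Scheme.Hom.comp_apply, ← Spec.map_comp]
    exact congrArg (fun g => (Spec.map g) y) (CommRingCat.hom_ext π.comp_algebraMap)
  · rw [hq, Category.assoc, Category.assoc, ← hc, ← Spec.map_comp]

variable (sq : InfSq f)

/-- An étale covering of the smaller scheme of a square refines to the restriction of an étale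
covering of the bigger one. -/
theorem exists_cover {W : Over S} (k : W ⟶ sq.ptT) [Etale k.left] [Surjective k.left] :
    ∃ (A' : Type u) (_ : CommRing A') (_ : Algebra sq.A A') (m : resT sq A' ⟶ W),
      Algebra.Etale sq.A A' ∧ Surjective (resMap sq A').left ∧ m ≫ k = resMap₀ sq A' := by
  obtain ⟨Q, iQ, aQ, m, hQ, hs, hm⟩ := exists_cover_spec (W := W.left) sq.I sq.sq_zero k.left
  exact ⟨Q, iQ, aQ, Over.homMk m (by rw [← Over.w k, reassoc_of% hm]; exact Over.w (resMap₀ sq Q)),
    hQ, hs, Over.OverMorphism.ext hm⟩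

/-- The top arrow of a square lifts through an étale covering, étale locally. -/
theorem exists_cover_lift {a : H ⟶ F} (ha : RepWith @Etale a) (ha' : RepWith @Surjective a) :
    ∃ (A' : Type u) (_ : CommRing A') (_ : Algebra sq.A A')
      (m : (yon S).obj (resT sq A') ⟶ H),
      Algebra.Etale sq.A A' ∧ Surjective (resMap sq A').left ∧
        m ≫ a = (yon S).map (resMap₀ sq A') ≫ sq.top := by
  obtain ⟨W, k, fst, hW⟩ := ha.rep sq.top
  have : Etale k.left := ha.property _ fst k hW
  have : Surjective k.left := ha'.property _ fst k hW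
  obtain ⟨A', iA, aA, m, hA, hs, hm⟩ := exists_cover sq k
  refine ⟨A', iA, aA, (yon S).map m ≫ fst, hA, hs, ?_⟩
  rw [Category.assoc, hW.w, ← hm, Functor.map_comp_assoc]

variable (A' : Type u) [CommRing A'] [Algebra sq.A A']

theorem etale_resMap [Algebra.Etale sq.A A'] : Etale (resMap sq A').left :=
  (HasRingHomProperty.Spec_iff (P := @Etale)).2 (RingHom.etale_algebraMap.2 inferInstance)

theorem etale_surjective_resMap₀ [Algebra.Etale sq.A A'] [Surjective (resMap sq A').left] :
    Etale (resMap₀ sq A').left ∧ Surjective (resMap₀ sq A').left :=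
  have := etale_resMap sq A'
  have h := (isPullback_left (isPullback_res sq A')).flip
  ⟨MorphismProperty.of_isPullback (P := @Etale) h this,
    MorphismProperty.of_isPullback (P := @Surjective) h inferInstance⟩

/-- A lift on an étale covering which glues gives a lift. -/
theorem hasLift_of_cover [Algebra.Etale sq.A A'] [Surjective (resMap sq A').left]
    (l' : (yon S).obj (specObj sq.str A') ⟶ F)
    (h₁ : (yon S).map (resJ sq A') ≫ l' = (yon S).map (resMap₀ sq A') ≫ sq.top)
    (h₂ : l' ≫ f = (yon S).map (resMap sq A') ≫ sq.bot)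
    (hcoc : ∀ (Z : Over S) (p q : Z ⟶ specObj sq.str A'),
      p ≫ resMap sq A' = q ≫ resMap sq A' → (yon S).map p ≫ l' = (yon S).map q ≫ l') :
    sq.HasLift := by
  have := etale_resMap sq A'
  obtain ⟨l, hl⟩ := exists_glue_of_fppf (resMap sq A') l' hcoc
  obtain ⟨h₀e, h₀s⟩ := etale_surjective_resMap₀ sq A'
  refine ⟨l, hom_ext_of_fppf (resMap₀ sq A') ?_, hom_ext_of_fppf (resMap sq A') ?_⟩
  · rw [← Functor.map_comp_assoc, resMap₀_j, Functor.map_comp_assoc, hl, h₁]
  · rw [← Category.assoc, hl, h₂]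

end

end Groth.AlgSp2.Inf
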