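import Groth.Agent.AlgSp2.InfCover

/-!
# Formal unramifiedness and formal étaleness are étale local on the source
-/

set_option autoImplicit false
set_option backward.isDefEq.respectTransparency.types false
universe u

open CategoryTheory CategoryTheory.Limits AlgebraicGeometry Opposite AlgSp TensorProduct

namespace Groth.AlgSp2.Inf

open Groth.AlgSpBasic

noncomputable section

variable {S : Scheme.{u}} {F G H : Sp S}

section

variable {f : F ⟶ G} (sq : InfSq f)

/-- An étale covering of the bigger scheme of a square is dominated by an étale algebra. -/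
theorem exists_cover_big {W : Over S} (k : W ⟶ sq.ptT') [Etale k.left] [Surjective k.left] :
    ∃ (A' : Type u) (_ : CommRing A') (_ : Algebra sq.A A') (m : specObj sq.str A' ⟶ W),
      Algebra.Etale sq.A A' ∧ Surjective (resMap sq A').left ∧ m ≫ k = resMap sq A' := by
  have : IsAffine sq.ptT'.left := inferInstanceAs (IsAffine (Spec (CommRingCat.of sq.A)))
  obtain ⟨Y, φ, hY, he, hs⟩ := exists_affine_etale_refinement k.left
  obtain ⟨c, hc⟩ := Spec.map_surjective (Y.isoSpec.inv ≫ φ ≫ k.left)
  let aC : Algebra sq.A Γ(Y, ⊤) := c.hom.toAlgebra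
  have hce : Etale (Spec.map c) := by
    rw [hc]
    exact MorphismProperty.comp_mem @Etale _ _ inferInstance he
  have hcs : Surjective (Spec.map c) := by
    rw [hc]
    exact MorphismProperty.comp_mem @Surjective _ _ inferInstance hs
  have hw : (Y.isoSpec.inv ≫ φ) ≫ k.left = Spec.map c := by rw [Category.assoc, hc]
  exact ⟨Γ(Y, ⊤), inferInstance, aC,
    Over.homMk (Y.isoSpec.inv ≫ φ) ((congrArg (_ ≫ ·) (Over.w k).symm).trans
      ((Category.assoc _ _ _).symm.trans (congrArg (· ≫ _) hw))),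
    (HasRingHomProperty.Spec_iff (P := @Etale)).1 hce, hcs, Over.OverMorphism.ext hw⟩

variable (A' : Type u) [CommRing A'] [Algebra sq.A A']

/-- Maps of restrictions of the bigger scheme restrict to the smaller one. -/
theorem exists_resT_map {D : Type u} [CommRing D] [Algebra sq.A D]
    (g : specObj sq.str D ⟶ specObj sq.str A') (hg : g ≫ resMap sq A' = resMap sq D) :
    ∃ g₀ : resT sq D ⟶ resT sq A', g₀ ≫ resJ sq A' = resJ sq D ≫ g ∧
      g₀ ≫ resMap₀ sq A' = resMap₀ sq D := by
  have P := isPullback_res sq A'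
  have w : resMap₀ sq D ≫ sq.j = (resJ sq D ≫ g) ≫ resMap sq A' := by
    rw [Category.assoc, hg, resMap₀_j]
  exact ⟨P.lift (resMap₀ sq D) (resJ sq D ≫ g) w, P.lift_snd _ _ _, P.lift_fst _ _ _⟩

theorem isPullback_tensor :
    IsPullback (specHom sq.str (Algebra.TensorProduct.includeLeft : A' →ₐ[sq.A] A' ⊗[sq.A] A'))
      (specHom sq.str (Algebra.TensorProduct.includeRight : A' →ₐ[sq.A] A' ⊗[sq.A] A'))
      (resMap sq A') (resMap sq A') := by
  refine IsPullback.of_map (Over.forget S) ?_ ((IsPullback.of_hasPullback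
    (Spec.map (CommRingCat.ofHom (algebraMap sq.A A')))
    (Spec.map (CommRingCat.ofHom (algebraMap sq.A A')))).of_iso (pullbackSpecIso sq.A A' A')
    (Iso.refl _) (Iso.refl _) (Iso.refl _) ?_ ?_ ?_ ?_)
  · refine Over.OverMorphism.ext ?_
    change Spec.map _ ≫ Spec.map _ = Spec.map _ ≫ Spec.map _
    rw [← Spec.map_comp, ← Spec.map_comp]
    refine congrArg Spec.map (CommRingCat.hom_ext (RingHom.ext fun x => ?_))
    exact ((Algebra.TensorProduct.includeLeft : A' →ₐ[sq.A] A' ⊗[sq.A] A').commutes x).trans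
      ((Algebra.TensorProduct.includeRight : A' →ₐ[sq.A] A' ⊗[sq.A] A').commutes x).symm
  · exact (Category.comp_id _).trans (pullbackSpecIso_hom_fst sq.A A' A').symm
  · exact (Category.comp_id _).trans (pullbackSpecIso_hom_snd sq.A A' A').symm
  · exact (Category.comp_id _).trans (Category.id_comp _).symm
  · exact (Category.comp_id _).trans (Category.id_comp _).symm

theorem specHom_resMap {B : Type u} [CommRing B] [Algebra sq.A B] (φ : A' →ₐ[sq.A] B) :
    specHom sq.str φ ≫ resMap sq A' = resMap sq B := by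
  refine Over.OverMorphism.ext ?_
  change Spec.map _ ≫ Spec.map _ = Spec.map _
  rw [← Spec.map_comp]
  exact congrArg Spec.map (CommRingCat.hom_ext φ.comp_algebraMap)

/-- For a formally unramified morphism, local lifts agree on overlaps. -/
theorem cocycle_of_unramified (hf : IsFormallyUnramifiedMor f)
    (l' : (yon S).obj (specObj sq.str A') ⟶ F)
    (h₁ : (yon S).map (resJ sq A') ≫ l' = (yon S).map (resMap₀ sq A') ≫ sq.top)
    (h₂ : l' ≫ f = (yon S).map (resMap sq A') ≫ sq.bot)
    (Z : Over S) (p q : Z ⟶ specObj sq.str A') (hpq : p ≫ resMap sq A' = q ≫ resMap sq A') :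
    (yon S).map p ≫ l' = (yon S).map q ≫ l' := by
  have hP := isPullback_tensor sq A'
  suffices e : (yon S).map (specHom sq.str
        (Algebra.TensorProduct.includeLeft : A' →ₐ[sq.A] A' ⊗[sq.A] A')) ≫ l' =
      (yon S).map (specHom sq.str
        (Algebra.TensorProduct.includeRight : A' →ₐ[sq.A] A' ⊗[sq.A] A')) ≫ l' by
    calc (yon S).map p ≫ l' = (yon S).map (hP.lift p q hpq) ≫
          (yon S).map (specHom sq.str Algebra.TensorProduct.includeLeft) ≫ l' := by
            rw [← Functor.map_comp_assoc, hP.lift_fst]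
      _ = (yon S).map (hP.lift p q hpq) ≫
          (yon S).map (specHom sq.str Algebra.TensorProduct.includeRight) ≫ l' := by rw [e]
      _ = (yon S).map q ≫ l' := by rw [← Functor.map_comp_assoc, hP.lift_snd]
  have key : ∀ φ : A' →ₐ[sq.A] A' ⊗[sq.A] A',
      (yon S).map (resJ sq (A' ⊗[sq.A] A')) ≫ (yon S).map (specHom sq.str φ) ≫ l' =
        (yon S).map (resMap₀ sq (A' ⊗[sq.A] A')) ≫ sq.top ∧
      ((yon S).map (specHom sq.str φ) ≫ l') ≫ f =
        (yon S).map (resMap sq (A' ⊗[sq.A] A')) ≫ sq.bot := by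
    intro φ
    obtain ⟨g₀, hg₁, hg₂⟩ := exists_resT_map sq A' _ (specHom_resMap sq A' φ)
    refine ⟨?_, ?_⟩
    · rw [← Functor.map_comp_assoc, ← hg₁, Functor.map_comp_assoc, h₁, ← Functor.map_comp_assoc,
        hg₂]
    · rw [Category.assoc, h₂, ← Functor.map_comp_assoc, specHom_resMap]
  obtain ⟨a₁, a₂⟩ := key Algebra.TensorProduct.includeLeft
  obtain ⟨b₁, b₂⟩ := key Algebra.TensorProduct.includeRight
  exact hf (res sq (A' ⊗[sq.A] A')) _ _ a₁ a₂ b₁ b₂

end

variable (a : H ⟶ F) {b : F ⟶ G}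

/-- Formal unramifiedness descends along representable étale coverings of the source. -/
theorem unramified_of_precomp (ha : RepWith @Etale a) (ha' : RepWith @Surjective a)
    (hab : IsFormallyUnramifiedMor (a ≫ b)) : IsFormallyUnramifiedMor b := by
  intro sq l l' h₁ h₂ h₁' h₂'
  obtain ⟨W, k, fst, hW⟩ := ha.rep l
  have : Etale k.left := ha.property _ fst k hW
  have : Surjective k.left := ha'.property _ fst k hW
  obtain ⟨A', iA, aA, m, hA, hs, hm⟩ := exists_cover_big sq k
  have := etale_resMap sq A'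
  let M := (yon S).map m ≫ fst
  have hM : M ≫ a = (yon S).map (resMap sq A') ≫ l := by
    rw [Category.assoc, hW.w, ← hm, Functor.map_comp_assoc]
  let T₀ := (yon S).map (resJ sq A') ≫ M
  have hT : T₀ ≫ a = (yon S).map (resMap₀ sq A') ≫ sq.top := by
    rw [Category.assoc, hM, ← Functor.map_comp_assoc, ← resMap₀_j, Functor.map_comp_assoc, h₁]
  obtain ⟨M', hM'₁, hM'₂⟩ : ∃ M' : (yon S).obj (specObj sq.str A') ⟶ H,
      (yon S).map (resJ sq A') ≫ M' = T₀ ∧ M' ≫ a = (yon S).map (resMap sq A') ≫ l' :=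
    (etale_iff.1 (etale_of_repWith ha)).1
      (resWith sq A' a T₀ ((yon S).map (resMap sq A') ≫ l') (by
        rw [hT, ← Functor.map_comp_assoc, ← resMap₀_j, Functor.map_comp_assoc, h₁']))
  have e₁ : M ≫ a ≫ b = (yon S).map (resMap sq A') ≫ sq.bot := by
    rw [← Category.assoc, hM, Category.assoc, h₂]
  have e₂ : M' ≫ a ≫ b = (yon S).map (resMap sq A') ≫ sq.bot := by
    rw [← Category.assoc, hM'₂, Category.assoc, h₂']
  have hMM : M = M' := hab
    (resWith sq A' (a ≫ b) T₀ ((yon S).map (resMap sq A') ≫ sq.bot)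
      (by rw [← Category.assoc, hT]; exact res_comm sq A'))
    M M' rfl e₁ hM'₁ e₂
  refine hom_ext_of_fppf (resMap sq A') ?_
  rw [← hM, hMM]
  exact hM'₂

/-- A formally smooth composite lifts squares étale locally. -/
theorem exists_local_lift_of_precomp (ha : RepWith @Etale a) (ha' : RepWith @Surjective a)
    (hab : IsFormallySmoothMor (a ≫ b)) (sq : InfSq b) :
    ∃ (A' : Type u) (_ : CommRing A') (_ : Algebra sq.A A')
      (l' : (yon S).obj (specObj sq.str A') ⟶ F),
      Algebra.Etale sq.A A' ∧ Surjective (resMap sq A').left ∧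
        (yon S).map (resJ sq A') ≫ l' = (yon S).map (resMap₀ sq A') ≫ sq.top ∧
        l' ≫ b = (yon S).map (resMap sq A') ≫ sq.bot := by
  obtain ⟨A', iA, aA, m, hA, hs, hm⟩ := exists_cover_lift sq ha ha'
  obtain ⟨M, hM₁, hM₂⟩ := hab (resWith sq A' (a ≫ b) m ((yon S).map (resMap sq A') ≫ sq.bot)
    (by rw [← Category.assoc, hm]; exact res_comm sq A'))
  refine ⟨A', iA, aA, M ≫ a, hA, hs, ?_, (Category.assoc _ _ _).trans hM₂⟩
  rw [← Category.assoc]
  exact (congrArg (· ≫ a) hM₁).trans hm

/-- Formal étaleness descends along representable étale coverings of the source. -/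
theorem etale_of_precomp (ha : RepWith @Etale a) (ha' : RepWith @Surjective a)
    (hab : IsFormallyEtaleMor (a ≫ b)) : IsFormallyEtaleMor b := by
  have hb := unramified_of_precomp a ha ha' (etale_iff.1 hab).2
  refine etale_iff.2 ⟨fun sq => ?_, hb⟩
  obtain ⟨A', iA, aA, l', hA, hs, h₁, h₂⟩ :=
    exists_local_lift_of_precomp a ha ha' (etale_iff.1 hab).1 sq
  exact hasLift_of_cover sq A' l' h₁ h₂ (cocycle_of_unramified sq A' hb l' h₁ h₂)

end

end Groth.AlgSp2.Inf
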