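import Groth.Agent.FlatmorThree.SmoothLift
import Groth.Agent.FlatmorThree.ProjLocal

/-!
# The square zero neighbourhood of a section of a formally smooth morphism of schemes
-/

set_option autoImplicit false
universe u
open CategoryTheory AlgebraicGeometry Limits TopologicalSpace

namespace Groth.AlgSp2

open Groth.FlatmorThree Groth.FlatmorThree.SmoothLift

variable {X Y : Scheme.{u}} {f : X ⟶ Y} {A : Type u} [CommRing A] {I : Ideal A}
  {a : Spec (CommRingCat.of (A ⧸ I)) ⟶ X} {b : Spec (CommRingCat.of A) ⟶ Y}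
  {w : sp (Ideal.Quotient.mk I) ≫ b = a ≫ f}

/-- Formally smooth morphisms have formally smooth charts. -/
theorem hasSmoothCharts_of_isFormallySmoothHom (hf : MoreMor.IsFormallySmoothHom f) :
    HasSmoothCharts f := by
  intro x
  obtain ⟨V, hV, hfx, -⟩ := TopologicalSpace.Opens.isBasis_iff_nbhd.mp Y.isBasis_affineOpens
    (Opens.mem_top (f x))
  obtain ⟨U, hU, hx, e⟩ := TopologicalSpace.Opens.isBasis_iff_nbhd.mp X.isBasis_affineOpens
    (show x ∈ f ⁻¹ᵁ V from hfx)
  exact ⟨U, V, hU, hV, e, hx, FormalLift.formallySmooth_appLE hf hU hV e⟩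

/-- For a formally smooth morphism, the structure map of the square zero neighbourhood is injective
with projective cokernel. -/
theorem injective_and_projective (hf : MoreMor.IsFormallySmoothHom f) (hI : I ^ 2 = ⊥)
    (d : Data f a b w) :
    Function.Injective (algebraMap A d.C) ∧ Module.Projective (A ⧸ I) d.T.Coker := by
  have hloc : ∀ x : Spec (CommRingCat.of (A ⧸ I)), ∃ (g : A) (U : X.Opens) (V : Y.Opens)
      (_ : IsAffineOpen U) (_ : IsAffineOpen V) (e : U ≤ f ⁻¹ᵁ V),
      (f.appLE V U e).hom.FormallySmooth ∧ Ideal.Quotient.mk I g ∉ x.asIdeal ∧ d.Adapted g U := by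
    intro x
    obtain ⟨U, V, hU, hV, e, hx, hφ⟩ := hasSmoothCharts_of_isFormallySmoothHom hf (a.base x)
    obtain ⟨_, ⟨g, rfl⟩, hgx, hgU⟩ :=
      PrimeSpectrum.isTopologicalBasis_basic_opens.exists_subset_of_mem_open
        (u := SetLike.coe (a ⁻¹ᵁ U)) hx (a ⁻¹ᵁ U).isOpen
    obtain ⟨g, rfl⟩ := Ideal.Quotient.mk_surjective g
    exact ⟨g, U, V, hU, hV, e, hφ, hgx, fun y hy => hgU hy⟩
  choose g U V hU hV e hφ hgx hg using hloc
  have hspan : Ideal.span (Set.range fun x => Ideal.Quotient.mk I (g x)) = ⊤ := by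
    by_contra hne
    obtain ⟨m, hm, hle⟩ := Ideal.exists_le_maximal _ hne
    exact hgx ⟨m, hm.isPrime⟩ (hle (Ideal.subset_span ⟨⟨m, hm.isPrime⟩, rfl⟩))
  refine ⟨?_, projective_of_localized_span d.T.Coker _ hspan ?_⟩
  · rw [injective_iff_map_eq_zero]
    intro x hx
    by_contra hne
    have hA : Submodule.annihilator (Ideal.span {x}) ≠ ⊤ := fun h => hne (by
      have h1 : (1 : A) ∈ Submodule.annihilator (Ideal.span {x}) := h ▸ Submodule.mem_top
      simpa using Submodule.mem_annihilator.mp h1 x (Ideal.mem_span_singleton_self x))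
    obtain ⟨m, hm, hle⟩ := Ideal.exists_le_maximal _ hA
    have hIm : I ≤ m := hm.isPrime.le_of_pow_le (n := 2) (by simp [hI])
    have hm' : (m.map (Ideal.Quotient.mk I)).IsPrime :=
      Ideal.map_isPrime_of_surjective Ideal.Quotient.mk_surjective (by rwa [Ideal.mk_ker])
    let x₀ : Spec (CommRingCat.of (A ⧸ I)) := ⟨m.map (Ideal.Quotient.mk I), hm'⟩
    have hgm : g x₀ ∉ m := fun h => hgx x₀ (Ideal.mem_map_of_mem _ h)
    have h0 := d.algebraMap_away_eq_zero (hU x₀) (hV x₀) (e x₀) hI (hφ x₀) (hg x₀) hx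
    rw [IsLocalization.map_eq_zero_iff (Submonoid.powers (g x₀))] at h0
    obtain ⟨⟨_, n, rfl⟩, hn⟩ := h0
    refine hgm (hm.isPrime.mem_of_pow_mem n (hle (Submodule.mem_annihilator.mpr fun y hy => ?_)))
    obtain ⟨c, rfl⟩ := Ideal.mem_span_singleton.mp hy
    rw [smul_eq_mul, ← mul_assoc]
    simpa using congrArg (· * c) hn
  · rintro ⟨_, x, rfl⟩
    exact d.projective_localizedModule (hU x) (hV x) (e x) (hφ x) (hg x)

end Groth.AlgSp2
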