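import Groth.Agent.AlgSp2.InfLocal
import Groth.Agent.AlgSp2.InfThick

/-!
# The square zero neighbourhood of a section, on an étale covering
-/

set_option autoImplicit false
set_option backward.isDefEq.respectTransparency.types false
universe u

open CategoryTheory CategoryTheory.Limits AlgebraicGeometry Opposite AlgSp TensorProduct

namespace Groth.AlgSp2.Inf

open Groth.AlgSpBasic Groth.FlatmorThree Groth.FlatmorThree.SmoothLift

noncomputable section

variable {S : Scheme.{u}} {F G H : Sp S} {f : F ⟶ G} (sq : InfSq f)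
  (B : Type u) [CommRing B] [Algebra sq.A B]

/-- A square zero neighbourhood of the top arrow over `Spec B`: an algebra `C` whose algebra maps give
points of `F`, lifting uniquely against square zero ideals. -/
structure Nbhd where
  C : Type u
  [commRing : CommRing C]
  [algebra : Algebra sq.A C]
  [algebraB : Algebra B C]
  [tower : IsScalarTower sq.A B C]
  T : Thick (resI sq B) C
  inj : Function.Injective (algebraMap B C)
  proj : Module.Projective (B ⧸ resI sq B) T.Coker
  Z : ∀ {D : Type u} [CommRing D] [Algebra sq.A D],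
    (C →ₐ[sq.A] D) → ((yon S).obj (specObj sq.str D) ⟶ F)
  Z_comp : ∀ {D D' : Type u} [CommRing D] [Algebra sq.A D] [CommRing D'] [Algebra sq.A D']
    (χ : C →ₐ[sq.A] D) (φ : D →ₐ[sq.A] D'), (yon S).map (specHom sq.str φ) ≫ Z χ = Z (φ.comp χ)
  Z_f : ∀ {D : Type u} [CommRing D] [Algebra sq.A D] (χ : C →ₐ[sq.A] D),
    Z χ ≫ f = (yon S).map (resMap sq D) ≫ sq.bot
  Z_top : ∀ φ : C →ₐ[sq.A] B, (∀ c, Ideal.Quotient.mk (resI sq B) (φ c) = T.π c) →
    (yon S).map (resJ sq B) ≫ Z φ = (yon S).map (resMap₀ sq B) ≫ sq.top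
  exists_map : ∀ {D : Type u} [CommRing D] [Algebra sq.A D] (K : Ideal D), K ^ 2 = ⊥ →
    ∀ (σ : B →ₐ[sq.A] D) (hσ : resI sq B ≤ K.comap σ.toRingHom) (q : C →ₐ[sq.A] D),
    RingHom.ker T.π.toRingHom ≤ K.comap q.toRingHom →
    ∃ χ : C →ₐ[sq.A] D, (∀ b, χ (algebraMap B C b) = σ b) ∧
      (∀ c, Ideal.Quotient.mk K (χ c) = Ideal.quotientMap K σ.toRingHom hσ (T.π c)) ∧ Z χ = Z q
  unique : ∀ {D : Type u} [CommRing D] [Algebra sq.A D] (K : Ideal D), K ^ 2 = ⊥ →
    ∀ χ χ' : C →ₐ[sq.A] D, (∀ b, χ (algebraMap B C b) = χ' (algebraMap B C b)) →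
      (∀ c, Ideal.Quotient.mk K (χ c) = Ideal.Quotient.mk K (χ' c)) → Z χ = Z χ' → χ = χ'

attribute [instance] Nbhd.commRing Nbhd.algebra Nbhd.algebraB Nbhd.tower

variable {a : H ⟶ F}

theorem sp_algHom {R D D' : Type u} [CommRing R] [CommRing D] [CommRing D'] [Algebra R D]
    [Algebra R D'] (φ : D →ₐ[R] D') :
    sp φ.toRingHom ≫ sp (algebraMap R D) = sp (algebraMap R D') := by
  rw [← sp_comp]
  exact congrArg sp φ.comp_algebraMap

/-- A covering of the top arrow by a formally smooth scheme over the bottom arrow gives a square zero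
neighbourhood. -/
theorem nonempty_nbhd (ha : IsFormallyEtaleMor a) {W : Over S} {k : W ⟶ sq.ptT'}
    {wfst : (yon S).obj W ⟶ H} (hW : IsPullback wfst ((yon S).map k) (a ≫ f) sq.bot)
    (hk : MoreMor.IsFormallySmoothHom k.left) (m₀ : (yon S).obj (resT sq B) ⟶ H)
    (hm₀ : m₀ ≫ a = (yon S).map (resMap₀ sq B) ≫ sq.top) : Nonempty (Nbhd sq B) := by
  obtain ⟨m, hm⟩ := (yon S).map_surjective (hW.lift m₀ ((yon S).map (resJ sq B ≫ resMap sq B))
    (by rw [← Category.assoc, hm₀, Category.assoc, sq.comm, ← Functor.map_comp_assoc, resMap₀_j,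
      Functor.map_comp_assoc]))
  have hmk : m ≫ k = resJ sq B ≫ resMap sq B := (yon S).map_injective (by
    rw [Functor.map_comp, hm, hW.lift_snd])
  have hmf : (yon S).map m ≫ wfst = m₀ := by rw [hm, hW.lift_fst]
  have hw : sp (Ideal.Quotient.mk (resI sq B)) ≫ sp (algebraMap sq.A B) = m.left ≫ k.left :=
    (congrArg CommaMorphism.left hmk).symm
  obtain ⟨d⟩ := nonempty_data k.left m.left (sp (algebraMap sq.A B)) hw
  obtain ⟨hinj, hproj⟩ := injective_and_projective hk (resI_sq sq B) d
  let aA : Algebra sq.A d.C := ((algebraMap B d.C).comp (algebraMap sq.A B)).toAlgebra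
  have tw : IsScalarTower sq.A B d.C := IsScalarTower.of_algebraMap_eq fun _ => rfl
  -- points of `W`
  have hX : ∀ {D : Type u} [CommRing D] [Algebra sq.A D] (χ : d.C →ₐ[sq.A] D),
      d.toX χ.toRingHom ≫ k.left = sp (algebraMap sq.A D) := by
    intro D _ _ χ
    rw [d.toX_comp_f, ← sp_comp, RingHom.comp_assoc]
    exact congrArg sp χ.comp_algebraMap
  let P : ∀ {D : Type u} [CommRing D] [Algebra sq.A D], (d.C →ₐ[sq.A] D) →
      (specObj sq.str D ⟶ W) := fun {D} _ _ χ => Over.homMk (d.toX χ.toRingHom) 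
    ((congrArg (_ ≫ ·) (Over.w k).symm).trans
      ((Category.assoc _ _ _).symm.trans (congrArg (· ≫ _) (hX χ))))
  have hPk : ∀ {D : Type u} [CommRing D] [Algebra sq.A D] (χ : d.C →ₐ[sq.A] D),
      P χ ≫ k = resMap sq D := fun χ => Over.OverMorphism.ext (hX χ)
  have hPπ : ∀ {D : Type u} [CommRing D] [Algebra sq.A D] (χ : d.C →ₐ[sq.A] D) (K : Ideal D)
      (ρ : B ⧸ resI sq B →+* D ⧸ K), (∀ c, Ideal.Quotient.mk K (χ c) = ρ (d.T.π c)) →
      sp (Ideal.Quotient.mk K) ≫ (P χ).left = sp ρ ≫ m.left := fun χ K ρ h =>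
    d.sp_comp_toX (RingHom.ext h)
  refine ⟨{ C := d.C, T := d.T, inj := hinj, proj := hproj,
            Z := fun {D} _ _ χ => (yon S).map (P χ) ≫ wfst ≫ a,
            Z_comp := ?_, Z_f := ?_, Z_top := ?_, exists_map := ?_, unique := ?_ }⟩
  · intro D D' _ _ _ _ χ φ
    rw [← Functor.map_comp_assoc]
    refine congrArg (fun z => (yon S).map z ≫ _) (Over.OverMorphism.ext ?_)
    change sp φ.toRingHom ≫ sp χ.toRingHom ≫ _ = sp (φ.comp χ).toRingHom ≫ _
    rw [← Category.assoc, ← sp_comp]
    rfl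
  · intro D _ _ χ
    rw [Category.assoc, Category.assoc, hW.w, ← Functor.map_comp_assoc, hPk]
  · intro φ hφ
    have e : resJ sq B ≫ P φ = m := by
      refine Over.OverMorphism.ext ?_
      refine (hPπ φ _ (RingHom.id _) hφ).trans ?_
      rw [sp, show CommRingCat.ofHom (RingHom.id (B ⧸ resI sq B)) = 𝟙 _ from rfl, Spec.map_id,
        Category.id_comp]
    rw [← Functor.map_comp_assoc, e, reassoc_of% hmf, hm₀]
  · intro D _ _ K hK σ hσ q hq
    let ρ := Ideal.quotientMap K σ.toRingHom hσ
    -- the reduction of `q`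
    have hker : RingHom.ker d.T.π.toRingHom ≤ RingHom.ker ((Ideal.Quotient.mk K).comp q.toRingHom) :=
      fun c hc => Ideal.Quotient.eq_zero_iff_mem.2 (hq hc)
    let ρ₂ : B ⧸ resI sq B →+* D ⧸ K :=
      RingHom.liftOfSurjective d.T.π.toRingHom d.T.π_surjective
        ⟨(Ideal.Quotient.mk K).comp q.toRingHom, hker⟩
    have hρ₂ : ∀ c, Ideal.Quotient.mk K (q c) = ρ₂ (d.T.π c) := fun c =>
      (RingHom.liftOfSurjective_comp_apply d.T.π.toRingHom d.T.π_surjective
        ⟨(Ideal.Quotient.mk K).comp q.toRingHom, hker⟩ c).symm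
    let D₀ : Over S := Over.mk (sp (Ideal.Quotient.mk K) ≫ (specObj sq.str D).hom)
    let jD : D₀ ⟶ specObj sq.str D := Over.homMk (sp (Ideal.Quotient.mk K)) rfl
    have hagree : ρ.comp (Ideal.quotientMap (resI sq B) (algebraMap sq.A B) Ideal.le_comap_map) =
        ρ₂.comp (Ideal.quotientMap (resI sq B) (algebraMap sq.A B) Ideal.le_comap_map) := by
      refine Ideal.Quotient.ringHom_ext (RingHom.ext fun x => ?_)
      change Ideal.Quotient.mk K (σ (algebraMap sq.A B x)) =
        ρ₂ (Ideal.Quotient.mk (resI sq B) (algebraMap sq.A B x))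
      rw [show Ideal.Quotient.mk (resI sq B) (algebraMap sq.A B x) = d.T.π (algebraMap sq.A d.C x)
        from (d.T.π_algebraMap _).symm, ← hρ₂, AlgHom.commutes, AlgHom.commutes]
    have hwρ : ∀ ρ' : B ⧸ resI sq B →+* D ⧸ K,
        ρ'.comp ((Ideal.Quotient.mk (resI sq B)).comp (algebraMap sq.A B)) =
          (Ideal.Quotient.mk K).comp (algebraMap sq.A D) →
        sp ρ' ≫ (resT sq B).hom = D₀.hom := by
      intro ρ' h
      change sp ρ' ≫ sp _ ≫ sp _ ≫ sq.str = sp _ ≫ sp _ ≫ sq.str
      simp only [← Category.assoc, ← sp_comp]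
      rw [← h]
    let r : D₀ ⟶ resT sq B := Over.homMk (sp ρ) (hwρ ρ (RingHom.ext fun x => by
      change Ideal.Quotient.mk K (σ (algebraMap sq.A B x)) = _
      rw [AlgHom.commutes]
      rfl))
    let r₂ : D₀ ⟶ resT sq B := Over.homMk (sp ρ₂) (hwρ ρ₂ (RingHom.ext fun x => by
      change ρ₂ (Ideal.Quotient.mk (resI sq B) (algebraMap sq.A B x)) = _
      rw [show Ideal.Quotient.mk (resI sq B) (algebraMap sq.A B x) = d.T.π (algebraMap sq.A d.C x)
        from (d.T.π_algebraMap _).symm, ← hρ₂, AlgHom.commutes]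
      rfl))
    have hr : r ≫ resMap₀ sq B = r₂ ≫ resMap₀ sq B := by
      refine Over.OverMorphism.ext ?_
      change sp ρ ≫ sp _ = sp ρ₂ ≫ sp _
      rw [← sp_comp, ← sp_comp, hagree]
    have hjq : jD ≫ P q = r₂ ≫ m := Over.OverMorphism.ext (hPπ q K ρ₂ hρ₂)
    obtain ⟨l, hl₁, hl₂⟩ : ∃ l : (yon S).obj (specObj sq.str D) ⟶ H,
        (yon S).map jD ≫ l = (yon S).map r ≫ m₀ ∧ l ≫ a = (yon S).map (P q) ≫ wfst ≫ a :=
      (etale_iff.1 ha).1
        { A := D, I := K, sq_zero := hK, str := (specObj sq.str D).hom,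
          top := (yon S).map r ≫ m₀, bot := (yon S).map (P q) ≫ wfst ≫ a,
          comm := by
            change ((yon S).map r ≫ m₀) ≫ a = (yon S).map jD ≫ (yon S).map (P q) ≫ wfst ≫ a
            rw [Category.assoc, hm₀, ← Functor.map_comp_assoc, hr, ← Functor.map_comp_assoc,
              hjq, Functor.map_comp_assoc, Functor.map_comp_assoc, reassoc_of% hmf, hm₀] }
    obtain ⟨wq, hwq⟩ := (yon S).map_surjective (hW.lift l ((yon S).map (resMap sq D)) (by
      rw [← Category.assoc, hl₂, Category.assoc, Category.assoc, hW.w, ← Functor.map_comp_assoc,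
        hPk]))
    have hwqk : wq ≫ k = resMap sq D := (yon S).map_injective (by
      rw [Functor.map_comp, hwq, hW.lift_snd])
    have hwqf : (yon S).map wq ≫ wfst = l := by rw [hwq, hW.lift_fst]
    have hjw : jD ≫ wq = r ≫ m := by
      refine (yon S).map_injective (hW.hom_ext ?_ ?_)
      · rw [Functor.map_comp, Functor.map_comp, Category.assoc, Category.assoc, hwqf, hl₁, hmf]
      · rw [← Functor.map_comp, ← Functor.map_comp, Category.assoc, Category.assoc, hwqk, hmk]
        refine congrArg _ (Over.OverMorphism.ext ?_)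
        change sp _ ≫ sp _ = sp ρ ≫ sp _ ≫ sp _
        rw [← Category.assoc, ← sp_comp, ← sp_comp, ← sp_comp]
        refine congrArg sp (RingHom.ext fun x => ?_)
        change Ideal.Quotient.mk K (algebraMap sq.A D x) =
          Ideal.Quotient.mk K (σ (algebraMap sq.A B x))
        rw [AlgHom.commutes]
    let q' : Spec (CommRingCat.of D) ⟶ pullback k.left (sp (algebraMap sq.A B)) :=
      pullback.lift wq.left (sp σ.toRingHom)
        ((congrArg CommaMorphism.left hwqk).trans (sp_algHom σ).symm)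
    obtain ⟨χ, hχ⟩ := d.factor D (D ⧸ K) (Ideal.Quotient.mk K) Ideal.Quotient.mk_surjective
      (by rw [Ideal.mk_ker]; exact hK) ρ q' (by
        refine pullback.hom_ext ?_ ?_
        · rw [Category.assoc, pullback.lift_fst, Category.assoc, pullback.lift_fst]
          exact congrArg CommaMorphism.left hjw
        · rw [Category.assoc, pullback.lift_snd, Category.assoc, pullback.lift_snd, ← sp_comp,
            ← sp_comp]
          exact congrArg sp (RingHom.ext fun x => rfl))
    have hχB : χ.comp (algebraMap B d.C) = σ.toRingHom := sp_injective (by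
      rw [sp_comp, ← d.z_snd, ← Category.assoc, hχ, pullback.lift_snd])
    let χA : d.C →ₐ[sq.A] D :=
      { χ with
        commutes' := fun x => by
          change χ (algebraMap B d.C (algebraMap sq.A B x)) = _
          rw [← RingHom.comp_apply, hχB]
          exact σ.commutes x }
    have hPχ : P χA = wq := Over.OverMorphism.ext (by
      change sp χ ≫ d.z ≫ pullback.fst _ _ = _
      rw [reassoc_of% hχ, pullback.lift_fst])
    refine ⟨χA, fun b => DFunLike.congr_fun hχB b, fun c => ?_, ?_⟩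
    · have h1 : (Ideal.Quotient.mk K).comp χ = ρ.comp d.T.π.toRingHom := sp_injective (by
        rw [← cancel_mono d.z, sp_comp, sp_comp, Category.assoc, hχ, Category.assoc, d.π_z]
        refine pullback.hom_ext ?_ ?_
        · rw [Category.assoc, pullback.lift_fst, Category.assoc, pullback.lift_fst]
          exact congrArg CommaMorphism.left hjw
        · rw [Category.assoc, pullback.lift_snd, Category.assoc, pullback.lift_snd, ← sp_comp,
            ← sp_comp]
          exact congrArg sp (RingHom.ext fun x => rfl))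
      exact DFunLike.congr_fun h1 c
    · change (yon S).map (P χA) ≫ wfst ≫ a = (yon S).map (P q) ≫ wfst ≫ a
      rw [hPχ, reassoc_of% hwqf, hl₂]
  · intro D _ _ K hK χ χ' hB hmkK hZ
    let D₀ : Over S := Over.mk (sp (Ideal.Quotient.mk K) ≫ (specObj sq.str D).hom)
    let jD : D₀ ⟶ specObj sq.str D := Over.homMk (sp (Ideal.Quotient.mk K)) rfl
    have hj : jD ≫ P χ = jD ≫ P χ' := by
      refine Over.OverMorphism.ext ?_
      change sp _ ≫ sp _ ≫ _ = sp _ ≫ sp _ ≫ _
      rw [← Category.assoc, ← sp_comp, ← Category.assoc (sp (Ideal.Quotient.mk K)), ← sp_comp]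
      exact congrArg (fun z => sp z ≫ _) (RingHom.ext hmkK)
    have hl : (yon S).map (P χ) ≫ wfst = (yon S).map (P χ') ≫ wfst := by
      refine (etale_iff.1 ha).2
        { A := D, I := K, sq_zero := hK, str := (specObj sq.str D).hom,
          top := (yon S).map jD ≫ (yon S).map (P χ) ≫ wfst,
          bot := (yon S).map (P χ) ≫ wfst ≫ a,
          comm := by simp only [Category.assoc]; rfl }
        _ _ rfl (Category.assoc _ _ _) ?_ ((Category.assoc _ _ _).trans hZ.symm)
      change (yon S).map jD ≫ (yon S).map (P χ') ≫ wfst = (yon S).map jD ≫ (yon S).map (P χ) ≫ wfst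
      rw [← Functor.map_comp_assoc, ← hj, Functor.map_comp_assoc]
    have hP : P χ = P χ' := (yon S).map_injective (hW.hom_ext hl (by
      rw [← Functor.map_comp, ← Functor.map_comp, hPk, hPk]))
    exact AlgHom.coe_ringHom_injective
      (d.ext_toX (RingHom.ext hB) (congrArg CommaMorphism.left hP))

end

end Groth.AlgSp2.Inf
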