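import Groth.Agent.AlgSp2.InfSpace
import Groth.Agent.AlgSp2.InfCharts

/-!
# The first infinitesimal neighbourhood is the universal first order thickening
-/

set_option autoImplicit false
set_option backward.isDefEq.respectTransparency.types false
universe u

open CategoryTheory CategoryTheory.Limits AlgebraicGeometry AlgSp

namespace Groth.AlgSp2

open Groth.AlgSpBasic

noncomputable section

variable {S : Scheme.{u}} {Z Z₁ U X X' : Sp S}

/-- A closed immersion pulls back to a quotient on an affine scheme. -/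
theorem exists_closed_quot_pullback {A : Type u} [CommRing A] (str : Spec (CommRingCat.of A) ⟶ S)
    {i : X ⟶ X'} (hi : RepWith @IsClosedImmersion i) (e : (yon S).obj (Over.mk str) ⟶ X') :
    ∃ (I : Ideal A) (fst : (yon S).obj (quotObj str I) ⟶ X),
      IsPullback fst ((yon S).map (quotHom str I)) i e := by
  obtain ⟨T₁, k₁, fst₁, sq₁⟩ := hi.rep e
  have hk₁ : IsClosedImmersion k₁.left := hi.property e fst₁ k₁ sq₁
  obtain ⟨I, ι, hι⟩ := IsClosedImmersion.Spec_iff.mp hk₁
  let m : T₁ ≅ quotObj str I := Over.isoMk ι (by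
    rw [← Over.w k₁]
    change ι.hom ≫ Spec.map _ ≫ str = k₁.left ≫ str
    rw [hι, Category.assoc])
  have hm : m.hom ≫ quotHom str I = k₁ := Over.OverMorphism.ext hι.symm
  refine ⟨I, (yon S).map m.inv ≫ fst₁, sq₁.of_iso ((yon S).mapIso m) (Iso.refl _) (Iso.refl _)
    (Iso.refl _) ?_ ?_ (by simp) (by simp)⟩
  · simp [← Functor.map_comp_assoc]
  · simp [← Functor.map_comp, hm]

/-- Ideals of pullbacks of the same map agree on a common refinement of two affine tests. -/
theorem map_le_map_of_test {A C B : Type u} [CommRing A] [CommRing C] [CommRing B]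
    {str : Spec (CommRingCat.of A) ⟶ S} {strC : Spec (CommRingCat.of C) ⟶ S}
    {strB : Spec (CommRingCat.of B) ⟶ S} {i : X ⟶ X'} {e : (yon S).obj (Over.mk str) ⟶ X'}
    {eC : (yon S).obj (Over.mk strC) ⟶ X'} {I : Ideal A} {J : Ideal C}
    {fst : (yon S).obj (quotObj str I) ⟶ X} {fstC : (yon S).obj (quotObj strC J) ⟶ X}
    (sq : IsPullback fst ((yon S).map (quotHom str I)) i e)
    (sqC : IsPullback fstC ((yon S).map (quotHom strC J)) i eC)
    (φ : A →+* B) (χ : C →+* B) (α : Over.mk strB ⟶ Over.mk str) (β : Over.mk strB ⟶ Over.mk strC)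
    (hα : α.left = Spec.map (CommRingCat.ofHom φ)) (hβ : β.left = Spec.map (CommRingCat.ofHom χ))
    (hw : (yon S).map β ≫ eC = (yon S).map α ≫ e) : I.map φ ≤ J.map χ := by
  let L : Ideal B := J.map χ
  let D : Over S := Over.mk (Spec.map (CommRingCat.ofHom (Ideal.Quotient.mk L)) ≫ strB)
  let toB : D ⟶ Over.mk strB := Over.homMk (Spec.map (CommRingCat.ofHom (Ideal.Quotient.mk L))) rfl
  let toJ : D ⟶ quotObj strC J :=
    Over.homMk (Spec.map (CommRingCat.ofHom (Ideal.quotientMap L χ Ideal.le_comap_map))) (by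
      refine Eq.trans ?_ (congrArg (toB.left ≫ ·) (Over.w β))
      change Spec.map _ ≫ Spec.map _ ≫ strC = Spec.map _ ≫ β.left ≫ strC
      rw [hβ, ← Spec.map_comp_assoc, ← Spec.map_comp_assoc]
      rfl)
  have hJ : toJ ≫ quotHom strC J = toB ≫ β := Over.OverMorphism.ext (by
    change Spec.map _ ≫ Spec.map _ = Spec.map _ ≫ β.left
    rw [hβ, ← Spec.map_comp, ← Spec.map_comp]
    rfl)
  obtain ⟨m, hm⟩ := (yon S).map_surjective (sq.lift ((yon S).map toJ ≫ fstC)
    ((yon S).map (toB ≫ α)) (by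
      rw [Category.assoc, sqC.w, ← Functor.map_comp_assoc, hJ, Functor.map_comp_assoc, hw,
        Functor.map_comp_assoc]))
  have hm' : m ≫ quotHom str I = toB ≫ α := (yon S).map_injective (by
    rw [Functor.map_comp, hm, sq.lift_snd])
  obtain ⟨μ, hμ⟩ := Spec.map_surjective m.left
  have h' : Spec.map μ ≫ Spec.map (CommRingCat.ofHom (Ideal.Quotient.mk I)) =
      Spec.map (CommRingCat.ofHom (Ideal.Quotient.mk L)) ≫ Spec.map (CommRingCat.ofHom φ) := by
    rw [hμ, ← hα]; exact congrArg CommaMorphism.left hm'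
  rw [← Spec.map_comp, ← Spec.map_comp] at h'
  rw [Ideal.map_le_iff_le_comap]
  intro x hx
  have := congr(($(Spec.map_injective h')).hom x)
  simp only [CommRingCat.hom_comp, CommRingCat.hom_ofHom, RingHom.comp_apply] at this
  rw [Ideal.Quotient.eq_zero_iff_mem.2 hx, map_zero] at this
  exact (Ideal.Quotient.eq_zero_iff_mem (I := L)).1 this.symm

theorem ker_ideal_top_specMap_quot {A : Type u} [CommRing A] (I : Ideal A) :
    (Spec.map (CommRingCat.ofHom (Ideal.Quotient.mk I))).ker.ideal ⟨⊤, isAffineOpen_top _⟩ =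
      I.comap (Scheme.ΓSpecIso (CommRingCat.of A)).hom.hom := by
  rw [Scheme.Hom.ker_apply]
  ext x
  have h1 := congr(($(Scheme.ΓSpecIso_naturality (CommRingCat.ofHom (Ideal.Quotient.mk I)))).hom x)
  simp only [CommRingCat.hom_comp, RingHom.comp_apply, CommRingCat.hom_ofHom] at h1
  rw [Ideal.mem_comap, RingHom.mem_ker, ← Ideal.Quotient.eq_zero_iff_mem, ← h1,
    map_eq_zero_iff _ (ConcreteCategory.bijective_of_isIso (Scheme.ΓSpecIso _).hom).1]
  rfl

theorem ideal_eq_sq_of_ker {A : Type u} [CommRing A] {I J : Ideal A}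
    (h : (Spec.map (CommRingCat.ofHom (Ideal.Quotient.mk J))).ker =
      (Spec.map (CommRingCat.ofHom (Ideal.Quotient.mk I))).ker ^ 2) : J = I ^ 2 := by
  have h1 := congr(($h).ideal ⟨⊤, isAffineOpen_top _⟩)
  rw [Scheme.IdealSheafData.ideal_pow, Pi.pow_apply, ker_ideal_top_specMap_quot,
    ker_ideal_top_specMap_quot] at h1
  have hs : Function.Surjective (Scheme.ΓSpecIso (CommRingCat.of A)).hom.hom :=
    (ConcreteCategory.bijective_of_isIso (Scheme.ΓSpecIso (CommRingCat.of A)).hom).2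
  have h2 := congrArg (Ideal.map (Scheme.ΓSpecIso (CommRingCat.of A)).hom.hom) h1
  rwa [Ideal.map_pow, Ideal.map_comap_of_surjective _ hs, Ideal.map_comap_of_surjective _ hs] at h2

theorem eq_bot_of_map_etale_cover {A B : Type u} [CommRing A] [CommRing B] (φ : A →+* B)
    (he : Etale (Spec.map (CommRingCat.ofHom φ))) (hs : Surjective (Spec.map (CommRingCat.ofHom φ)))
    {I : Ideal A} (h : I.map φ = ⊥) : I = ⊥ := by
  algebraize [φ]
  have : Algebra.Etale A B := (HasRingHomProperty.Spec_iff (P := @Etale)).1 he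
  have : Module.FaithfullyFlat A B := Module.FaithfullyFlat.of_comap_surjective fun x => hs.surj x
  rw [← Ideal.comap_map_eq_self_of_faithfullyFlat (B := B) I,
    show I.map (algebraMap A B) = ⊥ from h, ← RingHom.ker_eq_comap_bot,
    (RingHom.injective_iff_ker_eq_bot _).1 (FaithfulSMul.algebraMap_injective A B)]

theorem mono_of_closed {i : X ⟶ X'} (hi : RepWith @IsClosedImmersion i) : Mono i :=
  monomorphisms_repWith_mono (repWith_mono (fun _ _ f (_ : IsClosedImmersion f) =>
    (inferInstance : Mono f)) hi)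

variable {c : Z ⟶ U} {j : Z ⟶ Z₁} {k : Z₁ ⟶ U}

/-- The ideals of the two pullbacks at a common affine étale refinement. -/
theorem infNbhd_chart (hU : IsAlgSpace U) (hN : IsInfNbhd 1 c j k) {A : Type u} [CommRing A]
    {str : Spec (CommRingCat.of A) ⟶ S} {e : (yon S).obj (Over.mk str) ⟶ U} {I₀ I₁ : Ideal A}
    {f₀ : (yon S).obj (quotObj str I₀) ⟶ Z} {f₁ : (yon S).obj (quotObj str I₁) ⟶ Z₁}
    (s₀ : IsPullback f₀ ((yon S).map (quotHom str I₀)) c e)
    (s₁ : IsPullback f₁ ((yon S).map (quotHom str I₁)) k e) : I₁ = I₀ ^ 2 := by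
  obtain ⟨C, _, strC, cC, B, _, φ, g, hc, ⟨hφe, hφs⟩, hg⟩ := exists_affine_chart_lift str hU e
  obtain ⟨P₀, g₀, t₀⟩ := exists_closed_quot_pullback strC hN.2.1 cC
  obtain ⟨P₁, g₁, t₁⟩ := exists_closed_quot_pullback strC hN.2.2.1 cC
  have hP : P₁ = P₀ ^ 2 := ideal_eq_sq_of_ker (hN.2.2.2 cC g₀ (quotHom strC P₀) g₁ (quotHom strC P₁)
    (inferInstanceAs (IsAffine (Spec (CommRingCat.of C)))) hc t₀ t₁)
  obtain ⟨χ, hχ⟩ := Spec.map_surjective g.left
  have hβ : g.left = Spec.map (CommRingCat.ofHom χ.hom) := by rw [CommRingCat.ofHom_hom, hχ]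
  have e₀ : I₀.map φ = P₀.map χ.hom := le_antisymm
    (map_le_map_of_test s₀ t₀ φ χ.hom (ringHom str φ) g rfl hβ hg)
    (map_le_map_of_test t₀ s₀ χ.hom φ g (ringHom str φ) hβ rfl hg.symm)
  have e₁ : I₁.map φ = P₁.map χ.hom := le_antisymm
    (map_le_map_of_test s₁ t₁ φ χ.hom (ringHom str φ) g rfl hβ hg)
    (map_le_map_of_test t₁ s₁ χ.hom φ g (ringHom str φ) hβ rfl hg.symm)
  have h : I₁.map φ = (I₀ ^ 2).map φ := by rw [e₁, hP, Ideal.map_pow, Ideal.map_pow, e₀]
  algebraize [φ]
  have : Algebra.Etale A B := (HasRingHomProperty.Spec_iff (P := @Etale)).1 hφe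
  have : Module.FaithfullyFlat A B := Module.FaithfullyFlat.of_comap_surjective fun x => hφs.surj x
  rw [← Ideal.comap_map_eq_self_of_faithfullyFlat (B := B) I₁,
    show I₁.map (algebraMap A B) = (I₀ ^ 2).map (algebraMap A B) from h,
    Ideal.comap_map_eq_self_of_faithfullyFlat]

theorem isPullback_infNbhd (hN : IsInfNbhd 1 c j k) : IsPullback (𝟙 Z) j c k := by
  have := mono_of_closed hN.2.2.1
  refine ⟨⟨by rw [Category.id_comp, hN.1]⟩, ⟨PullbackCone.IsLimit.mk _ (fun s => s.fst) (fun s => Category.comp_id _)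
    (fun s => (cancel_mono k).1 (by rw [Category.assoc, hN.1, s.condition]))
    fun s m h _ => by simpa using h⟩⟩

theorem isFOThickMor_infNbhd (hU : IsAlgSpace U) (hN : IsInfNbhd 1 c j k) : IsFOThickMor j := by
  have hj : RepWith @IsClosedImmersion j := repWith_of_isPullback (isPullback_infNbhd hN) hN.2.1
  have := mono_of_closed hN.2.2.1
  have key : ∀ (A : Type u) [CommRing A] (str : Spec (CommRingCat.of A) ⟶ S)
      (e : (yon S).obj (Over.mk str) ⟶ Z₁) (I : Ideal A) (fst : (yon S).obj (quotObj str I) ⟶ Z),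
      IsPullback fst ((yon S).map (quotHom str I)) j e → I ^ 2 = ⊥ := by
    intro A _ str e I fst sq
    have s₀ := sq.paste_horiz (isPullback_infNbhd hN)
    rw [Category.comp_id] at s₀
    obtain ⟨I₁, f₁, s₁⟩ := exists_closed_quot_pullback str hN.2.2.1 (e ≫ k)
    rw [← infNbhd_chart hU hN s₀ s₁]
    obtain ⟨m, hm⟩ := (yon S).map_surjective (s₁.lift e (𝟙 _) (by rw [Category.id_comp]))
    have hm' : m ≫ quotHom str I₁ = 𝟙 _ := (yon S).map_injective (by
      rw [Functor.map_comp, hm, s₁.lift_snd, (yon S).map_id])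
    obtain ⟨μ, hμ⟩ := Spec.map_surjective m.left
    have h' : Spec.map μ ≫ Spec.map (CommRingCat.ofHom (Ideal.Quotient.mk I₁)) = 𝟙 _ := by
      rw [hμ]; exact congrArg CommaMorphism.left hm'
    rw [← Spec.map_comp, ← Spec.map_id] at h'
    rw [eq_bot_iff]
    intro x hx
    have := congr(($(Spec.map_injective h')).hom x)
    simp only [CommRingCat.hom_comp, CommRingCat.hom_ofHom, RingHom.comp_apply, CommRingCat.hom_id,
      RingHom.id_apply] at this
    rw [Ideal.Quotient.eq_zero_iff_mem.2 hx, map_zero] at this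
    exact (Ideal.mem_bot).2 this.symm
  have hspec : ∀ {V W : Over S} (b : (yon S).obj V ⟶ Z₁) (fst : (yon S).obj W ⟶ Z) (snd : W ⟶ V),
      IsAffine V.left → IsPullback fst ((yon S).map snd) j b →
      snd.left.ker * snd.left.ker = ⊥ := by
    intro V W b fst snd _ sq
    have : IsClosedImmersion snd.left := hj.property b fst snd sq
    let str : Spec (CommRingCat.of Γ(V.left, ⊤)) ⟶ S := V.left.isoSpec.inv ≫ V.hom
    let ι : Over.mk str ⟶ V := Over.homMk V.left.isoSpec.inv rfl
    obtain ⟨I, fst', sq'⟩ := exists_closed_quot_pullback str hj ((yon S).map ι ≫ b)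
    have hI := key _ str _ I fst' sq'
    obtain ⟨m, hm⟩ := (yon S).map_surjective
      (sq.lift fst' ((yon S).map (quotHom str I ≫ ι)) (by rw [sq'.w, Functor.map_comp_assoc]))
    have hm' : m ≫ snd = quotHom str I ≫ ι :=
      (yon S).map_injective (by rw [Functor.map_comp, hm, sq.lift_snd])
    have : IsAffine W.left := isAffine_of_isAffineHom snd.left
    obtain ⟨r, hr⟩ := Spec.map_surjective (m.left ≫ W.left.isoSpec.hom)
    have hsnd : snd.left.appTop ≫ r = CommRingCat.ofHom (Ideal.Quotient.mk I) := by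
      refine Spec.map_injective ?_
      have e : m.left ≫ snd.left = Spec.map (CommRingCat.ofHom (Ideal.Quotient.mk I)) ≫
          V.left.isoSpec.inv := congrArg CommaMorphism.left hm'
      rw [Spec.map_comp, hr, Category.assoc, Scheme.isoSpec_hom_naturality, ← Category.assoc, e,
        Category.assoc, Iso.inv_hom_id, Category.comp_id]
    have hker : RingHom.ker snd.left.appTop.hom ≤ I := fun x hx => by
      have := congr(($hsnd).hom x)
      rw [CommRingCat.hom_comp, RingHom.comp_apply, (hx : snd.left.appTop.hom x = 0), map_zero] at this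
      exact Ideal.Quotient.eq_zero_iff_mem.1 this.symm
    rw [sqZero_iff, eq_bot_iff, ← hI, pow_two]
    exact Ideal.mul_mono hker hker
  refine ⟨⟨hj.rep, fun T W b fst snd sq => ?_⟩, fun V W b fst snd hV _ sq => hspec b fst snd hV sq⟩
  have hcl : IsClosedImmersion snd.left := hj.property b fst snd sq
  refine ⟨hcl, ⟨fun x => ?_⟩⟩
  obtain ⟨V₀, hV, hx, -⟩ := TopologicalSpace.Opens.isBasis_iff_nbhd.mp T.left.isBasis_affineOpens
    (show x ∈ (⊤ : T.left.Opens) from trivial)
  let str : Spec (CommRingCat.of Γ(T.left, V₀)) ⟶ S := hV.fromSpec ≫ T.hom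
  let ι : Over.mk str ⟶ T := Over.homMk hV.fromSpec rfl
  obtain ⟨I, fst', sq'⟩ := exists_closed_quot_pullback str hj ((yon S).map ι ≫ b)
  have hI := key _ str _ I fst' sq'
  obtain ⟨m, hm⟩ := (yon S).map_surjective
    (sq.lift fst' ((yon S).map (quotHom str I ≫ ι)) (by rw [sq'.w, Functor.map_comp_assoc]))
  have hm' : m ≫ snd = quotHom str I ≫ ι :=
    (yon S).map_injective (by rw [Functor.map_comp, hm, sq.lift_snd])
  obtain ⟨p, rfl⟩ : x ∈ Set.range hV.fromSpec := by rw [hV.range_fromSpec]; exact hx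
  have hp : p ∈ Set.range (Spec.map (CommRingCat.ofHom (Ideal.Quotient.mk I))) := by
    change p ∈ Set.range (PrimeSpectrum.comap (Ideal.Quotient.mk I))
    rw [range_comap_of_surjective _ _ Ideal.Quotient.mk_surjective, Ideal.mk_ker]
    intro y hy
    have hy2 : y ^ 2 = 0 := by
      rw [← Ideal.mem_bot, ← hI]; exact Ideal.pow_mem_pow hy 2
    exact (p.2).mem_of_pow_mem 2 (by rw [hy2]; exact p.asIdeal.zero_mem)
  obtain ⟨q, rfl⟩ := hp
  exact ⟨m.left q, congrArg (fun (h : quotObj str I ⟶ T) => h.left q) hm'⟩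

theorem isUnivFOThick_infNbhd (hU : IsAlgSpace U) (hN : IsInfNbhd 1 c j k) :
    IsUnivFOThick c j k := by
  have := mono_of_closed hN.2.2.1
  refine isUnivFOThick_of_affine (isFOThickMor_infNbhd hU hN) hN.1 fun A _ str I hI a b hab => ?_
  obtain ⟨I₀, f₀, s₀⟩ := exists_closed_quot_pullback str hN.2.1 b
  obtain ⟨I₁, f₁, s₁⟩ := exists_closed_quot_pullback str hN.2.2.1 b
  have h0 : I₀ ≤ I := by
    obtain ⟨m, hm⟩ := (yon S).map_surjective (s₀.lift a ((yon S).map (quotHom str I)) hab.symm)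
    have hm' : m ≫ quotHom str I₀ = quotHom str I := (yon S).map_injective (by
      rw [Functor.map_comp, hm, s₀.lift_snd])
    obtain ⟨μ, hμ⟩ := Spec.map_surjective m.left
    have h' : Spec.map μ ≫ Spec.map (CommRingCat.ofHom (Ideal.Quotient.mk I₀)) =
        Spec.map (CommRingCat.ofHom (Ideal.Quotient.mk I)) := by
      rw [hμ]; exact congrArg CommaMorphism.left hm'
    rw [← Spec.map_comp] at h'
    intro x hx
    have := congr(($(Spec.map_injective h')).hom x)
    simp only [CommRingCat.hom_comp, CommRingCat.hom_ofHom, RingHom.comp_apply] at this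
    rw [Ideal.Quotient.eq_zero_iff_mem.2 hx, map_zero] at this
    exact Ideal.Quotient.eq_zero_iff_mem.1 this.symm
  have h1 : I₁ = ⊥ := by
    rw [infNbhd_chart hU hN s₀ s₁, eq_bot_iff, ← hI]
    exact Ideal.pow_right_mono h0 2
  subst h1
  have : IsIso (quotHom str (⊥ : Ideal A)).left := by
    have : IsIso (CommRingCat.ofHom (Ideal.Quotient.mk (⊥ : Ideal A))) :=
      (ConcreteCategory.isIso_iff_bijective _).2
        ⟨(RingHom.injective_iff_ker_eq_bot _).2 (Ideal.mk_ker), Ideal.Quotient.mk_surjective⟩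
    change IsIso (Spec.map _)
    infer_instance
  have : IsIso (quotHom str (⊥ : Ideal A)) := by
    have : IsIso ((Over.forget S).map (quotHom str (⊥ : Ideal A))) := this
    exact isIso_of_reflects_iso _ (Over.forget S)
  have hl : ((yon S).map (inv (quotHom str (⊥ : Ideal A))) ≫ f₁) ≫ k = b := by
    rw [Category.assoc, s₁.w, ← Functor.map_comp_assoc, IsIso.inv_hom_id, (yon S).map_id,
      Category.id_comp]
  refine ⟨(yon S).map (inv (quotHom str (⊥ : Ideal A))) ≫ f₁, ⟨?_, hl⟩, fun x hx => ?_⟩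
  · refine (cancel_mono k).1 ?_
    rw [Category.assoc, hl, hab, Category.assoc, hN.1]
  · refine (cancel_mono k).1 ?_
    rw [hx.2, hl]

end

end Groth.AlgSp2
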