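import Groth.Agent.AlgSp2.InfFamily

/-!
# Lifting along first order thickenings of algebraic spaces
-/

set_option autoImplicit false
set_option backward.isDefEq.respectTransparency.types false
universe u

open CategoryTheory CategoryTheory.Limits AlgebraicGeometry AlgSp TopologicalSpace

namespace Groth.AlgSp2

open Groth.AlgSpBasic

noncomputable section

variable {S : Scheme.{u}} {T T' X Y : Sp S}

/-- Representable closed immersions are monomorphisms. -/
theorem mono_of_isThickMor {i : T ⟶ T'} (hi : IsThickMor i) : Mono i :=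
  monomorphisms_repWith_mono (repWith_mono (fun _ _ f (hf : thick f) => by
    have : IsClosedImmersion f := hf.1
    exact (inferInstance : Mono f)) hi)

/-- The quotient by a square zero ideal is a first order thickening. -/
theorem isFOThickMor_quot {A : Type u} [CommRing A] (str : Spec (CommRingCat.of A) ⟶ S) (I : Ideal A)
    (hI : I ^ 2 = ⊥) : IsFOThickMor ((yon S).map (quotHom str I)) := by
  have ht := Groth.FlatmorThree.FormalLift.isFirstOrderThickening_specMap_mk I hI
  refine ⟨(isThickMor_yon_map_iff _).2 ht.1, fun V W b fst snd hV hb sq => ?_⟩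
  have : IsAffine V.left := hV
  obtain ⟨b, rfl⟩ := (yon S).map_surjective b
  obtain ⟨fst, rfl⟩ := (yon S).map_surjective fst
  have sq₁ := isPullback_left (isPullback_of_yon sq)
  have : IsClosedImmersion (Spec.map (CommRingCat.ofHom (Ideal.Quotient.mk I))) := ht.1.1
  have : IsClosedImmersion snd.left := MorphismProperty.of_isPullback sq₁ this
  have : IsAffine W.left := isAffine_of_isAffineHom snd.left
  obtain ⟨φ, hφ⟩ := Spec.map_surjective (V.left.isoSpec.inv ≫ b.left)
  let L : Ideal Γ(V.left, ⊤) := I.map φ.hom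
  have hL : L ^ 2 = ⊥ := by rw [← Ideal.map_pow, hI, Ideal.map_bot]
  -- the restriction factors through the quotient, so the kernel on sections is killed by squaring
  let r : Spec (CommRingCat.of (Γ(V.left, ⊤) ⧸ L)) ⟶ W.left :=
    sq₁.lift (Spec.map (CommRingCat.ofHom (Ideal.quotientMap L φ.hom Ideal.le_comap_map)))
      (Spec.map (CommRingCat.ofHom (Ideal.Quotient.mk L)) ≫ V.left.isoSpec.inv) (by
        rw [Category.assoc, ← hφ]
        change Spec.map _ ≫ Spec.map _ = Spec.map _ ≫ Spec.map _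
        rw [← Spec.map_comp, ← Spec.map_comp]
        rfl)
  obtain ⟨c, hc⟩ := Spec.map_surjective (r ≫ W.left.isoSpec.hom)
  have hsnd : snd.left.appTop ≫ c = CommRingCat.ofHom (Ideal.Quotient.mk L) := by
    refine Spec.map_injective ?_
    rw [Spec.map_comp, hc, Category.assoc, Scheme.isoSpec_hom_naturality, ← Category.assoc,
      sq₁.lift_snd, Category.assoc, Iso.inv_hom_id, Category.comp_id]
  have hker : RingHom.ker snd.left.appTop.hom ≤ L := fun x hx => by
    have := congr(($hsnd).hom x)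
    rw [CommRingCat.hom_comp, RingHom.comp_apply, (hx : snd.left.appTop.hom x = 0), map_zero] at this
    exact Ideal.Quotient.eq_zero_iff_mem.1 this.symm
  change snd.left.ker * snd.left.ker = ⊥
  rw [sqZero_iff, eq_bot_iff, ← hL, pow_two]
  exact Ideal.mul_mono hker hker

/-- Restriction to a scheme over the thickening. -/
def Restricts {Z : Over S} (i : T ⟶ T') (a : T ⟶ X) (z : (yon S).obj Z ⟶ T')
    (L : (yon S).obj Z ⟶ X) : Prop :=
  ∀ (R : Over S) (r : (yon S).obj R ⟶ T) (q : R ⟶ Z), r ≫ i = (yon S).map q ≫ z →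
    (yon S).map q ≫ L = r ≫ a

theorem restricts_iff_pullback {A : Type u} [CommRing A] {str : Spec (CommRingCat.of A) ⟶ S}
    {i : T ⟶ T'} {a : T ⟶ X} {e : (yon S).obj (Over.mk str) ⟶ T'} {I : Ideal A}
    {fst : (yon S).obj (quotObj str I) ⟶ T}
    (sq : IsPullback fst ((yon S).map (quotHom str I)) i e) (L : (yon S).obj (Over.mk str) ⟶ X) :
    Restricts i a e L ↔ (yon S).map (quotHom str I) ≫ L = fst ≫ a := by
  refine ⟨fun h => h _ fst _ sq.w, fun h R r q hr => ?_⟩
  rw [← sq.lift_snd r _ hr, Category.assoc, h, ← Category.assoc, sq.lift_fst]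

/-- The affine problem determines the global problem. -/
theorem existsUnique_lift (hT' : IsAlgSpace T') {i : T ⟶ T'} (hi : IsFOThickMor i) {f : X ⟶ Y}
    (a : T ⟶ X) (b : T' ⟶ Y)
    (H : ∀ (A : Type u) [CommRing A] (str : Spec (CommRingCat.of A) ⟶ S)
      (e : (yon S).obj (Over.mk str) ⟶ T') (I : Ideal A) (fst : (yon S).obj (quotObj str I) ⟶ T),
      RepWith @Etale e → I ^ 2 = ⊥ → IsPullback fst ((yon S).map (quotHom str I)) i e →
      ∃! L : (yon S).obj (Over.mk str) ⟶ X,
        (yon S).map (quotHom str I) ≫ L = fst ≫ a ∧ L ≫ f = e ≫ b) :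
    ∃! l : T' ⟶ X, i ≫ l = a ∧ l ≫ f = b := by
  have key : ∀ l : T' ⟶ X, (i ≫ l = a ∧ l ≫ f = b) ↔ ∀ (Z : Over S) (z : (yon S).obj Z ⟶ T'),
      Restricts i a z (z ≫ l) ∧ (z ≫ l) ≫ f = z ≫ b := by
    refine fun l => ⟨fun h Z z => ⟨fun R r q hr => ?_, by rw [Category.assoc, h.2]⟩, fun h => ⟨?_, ?_⟩⟩
    · rw [← Category.assoc, ← hr, Category.assoc, h.1]
    · refine hom_ext_yon fun R r => ?_
      have := (h R (r ≫ i)).1 R r (𝟙 R) (by rw [(yon S).map_id, Category.id_comp])
      rw [(yon S).map_id, Category.id_comp, Category.assoc] at this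
      exact this
    · refine hom_ext_yon fun R r => ?_
      rw [← Category.assoc]
      exact (h R r).2
  obtain ⟨l, hl, hlu⟩ := existsUnique_of_affine_charts hT'
    (fun Z z L => Restricts i a z L ∧ L ≫ f = z ≫ b)
    (fun Z Z' g z L h => ⟨fun R r q hr => by
        rw [← Functor.map_comp_assoc]
        exact h.1 R r (q ≫ g) (by rw [hr, Functor.map_comp_assoc]),
      by rw [Category.assoc, h.2, Category.assoc]⟩)
    (fun ι Z W c hce hcs z L h => by
      refine ⟨fun R r q hr => ?_, hom_ext_of_family c hce hcs fun k => ?_⟩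
      · let M : ι → Over S := fun k => Over.mk (pullback.fst q.left (c k).left ≫ R.hom)
        let m₁ : ∀ k, M k ⟶ R := fun k => Over.homMk (pullback.fst q.left (c k).left) rfl
        let m₂ : ∀ k, M k ⟶ W k := fun k => Over.homMk (pullback.snd q.left (c k).left) (by
          change pullback.snd q.left (c k).left ≫ (W k).hom = pullback.fst q.left (c k).left ≫ R.hom
          rw [← Over.w (c k), ← pullback.condition_assoc, Over.w q])
        have hm : ∀ k, m₂ k ≫ c k = m₁ k ≫ q := fun k =>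
          Over.OverMorphism.ext pullback.condition.symm
        refine hom_ext_of_family m₁ (fun k => MorphismProperty.pullback_fst _ _ (hce k)) (fun x => ?_)
          fun k => ?_
        · obtain ⟨k, w, hw⟩ := hcs (q.left x)
          obtain ⟨y, hy, -⟩ := Scheme.Pullback.exists_preimage_pullback x w hw.symm
          exact ⟨k, y, hy⟩
        · rw [← Functor.map_comp_assoc, ← hm, Functor.map_comp_assoc, ← Category.assoc]
          exact (h k).1 _ _ (m₂ k) (by
            rw [Category.assoc, hr, ← Functor.map_comp_assoc, ← hm, Functor.map_comp_assoc])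
      · rw [← Category.assoc]
        exact (h k).2.trans (Category.assoc _ _ _))
    (fun A _ str e he => by
      obtain ⟨I, fst, hI, sq⟩ := exists_sq_pullback str hT' hi e
      simpa only [restricts_iff_pullback sq] using H A str e I fst he hI sq)
  exact ⟨l, (key l).2 hl, fun l' hl' => hlu l' ((key l').1 hl')⟩

/-- Uniqueness of lifts along a first order thickening of algebraic spaces. -/
theorem lift_unique_of_unramified (hT' : IsAlgSpace T') {i : T ⟶ T'} (hi : IsFOThickMor i) {f : X ⟶ Y}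
    (hf : IsFormallyUnramifiedMor f) {l l' : T' ⟶ X} (h₁ : i ≫ l = i ≫ l') (h₂ : l ≫ f = l' ≫ f) :
    l = l' := by
  refine hom_ext_of_affine_charts hT' fun A _ str e he => ?_
  obtain ⟨I, fst, hI, sq⟩ := exists_sq_pullback str hT' hi e
  refine hf
    { A := A, I := I, sq_zero := hI, str := str, top := fst ≫ i ≫ l, bot := e ≫ l ≫ f,
      comm := ?_ } (e ≫ l) (e ≫ l') ?_ (Category.assoc _ _ _) ?_ ?_
  · change (fst ≫ i ≫ l) ≫ f = (yon S).map (quotHom str I) ≫ e ≫ l ≫ f
    simp only [Category.assoc]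
    rw [reassoc_of% sq.w]
  · change (yon S).map (quotHom str I) ≫ e ≫ l = fst ≫ i ≫ l
    rw [reassoc_of% sq.w]
  · change (yon S).map (quotHom str I) ≫ e ≫ l' = fst ≫ i ≫ l
    rw [h₁, reassoc_of% sq.w]
  · change (e ≫ l') ≫ f = e ≫ l ≫ f
    rw [Category.assoc, h₂]

/-- Formally étale morphisms lift uniquely along first order thickenings of algebraic spaces. -/
theorem existsUnique_lift_of_etale (hT' : IsAlgSpace T') {i : T ⟶ T'} (hi : IsFOThickMor i)
    {f : X ⟶ Y} (hf : IsFormallyEtaleMor f) (a : T ⟶ X) (b : T' ⟶ Y) (w : a ≫ f = i ≫ b) :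
    ∃! l : T' ⟶ X, i ≫ l = a ∧ l ≫ f = b :=
  existsUnique_lift hT' hi a b fun A _ str e I fst _ hI sq =>
    hf
      { A := A, I := I, sq_zero := hI, str := str, top := fst ≫ a, bot := e ≫ b,
        comm := (by
           change (fst ≫ a) ≫ f = (yon S).map (quotHom str I) ≫ e ≫ b
           rw [Category.assoc, w, reassoc_of% sq.w]) }

variable {Z Z' : Sp S}

/-- A pair of maps out of a test scheme, universal thickenings on affine test objects. -/
theorem isUnivFOThick_of_affine {h : Z ⟶ X} {i : Z ⟶ Z'} {h' : Z' ⟶ X} (hi : IsFOThickMor i)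
    (w : i ≫ h' = h)
    (H : ∀ (A : Type u) [CommRing A] (str : Spec (CommRingCat.of A) ⟶ S) (I : Ideal A), I ^ 2 = ⊥ →
      ∀ (a : (yon S).obj (quotObj str I) ⟶ Z) (b : (yon S).obj (Over.mk str) ⟶ X),
        (yon S).map (quotHom str I) ≫ b = a ≫ h →
        ∃! a' : (yon S).obj (Over.mk str) ⟶ Z',
          (yon S).map (quotHom str I) ≫ a' = a ≫ i ∧ a' ≫ h' = b) :
    IsUnivFOThick h i h' :=
  ⟨hi, w, fun _ T₂ _ hT₂ j a b hj hw =>
    existsUnique_lift hT₂ hj (a ≫ i) b fun A _ str e I fst _ hI sq => by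
      have := H A str I hI (fst ≫ a) (e ≫ b) (by
        rw [Category.assoc, ← hw, reassoc_of% sq.w])
      simpa only [Category.assoc] using this⟩

theorem isUnivFOThick_comp_etale {Y : Sp S} {hZ : Z ⟶ Y} {g : Y ⟶ X} {i : Z ⟶ Z'} {h' : Z' ⟶ Y}
    (HU : IsUnivFOThick hZ i h') (hg : IsFormallyEtaleMor g) :
    IsUnivFOThick (hZ ≫ g) i (h' ≫ g) := by
  refine ⟨HU.1, by rw [← Category.assoc, HU.2.1], fun T₁ T₂ hT₁ hT₂ j a b hj hw => ?_⟩
  obtain ⟨b', ⟨hb₁, hb₂⟩, hbu⟩ := existsUnique_lift_of_etale hT₂ hj hg (a ≫ hZ) b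
    (by rw [Category.assoc, ← hw])
  obtain ⟨a', ⟨ha₁, ha₂⟩, hau⟩ := HU.2.2 hT₁ hT₂ j a b' hj hb₁
  refine ⟨a', ⟨ha₁, by rw [← Category.assoc, ha₂, hb₂]⟩, fun x hx => hau x ⟨hx.1, hbu _ ⟨?_, ?_⟩⟩⟩
  · rw [← Category.assoc, hx.1, Category.assoc, HU.2.1]
  · rw [Category.assoc]; exact hx.2

section Unramified

variable {h : Z ⟶ X} {i : Z ⟶ Z'} {h' : Z' ⟶ X} (HU : IsUnivFOThick h i h')
  (hh : IsFormallyUnramifiedMor h) {A : Type u} [CommRing A] (str : Spec (CommRingCat.of A) ⟶ S)

/-- Transition maps of quotients. -/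
def quotTrans {I J : Ideal A} (hIJ : I ≤ J) : quotObj str J ⟶ quotObj str I :=
  Over.homMk (Spec.map (CommRingCat.ofHom (Ideal.Quotient.factor hIJ))) (by
    change Spec.map _ ≫ Spec.map _ ≫ str = Spec.map _ ≫ str
    rw [← Spec.map_comp_assoc]
    rfl)

theorem quotTrans_hom {I J : Ideal A} (hIJ : I ≤ J) :
    quotTrans str hIJ ≫ quotHom str I = quotHom str J := by
  refine Over.OverMorphism.ext ?_
  change Spec.map _ ≫ Spec.map _ = Spec.map _
  rw [← Spec.map_comp]
  rfl

theorem quotTrans_comp {I J L : Ideal A} (hIJ : I ≤ J) (hJL : J ≤ L) :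
    quotTrans str hJL ≫ quotTrans str hIJ = quotTrans str (hIJ.trans hJL) := by
  refine Over.OverMorphism.ext ?_
  change Spec.map _ ≫ Spec.map _ = Spec.map _
  rw [← Spec.map_comp]
  exact congrArg Spec.map (CommRingCat.hom_ext (Ideal.Quotient.ringHom_ext rfl))

include HU hh in
/-- Two maps to a universal thickening agree modulo `K`. -/
theorem agree_mod {I : Ideal A} (hI : I ^ 2 = ⊥) {l l' : (yon S).obj (Over.mk str) ⟶ Z'}
    (hX : l ≫ h' = l' ≫ h')
    (hT : (yon S).map (quotHom str I) ≫ l = (yon S).map (quotHom str I) ≫ l')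
    {J J' : Ideal A} {p : (yon S).obj (quotObj str J) ⟶ Z} {p' : (yon S).obj (quotObj str J') ⟶ Z}
    (hp : p ≫ i = (yon S).map (quotHom str J) ≫ l)
    (hp' : p' ≫ i = (yon S).map (quotHom str J') ≫ l') {K : Ideal A} (hK : (J ⊔ J') ^ 2 ≤ K)
    (hKJ : K ≤ J ⊔ J') :
    (yon S).map (quotHom str K) ≫ l = (yon S).map (quotHom str K) ≫ l' := by
  have hmono : Mono i := mono_of_isThickMor HU.1.1
  let M := J ⊔ J'
  let L := M ⊔ I
  let a : (yon S).obj (quotObj str M) ⟶ Z := (yon S).map (quotTrans str le_sup_left) ≫ p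
  let a' : (yon S).obj (quotObj str M) ⟶ Z := (yon S).map (quotTrans str le_sup_right) ≫ p'
  have ha : a ≫ i = (yon S).map (quotHom str M) ≫ l := by
    rw [Category.assoc, hp, ← Functor.map_comp_assoc, quotTrans_hom]
  have ha' : a' ≫ i = (yon S).map (quotHom str M) ≫ l' := by
    rw [Category.assoc, hp', ← Functor.map_comp_assoc, quotTrans_hom]
  have haa : a = a' := by
    let I' := I.map (Ideal.Quotient.mk M)
    let strM : Spec (CommRingCat.of (A ⧸ M)) ⟶ S := (quotObj str M).hom
    have hL : ∀ x ∈ L, (Ideal.Quotient.mk I') (Ideal.Quotient.mk M x) = 0 := by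
      intro x hx
      obtain ⟨m, hm, y, hy, rfl⟩ := Submodule.mem_sup.1 hx
      rw [map_add, Ideal.Quotient.eq_zero_iff_mem.2 hm, zero_add, Ideal.Quotient.eq_zero_iff_mem]
      exact Ideal.mem_map_of_mem _ hy
    let q : quotObj strM I' ⟶ quotObj str L := Over.homMk
      (Spec.map (CommRingCat.ofHom
        (Ideal.Quotient.lift L ((Ideal.Quotient.mk I').comp (Ideal.Quotient.mk M)) hL))) (by
      change Spec.map _ ≫ Spec.map _ ≫ str = Spec.map _ ≫ Spec.map _ ≫ str
      rw [← Spec.map_comp_assoc, ← Spec.map_comp_assoc]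
      rfl)
    have hq : q ≫ quotTrans str (le_sup_left : M ≤ L) = quotHom strM I' := by
      refine Over.OverMorphism.ext ?_
      change Spec.map _ ≫ Spec.map _ = Spec.map _
      rw [← Spec.map_comp]
      exact congrArg Spec.map (CommRingCat.hom_ext (Ideal.Quotient.ringHom_ext rfl))
    have hL' : (yon S).map (quotTrans str (le_sup_left : M ≤ L)) ≫ a =
        (yon S).map (quotTrans str (le_sup_left : M ≤ L)) ≫ a' := by
      refine (cancel_mono i).1 ?_
      rw [Category.assoc, ha, Category.assoc, ha', ← Functor.map_comp_assoc,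
        ← Functor.map_comp_assoc, quotTrans_hom,
        ← quotTrans_hom str (le_sup_right : I ≤ L), Functor.map_comp_assoc, hT,
        ← Functor.map_comp_assoc]
    have hxx : a ≫ h = a' ≫ h := by
      rw [← HU.2.1, ← Category.assoc, ha, ← Category.assoc, ha', Category.assoc, hX, Category.assoc]
    refine hh { A := A ⧸ M, I := I', sq_zero := by rw [← Ideal.map_pow, hI, Ideal.map_bot],
                str := strM, top := (yon S).map (quotHom strM I') ≫ a, bot := a ≫ h,
                comm := Category.assoc _ _ _ } a a' rfl rfl ?_ hxx.symm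
    change (yon S).map (quotHom strM I') ≫ a' = (yon S).map (quotHom strM I') ≫ a
    rw [← hq, Functor.map_comp_assoc, ← hL', ← Functor.map_comp_assoc]
  let M' := M.map (Ideal.Quotient.mk K)
  let strK : Spec (CommRingCat.of (A ⧸ K)) ⟶ S := (quotObj str K).hom
  have hM' : M' ^ 2 = ⊥ := by
    rw [← Ideal.map_pow]
    exact Ideal.map_mk_eq_bot_of_le hK
  have hMl : ∀ x ∈ M, (Ideal.Quotient.mk M') (Ideal.Quotient.mk K x) = 0 := fun x hx =>
    Ideal.Quotient.eq_zero_iff_mem.2 (Ideal.mem_map_of_mem _ hx)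
  let q : quotObj strK M' ⟶ quotObj str M := Over.homMk
    (Spec.map (CommRingCat.ofHom
      (Ideal.Quotient.lift M ((Ideal.Quotient.mk M').comp (Ideal.Quotient.mk K)) hMl))) (by
    change Spec.map _ ≫ Spec.map _ ≫ str = Spec.map _ ≫ Spec.map _ ≫ str
    rw [← Spec.map_comp_assoc, ← Spec.map_comp_assoc]
    rfl)
  have hq : q ≫ quotTrans str hKJ = quotHom strK M' := by
    refine Over.OverMorphism.ext ?_
    change Spec.map _ ≫ Spec.map _ = Spec.map _
    rw [← Spec.map_comp]
    exact congrArg Spec.map (CommRingCat.hom_ext (Ideal.Quotient.ringHom_ext rfl))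
  have hqM : (yon S).map (quotHom strK M') ≫ (yon S).map (quotHom str K) =
      (yon S).map q ≫ (yon S).map (quotHom str M) := by
    rw [← hq, ← Functor.map_comp, ← Functor.map_comp, Category.assoc, quotTrans_hom]
  let bK : (yon S).obj (Over.mk strK) ⟶ X := (yon S).map (quotHom str K) ≫ l ≫ h'
  have hw : (yon S).map (quotHom strK M') ≫ bK = ((yon S).map q ≫ a) ≫ h := by
    simp only [bK]
    rw [reassoc_of% hqM, Category.assoc, ← HU.2.1, reassoc_of% ha]
  obtain ⟨_, -, hu⟩ := HU.2.2 (IsAlgSpace.yon_obj _) (IsAlgSpace.yon_obj _)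
    ((yon S).map (quotHom strK M')) ((yon S).map q ≫ a) bK (isFOThickMor_quot strK M' hM') hw
  refine (hu _ ⟨?_, Category.assoc _ _ _⟩).trans (hu _ ⟨?_, ?_⟩).symm
  · rw [reassoc_of% hqM, Category.assoc, ha]
  · rw [reassoc_of% hqM, Category.assoc, haa, ha']
  · change ((yon S).map (quotHom str K) ≫ l') ≫ h' = bK
    rw [Category.assoc, ← hX]

include HU hh in
theorem unramified_of_isUnivFOThick (hZ' : IsAlgSpace Z') : IsFormallyUnramifiedMor h' := by
  intro sq l l' h₁ h₂ h₁' h₂'
  obtain ⟨J, p, hJ, sqJ⟩ := exists_sq_pullback sq.str hZ' HU.1 l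
  obtain ⟨J', p', hJ', sqJ'⟩ := exists_sq_pullback sq.str hZ' HU.1 l'
  have hT : (yon S).map (quotHom sq.str sq.I) ≫ l = (yon S).map (quotHom sq.str sq.I) ≫ l' :=
    h₁.trans h₁'.symm
  have hX := h₂.trans h₂'.symm
  -- a map agreeing with `l'` modulo `L` pulls `Z` back into `J' + L`
  have incl : ∀ (l l' : (yon S).obj sq.ptT' ⟶ Z') (J J' : Ideal sq.A)
      (p : (yon S).obj (quotObj sq.str J) ⟶ Z) (p' : (yon S).obj (quotObj sq.str J') ⟶ Z),
      IsPullback p ((yon S).map (quotHom sq.str J)) i l →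
      p' ≫ i = (yon S).map (quotHom sq.str J') ≫ l' →
      ∀ (L : Ideal sq.A),
        (yon S).map (quotHom sq.str L) ≫ l = (yon S).map (quotHom sq.str L) ≫ l' → J ≤ J' ⊔ L := by
    intro l l' J J' p p' hp hp' L hL
    have := le_ker_of_factor sq.str hp (Ideal.Quotient.mk (J' ⊔ L))
      ((yon S).map (quotTrans sq.str (le_sup_left : J' ≤ J' ⊔ L)) ≫ p') (by
        rw [Category.assoc, hp', ← Functor.map_comp_assoc, quotTrans_hom]
        change (yon S).map (quotHom sq.str (J' ⊔ L)) ≫ l' =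
          (yon S).map (quotHom sq.str (J' ⊔ L)) ≫ l
        rw [← quotTrans_hom sq.str (le_sup_right : L ≤ J' ⊔ L), Functor.map_comp_assoc, ← hL,
          ← Functor.map_comp_assoc])
    rwa [Ideal.mk_ker] at this
  have hJI := incl l l' J J' p p' sqJ sqJ'.w sq.I hT
  have hJ'I := incl l' l J' J p' p sqJ' sqJ.w sq.I hT.symm
  let K : Ideal sq.A := J * sq.I ⊔ J' * sq.I ⊔ J * J'
  have hII : sq.I * sq.I = ⊥ := by rw [← pow_two]; exact sq.sq_zero
  have hKJ : K ≤ J := sup_le (sup_le Ideal.mul_le_left (by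
    refine (Ideal.mul_mono_left hJ'I).trans ?_
    rw [Ideal.sup_mul, hII, sup_bot_eq]
    exact Ideal.mul_le_left)) Ideal.mul_le_left
  have hKJ' : K ≤ J' := sup_le (sup_le (by
    refine (Ideal.mul_mono_left hJI).trans ?_
    rw [Ideal.sup_mul, hII, sup_bot_eq]
    exact Ideal.mul_le_left) Ideal.mul_le_left) Ideal.mul_le_right
  have hsq : (J ⊔ J') ^ 2 ≤ K := by
    rw [pow_two, Ideal.sup_mul, Ideal.mul_sup, Ideal.mul_sup, ← pow_two, hJ, ← pow_two, hJ',
      bot_sup_eq, sup_bot_eq, Ideal.mul_comm J' J, sup_idem]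
    exact le_sup_right
  have hK := agree_mod HU hh sq.str sq.sq_zero hX hT sqJ.w sqJ'.w hsq (hKJ.trans le_sup_left)
  have e : J = J' := le_antisymm
    ((incl l l' J J' p p' sqJ sqJ'.w K hK).trans (sup_le le_rfl hKJ'))
    ((incl l' l J' J p' p sqJ' sqJ.w K hK.symm).trans (sup_le le_rfl hKJ))
  have hbot := agree_mod HU hh sq.str sq.sq_zero hX hT sqJ.w sqJ'.w (K := ⊥)
    (by rw [e, sup_idem, hJ']) bot_le
  let χ : sq.A ⧸ (⊥ : Ideal sq.A) →+* sq.A :=
    Ideal.Quotient.lift ⊥ (RingHom.id sq.A) fun x hx => (Ideal.mem_bot.1 hx : x = 0)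
  have hχ : Spec.map (CommRingCat.ofHom χ) ≫
      Spec.map (CommRingCat.ofHom (Ideal.Quotient.mk ⊥)) = 𝟙 (Spec (CommRingCat.of sq.A)) := by
    rw [← Spec.map_comp]
    exact (congrArg Spec.map (CommRingCat.hom_ext (RingHom.ext fun _ => rfl))).trans (Spec.map_id _)
  let n : sq.ptT' ⟶ quotObj sq.str ⊥ := Over.homMk (Spec.map (CommRingCat.ofHom χ))
    ((Category.assoc _ _ _).symm.trans ((congrArg (· ≫ sq.str) hχ).trans (Category.id_comp _)))
  have hn : n ≫ quotHom sq.str ⊥ = 𝟙 _ := Over.OverMorphism.ext hχ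
  have := congrArg ((yon S).map n ≫ ·) hbot
  rwa [← Functor.map_comp_assoc, ← Functor.map_comp_assoc, hn, (yon S).map_id, Category.id_comp,
    Category.id_comp] at this

end Unramified

end

end Groth.AlgSp2
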