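import Groth.Agent.AlgSp2.InfSpace
import Groth.Agent.AlgSp2.InfCharts
import Groth.Agent.AlgSpBasic.Compact

/-!
# Universal first order thickenings: base change and descent
-/

set_option autoImplicit false
set_option backward.isDefEq.respectTransparency.types false
universe u

open CategoryTheory CategoryTheory.Limits AlgebraicGeometry AlgSp

namespace Groth.AlgSp2

open Groth.AlgSpBasic

noncomputable section

variable {S : Scheme.{u}}

/-- First order thickenings of algebraic spaces are stable under base change. -/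
theorem isFOThickMor_of_isPullback {Z P W W' : Sp S} (hW' : IsAlgSpace W') {iW : W ⟶ W'}
    {f : Z ⟶ W} {iZ : Z ⟶ P} {p : P ⟶ W'} (hi : IsFOThickMor iW) (sq : IsPullback f iZ iW p) :
    IsFOThickMor iZ := by
  refine ⟨repWith_of_isPullback sq hi.1, fun V T b fst snd hV hb sq₁ => ?_⟩
  have : IsAffine V.left := hV
  let str : Spec (CommRingCat.of Γ(V.left, ⊤)) ⟶ S := V.left.isoSpec.inv ≫ V.hom
  let ι : Over.mk str ⟶ V := Over.homMk V.left.isoSpec.inv rfl
  obtain ⟨I, fst', hI, sq'⟩ := exists_sq_pullback str hW' hi ((yon S).map ι ≫ b ≫ p)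
  have sq₂ := sq₁.paste_horiz sq
  obtain ⟨m, hm⟩ := (yon S).map_surjective
    (sq₂.lift fst' ((yon S).map (quotHom str I ≫ ι)) (by rw [sq'.w, Functor.map_comp_assoc]))
  have hm' : m ≫ snd = quotHom str I ≫ ι :=
    (yon S).map_injective (by rw [Functor.map_comp, hm, sq₂.lift_snd])
  have : IsClosedImmersion snd.left :=
    (repWith_of_isPullback sq hi.1).property b fst snd sq₁ |>.1
  have : IsAffine T.left := isAffine_of_isAffineHom snd.left
  obtain ⟨c, hc⟩ := Spec.map_surjective (m.left ≫ T.left.isoSpec.hom)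
  have hsnd : snd.left.appTop ≫ c = CommRingCat.ofHom (Ideal.Quotient.mk I) := by
    refine Spec.map_injective ?_
    have e : m.left ≫ snd.left = Spec.map (CommRingCat.ofHom (Ideal.Quotient.mk I)) ≫
        V.left.isoSpec.inv := congrArg CommaMorphism.left hm'
    rw [Spec.map_comp, hc, Category.assoc, Scheme.isoSpec_hom_naturality, ← Category.assoc, e,
      Category.assoc, Iso.inv_hom_id, Category.comp_id]
  have hker : RingHom.ker snd.left.appTop.hom ≤ I := fun x hx => by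
    have := congr(($hsnd).hom x)
    rw [CommRingCat.hom_comp, RingHom.comp_apply, (hx : snd.left.appTop.hom x = 0), map_zero] at this
    exact Ideal.Quotient.eq_zero_iff_mem.1 this.symm
  change snd.left.ker * snd.left.ker = ⊥
  rw [sqZero_iff, eq_bot_iff, ← hI, pow_two]
  exact Ideal.mul_mono hker hker

theorem isUnivFOThick_etale_baseChange {Z Y Y' Z' X : Sp S} (hYs : IsAlgSpace Y')
    (hZs : IsAlgSpace Z') {e : Z ⟶ Y} {hY : Y ⟶ X} {iY : Y ⟶ Y'} {hY' : Y' ⟶ X}
    (HU : IsUnivFOThick hY iY hY') {iZ : Z ⟶ Z'} {e' : Z' ⟶ Y'} (he' : IsEtaleMor e')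
    (sq : IsPullback e iZ iY e') : IsUnivFOThick (e ≫ hY) iZ (e' ≫ hY') := by
  have het := Inf.etale_of_isEtaleMor hZs hYs he'
  refine ⟨isFOThickMor_of_isPullback hYs HU.1 sq, by rw [← reassoc_of% sq.w, HU.2.1],
    fun T T' hT hT' j a b hj hw => ?_⟩
  obtain ⟨c, ⟨hc₁, hc₂⟩, hcu⟩ := HU.2.2 hT hT' j (a ≫ e) b hj (by rw [Category.assoc, hw])
  obtain ⟨l, ⟨hl₁, hl₂⟩, hlu⟩ := existsUnique_lift_of_etale hT' hj het (a ≫ iZ) c
    (by rw [Category.assoc, ← sq.w, hc₁, Category.assoc])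
  refine ⟨l, ⟨hl₁, by rw [← Category.assoc, hl₂, hc₂]⟩, fun x hx => hlu x ⟨hx.1, hcu _ ⟨?_, ?_⟩⟩⟩
  · rw [← Category.assoc, hx.1, Category.assoc, ← sq.w, Category.assoc]
  · rw [Category.assoc]; exact hx.2

theorem isUnivFOThick_baseChange {Z X W Y W' P : Sp S} (hW' : IsAlgSpace W') {h : Z ⟶ X} {f : Z ⟶ W}
    {g : X ⟶ Y} {h' : W ⟶ Y} (sq : IsPullback h f g h') {iW : W ⟶ W'} {hW : W' ⟶ Y}
    (HU : IsUnivFOThick h' iW hW) {pX : P ⟶ X} {pW : P ⟶ W'} (sq' : IsPullback pX pW g hW)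
    {iZ : Z ⟶ P} (w1 : iZ ≫ pX = h) (w2 : iZ ≫ pW = f ≫ iW) : IsUnivFOThick h iZ pX := by
  have sqi : IsPullback f iZ iW pW :=
    IsPullback.of_bot (h₁₁ := f) (v₁₁ := iZ) (by rw [w1, HU.2.1]; exact sq.flip) w2.symm sq'.flip
  refine ⟨isFOThickMor_of_isPullback hW' HU.1 sqi, w1, fun T T' hT hT' j a b hj hw => ?_⟩
  obtain ⟨c, ⟨hc₁, hc₂⟩, hcu⟩ := HU.2.2 hT hT' j (a ≫ f) (b ≫ g) hj
    (by rw [← Category.assoc, hw, Category.assoc, sq.w, Category.assoc])
  refine ⟨sq'.lift b c hc₂.symm, ⟨?_, sq'.lift_fst _ _ _⟩, fun x hx => ?_⟩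
  · refine sq'.hom_ext ?_ ?_
    · rw [Category.assoc, sq'.lift_fst, Category.assoc, w1, hw]
    · rw [Category.assoc, sq'.lift_snd, Category.assoc, w2, hc₁, Category.assoc]
  · refine sq'.hom_ext (by rw [hx.2, sq'.lift_fst]) ?_
    rw [sq'.lift_snd]
    refine hcu _ ⟨?_, ?_⟩
    · rw [← Category.assoc, hx.1, Category.assoc, w2, Category.assoc]
    · rw [Category.assoc, ← sq'.w, ← Category.assoc, hx.2]

section Descent

variable {Z Y Z' Y' X : Sp S} {e : Z ⟶ Y} {hY : Y ⟶ X} {iZ : Z ⟶ Z'} {iY : Y ⟶ Y'} {f' : Z' ⟶ Y'}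
  {hY' : Y' ⟶ X}

/-- The map of quotients over a ring map. -/
def quotMap {A B : Type u} [CommRing A] [CommRing B] (str : Spec (CommRingCat.of A) ⟶ S)
    (ρ : A →+* B) (I : Ideal A) {strB : Spec (CommRingCat.of B) ⟶ S}
    (h : strB = Spec.map (CommRingCat.ofHom ρ) ≫ str) :
    quotObj strB (I.map ρ) ⟶ quotObj str I :=
  Over.homMk (Spec.map (CommRingCat.ofHom (Ideal.quotientMap (I.map ρ) ρ Ideal.le_comap_map))) (by
    subst h
    change Spec.map _ ≫ Spec.map _ ≫ str = Spec.map _ ≫ Spec.map _ ≫ str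
    rw [← Spec.map_comp_assoc, ← Spec.map_comp_assoc]
    rfl)

/-- The local problem solved by a universal thickening of an étale cover. -/
theorem exists_local_lift (hf : IsFormallyEtaleMor f') (w : iZ ≫ f' = e ≫ iY)
    (HU : IsUnivFOThick (e ≫ hY) iZ (f' ≫ hY')) {U : Over S} (φ : (yon S).obj U ⟶ Z)
    (hφ : RepWith @Etale (φ ≫ e)) (hφs : RepWith @Surjective (φ ≫ e)) {A : Type u} [CommRing A]
    (str : Spec (CommRingCat.of A) ⟶ S) (I : Ideal A) (hI : I ^ 2 = ⊥)
    (a : (yon S).obj (quotObj str I) ⟶ Y) (b : (yon S).obj (Over.mk str) ⟶ X)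
    (hw : (yon S).map (quotHom str I) ≫ b = a ≫ hY) :
    ∃ (A' : Type u) (_ : CommRing A') (ρ : A →+* A') (l : (yon S).obj (ringObj str ρ) ⟶ Y'),
      Etale (ringHom str ρ).left ∧ Surjective (ringHom str ρ).left ∧
      (yon S).map (quotHom (ringObj str ρ).hom (I.map ρ)) ≫ l =
        (yon S).map (quotMap str ρ I rfl) ≫ a ≫ iY ∧
      l ≫ hY' = (yon S).map (ringHom str ρ) ≫ b ∧
      ∀ x : (yon S).obj (Over.mk str) ⟶ Y', (yon S).map (quotHom str I) ≫ x = a ≫ iY → x ≫ hY' = b →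
        (yon S).map (ringHom str ρ) ≫ x = l := by
  let sq : InfSq hY :=
    { A := A, I := I, sq_zero := hI, str := str, top := a, bot := b, comm := hw.symm }
  obtain ⟨A', iA', aA', m₀, hA', hs, hm₀⟩ := Inf.exists_cover_lift sq hφ hφs
  have := Inf.etale_resMap sq A'
  let ρ : A →+* A' := algebraMap sq.A A'
  let sA' := (ringObj str ρ).hom
  let K := I.map ρ
  obtain ⟨m, hm⟩ : ∃ m : (yon S).obj (quotObj sA' K) ⟶ (yon S).obj U,
      m ≫ φ ≫ e = (yon S).map (quotMap str ρ I rfl) ≫ a := ⟨m₀, hm₀⟩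
  have hK : K ^ 2 = ⊥ := by rw [← Ideal.map_pow, hI, Ideal.map_bot]
  have hr₀ : quotMap str ρ I rfl ≫ quotHom str I = quotHom sA' K ≫ ringHom str ρ :=
    Inf.resMap₀_j sq A'
  obtain ⟨l₁, ⟨hl₁, hl₂⟩, hlu⟩ := HU.2.2 (IsAlgSpace.yon_obj _) (IsAlgSpace.yon_obj _)
    ((yon S).map (quotHom sA' K)) (m ≫ φ) ((yon S).map (ringHom str ρ) ≫ b)
    (isFOThickMor_quot sA' K hK)
    (by
      rw [← Functor.map_comp_assoc, ← hr₀, Functor.map_comp_assoc, hw, ← reassoc_of% hm,
        Category.assoc])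
  refine ⟨A', iA', ρ, l₁ ≫ f', this, hs, ?_, by rw [Category.assoc]; exact hl₂,
    fun x hx₁ hx₂ => ?_⟩
  · rw [← Category.assoc, hl₁, ← reassoc_of% hm]
    simp only [Category.assoc, w]
  · -- lift `x` through the étale map
    let sq' : InfSq f' :=
      { A := A', I := K, sq_zero := hK, str := sA', top := m ≫ φ ≫ iZ,
        bot := (yon S).map (ringHom str ρ) ≫ x,
        comm := (by
          change (m ≫ φ ≫ iZ) ≫ f' = (yon S).map (quotHom sA' K) ≫ (yon S).map (ringHom str ρ) ≫ x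
          rw [← Functor.map_comp_assoc, ← hr₀, Functor.map_comp_assoc, hx₁, ← reassoc_of% hm]
          simp only [Category.assoc, w]) }
    obtain ⟨L, ⟨hL₁, hL₂⟩, -⟩ := hf sq'
    have : L = l₁ := hlu L ⟨hL₁.trans (Category.assoc _ _ _).symm,
      (Category.assoc _ _ _).symm.trans ((congrArg (· ≫ hY') hL₂).trans
        ((Category.assoc _ _ _).trans (congrArg (_ ≫ ·) hx₂)))⟩
    exact hL₂.symm.trans (congrArg (· ≫ f') this)

/-- Descent of universal first order thickenings along étale surjections. -/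
theorem isUnivFOThick_descend (hZa : IsAlgSpace Z) (hYs : IsAlgSpace Y')
    (hZs : IsAlgSpace Z') (he : IsEtaleMor e) (hes : IsSurjectiveMor e) (hiY : IsFOThickMor iY)
    (hf' : IsEtaleMor f') (w : iZ ≫ f' = e ≫ iY) (w' : iY ≫ hY' = hY)
    (HU : IsUnivFOThick (e ≫ hY) iZ (f' ≫ hY')) : IsUnivFOThick hY iY hY' := by
  obtain ⟨U, φ, hφ, hφs⟩ := hZa.atlas
  have h₁ : RepWith @Etale (φ ≫ e) := he φ hφ
  have h₂ : RepWith @Surjective (φ ≫ e) := repWith_surjective_of_points h₁.rep fun y => by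
    obtain ⟨z, rfl⟩ := hes y
    obtain ⟨u, rfl⟩ := surjective_map_of_repWith hφs z
    exact ⟨u, Points.map_comp φ e u⟩
  have hf := Inf.etale_of_isEtaleMor hZs hYs hf'
  -- uniqueness
  have uniq : ∀ (A : Type u) [CommRing A] (str : Spec (CommRingCat.of A) ⟶ S) (I : Ideal A),
      I ^ 2 = ⊥ → ∀ (a : (yon S).obj (quotObj str I) ⟶ Y) (b : (yon S).obj (Over.mk str) ⟶ X),
        (yon S).map (quotHom str I) ≫ b = a ≫ hY → ∀ x x' : (yon S).obj (Over.mk str) ⟶ Y',
          (yon S).map (quotHom str I) ≫ x = a ≫ iY → x ≫ hY' = b →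
          (yon S).map (quotHom str I) ≫ x' = a ≫ iY → x' ≫ hY' = b → x = x' := by
    intro A _ str I hI a b hw x x' hx₁ hx₂ hx₁' hx₂'
    obtain ⟨A', iA', ρ, l, hre, hrs, -, -, hu⟩ := exists_local_lift hf w HU φ h₁ h₂ str I hI a b hw
    refine hom_ext_of_fppf (ringHom str ρ) ?_
    rw [hu x hx₁ hx₂, hu x' hx₁' hx₂']
  refine isUnivFOThick_of_affine hiY w' fun A _ str I hI a b hw => ?_
  obtain ⟨A', iA', ρ, l, hre, hrs, hl₁, hl₂, -⟩ :=
    exists_local_lift hf w HU φ h₁ h₂ str I hI a b hw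
  let R := ringHom str ρ
  obtain ⟨x, hx⟩ := exists_glue_of_fppf R l fun T p q hpq => by
    refine hom_ext_of_affineOpens fun O => ?_
    rw [← Functor.map_comp_assoc, ← Functor.map_comp_assoc]
    set p' := openHom T O ≫ p
    set q' := openHom T O ≫ q
    have hpq' : q' ≫ R = p' ≫ R := by simp only [p', q', Category.assoc]; rw [hpq]
    obtain ⟨ψ, hψ⟩ := Spec.map_surjective (p' ≫ R).left
    let strB : Spec (CommRingCat.of Γ(T.left, O.1)) ⟶ S := O.2.fromSpec ≫ T.hom
    have hstr : strB = Spec.map (CommRingCat.ofHom ψ.hom) ≫ str := by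
      refine (Over.w (p' ≫ R)).symm.trans ?_
      rw [← hψ]; rfl
    let n := quotMap str ψ.hom I hstr
    have key : ∀ p'' : Over.mk strB ⟶ ringObj str ρ, p'' ≫ R = p' ≫ R →
        (yon S).map (quotHom strB (I.map ψ.hom)) ≫ (yon S).map p'' ≫ l = ((yon S).map n ≫ a) ≫ iY ∧
          ((yon S).map p'' ≫ l) ≫ hY' = (yon S).map (p' ≫ R) ≫ b := by
      intro p'' hp
      refine ⟨?_, by rw [Category.assoc, hl₂, ← Functor.map_comp_assoc, hp]⟩
      obtain ⟨χ, hχ⟩ := Spec.map_surjective p''.left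
      have hρψ : χ.hom.comp ρ = ψ.hom := by
        have : CommRingCat.ofHom ρ ≫ χ = ψ := Spec.map_injective (by
          rw [Spec.map_comp, hχ, hψ, ← hp]; rfl)
        rw [← this]; rfl
      have hK : I.map ρ ≤ (I.map ψ.hom).comap χ.hom := by
        rw [← Ideal.map_le_iff_le_comap, Ideal.map_map, hρψ]
      let n' : quotObj strB (I.map ψ.hom) ⟶ quotObj (ringObj str ρ).hom (I.map ρ) :=
        Over.homMk (Spec.map (CommRingCat.ofHom (Ideal.quotientMap (I.map ψ.hom) χ.hom hK))) (by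
          refine Eq.trans ?_ (Over.w (quotHom strB (I.map ψ.hom) ≫ p''))
          change Spec.map _ ≫ Spec.map _ ≫ Spec.map _ ≫ str = (Spec.map _ ≫ p''.left) ≫ Spec.map _ ≫ str
          rw [← hχ, ← Spec.map_comp, ← Spec.map_comp_assoc]
          rfl)
      have hn' : n' ≫ quotHom (ringObj str ρ).hom (I.map ρ) = quotHom strB (I.map ψ.hom) ≫ p'' := by
        refine Over.OverMorphism.ext ?_
        change Spec.map _ ≫ Spec.map _ = Spec.map _ ≫ p''.left
        rw [← hχ, ← Spec.map_comp, ← Spec.map_comp]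
        rfl
      have hnn : n' ≫ quotMap str ρ I rfl = n := by
        refine Over.OverMorphism.ext ?_
        change Spec.map _ ≫ Spec.map _ = Spec.map _
        rw [← Spec.map_comp]
        refine congrArg Spec.map (CommRingCat.hom_ext (Ideal.Quotient.ringHom_ext ?_))
        ext z
        exact congrArg (Ideal.Quotient.mk _) (RingHom.congr_fun hρψ z)
      rw [← Functor.map_comp_assoc, ← hn', Functor.map_comp_assoc, hl₁, ← Functor.map_comp_assoc,
        hnn, Category.assoc]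
    refine uniq _ strB (I.map ψ.hom) (by rw [← Ideal.map_pow, hI, Ideal.map_bot])
      ((yon S).map n ≫ a) ((yon S).map (p' ≫ R) ≫ b) ?_ _ _ (key p' rfl).1 (key p' rfl).2
      (key q' hpq').1 (key q' hpq').2
    have hn : n ≫ quotHom str I = quotHom strB (I.map ψ.hom) ≫ p' ≫ R := by
      refine Over.OverMorphism.ext ?_
      change Spec.map _ ≫ Spec.map _ = Spec.map _ ≫ (p' ≫ R).left
      rw [← hψ, ← Spec.map_comp, ← Spec.map_comp]
      rfl
    rw [← Functor.map_comp_assoc, ← hn, Functor.map_comp_assoc, hw, Category.assoc]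
  have hx₂ : x ≫ hY' = b := hom_ext_of_fppf R (by rw [← Category.assoc, hx, hl₂])
  have hx₁ : (yon S).map (quotHom str I) ≫ x = a ≫ iY := by
    have : Etale (quotMap str ρ I rfl).left ∧ Surjective (quotMap str ρ I rfl).left :=
      have h := let := ρ.toAlgebra; (Inf.isPullback_spec_quot I A').flip
      ⟨MorphismProperty.of_isPullback (P := @Etale) h hre,
        MorphismProperty.of_isPullback (P := @Surjective) h hrs⟩
    obtain ⟨_, _⟩ := this
    refine hom_ext_of_fppf (quotMap str ρ I rfl) ?_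
    rw [← hl₁, ← hx, ← Functor.map_comp_assoc, ← Functor.map_comp_assoc]
    congr 2
    refine Over.OverMorphism.ext ?_
    change Spec.map _ ≫ Spec.map _ = Spec.map _ ≫ Spec.map _
    rw [← Spec.map_comp, ← Spec.map_comp]
    rfl
  exact ⟨x, ⟨hx₁, hx₂⟩, fun x' hx' => uniq A str I hI a b hw x' x hx'.1 hx'.2 hx₁ hx₂⟩

end Descent

end

end Groth.AlgSp2
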