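import Groth.Agent.AlgSp2.DiscreteFibres
import Groth.Agent.GrpschAbsch.IntegralDim
import Mathlib.AlgebraicGeometry.Morphisms.QuasiFinite

/-!
# An open subscheme of an integral scheme which is of finite type is quasi-finite
-/

set_option autoImplicit false
universe u

open CategoryTheory CategoryTheory.Limits AlgebraicGeometry Topology

namespace Groth.AlgSp2.IntegralQuasiFinite

theorem locallyQuasiFinite_comp {A N B : Scheme.{u}} (j : A ⟶ N) (ν : N ⟶ B) [IsOpenImmersion j]
    [IsIntegralHom ν] [LocallyOfFiniteType (j ≫ ν)] : LocallyQuasiFinite (j ≫ ν) := by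
  rw [locallyQuasiFinite_iff_isDiscrete_preimage_singleton]
  intro y
  have : IsLocallyNoetherian ((j ≫ ν).fiber y) :=
    have : LocallyOfFiniteType ((j ≫ ν).fiberToSpecResidueField y) :=
      inferInstanceAs (LocallyOfFiniteType (pullback.snd (j ≫ ν) (B.fromSpecResidueField y)))
    LocallyOfFiniteType.isLocallyNoetherian ((j ≫ ν).fiberToSpecResidueField y)
  have hemb := ((j ≫ ν).fiberι y).isEmbedding
  have hd : DiscreteTopology ↥((j ≫ ν).fiber y) := by
    refine Groth.AlgSp2.discreteTopology_of_isClosed_singleton _ fun w => ?_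
    rw [← closure_subset_iff_isClosed]
    intro z hz
    have hwz : (j ≫ ν).fiberι y w ⤳ (j ≫ ν).fiberι y z :=
      (specializes_iff_mem_closure.2 hz).map ((j ≫ ν).fiberι y).continuous
    have hy : ∀ c, (j ≫ ν) ((j ≫ ν).fiberι y c) = y := fun c =>
      ((j ≫ ν).range_fiberι y).le ⟨c, rfl⟩
    have h := Groth.GrpschAbsch.eq_of_specializes_of_isIntegralHom ν (hwz.map j.continuous)
      ((hy w).trans (hy z).symm)
    exact (hemb.injective (j.isOpenEmbedding.injective h)).symm
  rw [← (j ≫ ν).range_fiberι y, ← Set.image_univ]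
  exact (isDiscrete_univ_iff.2 hd).image hemb.isInducing

end Groth.AlgSp2.IntegralQuasiFinite
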