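import Groth.Agent.AlgSp2.Locality
import Groth.Agent.AlgSp2.FppfProps
import Groth.Agent.AlgSpBasic.LocPInst
import Groth.Agent.AlgSpBasic.Unramified
import Groth.Agent.AlgSpBasic.OpenSub
import Groth.Agent.AlgSp2.FppfSource

/-!
# The largest open over which a property local on the base holds
-/

set_option autoImplicit false
set_option backward.isDefEq.respectTransparency.types false
universe u

open CategoryTheory CategoryTheory.Limits AlgebraicGeometry Opposite AlgSp Topology TopologicalSpace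

namespace Groth.AlgSp2

open Groth.AlgSpBasic

noncomputable section

variable {S : Scheme.{u}}

/-- What the class of covering maps of a topology has to satisfy. -/
structure IsBaseNotion (Q : MorphismProperty (Sp S)) : Prop where
  of_isOpenImmersion : ∀ {X Y : Sp S}, IsAlgSpace X → IsAlgSpace Y → ∀ (j : X ⟶ Y),
    RepWith @IsOpenImmersion j → Q j
  comp : ∀ {X Y Z : Sp S}, IsAlgSpace X → IsAlgSpace Y → IsAlgSpace Z → ∀ (f : X ⟶ Y)
    (g : Y ⟶ Z), Q f → Q g → Q (f ≫ g)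
  baseChange : ∀ {X Y X' Y' : Sp S}, IsAlgSpace X → IsAlgSpace Y → IsAlgSpace Y' →
    ∀ (f : X ⟶ Y) (g : Y' ⟶ Y) (fst : X' ⟶ X) (f' : X' ⟶ Y'),
      IsPullback fst f' f g → Q f → Q f'
  isOpen_range : ∀ {X Y : Sp S}, IsAlgSpace X → IsAlgSpace Y → ∀ (f : X ⟶ Y),
    Q f → IsOpen (Set.range (Points.map f))

namespace IsBaseNotion

variable {Q P : MorphismProperty (Sp S)} (hQ : IsBaseNotion Q)
  (hP : IsLocalOnBase (fun _ _ Y g => IsCover Q Y g) P)

include hQ

theorem id {X : Sp S} (hX : IsAlgSpace X) : Q (𝟙 X) :=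
  hQ.of_isOpenImmersion hX hX _ (repWith_isIso _)

include hP

theorem iff_of_iso {X' X'' Y' : Sp S} (hX' : IsAlgSpace X') (hX'' : IsAlgSpace X'')
    (hY' : IsAlgSpace Y') (e : X'' ⟶ X') [IsIso e] (f' : X' ⟶ Y') (f'' : X'' ⟶ Y')
    (he : e ≫ f' = f'') : P f' ↔ P f'' := by
  have h := hP (fun _ : PUnit.{u+1} => Y') (fun _ => 𝟙 Y') hY' (fun _ => hY')
    (isCover_single (hQ.id hY') (isSurjectiveMor_id Y')) f' hX' (fun _ => X'') (fun _ => f'')
    (fun _ => e) (fun _ => hX'')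
    (fun _ => IsPullback.of_horiz_isIso ⟨by rw [he, Category.comp_id]⟩)
  exact ⟨fun hf => h.1 hf ⟨⟩, fun hf => h.2 fun _ => hf⟩

theorem prop_baseChange {X Y X' Y' : Sp S} (hX : IsAlgSpace X) (hY : IsAlgSpace Y)
    (hX' : IsAlgSpace X') (hY' : IsAlgSpace Y') {f : X ⟶ Y} {g : Y' ⟶ Y} {g' : X' ⟶ X}
    {f' : X' ⟶ Y'} (sq : IsPullback g' f' f g) (hg : Q g) (hf : P f) : P f' :=
  (hP _ _ hY (isAlgSpace_pairObj hY' hY) (isCover_pair hg (hQ.id hY)) f hX
    (fun i => pairObj X' X i)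
    (fun i => match i with | ⟨true⟩ => f' | ⟨false⟩ => f)
    (fun i => match i with | ⟨true⟩ => g' | ⟨false⟩ => 𝟙 X)
    (isAlgSpace_pairObj hX' hX)
    (fun i => match i with | ⟨true⟩ => sq | ⟨false⟩ => isPullback_id_left f)).1 hf ⟨true⟩

theorem iff_pullback {X Y X' Y' : Sp S} (hX : IsAlgSpace X) (hY : IsAlgSpace Y)
    (hY' : IsAlgSpace Y') {f : X ⟶ Y} {g : Y' ⟶ Y} {g' : X' ⟶ X} {f' : X' ⟶ Y'}
    (sq : IsPullback g' f' f g) : P f' ↔ P (pullback.snd f g) :=
  (hQ.iff_of_iso hP (isAlgSpace_pullback ⟨X, hX⟩ ⟨Y', hY'⟩ ⟨Y, hY⟩ f g)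
    (isAlgSpace_of_isPullback sq hY.diag hX hY') hY' sq.isoPullback.hom _ _
    sq.isoPullback_hom_snd).symm

end IsBaseNotion

variable {Q P : MorphismProperty (Sp S)} {X Y : Sp S}

/-- A test map over which the base change of `f` has `P`. -/
def IsGoodMap (Q P : MorphismProperty (Sp S)) (f : X ⟶ Y) {Y' : Sp S} (g : Y' ⟶ Y) : Prop :=
  IsAlgSpace Y' ∧ Q g ∧ P (pullback.snd f g)

/-- The points hit by good maps. -/
def goodLocus (Q P : MorphismProperty (Sp S)) (f : X ⟶ Y) : Set (Points Y) :=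
  {y | ∃ (Y' : Sp S) (g : Y' ⟶ Y), IsGoodMap Q P f g ∧ y ∈ Set.range (Points.map g)}

variable (hQ : IsBaseNotion Q) (hP : IsLocalOnBase (fun _ _ Y g => IsCover Q Y g) P)
  (hX : IsAlgSpace X) (hY : IsAlgSpace Y) (f : X ⟶ Y)

include hQ hY in
theorem isOpen_goodLocus : IsOpen (goodLocus Q P f) := by
  rw [isOpen_iff_forall_mem_open]
  rintro y ⟨Y', g, hg, hy⟩
  exact ⟨_, fun z hz => ⟨Y', g, hg, hz⟩, hQ.isOpen_range hg.1 hY g hg.2.1, hy⟩

include hQ hP hX hY in
theorem prop_of_range_subset {Y' X' : Sp S} (hY' : IsAlgSpace Y') {g : Y' ⟶ Y} {g' : X' ⟶ X}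
    {f' : X' ⟶ Y'} (sq : IsPullback g' f' f g) (hg : Q g)
    (hW : Set.range (Points.map g) ⊆ goodLocus Q P f) : P f' := by
  have hX' : IsAlgSpace X' := isAlgSpace_of_isPullback sq hY.diag hX hY'
  obtain ⟨U, φ, -, hφs⟩ := hY'.atlas
  choose Z h hgood z hz using fun t : U.left =>
    hW ⟨Points.ofPt φ t, rfl⟩
  have hA : ∀ t, IsAlgSpace (pullback g (h t)) := fun t =>
    isAlgSpace_pullback ⟨Y', hY'⟩ ⟨Z t, (hgood t).1⟩ ⟨Y, hY⟩ g (h t)
  have hB : ∀ t, IsAlgSpace (pullback f' (pullback.fst g (h t))) := fun t =>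
    isAlgSpace_pullback ⟨X', hX'⟩ ⟨_, hA t⟩ ⟨Y', hY'⟩ f' (pullback.fst g (h t))
  refine (hP (fun t => pullback g (h t)) (fun t => pullback.fst g (h t)) hY' hA ⟨fun t => ?_, ?_⟩
    f' hX' (fun t => pullback f' (pullback.fst g (h t))) (fun t => pullback.snd _ _)
    (fun t => pullback.fst _ _) hB (fun t => IsPullback.of_hasPullback _ _)).2 fun t => ?_
  · exact hQ.baseChange (hgood t).1 hY hY' (h t) g (pullback.snd g (h t)) _
      (IsPullback.of_hasPullback g (h t)).flip (hgood t).2.1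
  · intro y
    obtain ⟨t, rfl⟩ := surjective_ofPt_of_repWith hφs y
    obtain ⟨a, ha, -⟩ := Groth.AlgSpBasic.exists_point_of_isPullback (IsPullback.of_hasPullback g (h t))
      (Points.ofPt φ t) (z t) (hz t).symm
    exact ⟨t, a, ha⟩
  · have hsnd : Q (pullback.snd g (h t)) :=
      hQ.baseChange hY' hY (hgood t).1 g (h t) _ _ (IsPullback.of_hasPullback g (h t)) hg
    have s₁ := (IsPullback.of_hasPullback f' (pullback.fst g (h t))).paste_horiz sq
    rw [pullback.condition] at s₁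
    have s₂ := IsPullback.of_right' s₁ (IsPullback.of_hasPullback f (h t))
    exact hQ.prop_baseChange hP (isAlgSpace_pullback ⟨X, hX⟩ ⟨Z t, (hgood t).1⟩ ⟨Y, hY⟩ f (h t))
      (hgood t).1 (hB t) (hA t) s₂ hsnd (hgood t).2.2

include hQ hP hX hY in
theorem range_subset_goodLocus {Y' X' : Sp S} (hY' : IsAlgSpace Y') {g : Y' ⟶ Y} {g' : X' ⟶ X}
    {f' : X' ⟶ Y'} (sq : IsPullback g' f' f g) (hg : Q g) (hf' : P f') :
    Set.range (Points.map g) ⊆ goodLocus Q P f :=
  fun _ hy => ⟨Y', g, ⟨hY', hg, (hQ.iff_pullback hP hX hY hY' sq).1 hf'⟩, hy⟩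

end

end Groth.AlgSp2

namespace Groth.AlgSp2

open Groth.AlgSpBasic

variable {S : Scheme.{u}}

/-- The largest open over which `f` has `P`. -/
theorem exists_largest_open {Q P : MorphismProperty (Sp S)} (hQ : IsBaseNotion Q)
    (hP : IsLocalOnBase (fun _ _ Y g => IsCover Q Y g) P) {X Y : Space S} (f : X ⟶ Y) :
    ∃ W : Opens (Points Y.obj),
      (∀ (W₀ X₀ : Space S) (j₀ : W₀ ⟶ Y) (j₀' : X₀ ⟶ X) (f₀ : X₀ ⟶ W₀),
        RepWith @IsOpenImmersion j₀.hom → Set.range (Points.map j₀.hom) = (W : Set (Points Y.obj)) →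
        IsPullback j₀'.hom f₀.hom f.hom j₀.hom → P f₀.hom) ∧
      (∀ V : Opens (Points Y.obj),
        (∀ (W₁ X₁ : Space S) (j₁ : W₁ ⟶ Y) (j₁' : X₁ ⟶ X) (f₁ : X₁ ⟶ W₁),
        RepWith @IsOpenImmersion j₁.hom → Set.range (Points.map j₁.hom) = (V : Set (Points Y.obj)) →
        IsPullback j₁'.hom f₁.hom f.hom j₁.hom → P f₁.hom) → V ≤ W) ∧
      (∀ (Y' X' : Space S) (g : Y' ⟶ Y) (g' : X' ⟶ X) (f' : X' ⟶ Y'),
        Q g.hom → IsPullback g'.hom f'.hom f.hom g.hom → P f'.hom →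
        Set.range (Points.map g.hom) ⊆ (W : Set (Points Y.obj))) ∧
      (∀ (Y' X' : Space S) (g : Y' ⟶ Y) (g' : X' ⟶ X) (f' : X' ⟶ Y'),
        Q g.hom → IsPullback g'.hom f'.hom f.hom g.hom →
        ∀ W' : Opens (Points Y'.obj),
          (∀ (W₂ X₂ : Space S) (j₂ : W₂ ⟶ Y') (j₂' : X₂ ⟶ X') (f₂ : X₂ ⟶ W₂),
        RepWith @IsOpenImmersion j₂.hom → Set.range (Points.map j₂.hom) = (W' : Set (Points Y'.obj)) →
        IsPullback j₂'.hom f₂.hom f'.hom j₂.hom → P f₂.hom) →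
          (∀ V' : Opens (Points Y'.obj),
            (∀ (W₃ X₃ : Space S) (j₃ : W₃ ⟶ Y') (j₃' : X₃ ⟶ X') (f₃ : X₃ ⟶ W₃),
        RepWith @IsOpenImmersion j₃.hom → Set.range (Points.map j₃.hom) = (V' : Set (Points Y'.obj)) →
        IsPullback j₃'.hom f₃.hom f'.hom j₃.hom → P f₃.hom) → V' ≤ W') →
          (W' : Set (Points Y'.obj)) = Points.map g.hom ⁻¹' (W : Set (Points Y.obj))) := by
  obtain ⟨X, hX⟩ := X
  obtain ⟨Y, hY⟩ := Y
  obtain ⟨f⟩ := f
  refine ⟨⟨goodLocus Q P f, isOpen_goodLocus hQ hY f⟩, ?_, ?_, ?_, ?_⟩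
  · intro W₀ X₀ j₀ j₀' f₀ hj hr sq
    exact prop_of_range_subset hQ hP hX hY f W₀.property sq
      (hQ.of_isOpenImmersion W₀.property hY _ hj) hr.le
  · intro V hV
    have hι := repWith_openSubι (X := Y) V.isOpen
    have hA := isAlgSpace_openSub hY V.isOpen
    have hB : IsAlgSpace (pullback f (openSubι Y V)) :=
      isAlgSpace_pullback ⟨X, hX⟩ ⟨_, hA⟩ ⟨Y, hY⟩ f (openSubι Y V)
    have hp := hV ⟨_, hA⟩ ⟨_, hB⟩ (ObjectProperty.homMk (openSubι Y V))
      (ObjectProperty.homMk (pullback.fst f _)) (ObjectProperty.homMk (pullback.snd f _)) hι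
      range_map_openSubι (IsPullback.of_hasPullback f _)
    intro y hy
    exact range_subset_goodLocus hQ hP hX hY f hA (IsPullback.of_hasPullback f _)
      (hQ.of_isOpenImmersion hA hY _ hι) hp
      (by rw [range_map_openSubι]; exact hy)
  · intro Y' X' g g' f' hg sq hf'
    exact range_subset_goodLocus hQ hP hX hY f Y'.property sq hg hf'
  · intro Y' X' g g' f' hg sq W' h₁ h₂
    apply Set.Subset.antisymm
    · have hι := repWith_openSubι (X := Y'.obj) W'.isOpen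
      have hA := isAlgSpace_openSub Y'.property W'.isOpen
      have hB : IsAlgSpace (pullback f'.hom (openSubι Y'.obj W')) :=
        isAlgSpace_pullback X' ⟨_, hA⟩ Y' f'.hom (openSubι Y'.obj W')
      have hp := h₁ ⟨_, hA⟩ ⟨_, hB⟩ (ObjectProperty.homMk (openSubι Y'.obj W'))
        (ObjectProperty.homMk (pullback.fst f'.hom _))
        (ObjectProperty.homMk (pullback.snd f'.hom _)) hι range_map_openSubι
        (IsPullback.of_hasPullback f'.hom _)
      intro y hy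
      obtain ⟨a, rfl⟩ : y ∈ Set.range (Points.map (openSubι Y'.obj W')) := by
        rw [range_map_openSubι]; exact hy
      exact range_subset_goodLocus hQ hP hX hY f hA
        ((IsPullback.of_hasPullback f'.hom _).paste_horiz sq)
        (hQ.comp hA Y'.property hY _ _ (hQ.of_isOpenImmersion hA Y'.property _ hι) hg) hp
        ⟨a, Points.map_comp _ _ a⟩
    · refine h₂ ⟨_, (isOpen_goodLocus hQ hY f).preimage (Points.continuous_map g.hom)⟩ ?_
      intro W₃ X₃ j₃ j₃' f₃ hj hr sq₃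
      refine prop_of_range_subset hQ hP hX hY f W₃.property (sq₃.paste_horiz sq)
        (hQ.comp W₃.property Y'.property hY _ _
          (hQ.of_isOpenImmersion W₃.property Y'.property _ hj) hg) ?_
      rintro _ ⟨w, rfl⟩
      rw [Points.map_comp]
      exact hr.le ⟨w, rfl⟩

theorem locP_flat_of_isOpenImmersion {X Y : Sp S} {j : X ⟶ Y}
    (hj : RepWith @IsOpenImmersion j) : LocP @Flat j :=
  locP_of_repWith (repWith_mono (fun _ _ k (_ : IsOpenImmersion k) => (inferInstance : Flat k)) hj)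

theorem locP_lfp_of_isOpenImmersion {X Y : Sp S} {j : X ⟶ Y}
    (hj : RepWith @IsOpenImmersion j) : LocP @LocallyOfFinitePresentation j :=
  locP_of_repWith (repWith_mono (fun _ _ k (_ : IsOpenImmersion k) =>
    (inferInstance : LocallyOfFinitePresentation k)) hj)

theorem isOpen_range_of_fppf {X Y : Sp S} (hX : IsAlgSpace X) (hY : IsAlgSpace Y) {f : X ⟶ Y}
    (h₁ : LocP @Flat f) (h₂ : LocP @LocallyOfFinitePresentation f) :
    IsOpen (Set.range (Points.map f)) := by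
  rw [← Set.image_univ]
  exact isOpenMor_of_fppf hX hY h₁ h₂ _ isOpen_univ

theorem isBaseNotion_fppf : IsBaseNotion (S := S)
    (fun _ _ f => LocP @Flat f ∧ LocP @LocallyOfFinitePresentation f) where
  of_isOpenImmersion _ _ _ hj := ⟨locP_flat_of_isOpenImmersion hj, locP_lfp_of_isOpenImmersion hj⟩
  comp hX hY hZ _ _ hf hg := ⟨locP_comp hX hY hZ hf.1 hg.1, locP_comp hX hY hZ hf.2 hg.2⟩
  baseChange hX hY hY' _ _ _ _ sq hf :=
    ⟨locP_of_isPullback hX hY hY' sq hf.1, locP_of_isPullback hX hY hY' sq hf.2⟩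
  isOpen_range hX hY _ hf := isOpen_range_of_fppf hX hY hf.1 hf.2

theorem locP_smooth_of_isOpenImmersion {X Y : Sp S} {j : X ⟶ Y}
    (hj : RepWith @IsOpenImmersion j) : LocP @Smooth j :=
  locP_of_repWith (repWith_mono (fun _ _ k (_ : IsOpenImmersion k) =>
    (inferInstance : Smooth k)) hj)

theorem isOpen_range_of_smooth {X Y : Sp S} (hX : IsAlgSpace X) (hY : IsAlgSpace Y) {f : X ⟶ Y}
    (h : LocP @Smooth f) : IsOpen (Set.range (Points.map f)) :=
  isOpen_range_of_fppf hX hY (locP_mono (fun _ _ k (_ : Smooth k) => (inferInstance : Flat k)) h)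
    (locP_mono (fun _ _ k (_ : Smooth k) => (inferInstance : LocallyOfFinitePresentation k)) h)

theorem isBaseNotion_smooth : IsBaseNotion (S := S) (LocP @Smooth) where
  of_isOpenImmersion _ _ _ hj := locP_smooth_of_isOpenImmersion hj
  comp hX hY hZ _ _ hf hg := locP_comp hX hY hZ hf hg
  baseChange hX hY hY' _ _ _ _ sq hf := locP_of_isPullback hX hY hY' sq hf
  isOpen_range hX hY _ hf := isOpen_range_of_smooth hX hY hf

theorem isBaseNotion_etale : IsBaseNotion (S := S) IsEtaleMor where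
  of_isOpenImmersion _ hY _ hj := isEtaleMor_of_locP hY
    (locP_of_repWith (repWith_mono (fun _ _ k (_ : IsOpenImmersion k) =>
      (inferInstance : Etale k)) hj))
  comp _ _ _ _ _ hf hg := isEtaleMor_comp hf hg
  baseChange hX hY hY' _ _ _ _ sq hf := isEtaleMor_of_isPullback hX hY hY' sq hf
  isOpen_range hX hY _ hf := isOpen_range_of_smooth hX hY (locP_smooth_of_isEtaleMor hf)

end Groth.AlgSp2
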