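import Groth.Agent.AlgSp2.GrpdAlg
import Groth.Agent.AlgSp2.LargestOpen
import Groth.Agent.AlgSpBasic.DiagProps

/-!
# Largest opens with a local property are invariant
-/

set_option autoImplicit false
set_option backward.isDefEq.respectTransparency.types false
universe u

open CategoryTheory CategoryTheory.Limits AlgebraicGeometry AlgSp
open Groth.AlgSpBasic

namespace Groth.AlgSp2.InvariantLargest

noncomputable section

variable {S : Scheme.{u}} {B : Sp S} (G : GroupoidSp B)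

theorem isInvariant_of_twist {Q P : MorphismProperty (Sp S)} (hQ : IsBaseNotion Q)
    (hP : IsLocalOnBase (fun _ _ Y g => IsCover Q Y g) P) (hU : IsAlgSpace G.U) (hR : IsAlgSpace G.R)
    (hs : Q G.s) (ht : Q G.t) {X : Sp S} (hX : IsAlgSpace X) (p : X ⟶ G.U) {M : Sp S}
    (π : M ⟶ G.R) (m₁ m₂ : M ⟶ X) (sq₁ : IsPullback m₁ π p G.s) (sq₂ : IsPullback m₂ π p G.t)
    {W : Sp S} (hW : IsAlgSpace W) (w : W ⟶ G.U) (hw : RepWith @IsOpenImmersion w)
    (hmax : ∀ (W' : Sp S) (w' : W' ⟶ G.U), IsAlgSpace W' → RepWith @IsOpenImmersion w' →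
      (P (pullback.snd p w') ↔ ∃ k : W' ⟶ W, k ≫ w = w')) :
    G.IsInvariant w := by
  have step : ∀ q : Points G.R, Points.map G.t q ∈ Set.range (Points.map w) →
      Points.map G.s q ∈ Set.range (Points.map w) := by
    rintro q ⟨y, hy⟩
    let a := pullback.fst G.t w
    let c := pullback.snd G.t w
    have hZ : IsAlgSpace (pullback G.t w) := isAlgSpace_pullback ⟨_, hR⟩ ⟨W, hW⟩ ⟨_, hU⟩ G.t w
    have sqZ := IsPullback.of_hasPullback G.t w
    have hc : Q c := hQ.baseChange hR hU hW G.t w a c sqZ ht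
    have ha : RepWith @IsOpenImmersion a := repWith_of_isPullback sqZ.flip hw
    have hb : Q (a ≫ G.s) :=
      hQ.comp hZ hR hU a G.s (hQ.of_isOpenImmersion hZ hR a ha) hs
    have h₀ : P (pullback.snd p w) :=
      (hmax W w hW hw).2 ⟨𝟙 W, Category.id_comp w⟩
    have hXW : IsAlgSpace (pullback p w) := isAlgSpace_pullback ⟨X, hX⟩ ⟨W, hW⟩ ⟨_, hU⟩ p w
    have hMZ : IsAlgSpace (pullback π a) :=
      isAlgSpace_pullback ⟨M, isAlgSpace_of_isPullback sq₁ hU.diag hX hR⟩ ⟨_, hZ⟩ ⟨_, hR⟩ π a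
    have s₁ := (IsPullback.of_hasPullback π a).paste_horiz sq₁
    have s₂ := (IsPullback.of_hasPullback π a).paste_horiz sq₂
    have h₂ : P (pullback.snd π a) := by
      have e : a ≫ G.t = c ≫ w := pullback.condition
      rw [e] at s₂
      exact hQ.prop_baseChange hP hXW hW hMZ hZ
        (IsPullback.of_right' s₂ (IsPullback.of_hasPullback p w)) hc h₀
    have h₁ : P (pullback.snd p (a ≫ G.s)) := (hQ.iff_pullback hP hX hU hZ s₁).1 h₂
    have hgood : Set.range (Points.map (a ≫ G.s)) ⊆ goodLocus Q P p :=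
      range_subset_goodLocus hQ hP hX hU p hZ (IsPullback.of_hasPullback p (a ≫ G.s)) hb h₁
    obtain ⟨z, hz, -⟩ := exists_point_of_isPullback sqZ (x := q) (z := y) hy.symm
    have hmem : Points.map G.s q ∈ goodLocus Q P p :=
      hgood ⟨z, by rw [Points.map_comp, hz]⟩
    have hO := isOpen_goodLocus hQ hU p (P := P)
    have hj := repWith_openSubι (X := G.U) hO
    have hA := isAlgSpace_openSub hU hO
    obtain ⟨k, hk⟩ := (hmax _ (openSubι G.U (goodLocus Q P p)) hA hj).1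
      (prop_of_range_subset hQ hP hX hU p hA (IsPullback.of_hasPullback p _)
        (hQ.of_isOpenImmersion hA hU _ hj) range_map_openSubι.le)
    obtain ⟨v, hv⟩ := range_map_openSubι.ge hmem
    exact ⟨Points.map k v, by rw [← Points.map_comp, hk, hv]⟩
  refine GrpdAlg.isInvariant_of_points G w hw fun q => ⟨step q, fun h => ?_⟩
  have := step (Points.map G.i q) (by rwa [GrpdAlg.map_inv_tgt])
  rwa [GrpdAlg.map_inv_src] at this

theorem shear_lift (α β : pullback G.s G.t ⟶ G.R) (h : α ≫ G.s = β ≫ G.t)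
    (hα : α = pullback.fst _ _) (hβ : β = pullback.snd _ _) : GrpdAlg.comp G α β h = G.c := by
  subst hα hβ
  have e : pullback.lift (pullback.fst G.s G.t) (pullback.snd G.s G.t) pullback.condition = 𝟙 _ :=
    pullback.hom_ext (by simp) (by simp)
  show pullback.lift _ _ _ ≫ G.c = _
  rw [e, Category.id_comp]

/-- The square formed by composition. -/
theorem isPullback_comp : IsPullback G.c (pullback.snd G.s G.t) G.s G.s := by
  have hc := shear_lift G _ _ pullback.condition rfl rfl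
  have w : G.c ≫ G.s = pullback.snd G.s G.t ≫ G.s := by
    rw [← hc, GrpdAlg.comp_src]
  have ha : ∀ s : PullbackCone G.s G.s, s.fst ≫ G.s = (s.snd ≫ G.i) ≫ G.t := fun s => by
    rw [GrpdAlg.inv_tgt]; exact s.condition
  refine ⟨⟨w⟩, ⟨PullbackCone.IsLimit.mk w
    (fun s => pullback.lift (GrpdAlg.comp G s.fst (s.snd ≫ G.i) (ha s)) s.snd
      (by rw [GrpdAlg.comp_src, GrpdAlg.inv_src]))
    (fun s => ?_) (fun s => pullback.lift_snd _ _ _) fun s m h₁ h₂ => ?_⟩⟩
  · rw [← hc, GrpdAlg.nat]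
    exact (GrpdAlg.comp_congr G (pullback.lift_fst _ _ _) (pullback.lift_snd _ _ _)).trans
      (GrpdAlg.cancel_inv_left G (ha s))
  · refine pullback.hom_ext ?_ (h₂.trans (pullback.lift_snd _ _ _).symm)
    rw [pullback.lift_fst]
    have hm : (m ≫ pullback.fst G.s G.t) ≫ G.s = (m ≫ pullback.snd G.s G.t) ≫ G.t := by
      rw [Category.assoc, Category.assoc, pullback.condition]
    refine (GrpdAlg.cancel_inv_right G hm).symm.trans (GrpdAlg.comp_congr G ?_ (by rw [h₂]))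
    rw [← GrpdAlg.nat G m pullback.condition, hc, h₁]

/-- An element of the stabilizer. -/
def stabMk {Z : Sp S} (γ : Z ⟶ G.R) (h : γ ≫ G.t = γ ≫ G.s) : Z ⟶ G.stabilizer :=
  pullback.lift γ (γ ≫ G.t) (by
    apply pullback.hom_ext
    · simp only [Category.assoc, GroupoidSp.j, GroupoidSp.diag, pullback.lift_fst, Category.comp_id]
    · simp only [Category.assoc, GroupoidSp.j, GroupoidSp.diag, pullback.lift_snd, Category.comp_id, h])

theorem stabMk_ι {Z : Sp S} (γ : Z ⟶ G.R) (h : γ ≫ G.t = γ ≫ G.s) :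
    stabMk G γ h ≫ G.stabilizerι = γ := pullback.lift_fst _ _ _

theorem stabMk_toU {Z : Sp S} (γ : Z ⟶ G.R) (h : γ ≫ G.t = γ ≫ G.s) :
    stabMk G γ h ≫ G.stabilizerToU = γ ≫ G.t := pullback.lift_snd _ _ _

theorem ι_tgt : G.stabilizerι ≫ G.t = G.stabilizerToU := by
  have := pullback.condition (f := G.j) (g := G.diag) =≫ pullback.fst G.pU G.pU
  rw [Category.assoc, Category.assoc, GroupoidSp.j_fst, GroupoidSp.diag, pullback.lift_fst,
    Category.comp_id] at this
  exact this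

theorem ι_src : G.stabilizerι ≫ G.s = G.stabilizerToU := by
  have := pullback.condition (f := G.j) (g := G.diag) =≫ pullback.snd G.pU G.pU
  rw [Category.assoc, Category.assoc, GroupoidSp.j_snd, GroupoidSp.diag, pullback.lift_snd,
    Category.comp_id] at this
  exact this

theorem stab_hom_ext {Z : Sp S} {x y : Z ⟶ G.stabilizer}
    (h : x ≫ G.stabilizerι = y ≫ G.stabilizerι) : x = y := by
  refine pullback.hom_ext h ?_
  show x ≫ G.stabilizerToU = y ≫ G.stabilizerToU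
  rw [← ι_tgt, ← Category.assoc, h, Category.assoc]

/-- Conjugation identifies the base changes of the stabilizer along source and target. -/
theorem exists_stabilizer_twist :
    ∃ (M : Sp S) (π : M ⟶ G.R) (m₁ m₂ : M ⟶ G.stabilizer),
      IsPullback m₁ π G.stabilizerToU G.s ∧ IsPullback m₂ π G.stabilizerToU G.t := by
  let π := pullback.snd G.stabilizerToU G.s
  let g := pullback.fst G.stabilizerToU G.s ≫ G.stabilizerι
  have hg₁ : π ≫ G.s = g ≫ G.t := by
    rw [Category.assoc, ι_tgt]; exact pullback.condition.symm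
  have hg₂ : g ≫ G.s = π ≫ G.s := by rw [Category.assoc, ι_src]; exact pullback.condition
  let d := GrpdAlg.comp G (GrpdAlg.comp G π g hg₁) (π ≫ G.i)
    (by rw [GrpdAlg.comp_src, GrpdAlg.inv_tgt, hg₂])
  have hd : d ≫ G.t = d ≫ G.s := by
    rw [GrpdAlg.comp_tgt, GrpdAlg.comp_tgt, GrpdAlg.comp_src, GrpdAlg.inv_src]
  let m₂ := stabMk G d hd
  have w : m₂ ≫ G.stabilizerToU = π ≫ G.t := by
    rw [stabMk_toU, GrpdAlg.comp_tgt, GrpdAlg.comp_tgt]
  refine ⟨_, π, pullback.fst _ _, m₂, IsPullback.of_hasPullback _ _, ⟨w⟩, ⟨?_⟩⟩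
  have h₁ : ∀ s : PullbackCone G.stabilizerToU G.t,
      (s.snd ≫ G.i) ≫ G.s = (s.fst ≫ G.stabilizerι) ≫ G.t := fun s => by
    rw [GrpdAlg.inv_src, Category.assoc, ι_tgt]; exact s.condition.symm
  have h₂ : ∀ s : PullbackCone G.stabilizerToU G.t,
      (s.fst ≫ G.stabilizerι) ≫ G.s = s.snd ≫ G.t := fun s => by
    rw [Category.assoc, ι_src]; exact s.condition
  let L : ∀ s : PullbackCone G.stabilizerToU G.t, s.pt ⟶ G.R := fun s =>
    GrpdAlg.comp G (GrpdAlg.comp G (s.snd ≫ G.i) (s.fst ≫ G.stabilizerι) (h₁ s)) s.snd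
      (by rw [GrpdAlg.comp_src, h₂ s])
  have hL : ∀ s, L s ≫ G.t = L s ≫ G.s := fun s => by
    rw [GrpdAlg.comp_tgt, GrpdAlg.comp_tgt, GrpdAlg.comp_src, GrpdAlg.inv_tgt]
  refine PullbackCone.IsLimit.mk w (fun s => pullback.lift (stabMk G (L s) (hL s)) s.snd (by
      rw [stabMk_toU, GrpdAlg.comp_tgt, GrpdAlg.comp_tgt, GrpdAlg.inv_tgt])) (fun s => ?_)
    (fun s => pullback.lift_snd _ _ _) (fun s m e₁ e₂ => ?_)
  · refine stab_hom_ext G ?_
    rw [Category.assoc, stabMk_ι, GrpdAlg.nat]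
    have hx : (pullback.lift (stabMk G (L s) (hL s)) s.snd (by
        rw [stabMk_toU, GrpdAlg.comp_tgt, GrpdAlg.comp_tgt, GrpdAlg.inv_tgt])) ≫ g = L s := by
      rw [← Category.assoc, pullback.lift_fst, stabMk_ι]
    refine (GrpdAlg.comp_congr G (α' := GrpdAlg.comp G s.snd (L s)
      (by rw [GrpdAlg.comp_tgt, GrpdAlg.comp_tgt, GrpdAlg.inv_tgt]))
      (β' := s.snd ≫ G.i) ?_ (by rw [← Category.assoc, pullback.lift_snd])).trans ?_
    · rw [GrpdAlg.nat]
      exact GrpdAlg.comp_congr G (pullback.lift_snd _ _ _) hx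
    · have hA : s.snd ≫ G.s = (s.snd ≫ G.i) ≫ G.t := (GrpdAlg.inv_tgt G _).symm
      refine (GrpdAlg.comp_congr G (α' := GrpdAlg.comp G (s.fst ≫ G.stabilizerι) s.snd (h₂ s))
        ?_ rfl).trans (GrpdAlg.cancel_inv_right G (h₂ s))
      refine (GrpdAlg.comp_assoc G (hA.trans (GrpdAlg.comp_tgt G (h₁ s)).symm)
        ((GrpdAlg.comp_src G (h₁ s)).trans (h₂ s))).symm.trans ?_
      exact GrpdAlg.comp_congr G (GrpdAlg.comp_inv_cancel G (h₁ s)) rfl
  · refine pullback.hom_ext ?_ (e₂.trans (pullback.lift_snd _ _ _).symm)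
    rw [pullback.lift_fst]
    refine stab_hom_ext G ?_
    rw [stabMk_ι, Category.assoc]
    show m ≫ g = _
    have em : s.fst ≫ G.stabilizerι = m ≫ d := by rw [← e₁, Category.assoc, stabMk_ι]
    have hm₁ : (m ≫ π) ≫ G.s = (m ≫ g) ≫ G.t :=
      (Category.assoc _ _ _).trans ((congrArg (m ≫ ·) hg₁).trans (Category.assoc _ _ _).symm)
    have hm₂ : (m ≫ g) ≫ G.s = (m ≫ π) ≫ G.s :=
      (Category.assoc _ _ _).trans ((congrArg (m ≫ ·) hg₂).trans (Category.assoc _ _ _).symm)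
    have hm₃ : GrpdAlg.comp G (m ≫ π) (m ≫ g) hm₁ ≫ G.s = ((m ≫ π) ≫ G.i) ≫ G.t := by
      rw [GrpdAlg.comp_src, GrpdAlg.inv_tgt, hm₂]
    have ed : m ≫ d = GrpdAlg.comp G (GrpdAlg.comp G (m ≫ π) (m ≫ g) hm₁) ((m ≫ π) ≫ G.i) hm₃ := by
      show m ≫ GrpdAlg.comp G _ _ _ = _
      rw [GrpdAlg.nat]
      exact GrpdAlg.comp_congr G (GrpdAlg.nat G m hg₁) (Category.assoc _ _ _).symm
    refine Eq.trans ?_ (GrpdAlg.comp_congr G (GrpdAlg.comp_congr G (α := (m ≫ π) ≫ G.i)
      (β := m ≫ d) (h := by rw [ed, GrpdAlg.comp_tgt, GrpdAlg.comp_tgt, GrpdAlg.inv_src])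
      (by rw [show m ≫ π = s.snd from e₂]) em.symm) (show m ≫ π = s.snd from e₂)
      (h := by rw [GrpdAlg.comp_src, ed, GrpdAlg.comp_src, GrpdAlg.inv_src]))
    have hA : ((m ≫ π) ≫ G.i) ≫ G.s = GrpdAlg.comp G (m ≫ π) (m ≫ g) hm₁ ≫ G.t := by
      rw [GrpdAlg.comp_tgt, GrpdAlg.inv_src]
    refine (GrpdAlg.cancel_inv_left G (α := m ≫ g) (β := m ≫ π)
      (by rw [GrpdAlg.inv_tgt, hm₂])).symm.trans (GrpdAlg.comp_congr G ?_ rfl)
    refine Eq.trans ?_ ((GrpdAlg.comp_assoc G hA hm₃).trans (GrpdAlg.comp_congr G rfl ed.symm))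
    exact GrpdAlg.comp_congr G (GrpdAlg.inv_comp_cancel G hm₁).symm rfl

end

end Groth.AlgSp2.InvariantLargest
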