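import Groth.Agent.AlgSp2.FppfProps
import Groth.Agent.AlgSp2.Locality
import Groth.Agent.AlgSpBasic.Compact

/-!
Small rows: fppf local lifts, Noetherian fibres, pullback squares descend along etale surjections.
-/

set_option autoImplicit false
set_option backward.isDefEq.respectTransparency.types false
universe u

open CategoryTheory CategoryTheory.Limits AlgebraicGeometry Opposite AlgSp

namespace Groth.AlgSp2

open Groth.AlgSpBasic

noncomputable section

variable {S : Scheme.{u}}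

theorem exists_fppf_local_lift {ι : Type u} {X : Sp S} {Xi : ι → Sp S} (hX : IsAlgSpace X)
    (hXi : ∀ i, IsAlgSpace (Xi i)) {g : ∀ i, Xi i ⟶ X} (hg : IsFppfCover Xi g) (T : Over S)
    (t : (yon S).obj T ⟶ X) :
    ∃ (κ : Type u) (Tk : κ → Over S) (c : ∀ k, Tk k ⟶ T),
      Sieve.ofArrows Tk c ∈ AlgSp.J S T ∧
      ∀ k, ∃ (i : ι) (l : (yon S).obj (Tk k) ⟶ Xi i), l ≫ g i = (yon S).map (c k) ≫ t := by
  have sq := fun i => IsPullback.of_hasPullback (g i) t
  have hP := fun i => isAlgSpace_of_isPullback (sq i) hX.diag (hXi i) (IsAlgSpace.yon_obj T)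
  choose W ψ hψ hψs using fun i => (hP i).atlas
  choose χ hχ using fun i => (yon S).map_surjective (ψ i ≫ pullback.snd (g i) t)
  have e : ∀ i, ψ i ≫ pullback.snd (g i) t = (yon S).map (χ i) ≫ 𝟙 _ := fun i => by
    rw [Category.comp_id, hχ]
  have hP' : ∀ i, (@Flat ⊓ @LocallyOfFinitePresentation : MorphismProperty Scheme.{u}) (χ i).left :=
    fun i => ⟨locP_of_isPullback (hXi i) hX (IsAlgSpace.yon_obj T) (sq i) (hg.1 i).1
        (ψ i) (𝟙 _) _ (hψ i) (repWith_id _ T) (e i),
      locP_of_isPullback (hXi i) hX (IsAlgSpace.yon_obj T) (sq i) (hg.1 i).2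
        (ψ i) (𝟙 _) _ (hψ i) (repWith_id _ T) (e i)⟩
  have hsurj : ∀ x : T.left, ∃ i, x ∈ Set.range (χ i).left := fun x => by
    obtain ⟨i, y, hy⟩ := hg.2 (Points.ofPt t x)
    obtain ⟨w, -, hw⟩ := Groth.AlgSpBasic.exists_point_of_isPullback (sq i) y (Points.ofScheme T x)
      (hy.trans (Points.ofPt_eq_map_ofScheme t x))
    obtain ⟨u, rfl⟩ := surjective_ofPt_of_repWith (hψs i) w
    rw [Points.map_ofPt, ← hχ, Points.ofPt_eq_map_ofScheme] at hw
    exact ⟨i, u, (Points.schemeHomeo T).injective ((Points.map_yon_map_apply _ u).symm.trans hw)⟩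
  refine ⟨ι, W, χ, ?_, fun i => ⟨i, ψ i ≫ pullback.fst (g i) t, ?_⟩⟩
  · rw [J_eq, GrothendieckTopology.mem_over_iff]
    refine GrothendieckTopology.superset_covering _ ?_ (Precoverage.generate_mem_toGrothendieck
      (show Presieve.ofArrows (fun i => (W i).left) (fun i => (χ i).left) ∈
          Scheme.fppfPrecoverage T.left from
        (Scheme.ofArrows_mem_precoverage_iff _).2 ⟨hsurj, hP'⟩))
    rw [Sieve.generate_le_iff]
    rintro _ _ ⟨i⟩
    rw [Sieve.overEquiv_iff]
    refine ⟨W i, Over.homMk (𝟙 _) (by simp), χ i, ⟨i⟩, ?_⟩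
    ext
    simp
  · rw [Category.assoc, pullback.condition, ← Category.assoc, ← hχ]

theorem isLocNoethSp_fibre {X Y P : Sp S} (hX : IsAlgSpace X) (hY : IsAlgSpace Y) {f : X ⟶ Y}
    (hf : LocP @LocallyOfFiniteType f) {T : Over S} [IsLocallyNoetherian T.left]
    {t : (yon S).obj T ⟶ Y} {fst : P ⟶ X} {snd : P ⟶ (yon S).obj T}
    (sq : IsPullback fst snd f t) : IsLocNoethSp P := by
  have hP := isAlgSpace_of_isPullback sq hY.diag hX (IsAlgSpace.yon_obj T)
  obtain ⟨U, ψ, hψ, hψs⟩ := hP.atlas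
  obtain ⟨χ, hχ⟩ := (yon S).map_surjective (ψ ≫ snd)
  have : LocallyOfFiniteType χ.left := locP_of_isPullback hX hY (IsAlgSpace.yon_obj T) sq hf
    ψ (𝟙 _) χ hψ (repWith_id _ T) (by rw [Category.comp_id, hχ])
  exact ⟨U, ψ, hψ, hψs, LocallyOfFiniteType.isLocallyNoetherian χ.left⟩

theorem epi_snd_of_etale_surjective {D Q : Sp S} {U : Over S} {b : (yon S).obj U ⟶ D}
    (hb : RepWith @Etale b) (hbs : RepWith @Surjective b) (k : Q ⟶ D) : Epi (pullback.fst k b) := by
  have := isLocallySurjective_of_etale (pullback.fst k b)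
    (repWith_of_isPullback (IsPullback.of_hasPullback k b).flip hb)
    (repWith_of_isPullback (IsPullback.of_hasPullback k b).flip hbs)
  infer_instance

theorem isPullback_of_etale_surjective {A B C D E F : Sp S} (hB : IsAlgSpace B) (hD : IsAlgSpace D)
    {ac : A ⟶ C} {ab : A ⟶ B} {cd : C ⟶ D} {bd : B ⟶ D} {ce : C ⟶ E} {df : D ⟶ F} {ef : E ⟶ F}
    (hl : IsPullback ac ab cd bd) (hcomm : cd ≫ df = ce ≫ ef)
    (hout : IsPullback (ac ≫ ce) ab ef (bd ≫ df)) (hsurj : IsSurjectiveMor bd)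
    (het : IsEtaleMor bd) : IsPullback ce cd ef df := by
  obtain ⟨U, φ, hφ, hφs⟩ := hB.atlas
  have hb : RepWith @Etale (φ ≫ bd) := het φ hφ
  have hbs : RepWith @Surjective (φ ≫ bd) := by
    refine repWith_surjective_of_ofPt hb.rep fun d => ?_
    obtain ⟨x, rfl⟩ := hsurj d
    obtain ⟨u, rfl⟩ := surjective_ofPt_of_repWith hφs x
    exact ⟨u, (Points.map_ofPt φ bd u).symm⟩
  let m : C ⟶ pullback ef df := pullback.lift ce cd hcomm.symm
  have hm₁ : m ≫ pullback.fst ef df = ce := pullback.lift_fst _ _ _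
  have hm₂ : m ≫ pullback.snd ef df = cd := pullback.lift_snd _ _ _
  have : Mono m := by
    constructor
    intro Z x y hxy
    have h1 : x ≫ ce = y ≫ ce := by rw [← hm₁, ← Category.assoc, hxy, Category.assoc]
    have h2 : x ≫ cd = y ≫ cd := by rw [← hm₂, ← Category.assoc, hxy, Category.assoc]
    have := epi_snd_of_etale_surjective hb hbs (x ≫ cd)
    rw [← cancel_epi (pullback.fst (x ≫ cd) (φ ≫ bd))]
    let π := pullback.fst (x ≫ cd) (φ ≫ bd)
    let u := pullback.snd (x ≫ cd) (φ ≫ bd)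
    have hc : (π ≫ x) ≫ cd = (u ≫ φ) ≫ bd := by
      rw [Category.assoc, Category.assoc]; exact pullback.condition
    have hc' : (π ≫ y) ≫ cd = (u ≫ φ) ≫ bd := by rw [Category.assoc, ← h2, ← Category.assoc]; exact hc
    have : hl.lift _ _ hc = hl.lift _ _ hc' := hout.hom_ext
      (by rw [← Category.assoc, ← Category.assoc, hl.lift_fst, hl.lift_fst, Category.assoc,
        Category.assoc, h1])
      (by rw [hl.lift_snd, hl.lift_snd])
    simpa [π] using congrArg (fun k => k ≫ ac) this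
  have : Epi m := by
    have := epi_snd_of_etale_surjective hb hbs (pullback.snd ef df)
    let π := pullback.fst (pullback.snd ef df) (φ ≫ bd)
    let u := pullback.snd (pullback.snd ef df) (φ ≫ bd)
    have hπ : π ≫ pullback.snd ef df = (u ≫ φ) ≫ bd := by
      rw [Category.assoc]; exact pullback.condition
    let a := hout.lift (π ≫ pullback.fst ef df) (u ≫ φ) (by
      rw [Category.assoc, pullback.condition, ← Category.assoc, hπ, Category.assoc])
    refine epi_of_epi_fac (f := a ≫ ac) (h := π) ?_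
    apply pullback.hom_ext
    · rw [Category.assoc, Category.assoc, hm₁]
      exact hout.lift_fst _ _ _
    · rw [Category.assoc, Category.assoc, hm₂, hl.w, ← Category.assoc, hout.lift_snd, hπ]
  have : IsIso m := isIso_of_mono_of_epi m
  exact IsPullback.of_iso_pullback ⟨hcomm.symm⟩ (asIso m) hm₁ hm₂

end

end Groth.AlgSp2
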