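import Groth.Agent.AlgSpBasic.DimZeroSpace
import Groth.Agent.AlgSpBasic.MonoDiscrete
import Groth.Agent.S10482
import Mathlib.Algebra.Category.Ring.Epi
import Mathlib.RingTheory.TensorProduct.Quotient
import Mathlib.RingTheory.Artinian.Ring
import Mathlib.AlgebraicGeometry.Artinian
import Mathlib.AlgebraicGeometry.Morphisms.QuasiFinite

/-!
# Monomorphisms into locally artinian schemes; locally quasi-finite spaces over a field
-/

set_option autoImplicit false
set_option backward.isDefEq.respectTransparency.types false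
universe u

open CategoryTheory CategoryTheory.Limits AlgebraicGeometry AlgSp Groth.AlgSpBasic TensorProduct

namespace Groth.AlgSp2.MonoArtinian

noncomputable section

theorem surjective_of_isEpi_field {K C : Type u} [Field K] [CommRing C] [Algebra K C]
    [Algebra.IsEpi K C] : Function.Surjective (algebraMap K C) := by
  intro c
  rcases subsingleton_or_nontrivial C with h | h
  · exact ⟨0, Subsingleton.elim _ _⟩
  obtain ⟨φ, hφ⟩ := (Algebra.linearMap K C).exists_leftInverse_of_injective
    (LinearMap.ker_eq_bot.2 (algebraMap K C).injective)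
  have h1 : φ 1 = 1 := by simpa using LinearMap.congr_fun hφ 1
  have h2 := congr(TensorProduct.lid K C (φ.rTensor C $((Algebra.isEpi_iff_forall_one_tmul_eq K C).1
    ‹_› c)))
  refine ⟨φ c, ?_⟩
  simpa [h1, Algebra.algebraMap_eq_smul_one] using h2.symm

theorem surjective_of_epi_artinian {A B : CommRingCat.{u}} (f : A ⟶ B) [IsArtinianRing A]
    [IsLocalRing A] [Epi f] : Function.Surjective f := by
  algebraize [f.hom]
  let m := IsLocalRing.maximalIdeal (A : Type u)
  let K := IsLocalRing.ResidueField (A : Type u)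
  let C := K ⊗[A] B
  have hC : Algebra.IsEpi K C := by
    rw [← CommRingCat.epi_iff_epi]
    refine ⟨fun {T} g₁ g₂ e => ?_⟩
    have eB : CommRingCat.ofHom (Algebra.TensorProduct.includeRight (R := A) (A := K) (B := B)).toRingHom ≫ g₁ =
        CommRingCat.ofHom (Algebra.TensorProduct.includeRight (R := A) (A := K) (B := B)).toRingHom ≫ g₂ := by
      rw [← cancel_epi f]
      ext a
      have := ConcreteCategory.congr_hom e (algebraMap A K a)
      have ea : (Algebra.TensorProduct.includeRight (R := A) (A := K) (B := B)) (f a) =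
          algebraMap K C (algebraMap A K a) := by
        rw [← IsScalarTower.algebraMap_apply A K C]
        exact (Algebra.TensorProduct.includeRight (R := A) (A := K) (B := B)).commutes a
      change g₁ ((Algebra.TensorProduct.includeRight (R := A) (A := K) (B := B)) (f a)) =
        g₂ ((Algebra.TensorProduct.includeRight (R := A) (A := K) (B := B)) (f a))
      rw [ea]
      exact this
    refine CommRingCat.hom_ext (RingHom.ext fun (c : K ⊗[A] B) => ?_)
    induction c using TensorProduct.induction_on with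
    | zero => simp
    | add x y hx hy => simp only [map_add, hx, hy]
    | tmul t b =>
      have h₁ := ConcreteCategory.congr_hom e t
      have h₂ := ConcreteCategory.congr_hom eB b
      have : t ⊗ₜ[A] b = algebraMap K C t * (Algebra.TensorProduct.includeRight (R := A) (A := K) (B := B)) b := by
        simp [C, Algebra.TensorProduct.algebraMap_apply]
      rw [this, map_mul, map_mul]
      exact congrArg₂ (· * ·) h₁ h₂
  let N : Submodule A B := LinearMap.range (Algebra.linearMap A B)
  have hN : Subsingleton (K ⊗[A] (B ⧸ N)) := by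
    refine subsingleton_of_forall_eq 0 fun y => ?_
    obtain ⟨z, rfl⟩ := LinearMap.lTensor_surjective K (Submodule.mkQ_surjective N) y
    obtain ⟨t, rfl⟩ := surjective_of_isEpi_field (K := K) (C := C) z
    have h1 : N.mkQ 1 = 0 := (Submodule.Quotient.mk_eq_zero N).2 ⟨1, map_one (algebraMap A B)⟩
    simp [C, Algebra.TensorProduct.algebraMap_apply, h1]
  have hm : (⊤ : Submodule A (B ⧸ N)) ≤ m • ⊤ := by
    intro x _
    have : Subsingleton (((A : Type u) ⧸ m) ⊗[A] (B ⧸ N)) := hN
    have : Subsingleton ((B ⧸ N) ⧸ m • (⊤ : Submodule A (B ⧸ N))) :=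
      (TensorProduct.quotTensorEquivQuotSMul (B ⧸ N) m).symm.toEquiv.subsingleton
    exact (Submodule.Quotient.mk_eq_zero _).1
      (Subsingleton.elim (Submodule.Quotient.mk x : (B ⧸ N) ⧸ m • (⊤ : Submodule A (B ⧸ N))) 0)
  have hpow : ∀ n : ℕ, (⊤ : Submodule A (B ⧸ N)) ≤ m ^ n • ⊤ := by
    intro n
    induction n with
    | zero => simp
    | succ n ih =>
      rw [pow_succ, Submodule.mul_smul]
      exact ih.trans (Submodule.smul_mono le_rfl hm)
  obtain ⟨n, hn⟩ : IsNilpotent m := by
    have h := IsArtinianRing.isNilpotent_jacobson_bot (R := (A : Type u))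
    rwa [IsLocalRing.jacobson_eq_maximalIdeal _ bot_ne_top] at h
  intro b
  have := hpow n (Submodule.mem_top (x := N.mkQ b))
  rw [hn, Submodule.zero_eq_bot, Submodule.bot_smul, Submodule.mem_bot] at this
  obtain ⟨a, ha⟩ := (Submodule.Quotient.mk_eq_zero N).1 this
  exact ⟨a, ha⟩

/-- A monomorphism into a locally artinian scheme is locally quasi-finite of finite type. -/
theorem lqf_lft_of_mono {W U : Scheme.{u}} (g : W ⟶ U) [Mono g] [IsLocallyArtinian U] :
    LocallyQuasiFinite g ∧ LocallyOfFiniteType g := by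
  have hinj : Function.Injective g := g.injective
  have : DiscreteTopology W := DiscreteTopology.of_continuous_injective g.continuous hinj
  have hl : LocallyOfFiniteType g := by
    refine (IsZariskiLocalAtSource.iff_of_openCover (P := @LocallyOfFiniteType)
      (W.openCoverOfIsOpenCover (fun w : W => (⟨{w}, isOpen_discrete _⟩ : W.Opens))
        (TopologicalSpace.IsOpenCover.mk (eq_top_iff.2 fun w _ =>
          TopologicalSpace.Opens.mem_iSup.2 ⟨w, rfl⟩)))).2 fun w => ?_
    let Ww : W.Opens := ⟨{w}, isOpen_discrete _⟩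
    let Uu : U.Opens := ⟨{g w}, isOpen_discrete _⟩
    show LocallyOfFiniteType (Ww.ι ≫ g)
    have hle : Ww ≤ g ⁻¹ᵁ Uu := fun z (hz : z = w) => congrArg g hz
    rw [← g.resLE_comp_ι hle]
    suffices IsClosedImmersion (g.resLE Uu Ww hle) by infer_instance
    have hWa : IsAffine (Ww : Scheme.{u}) := by
      obtain ⟨_, ⟨A, hA, rfl⟩, hwA, hAW⟩ :=
        W.isBasis_affineOpens.exists_subset_of_mem_open (show w ∈ (Ww : Set W) from rfl) Ww.2
      have : A = Ww := le_antisymm (fun z hz => hAW hz) fun z (hz : z = w) => hz ▸ hwA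
      exact this ▸ hA
    have hUa : IsAffineOpen Uu := by
      obtain ⟨_, ⟨A, hA, rfl⟩, hwA, hAW⟩ :=
        U.isBasis_affineOpens.exists_subset_of_mem_open (show g w ∈ (Uu : Set U) from rfl) Uu.2
      have : A = Uu := le_antisymm (fun z hz => hAW hz) fun z (hz : z = g w) => hz ▸ hwA
      exact this ▸ hA
    have : IsAffine (Uu : Scheme.{u}) := hUa
    have : IsLocallyArtinian (Uu : Scheme.{u}) := inferInstance
    have : Subsingleton (Uu : Scheme.{u}) := ⟨fun a b => Subtype.ext (a.2.trans b.2.symm)⟩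
    have : Nonempty (Uu : Scheme.{u}) := ⟨⟨g w, rfl⟩⟩
    let A := Γ((Uu : Scheme.{u}), ⊤)
    have hA : IsArtinianRing A := inferInstance
    let e := (Uu : Scheme.{u}).isoSpec.hom.homeomorph
    have : Subsingleton (PrimeSpectrum A) := e.symm.injective.subsingleton
    have : Nonempty (PrimeSpectrum A) := ⟨e (Classical.arbitrary _)⟩
    have : Nontrivial A := PrimeSpectrum.nonempty_iff_nontrivial.1 ‹_›
    have : IsLocalRing A := IsLocalRing.of_unique_max_ideal (by
      obtain ⟨p, hp⟩ := Ideal.exists_maximal A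
      exact ⟨p, hp, fun q hq => congrArg PrimeSpectrum.asIdeal
        (Subsingleton.elim (⟨q, hq.isPrime⟩ : PrimeSpectrum A) ⟨p, hp.isPrime⟩)⟩)
    let h := g.resLE Uu Ww hle
    have : Mono (h ≫ Uu.ι) := by rw [g.resLE_comp_ι hle]; infer_instance
    have : Mono h := mono_of_mono h Uu.ι
    have : Mono (Spec.map h.appTop) := by
      have : Mono (h ≫ (Uu : Scheme.{u}).isoSpec.hom) := inferInstance
      rw [← Scheme.isoSpec_hom_naturality h] at this
      have e' : Spec.map h.appTop = (Ww : Scheme.{u}).isoSpec.inv ≫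
          ((Ww : Scheme.{u}).isoSpec.hom ≫ Spec.map h.appTop) := by simp
      rw [e']
      infer_instance
    have : Epi h.appTop := by
      have : Mono (Scheme.Spec.map h.appTop.op) := ‹Mono (Spec.map h.appTop)›
      have := (Scheme.Spec).mono_of_mono_map this
      exact unop_epi_of_mono h.appTop.op
    exact IsClosedImmersion.of_surjective_of_isAffine h (surjective_of_epi_artinian h.appTop)
  exact ⟨LocallyQuasiFinite.of_injective hinj, hl⟩

section Field

variable {k : Type u} [Field k]

/-- A singleton open is affine. -/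
theorem isAffineOpen_singleton {W : Scheme.{u}} [DiscreteTopology W] (w : W) :
    IsAffineOpen (⟨{w}, isOpen_discrete _⟩ : W.Opens) := by
  obtain ⟨_, ⟨A, hA, rfl⟩, hwA, hAW⟩ :=
    W.isBasis_affineOpens.exists_subset_of_mem_open (show w ∈ ({w} : Set W) from rfl) (isOpen_discrete _)
  have : A = ⟨{w}, isOpen_discrete _⟩ := le_antisymm (fun z hz => hAW hz) fun z (hz : z = w) => hz ▸ hwA
  exact this ▸ hA

/-- A locally quasi-finite space over a field is a scheme. -/
theorem exists_scheme (X : Space (Spec (CommRingCat.of k)))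
    (p : X.obj ⟶ (yon (Spec (CommRingCat.of k))).obj (Over.mk (𝟙 _)))
    (hp : LocP (@LocallyQuasiFinite ⊓ @LocallyOfFiniteType : MorphismProperty Scheme.{u}) p) :
    ∃ (U : Over (Spec (CommRingCat.of k))) (_ : (yon (Spec (CommRingCat.of k))).obj U ≅ X.obj),
      LocallyQuasiFinite U.hom ∧ LocallyOfFiniteType U.hom ∧ IsLocallyArtinian U.left := by
  obtain ⟨hl, hd⟩ := (Groth.Agent.S10482.result k X p).1 hp
  obtain ⟨U, e, -, -⟩ := exists_scheme_of_field_dim_zero X p hl hd
  let t : U ⟶ Over.mk (𝟙 (Spec (CommRingCat.of k))) := Over.homMk U.hom (Category.comp_id _)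
  obtain ⟨h₁, h₂⟩ := hp e.hom (𝟙 _) t (repWith_isIso _) (repWith_id @Etale _)
    ((Over.mkIdTerminal.isTerminalObj (yon _) _).hom_ext _ _)
  have : LocallyQuasiFinite U.hom := h₁
  exact ⟨U, e, h₁, h₂, IsLocallyArtinian.of_locallyQuasiFinite U.hom⟩

theorem locP_of_iso_chart (X : Space (Spec (CommRingCat.of k)))
    (p : X.obj ⟶ (yon (Spec (CommRingCat.of k))).obj (Over.mk (𝟙 _)))
    {U : Over (Spec (CommRingCat.of k))} (e : (yon (Spec (CommRingCat.of k))).obj U ≅ X.obj)
    (h₁ : LocallyQuasiFinite U.hom) (h₂ : LocallyOfFiniteType U.hom) :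
    LocP (@LocallyQuasiFinite ⊓ @LocallyOfFiniteType : MorphismProperty Scheme.{u}) p := by
  let t : U ⟶ Over.mk (𝟙 (Spec (CommRingCat.of k))) := Over.homMk U.hom (Category.comp_id _)
  exact Groth.AlgSpBasic.locP_of_chart X.property.diag (IsAlgSpace.yon_obj _).diag
    (repWith_isIso (P := @Etale) e.hom) (repWith_isIso (P := @Surjective) e.hom) (repWith_id @Etale _)
    (h := t) ((Over.mkIdTerminal.isTerminalObj (yon _) _).hom_ext _ _) ⟨h₁, h₂⟩

theorem locP_comp_of_mono {X Y : Space (Spec (CommRingCat.of k))} (f : X.obj ⟶ Y.obj) [Mono f]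
    (q : Y.obj ⟶ (yon (Spec (CommRingCat.of k))).obj (Over.mk (𝟙 _)))
    (hq : LocP (@LocallyQuasiFinite ⊓ @LocallyOfFiniteType : MorphismProperty Scheme.{u}) q) :
    LocP (@LocallyQuasiFinite ⊓ @LocallyOfFiniteType : MorphismProperty Scheme.{u}) (f ≫ q) := by
  obtain ⟨U, e, h₁, h₂, hU⟩ := exists_scheme Y q hq
  obtain ⟨W, ⟨r⟩⟩ := isRepresentable_of_mono_discrete U X (f ≫ e.inv)
  let e' := isoOfRepresentableBy r
  obtain ⟨m, hm⟩ := (yon (Spec (CommRingCat.of k))).map_surjective (e'.hom ≫ f ≫ e.inv)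
  have : Mono ((yon (Spec (CommRingCat.of k))).map m) := by rw [hm]; infer_instance
  have : Mono m := (yon (Spec (CommRingCat.of k))).mono_of_mono_map this
  obtain ⟨g₁, g₂⟩ := lqf_lft_of_mono m.left
  refine locP_of_iso_chart X _ e' ?_ ?_ <;> rw [← Over.w m] <;> infer_instance

theorem lqf_iff_artinian_pieces (X : Space (Spec (CommRingCat.of k)))
    (p : X.obj ⟶ (yon (Spec (CommRingCat.of k))).obj (Over.mk (𝟙 _))) :
    LocP (@LocallyQuasiFinite ⊓ @LocallyOfFiniteType : MorphismProperty Scheme.{u}) p ↔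
      ∃ (U : Over (Spec (CommRingCat.of k))) (_ : (yon (Spec (CommRingCat.of k))).obj U ≅ X.obj),
        ∀ z : ↥U.left, ∃ V : U.left.Opens,
          z ∈ V ∧ IsAffineOpen V ∧ IsArtinianRing ↥Γ(U.left, V) ∧ IsLocalRing ↥Γ(U.left, V) ∧
            IsFinite (V.ι ≫ U.hom) := by
  constructor
  · intro hp
    obtain ⟨U, e, h₁, h₂, hU⟩ := exists_scheme X p hp
    refine ⟨U, e, fun z => ?_⟩
    let V : U.left.Opens := ⟨{z}, isOpen_discrete _⟩
    have hV : IsAffineOpen V := isAffineOpen_singleton z
    have hA : IsArtinianRing ↥Γ(U.left, V) := IsLocallyArtinian.isArtinianRing_presheaf_obj ⟨V, hV⟩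
    have hs : Subsingleton (PrimeSpectrum Γ(U.left, V)) :=
      ⟨fun a b => hV.fromSpec.isOpenEmbedding.injective
        ((hV.range_fromSpec.le ⟨a, rfl⟩).trans (hV.range_fromSpec.le ⟨b, rfl⟩).symm)⟩
    have : Nonempty (PrimeSpectrum Γ(U.left, V)) := by
      obtain ⟨a, -⟩ := hV.range_fromSpec.ge (show z ∈ (V : Set U.left) from rfl)
      exact ⟨a⟩
    have : Nontrivial Γ(U.left, V) := PrimeSpectrum.nonempty_iff_nontrivial.1 ‹_›
    have hL : IsLocalRing ↥Γ(U.left, V) := IsLocalRing.of_unique_max_ideal (by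
      obtain ⟨P, hP⟩ := Ideal.exists_maximal Γ(U.left, V)
      exact ⟨P, hP, fun Q hQ => congrArg PrimeSpectrum.asIdeal
        (hs.elim (⟨Q, hQ.isPrime⟩ : PrimeSpectrum Γ(U.left, V)) ⟨P, hP.isPrime⟩)⟩)
    have : IsAffine (V : Scheme.{u}) := hV
    exact ⟨V, rfl, hV, hA, hL, IsFinite.of_locallyQuasiFinite (V.ι ≫ U.hom)⟩
  · rintro ⟨U, e, h⟩
    choose V hzV _ _ _ hf using h
    have hc : TopologicalSpace.IsOpenCover V :=
      TopologicalSpace.IsOpenCover.mk (eq_top_iff.2 fun z _ => TopologicalSpace.Opens.mem_iSup.2 ⟨z, hzV z⟩)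
    refine locP_of_iso_chart X p e ?_ ?_
    · refine (IsZariskiLocalAtSource.iff_of_openCover (P := @LocallyQuasiFinite)
        (U.left.openCoverOfIsOpenCover V hc)).2 fun z => ?_
      show LocallyQuasiFinite ((V z).ι ≫ U.hom)
      have := hf z
      infer_instance
    · refine (IsZariskiLocalAtSource.iff_of_openCover (P := @LocallyOfFiniteType)
        (U.left.openCoverOfIsOpenCover V hc)).2 fun z => ?_
      show LocallyOfFiniteType ((V z).ι ≫ U.hom)
      have := hf z
      infer_instance

end Field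

end

end Groth.AlgSp2.MonoArtinian
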