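import Groth.Agent.AlgSp2.FlatMono
import Groth.Agent.AlgSp2.InfGlue
import Groth.Agent.AlgSpBasic.LocP
import Groth.Agent.Pi1UnivInj.Descent
import Mathlib.Algebra.TrivSqZeroExt.Basic
import Mathlib.AlgebraicGeometry.Morphisms.Flat

/-!
# Quasi-compact monomorphisms of algebraic spaces with injective sections
-/

set_option autoImplicit false
set_option backward.isDefEq.respectTransparency.types false
universe u

open CategoryTheory CategoryTheory.Limits AlgebraicGeometry AlgSp TopologicalSpace TensorProduct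

namespace Groth.AlgSp2

open Groth.AlgSpBasic

noncomputable section

/-- Global sections vanish if they vanish after a flat surjection. -/
theorem appTop_eq_zero_of_flat_surjective {W' W : Scheme.{u}} (w : W' ⟶ W) [Flat w] [Surjective w]
    (s : Γ(W, ⊤)) (h : w.appTop.hom s = 0) : s = 0 := by
  let P := ULift.{u} (Polynomial ℤ)
  let φ : Γ(W, ⊤) → (CommRingCat.of P ⟶ Γ(W, ⊤)) := fun x => CommRingCat.ofHom
    ((Polynomial.eval₂RingHom (Int.castRingHom Γ(W, ⊤)) x).comp ULift.ringEquiv.toRingHom)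
  have hφ : ∀ x, (φ x).hom ⟨Polynomial.X⟩ = x := fun x => by simp [φ, ULift.ringEquiv]
  have hw : φ s ≫ w.appTop = φ 0 ≫ w.appTop := by
    refine CommRingCat.hom_ext (RingHom.ext fun p => ?_)
    obtain ⟨p⟩ := p
    change w.appTop.hom (Polynomial.eval₂ _ s p) = w.appTop.hom (Polynomial.eval₂ _ 0 p)
    rw [Polynomial.hom_eval₂, Polynomial.hom_eval₂, h, map_zero]
  have : Epi w := Flat.epi_of_flat_of_surjective w
  have e : W.toSpecΓ ≫ Spec.map (φ s) = W.toSpecΓ ≫ Spec.map (φ 0) := by
    rw [← cancel_epi w, ← Category.assoc, ← Category.assoc, Scheme.toSpecΓ_naturality,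
      Category.assoc, Category.assoc, ← Spec.map_comp, ← Spec.map_comp, hw]
  have e' := congrArg Scheme.Hom.appTop e
  rw [Scheme.Hom.comp_appTop, Scheme.Hom.comp_appTop, Scheme.toSpecΓ_appTop,
    Scheme.ΓSpecIso_naturality, Scheme.ΓSpecIso_naturality, cancel_epi] at e'
  rw [← hφ s, e', hφ]

/-- An element killed by tensoring vanishes on schemes mapping compatibly to both algebras. -/
theorem appTop_inr_eq_zero {A B C : Type u} [CommRing A] [CommRing B] [CommRing C] [Algebra A B]
    [Algebra A C] {M : Type u} [AddCommGroup M] [Module A M] (i : M →ₗ[A] C) (m : M)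
    (hm : m ⊗ₜ[A] (1 : B) = 0) {W : Scheme.{u}} (u : W ⟶ Spec (CommRingCat.of C))
    (v : W ⟶ Spec (CommRingCat.of B))
    (e : u ≫ Spec.map (CommRingCat.ofHom (algebraMap A C)) =
      v ≫ Spec.map (CommRingCat.ofHom (algebraMap A B))) :
    u.appTop.hom ((Scheme.ΓSpecIso (CommRingCat.of C)).inv.hom (i m)) = 0 := by
  let χ : CommRingCat.of C ⟶ Γ(W, ⊤) := (Scheme.ΓSpecIso _).inv ≫ u.appTop
  let ψ : CommRingCat.of B ⟶ Γ(W, ⊤) := (Scheme.ΓSpecIso _).inv ≫ v.appTop
  have hA : CommRingCat.ofHom (algebraMap A C) ≫ χ = CommRingCat.ofHom (algebraMap A B) ≫ ψ := by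
    have := congrArg (fun h => (Scheme.ΓSpecIso _).inv ≫ Scheme.Hom.appTop h) e
    simp only [Scheme.Hom.comp_appTop] at this
    rw [← Scheme.ΓSpecIso_inv_naturality_assoc, ← Scheme.ΓSpecIso_inv_naturality_assoc] at this
    exact this
  let := (ψ.hom.comp (algebraMap A B)).toAlgebra
  let χ' : C →ₐ[A] Γ(W, ⊤) := { χ.hom with commutes' := fun x => congr(($hA).hom x) }
  let ψ' : B →ₐ[A] Γ(W, ⊤) := { ψ.hom with commutes' := fun _ => rfl }
  have h0 : i.rTensor B (m ⊗ₜ[A] (1 : B)) = 0 := by rw [hm, map_zero]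
  rw [LinearMap.rTensor_tmul] at h0
  have h1 := congrArg (Algebra.TensorProduct.lift χ' ψ' fun _ _ => mul_comm _ _) h0
  rw [map_zero, Algebra.TensorProduct.lift_tmul, map_one, mul_one] at h1
  exact h1

variable {S : Scheme.{u}} {X Y : Sp S}

/-- Injectivity on sections makes affine charts of the fibres universally injective. -/
theorem universallyInjective_chart (f : X ⟶ Y)
    (hinj : ∀ (T : Over S) (g : (yon S).obj T ⟶ Y) (P : Sp S) (fst : P ⟶ X)
      (snd : P ⟶ (yon S).obj T), IsPullback fst snd f g →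
      ∀ s : Γ(T.left, ⊤),
        (∀ (W : Over S) (a : (yon S).obj W ⟶ P) (c : W ⟶ T),
          a ≫ snd = (yon S).map c → c.left.appTop s = 0) → s = 0)
    {A B : Type u} [CommRing A] [CommRing B] [Algebra A B] (str : Spec (CommRingCat.of A) ⟶ S)
    (g : (yon S).obj (Over.mk str) ⟶ Y) {P : Sp S} {fst : P ⟶ X}
    {snd : P ⟶ (yon S).obj (Over.mk str)} (sq : IsPullback fst snd f g)
    (a : (yon S).obj (Over.mk (Spec.map (CommRingCat.ofHom (algebraMap A B)) ≫ str)) ⟶ P)
    (hae : RepWith @Etale a) (has : RepWith @Surjective a)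
    (ha : a ≫ snd = (yon S).map (Over.homMk (Spec.map (CommRingCat.ofHom (algebraMap A B))) rfl :
      Over.mk (Spec.map (CommRingCat.ofHom (algebraMap A B)) ≫ str) ⟶ Over.mk str))
    (M : Type u) [AddCommGroup M] [Module A M] :
    Function.Injective (LinearMap.lTensor M (Algebra.linearMap A B)) := by
  rw [injective_iff_map_eq_zero]
  intro z hz
  obtain ⟨m, rfl⟩ : ∃ m : M, m ⊗ₜ[A] (1 : A) = z :=
    ⟨TensorProduct.rid A M z, (TensorProduct.rid A M).injective (by simp)⟩
  rw [LinearMap.lTensor_tmul, Algebra.linearMap_apply, map_one] at hz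
  let : Module Aᵐᵒᵖ M := Module.compHom M ((RingHom.id A).fromOpposite fun _ _ => mul_comm _ _)
  have : IsCentralScalar A M := ⟨fun _ _ => rfl⟩
  let C := TrivSqZeroExt A M
  let q : Over.mk (Spec.map (CommRingCat.ofHom (algebraMap A C)) ≫ str) ⟶ Over.mk str :=
    Over.homMk (Spec.map (CommRingCat.ofHom (algebraMap A C))) rfl
  let σ := Scheme.ΓSpecIso (CommRingCat.of C)
  have key : σ.inv.hom (TrivSqZeroExt.inr m) = 0 := by
    refine hinj _ ((yon S).map q ≫ g) _ _ _ (IsPullback.of_hasPullback f ((yon S).map q ≫ g)) _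
      fun W b c hbc => ?_
    let b' : (yon S).obj W ⟶ P := sq.lift (b ≫ pullback.fst _ _) ((yon S).map (c ≫ q)) (by
      rw [Category.assoc, pullback.condition, ← Category.assoc, hbc, Functor.map_comp, Category.assoc])
    obtain ⟨W₁, w₁, fst₁, sq₁⟩ := hae.rep b'
    have : Etale w₁.left := hae.property b' fst₁ w₁ sq₁
    have : Surjective w₁.left := has.property b' fst₁ w₁ sq₁
    obtain ⟨w₂, rfl⟩ := (yon S).map_surjective fst₁
    have e : w₁ ≫ c ≫ q = w₂ ≫ (Over.homMk (Spec.map (CommRingCat.ofHom (algebraMap A B))) rfl :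
        Over.mk (Spec.map (CommRingCat.ofHom (algebraMap A B)) ≫ str) ⟶ Over.mk str) := by
      refine (yon S).map_injective ?_
      rw [Functor.map_comp, Functor.map_comp _ w₂, ← ha, ← Category.assoc ((yon S).map w₂), sq₁.w,
        Category.assoc, sq.lift_snd]
    refine appTop_eq_zero_of_flat_surjective w₁.left _ ?_
    exact appTop_inr_eq_zero (TrivSqZeroExt.inrHom A M) m hz (w₁.left ≫ c.left) w₂.left
      ((Category.assoc _ _ _).trans (congrArg CommaMorphism.left e))
  have : (TrivSqZeroExt.inr m : C) = 0 :=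
    (map_eq_zero_iff _ (ConcreteCategory.bijective_of_isIso σ.inv).1).1 key
  have hm : m = 0 := by simpa using congrArg TrivSqZeroExt.snd this
  rw [hm, TensorProduct.zero_tmul]

/-- The key step: affine étale charts of the target lift. -/
theorem exists_lift_affine (hX : IsAlgSpace X) (hY : IsAlgSpace Y) (f : X ⟶ Y)
    (hqc : IsQuasiCompactMor f) [Mono f]
    (hinj : ∀ (T : Over S) (g : (yon S).obj T ⟶ Y) (P : Sp S) (fst : P ⟶ X)
      (snd : P ⟶ (yon S).obj T), IsPullback fst snd f g →
      ∀ s : Γ(T.left, ⊤),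
        (∀ (W : Over S) (a : (yon S).obj W ⟶ P) (c : W ⟶ T),
          a ≫ snd = (yon S).map c → c.left.appTop s = 0) → s = 0)
    (T : Over S) (g : (yon S).obj T ⟶ Y) (hT : IsAffine T.left) :
    ∃ l : (yon S).obj T ⟶ X, l ≫ f = g := by
  let A := Γ(T.left, ⊤)
  let str : Spec A ⟶ S := T.left.isoSpec.inv ≫ T.hom
  let ι : Over.mk str ≅ T := Over.isoMk T.left.isoSpec.symm rfl
  let g' := (yon S).map ι.hom ≫ g
  suffices h : ∃ l : (yon S).obj (Over.mk str) ⟶ X, l ≫ f = g' by
    obtain ⟨l, hl⟩ := h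
    exact ⟨(yon S).map ι.inv ≫ l, by rw [Category.assoc, hl, ← Functor.map_comp_assoc]; simp⟩
  have sq := IsPullback.of_hasPullback f g'
  have : Mono (pullback.snd f g') := mono_fst_of_isPullback sq.flip
  have hP : IsAlgSpace (pullback f g') :=
    AlgSpBasic.isAlgSpace_of_isPullback sq hY.diag hX (IsAlgSpace.yon_obj _)
  have : IsAffine (Over.mk str).left := inferInstanceAs (IsAffine (Spec A))
  obtain ⟨V, a₀, hV, hae₀, has₀⟩ := AlgSpBasic.exists_affine_chart hP
    (hqc (IsAlgSpace.yon_obj _) (isQuasiCompactSp_yon _) g' _ _ sq)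
  obtain ⟨α₀, hα₀⟩ := (yon S).map_surjective (a₀ ≫ pullback.snd f g')
  obtain ⟨ρ, hρ⟩ := Spec.map_surjective (V.left.isoSpec.inv ≫ α₀.left)
  let B := Γ(V.left, ⊤)
  algebraize [ρ.hom]
  let V' : Over S := Over.mk (Spec.map (CommRingCat.ofHom (algebraMap A B)) ≫ str)
  let κ : V' ≅ V := Over.isoMk V.left.isoSpec.symm (by
    rw [← Over.w α₀]
    change V.left.isoSpec.inv ≫ α₀.left ≫ str = Spec.map ρ ≫ str
    rw [hρ, Category.assoc])
  let α : V' ⟶ Over.mk str := Over.homMk (Spec.map (CommRingCat.ofHom (algebraMap A B))) rfl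
  have hκα : κ.hom ≫ α₀ = α := Over.OverMorphism.ext hρ.symm
  have : MorphismProperty.IsStableUnderComposition @Etale.{u} :=
    ⟨fun _ _ _ _ => inferInstance⟩
  let a := (yon S).map κ.hom ≫ a₀
  have hae : RepWith @Etale a := AlgSpBasic.repWith_comp
    ((repWith_yon_map_iff _ κ.hom).2 (inferInstanceAs (Etale V.left.isoSpec.inv))) hae₀
  have has : RepWith @Surjective a := AlgSpBasic.repWith_comp
    ((repWith_yon_map_iff _ κ.hom).2 (inferInstanceAs (Surjective V.left.isoSpec.inv))) has₀
  have ha : a ≫ pullback.snd f g' = (yon S).map α := by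
    rw [Category.assoc, ← hα₀, ← Functor.map_comp, hκα]
  have hU := universallyInjective_chart f hinj str g' sq a hae has ha
  obtain ⟨R, r₁, r₂, sqR⟩ := AlgSpBasic.exists_pullback_yon hae.rep a
  have : Etale r₁.left := hae.property _ _ _ sqR.flip
  have sqR' := isPullback_comp_mono (pullback.snd f g') sqR
  rw [ha] at sqR'
  have hsch := AlgSpBasic.isPullback_left (AlgSpBasic.isPullback_of_yon sqR')
  -- the base change of the chart to itself is étale
  have hBB : Algebra.Etale B (B ⊗[A] B) := by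
    have h1 := (IsPullback.of_hasPullback (Spec.map (CommRingCat.ofHom (algebraMap A B)))
      (Spec.map (CommRingCat.ofHom (algebraMap A B))))
    have h2 : Etale (pullback.fst (Spec.map (CommRingCat.ofHom (algebraMap A B)))
        (Spec.map (CommRingCat.ofHom (algebraMap A B)))) := by
      have : hsch.isoPullback.inv ≫ r₁.left = pullback.fst (Spec.map (CommRingCat.ofHom (algebraMap A B)))
          (Spec.map (CommRingCat.ofHom (algebraMap A B))) := hsch.isoPullback_inv_fst
      rw [← this]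
      exact MorphismProperty.comp_mem @Etale _ _ inferInstance ‹Etale r₁.left›
    have h3 : Etale (Spec.map (CommRingCat.ofHom (algebraMap B (B ⊗[A] B)))) := by
      rw [← pullbackSpecIso_inv_fst A B B]
      exact MorphismProperty.comp_mem @Etale _ _ inferInstance h2
    exact RingHom.etale_algebraMap.1 ((HasRingHomProperty.Spec_iff (P := @Etale)).1 h3)
  have hflat : Module.Flat A B := Groth.Pi1UnivInj.flat_of_flat_tensor hU B
  have hinjS := Groth.Pi1UnivInj.mk_one_injective hU
  have hff : Module.FaithfullyFlat A B := ⟨fun 𝔪 h𝔪 => by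
    intro htop
    have h1 : (1 : B) ∈ 𝔪 • (⊤ : Submodule A B) := by rw [htop]; exact Submodule.mem_top
    have h2 : ∀ y ∈ 𝔪 • (⊤ : Submodule A B), y ⊗ₜ[A] (1 : A ⧸ 𝔪) = 0 := fun y hy => by
      induction hy using Submodule.smul_induction_on' with
      | smul r hr n _ =>
        rw [TensorProduct.smul_tmul, Algebra.smul_def, mul_one, Ideal.Quotient.algebraMap_eq,
          Ideal.Quotient.eq_zero_iff_mem.2 hr, TensorProduct.tmul_zero]
      | add y _ z _ hy hz => rw [TensorProduct.add_tmul, hy, hz, add_zero]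
    have h3 : (1 : A ⧸ 𝔪) = 0 := hinjS (A ⧸ 𝔪) ((h2 1 h1).trans (TensorProduct.tmul_zero _ _).symm)
    exact h𝔪.ne_top ((Ideal.eq_top_iff_one _).2 (Ideal.Quotient.eq_zero_iff_mem.1 h3))⟩
  have hfl : Flat α.left :=
    (HasRingHomProperty.Spec_iff (P := @Flat)).2 (RingHom.flat_algebraMap_iff.2 hflat)
  have hs : Surjective α.left := ⟨fun p => PrimeSpectrum.comap_surjective_of_faithfullyFlat p⟩
  have : IsAffine V'.left := inferInstanceAs (IsAffine (Spec B))
  have : IsAffineHom α.left := inferInstance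
  have : Etale α.left := MorphismProperty.of_isPullback_of_descendsAlong
    (P := @Etale) (Q := @Surjective ⊓ @Flat ⊓ @QuasiCompact) hsch
    ⟨⟨hs, hfl⟩, inferInstance⟩ ‹Etale r₁.left›
  have := AlgSpBasic.isLocallySurjective_of_etale ((yon S).map α)
    ((repWith_yon_map_iff _ α).2 ‹Etale α.left›) ((repWith_yon_map_iff _ α).2 hs)
  have : Epi (pullback.snd f g') := epi_of_epi_fac ha
  have : IsIso (pullback.snd f g') := isIso_of_mono_of_epi _
  exact ⟨CategoryTheory.inv (pullback.snd f g') ≫ pullback.fst f g', by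
    rw [Category.assoc, pullback.condition, IsIso.inv_hom_id_assoc]⟩

/-- A quasi-compact monomorphism with injective sections is an isomorphism. -/
theorem isIso_of_qc_mono_of_sections_injective (hX : IsAlgSpace X) (hY : IsAlgSpace Y) (f : X ⟶ Y)
    (hqc : IsQuasiCompactMor f) [Mono f]
    (hinj : ∀ (T : Over S) (g : (yon S).obj T ⟶ Y) (P : Sp S) (fst : P ⟶ X)
      (snd : P ⟶ (yon S).obj T), IsPullback fst snd f g →
      ∀ s : Γ(T.left, ⊤),
        (∀ (W : Over S) (a : (yon S).obj W ⟶ P) (c : W ⟶ T),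
          a ≫ snd = (yon S).map c → c.left.appTop s = 0) → s = 0) : IsIso f := by
  obtain ⟨U, φ, hφ, hφs⟩ := hY.atlas
  have := AlgSpBasic.isLocallySurjective_of_etale φ hφ hφs
  have : Epi f := by
    constructor
    intro Z b₁ b₂ h
    rw [← cancel_epi φ]
    refine yon_hom_ext_of_openCover U.left.affineCover _ _ fun i => ?_
    obtain ⟨l, hl⟩ := exists_lift_affine hX hY f hqc hinj _
      ((yon S).map (Over.homMk (U.left.affineCover.f i) rfl :
        Over.mk (U.left.affineCover.f i ≫ U.hom) ⟶ U) ≫ φ)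
      (inferInstanceAs (IsAffine (U.left.affineCover.X i)))
    rw [← Category.assoc, ← Category.assoc, ← hl, Category.assoc, Category.assoc, h]
  exact isIso_of_mono_of_epi f

end

end Groth.AlgSp2
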