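import Groth.Agent.AlgSpBasic.DecentFiniteDense
import Groth.Agent.S10394
import Groth.Agent.S9821
import Groth.Prelude.Def_Pi1

/-!
# Normal integral affine charts of normal integral algebraic spaces
-/

set_option autoImplicit false
set_option backward.isDefEq.respectTransparency.types false
universe u

open CategoryTheory CategoryTheory.Limits AlgebraicGeometry AlgSp Groth.AlgSpBasic

namespace Groth.AlgSp2.NormalChart

noncomputable section

theorem codimZero_unique {A : Scheme.{u}} {x : A} [IsDomain ↥(A.presheaf.stalk x)] {η η' : A}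
    (h : η ⤳ x) (h' : η' ⤳ x) (h0 : ringKrullDim ↥(A.presheaf.stalk η) = 0)
    (h0' : ringKrullDim ↥(A.presheaf.stalk η') = 0) : η = η' := by
  let g : A := A.fromSpecStalk x ⟨⊥, Ideal.isPrime_bot⟩
  have key : ∀ z : A, z ⤳ x → ringKrullDim ↥(A.presheaf.stalk z) = 0 → g = z := by
    intro z hz hz0
    obtain ⟨p, rfl⟩ : z ∈ Set.range (A.fromSpecStalk x) := by
      rw [Scheme.range_fromSpecStalk]; exact hz
    exact eq_of_specializes_of_ringKrullDim_eq_zero hz0 _
      (((PrimeSpectrum.le_iff_specializes _ _).1 bot_le).map (A.fromSpecStalk x).continuous)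
  exact (key η h h0).symm.trans (key η' h' h0')

variable {S : Scheme.{u}} {X : Space S}

/-- Near every point a chart with normal domain stalks is affine, integral and normal. -/
theorem exists_nhd (hXi : IsIntegralSp X.obj) {U : Over S} {a : (yon S).obj U ⟶ X.obj}
    (ha : RepWith @Etale a)
    (hU : ∀ z : ↥U.left, IsDomain ↥(U.left.presheaf.stalk z) ∧
      IsIntegrallyClosed ↥(U.left.presheaf.stalk z)) (z : ↥U.left) :
    ∃ W : U.left.Opens, z ∈ W ∧ IsAffineOpen W ∧ IsIntegral (W : Scheme.{u}) ∧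
      IsIntegrallyClosed ↥Γ(U.left, W) := by
  obtain ⟨-, hd, hirr⟩ := hXi
  obtain ⟨A, hA, hzA, -⟩ := exists_isAffineOpen_mem_and_subset (U := (⊤ : U.left.Opens)) (x := z) trivial
  have : IsAffine (A : Scheme.{u}) := hA
  let UA : Over S := Over.mk (A.ι ≫ U.hom)
  let j : UA ⟶ U := Over.homMk A.ι rfl
  have haA : RepWith @Etale ((yon S).map j ≫ a) :=
    repWith_comp ((repWith_yon_map_iff _ j).2 (inferInstanceAs (Etale A.ι))) ha
  have : CompactSpace ↥UA.left := inferInstanceAs (CompactSpace (A : Scheme.{u}))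
  let M : Set ↥UA.left := {w | ringKrullDim ↥(UA.left.presheaf.stalk w) = 0}
  have hgen : ∀ w ∈ M, IsGenericPoint (AlgSp.Points.ofPt ((yon S).map j ≫ a) w) Set.univ := by
    intro w hw
    obtain ⟨T, hT, hg⟩ := (Groth.Agent.S10394.result X hd _).2
      ⟨UA, (yon S).map j ≫ a, w, haA, rfl, hw⟩
    have : T = Set.univ := by
      have := irreducibleComponents_eq_singleton (X := AlgSp.Points X.obj)
      rw [this] at hT
      exact hT
    rwa [← this]
  have hfin : M.Finite := by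
    rcases M.eq_empty_or_nonempty with h | ⟨w₀, hw₀⟩
    · rw [h]; exact Set.finite_empty
    refine (finite_setOf_ofPt_eq hd haA (AlgSp.Points.ofPt ((yon S).map j ≫ a) w₀)).subset
      fun w hw => ?_
    have := hirr
    have e₁ := hgen w hw
    have e₂ := hgen w₀ hw₀
    have : T0Space (AlgSp.Points X.obj) := t0Space_of_isDecent X.property hd
    exact e₁.eq e₂
  let zA : ↥UA.left := ⟨z, hzA⟩
  have hdom : ∀ w : ↥UA.left, IsDomain ↥(UA.left.presheaf.stalk w) ∧
      IsIntegrallyClosed ↥(UA.left.presheaf.stalk w) := fun w => by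
    obtain ⟨h₁, h₂⟩ := hU (A.ι w)
    let e := (asIso ((A.ι).stalkMap w)).commRingCatIsoToRingEquiv
    exact ⟨e.symm.injective.isDomain e.symm.toRingHom, IsIntegrallyClosed.of_equiv e⟩
  obtain ⟨η, hη, hη0⟩ := exists_codimZero_specializes zA
  let C : Set ↥UA.left := ⋃ w ∈ M \ {η}, closure {w}
  have hC : IsClosed C := hfin.sdiff.isClosed_biUnion fun w _ => isClosed_closure
  have hzC : zA ∉ C := by
    simp only [C, Set.mem_iUnion, not_exists]
    intro w hw hmem
    have := (hdom zA).1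
    exact hw.2 (codimZero_unique (specializes_iff_mem_closure.2 hmem) hη hw.1 hη0)
  have hpre : ∀ w ∈ Cᶜ, η ⤳ w := by
    intro w hw
    obtain ⟨η', hη', h0⟩ := exists_codimZero_specializes w
    by_cases e : η' = η
    · exact e ▸ hη'
    · exact (hw (Set.mem_biUnion (show η' ∈ M \ {η} from ⟨h0, e⟩)
        (specializes_iff_mem_closure.1 hη'))).elim
  obtain ⟨W', hW', hzW', hW'C⟩ :=
    exists_isAffineOpen_mem_and_subset (U := (⟨Cᶜ, hC.isOpen_compl⟩ : UA.left.Opens)) (x := zA) hzC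
  have hWa : IsAffineOpen (A.ι ''ᵁ W') := hW'.image_of_isOpenImmersion A.ι
  have : Nonempty ↥(A.ι ''ᵁ W') := ⟨⟨z, ⟨zA, hzW', rfl⟩⟩⟩
  have hirrW : IrreducibleSpace ↥(A.ι ''ᵁ W') := by
    have hg : (IsIrreducible ((A.ι ''ᵁ W' : U.left.Opens) : Set U.left)) := by
      have hW : IsIrreducible (W' : Set ↥UA.left) := by
        refine ⟨⟨zA, hzW'⟩, fun O₁ O₂ h₁ h₂ ⟨w₁, hw₁, hw₁'⟩ ⟨w₂, hw₂, hw₂'⟩ => ?_⟩
        exact ⟨η, (hη.mem_open W'.2 hzW'), (hpre w₁ (hW'C hw₁)).mem_open h₁ hw₁',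
          (hpre w₂ (hW'C hw₂)).mem_open h₂ hw₂'⟩
      exact hW.image _ A.ι.continuous.continuousOn
    exact { toPreirreducibleSpace := Subtype.preirreducibleSpace hg.2, toNonempty := ‹_› }
  have hsr : ∀ w : ↥(A.ι ''ᵁ W' : Scheme.{u}), IsDomain ↥((A.ι ''ᵁ W' : Scheme.{u}).presheaf.stalk w) ∧
      IsIntegrallyClosed ↥((A.ι ''ᵁ W' : Scheme.{u}).presheaf.stalk w) := fun w => by
    obtain ⟨h₁, h₂⟩ := hU ((A.ι ''ᵁ W').ι w)
    let e := (asIso (((A.ι ''ᵁ W').ι).stalkMap w)).commRingCatIsoToRingEquiv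
    exact ⟨e.symm.injective.isDomain e.symm.toRingHom, IsIntegrallyClosed.of_equiv e⟩
  have : ∀ w : ↥(A.ι ''ᵁ W' : Scheme.{u}), _root_.IsReduced ↥((A.ι ''ᵁ W' : Scheme.{u}).presheaf.stalk w) :=
    fun w => by have := (hsr w).1; infer_instance
  have : IsReduced (A.ι ''ᵁ W' : Scheme.{u}) := isReduced_of_isReduced_stalk _
  have : IrreducibleSpace (A.ι ''ᵁ W' : Scheme.{u}) := hirrW
  have hint : IsIntegral (A.ι ''ᵁ W' : Scheme.{u}) := isIntegral_of_irreducibleSpace_of_isReduced _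
  refine ⟨A.ι ''ᵁ W', ⟨zA, hzW', rfl⟩, hWa, hint, ?_⟩
  have : IsAffine (A.ι ''ᵁ W' : Scheme.{u}) := hWa
  have h₀ := (Groth.Agent.S9821.result (A.ι ''ᵁ W' : Scheme.{u})).1 hsr
  have h := @h₀ ⊤ ⟨⟨⟨z, ⟨zA, hzW', rfl⟩⟩, trivial⟩⟩ (isAffineOpen_top _)
  exact IsIntegrallyClosed.of_equiv (A.ι ''ᵁ W').topIso.commRingCatIsoToRingEquiv

end

end Groth.AlgSp2.NormalChart
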