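import Groth.Agent.AlgSp2.CancelSep
import Groth.Agent.AlgSp2.AffineRows
import Groth.Agent.AlgSp2.AffineCriteria
import Groth.Agent.AlgSp2.LocPFpqc
import Groth.Agent.AlgSp2.Locality
import Groth.Agent.AlgSp2.FppfProps
import Groth.Agent.AlgSp2.ImmersionLocality

/-!
# Separatedness tested on the pieces of an etale covering
-/

set_option autoImplicit false
set_option backward.isDefEq.respectTransparency.types false
universe u

open CategoryTheory CategoryTheory.Limits AlgebraicGeometry AlgSp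
open Groth.AlgSpBasic Groth.EtaleBase

namespace Groth.AlgSp2

noncomputable section

variable {S : Scheme.{u}}

theorem locP_flat_lfp_of_isEtaleMor {X Y : Sp S} {f : X ⟶ Y} (h : IsEtaleMor f) :
    LocP @Flat f ∧ LocP @LocallyOfFinitePresentation f :=
  ⟨locP_mono (fun _ _ k (_ : Etale k) => (inferInstance : Flat k)) (locP_of_isEtaleMor h),
    locP_mono (fun _ _ k (_ : Etale k) => (inferInstance : LocallyOfFinitePresentation k))
      (locP_of_isEtaleMor h)⟩

/-- An immersion with closed image is a closed immersion. -/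
theorem repWith_isClosedImmersion_of_isImmersion {X Y : Sp S} {f : X ⟶ Y}
    (h : RepWith @IsImmersion f) (hc : IsClosed (Set.range (Points.map f))) :
    RepWith @IsClosedImmersion f := by
  refine ⟨h.rep, fun U V g fst snd sq => ?_⟩
  have : IsImmersion snd.left := h.property g fst snd sq
  have h' : IsPreimmersion snd.left := this.toIsPreimmersion
  refine @IsClosedImmersion.of_isPreimmersion _ _ _ h' ?_
  suffices e : Set.range snd.left = Points.ofPt g ⁻¹' Set.range (Points.map f) by
    show IsClosed (Set.range snd.left)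
    rw [e]
    exact hc.preimage (Points.continuous_ofPt g)
  refine Set.ext fun t => ?_
  constructor
  · rintro ⟨v, rfl⟩
    exact ⟨_, (map_eq_ofPt_iff sq (Points.ofPt fst v) _).2 ⟨v, rfl, rfl⟩⟩
  · rintro ⟨y, hy⟩
    obtain ⟨v, -, hv⟩ := (map_eq_ofPt_iff sq y t).1 hy
    exact ⟨v, hv⟩

/-- The comparison map of fibre products, read off arbitrary fibre product squares. -/
theorem repWith_mapDesc_of_squares {P : MorphismProperty Scheme.{u}} [P.RespectsIso]
    [P.IsStableUnderBaseChange] [P.IsStableUnderComposition] [P.ContainsIdentities]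
    {A B X Y PX PY : Sp S} {a : A ⟶ X} {b : B ⟶ X} (g : X ⟶ Y) {p₁ : PX ⟶ A} {p₂ : PX ⟶ B}
    (hX : IsPullback p₁ p₂ a b) {q₁ : PY ⟶ A} {q₂ : PY ⟶ B}
    (hY : IsPullback q₁ q₂ (a ≫ g) (b ≫ g)) {c : PX ⟶ PY} (h₁ : c ≫ q₁ = p₁) (h₂ : c ≫ q₂ = p₂)
    (hc : RepWith P c) : RepWith P (pullback.mapDesc a b g) := by
  have e : pullback.mapDesc a b g = hX.isoPullback.inv ≫ c ≫ hY.isoPullback.hom := by
    apply pullback.hom_ext
    · rw [pullback.mapDesc, pullback.map, pullback.lift_fst, Category.comp_id, Category.assoc,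
        Category.assoc, IsPullback.isoPullback_hom_fst, h₁, IsPullback.isoPullback_inv_fst]
    · rw [pullback.mapDesc, pullback.map, pullback.lift_snd, Category.comp_id, Category.assoc,
        Category.assoc, IsPullback.isoPullback_hom_snd, h₂, IsPullback.isoPullback_inv_snd]
  rw [e]
  exact repWith_comp (repWith_isIso _) (repWith_comp hc (repWith_isIso _))

theorem repWith_mapDesc_self_of_mono {A X Y : Sp S} (a : A ⟶ X) [Mono a] (g : X ⟶ Y)
    (h : IsSeparatedMor (a ≫ g)) : RepWith @IsClosedImmersion (pullback.mapDesc a a g) := by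
  have e : pullback.mapDesc a a g = inv (pullback.diagonal a) ≫ pullback.diagonal (a ≫ g) := by
    rw [IsIso.eq_inv_comp]
    apply pullback.hom_ext
    · rw [Category.assoc, pullback.mapDesc, pullback.map, pullback.lift_fst, Category.comp_id,
        pullback.diagonal_fst, pullback.diagonal_fst]
    · rw [Category.assoc, pullback.mapDesc, pullback.map, pullback.lift_snd, Category.comp_id,
        pullback.diagonal_snd, pullback.diagonal_snd]
  rw [e]
  exact repWith_comp (repWith_isIso _) h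

/-- Separatedness is tested on the products of the members of an etale covering of the source. -/
theorem isSeparatedMor_of_pieces {X Y : Sp S} (hX : IsAlgSpace X) (hY : IsAlgSpace Y)
    (g : X ⟶ Y) {ι : Type u} {A : ι → Sp S} (a : ∀ i, A i ⟶ X) (hA : ∀ i, IsAlgSpace (A i))
    (hcov : IsEtCover A a)
    (h : ∀ i k, RepWith @IsClosedImmersion (pullback.mapDesc (a i) (a k) g)) :
    IsSeparatedMor g := by
  have hXX : IsAlgSpace (pullback g g) := isAlgSpace_pullback ⟨X, hX⟩ ⟨X, hX⟩ ⟨Y, hY⟩ g g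
  let Z : ι → Sp S := fun i => pullback (a i ≫ g) g
  let m₁ : ∀ i, Z i ⟶ pullback g g := fun i =>
    pullback.lift (pullback.fst _ _ ≫ a i) (pullback.snd _ _)
      (by rw [Category.assoc]; exact pullback.condition)
  let T : ι × ι → Sp S := fun p => pullback (a p.1 ≫ g) (a p.2 ≫ g)
  let m₂ : ∀ p : ι × ι, T p ⟶ Z p.1 := fun p =>
    pullback.lift (pullback.fst _ _) (pullback.snd _ _ ≫ a p.2)
      (by rw [Category.assoc]; exact pullback.condition)
  have sq₁ : ∀ i, IsPullback (m₁ i) (pullback.fst (a i ≫ g) g) (pullback.fst g g) (a i) := fun i =>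
    IsPullback.of_right (by rw [show m₁ i ≫ pullback.snd g g = pullback.snd _ _ from
      pullback.lift_snd _ _ _]; exact (IsPullback.of_hasPullback (a i ≫ g) g).flip)
      (pullback.lift_fst _ _ _) (IsPullback.of_hasPullback g g).flip
  have sq₂ : ∀ p : ι × ι, IsPullback (m₂ p) (pullback.snd (a p.1 ≫ g) (a p.2 ≫ g))
      (pullback.snd (a p.1 ≫ g) g) (a p.2) := fun p =>
    IsPullback.of_right (by rw [show m₂ p ≫ pullback.fst (a p.1 ≫ g) g = pullback.fst _ _ from
      pullback.lift_fst _ _ _]; exact IsPullback.of_hasPullback _ _)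
      (pullback.lift_snd _ _ _) (IsPullback.of_hasPullback (a p.1 ≫ g) g)
  have hZ : ∀ i, IsAlgSpace (Z i) := fun i =>
    isAlgSpace_pullback ⟨_, hA i⟩ ⟨X, hX⟩ ⟨Y, hY⟩ _ _
  have hT : ∀ p, IsAlgSpace (T p) := fun p =>
    isAlgSpace_pullback ⟨_, hA p.1⟩ ⟨_, hA p.2⟩ ⟨Y, hY⟩ _ _
  let π : ∀ p, T p ⟶ pullback g g := fun p => m₂ p ≫ m₁ p.1
  have hπe : ∀ p, π p = pullback.map (a p.1 ≫ g) (a p.2 ≫ g) g g (a p.1) (a p.2) (𝟙 Y)
      (Category.comp_id _) (Category.comp_id _) := fun p => by
    apply pullback.hom_ext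
    · simp only [π, m₁, m₂, pullback.map]
      rw [Category.assoc, pullback.lift_fst, pullback.lift_fst, ← Category.assoc, pullback.lift_fst]
    · simp only [π, m₁, m₂, pullback.map]
      rw [Category.assoc, pullback.lift_snd, pullback.lift_snd, pullback.lift_snd]
  have hπ : IsEtCover T π := by
    refine ⟨fun p => isEtaleMor_comp
      (isEtaleMor_of_isPullback (hA p.2) hX (hZ p.1) (sq₂ p).flip (hcov.1 p.2))
      (isEtaleMor_of_isPullback (hA p.1) hX hXX (sq₁ p.1).flip (hcov.1 p.1)), fun z => ?_⟩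
    obtain ⟨i, t, ht⟩ := hcov.2 (Points.map (pullback.fst g g) z)
    obtain ⟨w, -, hw⟩ := Groth.AlgSpBasic.exists_point_of_isPullback (sq₁ i).flip t z ht
    obtain ⟨k, s, hs⟩ := hcov.2 (Points.map (pullback.snd (a i ≫ g) g) w)
    obtain ⟨v, -, hv⟩ := Groth.AlgSpBasic.exists_point_of_isPullback (sq₂ (i, k)).flip s w hs
    exact ⟨(i, k), v, by rw [Points.map_comp, hv, hw]⟩
  have hfpqc : IsFpqcCover T π := isFpqcCover_of_isFppfCover hXX hT
    ⟨fun p => locP_flat_lfp_of_isEtaleMor (hπ.1 p), hπ.2⟩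
  refine (isLocalOnBase_fpqc_repWith_isClosedImmersion T π hXX hT hfpqc (pullback.diagonal g) hX
    (fun p => pullback (a p.1) (a p.2)) (fun p => pullback.mapDesc (a p.1) (a p.2) g)
    (fun p => pullback.fst _ _ ≫ a p.1)
    (fun p => isAlgSpace_pullback ⟨_, hA p.1⟩ ⟨_, hA p.2⟩ ⟨X, hX⟩ _ _)
    fun p => ?_).2 fun p => h p.1 p.2
  rw [hπe]
  exact pullback_map_diagonal_isPullback (a p.1) (a p.2) g

end

end Groth.AlgSp2
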