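import Groth.Agent.AlgSp2.FiniteTfae
import Groth.Agent.AlgSp2.CancelSep
import Groth.Agent.AlgSp2.LocPFpqc
import Groth.Agent.AlgSp3.NbhdInv

/-!
# Proper morphisms which are quasi-finite over a point are finite near it
-/

set_option autoImplicit false
set_option backward.isDefEq.respectTransparency.types false
universe u

open CategoryTheory CategoryTheory.Limits AlgebraicGeometry AlgSp

namespace Groth.AlgSp2

open Groth.AlgSpBasic Groth.AlgSp3

noncomputable section

variable {S : Scheme.{u}}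

/-- Neighbourhood properties stable under base change pass to base changes. -/
theorem hasAtMor_nbhd_baseChange (P : MorphismProperty Scheme.{u}) [EtaleLocal P] {X Y X' Y' : Sp S}
    {f : X ⟶ Y} {g' : X' ⟶ X} {f' : X' ⟶ Y'} {g : Y' ⟶ Y} (hX : IsAlgSpace X) (hY : IsAlgSpace Y)
    (hX' : IsAlgSpace X') (hY' : IsAlgSpace Y') (sq : IsPullback g' f' f g) (x' : AlgSp.Points X')
    (H : HasAtMor (fun U _ h u => ∃ W : U.Opens, u ∈ W ∧ P (W.ι ≫ h)) f (AlgSp.Points.map g' x')) :
    HasAtMor (fun U _ h u => ∃ W : U.Opens, u ∈ W ∧ P (W.ι ≫ h)) f' x' := by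
  obtain ⟨U, V, V', U', a, b, b', a', h, k, p, h', u', ha, hb, hb', ha', comm, -, comm', -, sq', rfl,
    hu⟩ := exists_chart_baseChange hX hY hY' sq x'
  rw [← hu] at H
  obtain ⟨W, hW, hW'⟩ := (hasAtMor_iff_of_chart (etMor_nbhd P) id hX.diag hY.diag ha hb comm
    (p.left u')).1 H
  exact (hasAtMor_iff_of_chart (etMor_nbhd P) id hX'.diag hY'.diag ha' hb' comm' u').2
    ⟨p.left ⁻¹ᵁ W, hW, MorphismProperty.of_isPullback (P := P)
      ((isPullback_morphismRestrict p.left W).paste_vert sq') hW'⟩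

theorem exists_open_finite_of_qf_over {X Y : AlgSp.Space S} (f : X ⟶ Y) (y : Points Y.obj)
    (hf : IsProperMor f.hom)
    (hq : ∀ x : Points X.obj, Points.map f.hom x = y →
      HasAtMor (fun U _ h u => ∃ W : U.Opens, u ∈ W ∧ LocallyQuasiFinite (W.ι ≫ h) ∧
        LocallyOfFiniteType (W.ι ≫ h)) f.hom x) :
    ∃ (V : AlgSp.Space S) (j : V ⟶ Y), RepWith @IsOpenImmersion j.hom ∧
      y ∈ Set.range (Points.map j.hom) ∧
        ∀ (P : AlgSp.Space S) (fst : P ⟶ X) (snd : P ⟶ V), IsPullback fst.hom snd.hom f.hom j.hom →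
          IsFiniteMor snd.hom := by
  let G : Set (Points X.obj) := {x | HasAtMor (fun U _ h u => ∃ W : U.Opens, u ∈ W ∧
    LocallyQuasiFinite (W.ι ≫ h) ∧ LocallyOfFiniteType (W.ι ≫ h)) f.hom x}
  have hG : IsOpen G := isOpen_hasAtMor_nbhd
    (@LocallyQuasiFinite ⊓ @LocallyOfFiniteType : MorphismProperty Scheme.{u}) X.property Y.property _
  let C := Points.map f.hom '' Gᶜ
  have hC : IsClosed C := isClosedMor_of_univClosed Y.property hf.2.2 _ hG.isClosed_compl
  let V : AlgSp.Space S := ⟨openSub Y.obj Cᶜ, isAlgSpace_openSub Y.property hC.isOpen_compl⟩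
  let j : V ⟶ Y := ObjectProperty.homMk (openSubι Y.obj Cᶜ)
  refine ⟨V, j, repWith_openSubι hC.isOpen_compl, ?_, fun P fst snd sq => ?_⟩
  · rw [show Set.range (Points.map j.hom) = Cᶜ from range_map_openSubι]
    rintro ⟨x, hx, e⟩
    exact hx (hq x e)
  · have : IsZariskiLocalAtSource
        (@LocallyQuasiFinite ⊓ @LocallyOfFiniteType : MorphismProperty Scheme.{u}) :=
      isZariskiLocalAtSource_inf _ @LocallyQuasiFinite @LocallyOfFiniteType fun _ _ _ => Iff.rfl
    refine isFiniteMor_of_univClosed_sep_lqf P.property V.property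
      (isUnivClosedMor_of_isPullback sq hf.2.2)
      (repWith_of_isPullback (isPullback_diagonal_baseChange sq) hf.1) ?_
    refine (locP_iff_forall_nbhd
      (@LocallyQuasiFinite ⊓ @LocallyOfFiniteType : MorphismProperty Scheme.{u})
      P.property V.property).2 fun x' => ?_
    refine hasAtMor_nbhd_baseChange _ X.property Y.property P.property V.property sq x' ?_
    by_contra hx
    have h1 : Points.map j.hom (Points.map snd.hom x') ∈ Cᶜ :=
      (range_map_openSubι (W := Cᶜ)).le ⟨_, rfl⟩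
    refine h1 ⟨_, hx, ?_⟩
    rw [← Points.map_comp, ← Points.map_comp, sq.w]

end

end Groth.AlgSp2
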