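import Groth.Agent.AlgSp2.SplitOffScheme
import Groth.Agent.AlgSp2.FiniteImage
import Groth.Agent.AlgSp2.QfNbhd
import Groth.Agent.AlgSp2.ESBasic
import Groth.Agent.AlgSpCartier.ClosedSubProps
import Groth.Agent.AlgSpBasic.DecentFiniteDense

/-!
# Splitting off quasi-finite parts of morphisms of algebraic spaces
-/

set_option autoImplicit false
set_option backward.isDefEq.respectTransparency.types false
universe u

open CategoryTheory CategoryTheory.Limits AlgebraicGeometry Topology AlgSp
  Groth.AlgSpBasic Groth.AlgSp3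

namespace Groth.AlgSp2.SplitOff

variable {S : Scheme.{u}}

/-- A clopen open subspace is closed. -/
theorem repWith_closedImmersion_openSubι {X : Sp S} {W : Set (Points X)} (ho : IsOpen W)
    (hc : IsClosed W) : RepWith @IsClosedImmersion (openSubι X W) := by
  have h := repWith_openSubι (X := X) ho
  refine ⟨h.rep, fun U V g fst snd sq => ?_⟩
  have : IsOpenImmersion snd.left := h.property g fst snd sq
  have : IsPreimmersion snd.left := inferInstance
  refine @IsClosedImmersion.of_isPreimmersion _ _ _ this ?_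
  suffices e : Set.range snd.left = Points.ofPt g ⁻¹' W by
    show IsClosed (Set.range snd.left)
    rw [e]
    exact hc.preimage (Points.continuous_ofPt g)
  refine Set.ext fun t => ?_
  constructor
  · rintro ⟨v, rfl⟩
    exact (range_map_openSubι (W := W)).le
      ⟨_, (map_eq_ofPt_iff sq (Points.ofPt fst v) _).2 ⟨v, rfl, rfl⟩⟩
  · intro ht
    obtain ⟨y, hy⟩ := (range_map_openSubι (W := W)).ge ht
    obtain ⟨v, -, hv⟩ := (map_eq_ofPt_iff sq y t).1 hy
    exact ⟨v, hv⟩

/-- A finite family version of the descent of finiteness. -/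
theorem isFiniteMor_of_family {ι : Type u} [Finite ι] {U : ι → Sp S} {X Y : Sp S}
    (hU : ∀ i, IsAlgSpace (U i)) (hX : IsAlgSpace X) (hY : IsAlgSpace Y) (p : ∀ i, U i ⟶ X)
    (f : X ⟶ Y) (hp : IsEtCover U p) (hf : IsSeparatedMor f)
    (h : ∀ i, IsFiniteMor (p i ≫ f)) : IsFiniteMor f := by
  have hloc := isLocalOnSource_etale_of_etaleLocal (S := S)
    (P := (@LocallyQuasiFinite ⊓ @LocallyOfFiniteType : MorphismProperty Scheme.{u}))
  refine isFiniteMor_of_univClosed_sep_lqf hX hY ?_ hf
    ((hloc U p hX hU hp f hY).2 fun i => lqf_of_isFiniteMor (hU i) hY (h i))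
  intro Z Z' hZ g fst snd sq W hW
  have hpc : ∀ i, IsClosedMap (Points.map (pullback.snd (p i) fst ≫ snd)) := fun i =>
    (isProperMor_of_isFiniteMor (hU i) hY (h i)).2.2 hZ g _ _
      ((IsPullback.of_hasPullback (p i) fst).paste_vert sq)
  have e : Points.map snd '' W = ⋃ i, Points.map (pullback.snd (p i) fst ≫ snd) ''
      (Points.map (pullback.snd (p i) fst) ⁻¹' W) := by
    refine Set.Subset.antisymm ?_ (Set.iUnion_subset fun i => ?_)
    · rintro _ ⟨z, hz, rfl⟩
      obtain ⟨i, x, hx⟩ := hp.2 (Points.map fst z)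
      obtain ⟨w, -, hw⟩ := exists_point_of_isPullback (IsPullback.of_hasPullback (p i) fst)
        (x := x) (z := z) hx
      refine Set.mem_iUnion.2 ⟨i, w, ?_, ?_⟩
      · show Points.map _ w ∈ W
        rw [hw]; exact hz
      · rw [Points.map_comp, hw]
    · rintro _ ⟨w, hw, rfl⟩
      exact ⟨_, hw, (Points.map_comp _ _ _).symm⟩
  rw [e]
  exact isClosed_iUnion_of_finite fun i =>
    hpc i _ (hW.preimage (Points.continuous_map _))

/-- **Splitting off** a finite set of quasi-finite points over a chart of the target. -/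
theorem exists_split_off {X Y : AlgSp.Space S} (f : X ⟶ Y)
    (hlft : LocP @LocallyOfFiniteType f.hom) (hsep : IsSeparatedMor f.hom) {V₁ : Over S}
    (b : (yon S).obj V₁ ⟶ Y.obj) (hb : RepWith @Etale b) (v₁ : ↥V₁.left) {n : ℕ}
    (z : Fin n → Points (pullback f.hom b))
    (hz : ∀ i, Points.map (pullback.snd f.hom b) (z i) = Points.ofScheme V₁ v₁)
    (hq : ∀ i, HasAtMor (fun U _ h u => ∃ W : U.Opens, u ∈ W ∧ LocallyQuasiFinite (W.ι ≫ h) ∧
      LocallyOfFiniteType (W.ι ≫ h)) f.hom (Points.map (pullback.fst f.hom b) (z i))) :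
    ∃ (U : AlgSp.Space S) (a : U ⟶ Y) (u : Points U.obj) (g : U.obj ⟶ (yon S).obj V₁),
      IsEtaleMor a.hom ∧ a.hom = g ≫ b ∧ Points.map g u = Points.ofScheme V₁ v₁ ∧
      Points.map a.hom u = Points.ofPt b v₁ ∧
      ∀ (P : AlgSp.Space S) (prX : P ⟶ X) (prU : P ⟶ U) (_ : IsPullback prX.hom prU.hom f.hom a.hom),
        ∃ (V : AlgSp.Space S) (jV : V ⟶ P), RepWith @IsOpenImmersion jV.hom ∧
          RepWith @IsClosedImmersion jV.hom ∧ IsFiniteMor (jV ≫ prU).hom ∧
          (∀ v : Points V.obj, Points.map (jV ≫ prU).hom v = u →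
            ∃ i, Points.map (jV ≫ prX).hom v = Points.map (pullback.fst f.hom b) (z i)) ∧
          (∀ w : Points P.obj, Points.map prU.hom w = u →
            (∃ i, ∀ q : P.obj ⟶ pullback f.hom b, q ≫ pullback.fst f.hom b = prX.hom →
              q ≫ pullback.snd f.hom b = prU.hom ≫ g → Points.map q w = z i) →
              w ∈ Set.range (Points.map jV.hom)) := by
  have sqb := IsPullback.of_hasPullback f.hom b
  have hX₁ : IsAlgSpace (pullback f.hom b) :=
    isAlgSpace_of_isPullback sqb Y.property.diag X.property (IsAlgSpace.yon_obj V₁)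
  have : IsZariskiLocalAtSource
      (@LocallyQuasiFinite ⊓ @LocallyOfFiniteType : MorphismProperty Scheme.{u}) :=
    isZariskiLocalAtSource_inf _ @LocallyQuasiFinite @LocallyOfFiniteType fun _ _ _ => Iff.rfl
  have hlft₁ : LocP @LocallyOfFiniteType (pullback.snd f.hom b) :=
    locP_of_isPullback X.property Y.property (IsAlgSpace.yon_obj V₁) sqb hlft
  -- charts meeting the fibre over `v₁` in one point
  have hchart : ∀ i, ∃ (A : Over S) (w : (yon S).obj A ⟶ pullback f.hom b) (h : A ⟶ V₁) (a : ↥A.left),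
      RepWith @Etale w ∧ w ≫ pullback.snd f.hom b = (yon S).map h ∧ LocallyOfFiniteType h.left ∧
        IsSeparated h.left ∧ h.left a = v₁ ∧ (∀ b, h.left b = v₁ → b = a) ∧
          h.left.QuasiFiniteAt a ∧ Points.ofPt w a = z i := by
    intro i
    obtain ⟨W₀, c, hc, hcs⟩ := hX₁.atlas
    obtain ⟨t, ht⟩ := surjective_ofPt_of_repWith hcs (z i)
    obtain ⟨h₀, hh₀⟩ := (yon S).map_surjective (c ≫ pullback.snd f.hom b)
    have comm : c ≫ pullback.snd f.hom b = (yon S).map h₀ ≫ 𝟙 _ := by rw [hh₀, Category.comp_id]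
    have : LocallyOfFiniteType h₀.left := hlft₁ c (𝟙 _) h₀ hc (repWith_id _ _) comm
    have H := hasAtMor_nbhd_baseChange
      (@LocallyQuasiFinite ⊓ @LocallyOfFiniteType : MorphismProperty Scheme.{u})
      X.property Y.property hX₁ (IsAlgSpace.yon_obj V₁) sqb (z i) (hq i)
    rw [← ht] at H
    obtain ⟨W, hW, hWq, -⟩ := (hasAtMor_iff_of_chart
      (etMor_nbhd (@LocallyQuasiFinite ⊓ @LocallyOfFiniteType : MorphismProperty Scheme.{u})) id
      hX₁.diag (IsAlgSpace.yon_obj V₁).diag hc (repWith_id _ _) comm t).1 H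
    have hqf : h₀.left.QuasiFiniteAt t :=
      (Scheme.Hom.quasiFiniteAt_comp_iff_of_isOpenImmersion (f := W.ι) (x := ⟨t, hW⟩)).mp
        ((W.ι ≫ h₀.left).quasiFiniteAt _)
    obtain ⟨O, hO, htO, huniq⟩ := exists_affine_nbhd_isolated h₀.left t hqf
    have hv : h₀.left t = v₁ := by
      have e := hz i
      rw [← ht, Points.map_ofPt, ← hh₀] at e
      have e' := congrArg (Points.toScheme V₁) e
      rwa [Points.toScheme_ofPt, Points.toScheme_ofScheme] at e'
    let A : Over S := Over.mk (O.ι ≫ W₀.hom)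
    let j : A ⟶ W₀ := Over.homMk O.ι rfl
    have hj : Etale j.left := inferInstanceAs (Etale O.ι)
    have : IsAffine (O : Scheme) := hO
    refine ⟨A, (yon S).map j ≫ c, j ≫ h₀, ⟨t, htO⟩,
      repWith_comp ((repWith_yon_map_iff _ j).2 hj) hc,
      by rw [Category.assoc, ← hh₀, ← Functor.map_comp],
      inferInstanceAs (LocallyOfFiniteType (O.ι ≫ h₀.left)),
      ?_, hv, fun b hb' => ?_, ?_, ?_⟩
    · have : IsAffine A.left := hO
      infer_instance
    · exact Subtype.ext (huniq b.1 b.2 (hb'.trans hv.symm))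
    · exact (Scheme.Hom.quasiFiniteAt_comp_iff_of_isOpenImmersion (f := O.ι) (x := ⟨t, htO⟩)).mpr hqf
    · rw [ofPt_comp_yon]; exact ht
  choose A w h a hw hwh hl hs ha huniq hqf hwa using hchart
  have := hl
  have := hs
  obtain ⟨U₂, g₀, u₂, hg, hu, Hs⟩ := exists_split_family (fun i => (A i).left) (fun i => (h i).left)
    v₁ a ha huniq hqf
  let V₂ : Over S := Over.mk (g₀ ≫ V₁.hom)
  let g : V₂ ⟶ V₁ := Over.homMk g₀ rfl
  have hge : Etale g.left := hg
  have hgb : RepWith @Etale ((yon S).map g ≫ b) := repWith_comp ((repWith_yon_map_iff _ g).2 hge) hb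
  refine ⟨⟨(yon S).obj V₂, IsAlgSpace.yon_obj V₂⟩, ObjectProperty.homMk ((yon S).map g ≫ b),
    Points.ofScheme V₂ u₂, (yon S).map g, isEtaleMor_chart Y.property hgb, rfl,
    ?_, ?_, ?_⟩
  · rw [Points.map_ofPt, Category.id_comp, ← Category.comp_id ((yon S).map g), ofPt_comp_yon]
    exact congrArg _ hu
  · show Points.map ((yon S).map g ≫ b) _ = _
    rw [Points.map_ofPt, Category.id_comp, ofPt_comp_yon]
    exact congrArg _ hu
  intro P prX prU sq
  change IsPullback prX.hom prU.hom f.hom ((yon S).map g ≫ b) at sq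
  let q : P.obj ⟶ pullback f.hom b := sqb.lift prX.hom (prU.hom ≫ (yon S).map g)
    (by rw [Category.assoc]; exact sq.w)
  have hq₁ : q ≫ pullback.fst f.hom b = prX.hom := sqb.lift_fst _ _ _
  have hq₂ : q ≫ pullback.snd f.hom b = prU.hom ≫ (yon S).map g := sqb.lift_snd _ _ _
  have sqq : IsPullback q prU.hom (pullback.snd f.hom b) ((yon S).map g) :=
    IsPullback.of_right (by rw [hq₁]; exact sq) hq₂ sqb
  choose O hOc hOf hOall using Hs
  -- the finite pieces inside `P`
  have hpiece : ∀ i, ∃ (B : Over S) (e : (yon S).obj B ⟶ P.obj),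
      RepWith @Etale e ∧ IsFiniteMor (e ≫ prU.hom) ∧
      (∀ β : ↥B.left, Points.map prU.hom (Points.ofPt e β) = Points.ofScheme V₂ u₂ →
        Points.map prX.hom (Points.ofPt e β) = Points.map (pullback.fst f.hom b) (z i)) ∧
      (∀ p : Points P.obj, Points.map prU.hom p = Points.ofScheme V₂ u₂ → Points.map q p = z i →
        p ∈ Set.range (Points.ofPt e)) := by
    intro i
    let M : Over S := Over.mk (pullback.fst (h i).left g.left ≫ (A i).hom)
    let m₁ : M ⟶ A i := Over.homMk (pullback.fst (h i).left g.left) rfl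
    let m₂ : M ⟶ V₂ := Over.homMk (pullback.snd (h i).left g.left) (by
      show pullback.snd (h i).left g.left ≫ g₀ ≫ V₁.hom = pullback.fst (h i).left g.left ≫ (A i).hom
      rw [← Over.w (h i), ← Category.assoc, ← Category.assoc]
      exact congrArg (· ≫ V₁.hom) pullback.condition.symm)
    have sM : IsPullback m₁ m₂ (h i) g :=
      IsPullback.of_map (Over.forget S) (Over.OverMorphism.ext pullback.condition)
        (IsPullback.of_hasPullback (h i).left g.left)
    have sM' := sM.map (yon S)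
    let ψ : (yon S).obj M ⟶ P.obj := sqq.lift ((yon S).map m₁ ≫ w i) ((yon S).map m₂) (by
      rw [Category.assoc, hwh i]; exact sM'.w)
    have hψ₁ : ψ ≫ q = (yon S).map m₁ ≫ w i := sqq.lift_fst _ _ _
    have hψ₂ : ψ ≫ prU.hom = (yon S).map m₂ := sqq.lift_snd _ _ _
    have sψ : IsPullback ((yon S).map m₁) ψ (w i) q :=
      IsPullback.of_bot (by rw [hψ₂, hwh i]; exact sM') hψ₁.symm sqq
    have hψe : RepWith @Etale ψ := repWith_of_isPullback sψ (hw i)
    let B : Over S := Over.mk ((O i).ι ≫ M.hom)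
    let j : B ⟶ M := Over.homMk (O i).ι rfl
    have hj : Etale j.left := inferInstanceAs (Etale (O i).ι)
    refine ⟨B, (yon S).map j ≫ ψ, repWith_comp ((repWith_yon_map_iff _ j).2 hj) hψe, ?_, ?_, ?_⟩
    · rw [Category.assoc, hψ₂, ← Functor.map_comp,
        isFiniteMor_iff (IsAlgSpace.yon_obj B) (IsAlgSpace.yon_obj V₂)]
      exact (repWith_yon_map_iff _ _).2 (hOf i)
    · intro β hβ
      rw [ofPt_comp_yon, Points.map_ofPt, hψ₂] at hβ
      have e' := congrArg (Points.toScheme V₂) hβ
      rw [Points.toScheme_ofPt, Points.toScheme_ofScheme] at e'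
      have e1 : (m₁.left (j.left β)) = a i := huniq i _ (by
        change (h i).left (pullback.fst (h i).left g.left _) = v₁
        rw [← Scheme.Hom.comp_apply, pullback.condition, Scheme.Hom.comp_apply,
          show pullback.snd (h i).left g.left (j.left β) = u₂ from e']
        exact hu)
      rw [ofPt_comp_yon, ← hq₁, Points.map_comp, Points.map_ofPt, hψ₁, ofPt_comp_yon, e1, hwa i]
    · intro p hp₁ hp₂
      obtain ⟨r, hr₁, hr₂⟩ := exists_point_of_isPullback sψ (x := Points.ofScheme (A i) (a i))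
        (z := p) (by rw [Points.map_ofPt, Category.id_comp, hwa i, hp₂])
      obtain ⟨μ, rfl⟩ : ∃ μ, Points.ofScheme M μ = r := ⟨_, Points.ofScheme_toScheme _ _⟩
      rw [Points.map_ofPt, Category.id_comp] at hr₂
      rw [← hr₂, Points.map_ofPt, hψ₂] at hp₁
      have e' := congrArg (Points.toScheme V₂) hp₁
      rw [Points.toScheme_ofPt, Points.toScheme_ofScheme] at e'
      exact ⟨⟨μ, hOall i μ e'⟩, by rw [ofPt_comp_yon]; exact hr₂⟩
  choose B e he hef hin hout using hpiece
  have hsepU : IsSeparatedMor prU.hom := repWith_of_isPullback (isPullback_diagonal_baseChange sq) hsep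
  have hC : ∀ i, IsClopen (Set.range (Points.ofPt (e i))) := fun i => by
    refine ⟨?_, ?_⟩
    · have hp := (proper_of_comp_separated (IsAlgSpace.yon_obj _) P.property
        (IsAlgSpace.yon_obj V₂) rfl hsepU
        (isProperMor_of_isFiniteMor (IsAlgSpace.yon_obj _) (IsAlgSpace.yon_obj V₂) (hef i))).2.2
      convert (isClosedMor_of_univClosed P.property hp).isClosed_range using 1
      ext p
      constructor
      · rintro ⟨t, rfl⟩
        exact ⟨Points.ofScheme _ t, by rw [Points.map_ofPt, Category.id_comp]⟩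
      · rintro ⟨r, rfl⟩
        exact ⟨Points.toScheme _ r, by
          conv_rhs => rw [← Points.ofScheme_toScheme _ r]
          rw [Points.map_ofPt, Category.id_comp]⟩
    · exact (isOpenMap_ofPt_of_etale (he i)).isOpen_range
  let C : Set (Points P.obj) := ⋃ i, Set.range (Points.ofPt (e i))
  have hCo : IsOpen C := isOpen_iUnion fun i => (hC i).isOpen
  have hCc : IsClosed C := isClosed_iUnion_of_finite fun i => (hC i).isClosed
  let V : AlgSp.Space S := ⟨openSub P.obj C, isAlgSpace_openSub P.property hCo⟩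
  let jV : V ⟶ P := ObjectProperty.homMk (openSubι P.obj C)
  refine ⟨V, jV, repWith_openSubι hCo, repWith_closedImmersion_openSubι hCo hCc, ?_, ?_, ?_⟩
  · have hl : ∀ i : ULift.{u} (Fin n), ∃ l : (yon S).obj (B i.down) ⟶ openSub P.obj C,
        l ≫ openSubι P.obj C = e i.down :=
      fun i => (openSub_exists_lift_iff _ _ _).2 fun t => Set.mem_iUnion.2 ⟨i.down, t, rfl⟩
    choose l hl using hl
    refine isFiniteMor_of_family (U := fun i : ULift.{u} (Fin n) => (yon S).obj (B i.down))
      (fun i => IsAlgSpace.yon_obj _) V.property (IsAlgSpace.yon_obj V₂) l _ ⟨fun i => ?_, fun x => ?_⟩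
      ?_ (fun i => ?_)
    · refine isEtaleMor_chart V.property ?_
      have : Mono (openSubι P.obj C) := Groth.AlgSpBasic.mono_of_repWith
        (fun A B k (hk : IsOpenImmersion k) => inferInstance) (repWith_openSubι hCo)
      exact Groth.AlgSpCartier.repWith_of_comp_mono (i := openSubι P.obj C)
        (by rw [hl]; exact he i.down)
    · have hx : Points.map jV.hom x ∈ C := (range_map_openSubι (W := C)).le ⟨x, rfl⟩
      obtain ⟨i, t, ht⟩ := Set.mem_iUnion.1 hx
      refine ⟨⟨i⟩, Points.ofScheme _ t, injective_map_of_repWith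
        (fun _ _ φ (hφ : IsOpenImmersion φ) => φ.isOpenEmbedding.injective)
        (repWith_openSubι hCo) ?_⟩
      rw [← Points.map_comp, Points.map_ofPt, Category.id_comp, hl]
      exact ht
    · exact repWith_diagonal_comp ((repWith_isSeparated_iff (repWith_openSubι hCo).rep).2
        (repWith_mono (fun A B k (hk : IsOpenImmersion k) => (inferInstance : IsSeparated k))
          (repWith_openSubι hCo))) hsepU
    · show IsFiniteMor (l i ≫ openSubι P.obj C ≫ prU.hom)
      rw [← Category.assoc, hl]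
      exact hef i.down
  · intro v hv
    have hx : Points.map jV.hom v ∈ C := (range_map_openSubι (W := C)).le ⟨v, rfl⟩
    obtain ⟨i, t, ht⟩ := Set.mem_iUnion.1 hx
    refine ⟨i, ?_⟩
    show Points.map (jV.hom ≫ prX.hom) v = _
    rw [Points.map_comp, ← ht]
    refine hin i t ?_
    rw [ht]
    exact (Points.map_comp _ _ _).symm.trans hv
  · rintro p hp ⟨i, hi⟩
    rw [show Set.range (Points.map jV.hom) = C from range_map_openSubι]
    exact Set.mem_iUnion.2 ⟨i, hout i p hp (hi q hq₁ hq₂)⟩

/-- The points of a base change to an affine chart over a given point and over given quasi-finite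
points form a finite set. -/
theorem finite_points_over {X Y : AlgSp.Space S} (f : X ⟶ Y)
    (hlft : LocP @LocallyOfFiniteType f.hom)
    (hqc : IsQuasiCompactMor f.hom ∨ IsDecent Y.obj) {V₁ : Over S} [IsAffine V₁.left]
    (b : (yon S).obj V₁ ⟶ Y.obj) (hb : RepWith @Etale b) (v₁ : ↥V₁.left)
    (xs : Finset (Points X.obj))
    (hxs : ∀ x ∈ xs, HasAtMor (fun U _ h u => ∃ W : U.Opens, u ∈ W ∧ LocallyQuasiFinite (W.ι ≫ h) ∧
      LocallyOfFiniteType (W.ι ≫ h)) f.hom x) :
    {z : Points (pullback f.hom b) | Points.map (pullback.snd f.hom b) z = Points.ofScheme V₁ v₁ ∧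
      Points.map (pullback.fst f.hom b) z ∈ xs}.Finite := by
  have sqb := IsPullback.of_hasPullback f.hom b
  rcases hqc with hq | hd
  · have hX₁ : IsAlgSpace (pullback f.hom b) :=
      isAlgSpace_of_isPullback sqb Y.property.diag X.property (IsAlgSpace.yon_obj V₁)
    have hc₁ : IsQuasiCompactSp (pullback f.hom b) :=
      hq (IsAlgSpace.yon_obj V₁) ((isQuasiCompactSp_yon_iff _).2 inferInstance) _ _ _ sqb
    obtain ⟨A, c, hA, hc, hcs⟩ := exists_affine_chart hX₁ hc₁
    obtain ⟨h, hh⟩ := (yon S).map_surjective (c ≫ pullback.snd f.hom b)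
    have comm : c ≫ pullback.snd f.hom b = (yon S).map h ≫ 𝟙 _ := by rw [hh, Category.comp_id]
    have : LocallyOfFiniteType h.left :=
      locP_of_isPullback X.property Y.property (IsAlgSpace.yon_obj V₁) sqb hlft c (𝟙 _) h hc
        (repWith_id _ _) comm
    refine ((finite_quasiFinite_fibre h.left v₁).image (Points.ofPt c)).subset fun z hz => ?_
    obtain ⟨t, rfl⟩ := surjective_ofPt_of_repWith hcs z
    have e := hz.1
    rw [Points.map_ofPt, ← hh] at e
    have e' := congrArg (Points.toScheme V₁) e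
    rw [Points.toScheme_ofPt, Points.toScheme_ofScheme] at e'
    refine ⟨t, ⟨e', ?_⟩, rfl⟩
    have H := hasAtMor_nbhd_baseChange
      (@LocallyQuasiFinite ⊓ @LocallyOfFiniteType : MorphismProperty Scheme.{u})
      X.property Y.property hX₁ (IsAlgSpace.yon_obj V₁) sqb (Points.ofPt c t) (hxs _ hz.2)
    exact (nbhd_lqf_iff_fibreDimAt h.left t).1
      ((hasAtMor_iff_of_chart (etMor_nbhd
        (@LocallyQuasiFinite ⊓ @LocallyOfFiniteType : MorphismProperty Scheme.{u})) id
        hX₁.diag (IsAlgSpace.yon_obj V₁).diag hc (repWith_id _ _) comm t).1 H)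
  · have : CompactSpace ↥V₁.left := inferInstance
    refine (xs.finite_toSet.biUnion fun x _ => finite_setOf_map_eq hd hb sqb x).subset ?_
    exact fun z hz => Set.mem_biUnion (Finset.mem_coe.2 hz.2) rfl

/-- An affine etale chart through a point of the target. -/
theorem exists_affine_chart_through (Y : AlgSp.Space S) (y : Points Y.obj) :
    ∃ (V : Over S) (b : (yon S).obj V ⟶ Y.obj) (v : ↥V.left),
      IsAffine V.left ∧ RepWith @Etale b ∧ Points.ofPt b v = y := by
  obtain ⟨W, c, hc, hcs⟩ := Y.property.atlas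
  obtain ⟨w, rfl⟩ := surjective_ofPt_of_repWith hcs y
  obtain ⟨K, hK, hwK, -⟩ :=
    exists_isAffineOpen_mem_and_subset (X := W.left) (x := w) (U := ⊤) trivial
  let V : Over S := Over.mk (K.ι ≫ W.hom)
  let j : V ⟶ W := Over.homMk K.ι rfl
  have hj : Etale j.left := inferInstanceAs (Etale K.ι)
  exact ⟨V, (yon S).map j ≫ c, ⟨w, hwK⟩, hK, repWith_comp ((repWith_yon_map_iff _ j).2 hj) hc,
    ofPt_comp_yon _ _ _⟩

end Groth.AlgSp2.SplitOff
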