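import Groth.Agent.AlgSp2.ClopenGlue
import Groth.Agent.AlgSp2.IntegralQuasiFinite
import Groth.Agent.AlgSp2.SplitOff
import Groth.Agent.AlgSp2.SepPieces
import Groth.Agent.AlgSp2.LargestOpen
import Groth.Agent.AlgSp2.MonoEtale
import Groth.Agent.AlgSp3.NormApps
import Groth.Agent.AlgStBasic.SpaceProps
import Mathlib.AlgebraicGeometry.Morphisms.Integral

/-!
# The normalization of a target in a finite type separated source is an isomorphism over the
quasi-finite locus
-/

set_option autoImplicit false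
set_option backward.isDefEq.respectTransparency.types false
universe u

open CategoryTheory CategoryTheory.Limits AlgebraicGeometry Opposite AlgSp
open Groth.AlgSpBasic

namespace Groth.AlgSp2.NormalizationIsoLocus

noncomputable section

variable {S : Scheme.{u}}

theorem range_map_yon {X : Sp S} {T : Over S} (g : (yon S).obj T ⟶ X) :
    Set.range (AlgSp.Points.map g) = Set.range (AlgSp.Points.ofPt g) := by
  ext z
  constructor
  · rintro ⟨w, rfl⟩
    obtain ⟨T', g', t, rfl⟩ := exists_ofPt w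
    obtain ⟨φ, rfl⟩ := (yon S).map_surjective g'
    exact ⟨φ.left t, by rw [AlgSp.Points.map_ofPt, ofPt_comp_yon]⟩
  · rintro ⟨t, rfl⟩
    exact ⟨_, (AlgSp.Points.ofPt_eq_map_ofScheme g t).symm⟩

/-- Over a finite clopen piece of the source the normalization is an isomorphism. -/
theorem exists_open_iso {U : Over S} {P : Sp S} {π : P ⟶ (yon S).obj U} {N : Over S} {ν : N ⟶ U}
    [IsIntegralHom ν.left] {fN : P ⟶ (yon S).obj N}
    (hn : IsRelNormalization π ((yon S).map ν) fN) {V₀ : Over S} {v : V₀ ⟶ U}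
    [IsIntegralHom v.left] {jW : (yon S).obj V₀ ⟶ P} (hjo : RepWith @IsOpenImmersion jW)
    (hcl : IsClosed (Set.range (AlgSp.Points.map jW))) (hv : jW ≫ π = (yon S).map v)
    (hP : IsAlgSpace P) :
    ∃ (NO : Over S) (jO : NO ⟶ N) (l : (yon S).obj V₀ ⟶ (yon S).obj NO),
      IsOpenImmersion jO.left ∧ IsIso l ∧ IsPullback jW l fN ((yon S).map jO) := by
  have : Mono jW := Groth.AlgSpBasic.mono_of_repWith
    (fun _ _ g (_ : IsOpenImmersion g) => inferInstance) hjo
  let W := Set.range (AlgSp.Points.map jW)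
  have ho : IsOpen W := (isOpenMap_map_of_repWith
    (fun _ _ φ (h : IsOpenImmersion φ) => φ.isOpenEmbedding.isOpenMap) hjo).isOpen_range
  -- the test object
  let Z : Over S := Over.mk (coprod.desc V₀.hom N.hom)
  let inl : V₀ ⟶ Z := Over.homMk coprod.inl (coprod.inl_desc _ _)
  let inr : N ⟶ Z := Over.homMk coprod.inr (coprod.inr_desc _ _)
  let ρ : Z ⟶ U := Over.homMk (coprod.desc v.left ν.left) (by
    apply coprod.hom_ext <;> simp [Z])
  have hl : inl ≫ ρ = v := Over.OverMorphism.ext (coprod.inl_desc _ _)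
  have hr : inr ≫ ρ = ν := Over.OverMorphism.ext (coprod.inr_desc _ _)
  have : IsIntegralHom ρ.left := inferInstanceAs (IsIntegralHom (coprod.desc v.left ν.left))
  obtain ⟨e, he⟩ := exists_lift_of_range_openImmersion (isAlgSpace_openSub hP ho) hjo (openSubι P W)
    (range_map_openSubι).le
  obtain ⟨g, hgV, hgc⟩ := ClopenGlue.exists_desc ho hcl (e ≫ (yon S).map inl)
    ((openSubι P Wᶜ ≫ fN) ≫ (yon S).map inr)
  have : Mono (openSubι P W) := Groth.AlgSpBasic.mono_of_repWith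
    (fun _ _ g (_ : IsOpenImmersion g) => inferInstance) (repWith_openSubι ho)
  obtain ⟨e', he'⟩ := exists_lift_of_range_openImmersion (IsAlgSpace.yon_obj V₀)
    (repWith_openSubι ho) jW (range_map_openSubι).ge
  have hee : e' ≫ e = 𝟙 _ := by rw [← cancel_mono jW, Category.assoc, he, he', Category.id_comp]
  have hgj : jW ≫ g = (yon S).map inl := by
    rw [← he', Category.assoc, hgV, ← Category.assoc, hee, Category.id_comp]
  have hgρ : g ≫ (yon S).map ρ = π := by
    refine ClopenGlue.hom_ext ho hcl ?_ ?_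
    · rw [← Category.assoc, hgV, Category.assoc, ← Functor.map_comp, hl, ← hv, ← Category.assoc, he]
    · rw [← Category.assoc, hgc, Category.assoc, ← Functor.map_comp, hr, Category.assoc, hn.1]
  obtain ⟨h, ⟨hfh, hhρ⟩, -⟩ := hn.2.2 (IsAlgSpace.yon_obj Z) ((yon S).map ρ) g
    (Groth.AlgSp3.isIntegralMor_yon_map ρ ‹_›) hgρ
  obtain ⟨h₀, rfl⟩ := (yon S).map_surjective h
  obtain ⟨w₀, hw₀⟩ := (yon S).map_surjective (jW ≫ fN)
  have hw₀ν : w₀ ≫ ν = v := (yon S).map_injective (by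
    rw [Functor.map_comp, hw₀, Category.assoc, hn.1, hv])
  let k : Z ⟶ N := Over.homMk (coprod.desc w₀.left (𝟙 _)) (by
    apply coprod.hom_ext <;> simp [Z, Over.w w₀])
  have hkl : inl ≫ k = w₀ := Over.OverMorphism.ext (coprod.inl_desc _ _)
  have hkr : inr ≫ k = 𝟙 N := Over.OverMorphism.ext (coprod.inr_desc _ _)
  have hkν : k ≫ ν = ρ := by
    refine Over.OverMorphism.ext ?_
    apply coprod.hom_ext
    · simp [k, ρ, ← Over.comp_left, hw₀ν]
    · show coprod.inr ≫ coprod.desc w₀.left (𝟙 _) ≫ ν.left = coprod.inr ≫ coprod.desc v.left ν.left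
      rw [coprod.inr_desc_assoc, Category.id_comp, coprod.inr_desc]
  have hgk : g ≫ (yon S).map k = fN := by
    refine ClopenGlue.hom_ext ho hcl ?_ ?_
    · rw [← Category.assoc, hgV, Category.assoc, ← Functor.map_comp, hkl, hw₀, ← Category.assoc, he]
    · rw [← Category.assoc, hgc, Category.assoc, ← Functor.map_comp, hkr, CategoryTheory.Functor.map_id,
        Category.comp_id]
  have hhk : h₀ ≫ k = 𝟙 N := (yon S).map_injective (by
    refine (hn.2.2 (IsAlgSpace.yon_obj N) ((yon S).map ν) fN hn.2.1 hn.1).unique ⟨?_, ?_⟩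
      ⟨by rw [CategoryTheory.Functor.map_id, Category.comp_id], by rw [CategoryTheory.Functor.map_id, Category.id_comp]⟩
    · rw [Functor.map_comp, ← Category.assoc, hfh, hgk]
    · rw [← Functor.map_comp, Category.assoc, hkν, Functor.map_comp, hhρ])
  have : IsOpenImmersion inl.left := inferInstanceAs (IsOpenImmersion (coprod.inl : V₀.left ⟶ _))
  let O : N.left.Opens := h₀.left ⁻¹ᵁ inl.left.opensRange
  let NO : Over S := Over.mk (O.ι ≫ N.hom)
  let jO : NO ⟶ N := Over.homMk O.ι rfl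
  have : IsOpenImmersion jO.left := inferInstanceAs (IsOpenImmersion O.ι)
  have hwh : w₀ ≫ h₀ = inl := (yon S).map_injective (by
    rw [Functor.map_comp, hw₀, Category.assoc, hfh, hgj])
  have hwO : Set.range w₀.left ⊆ Set.range O.ι := by
    rw [Scheme.Opens.range_ι]
    rintro _ ⟨z, rfl⟩
    exact ⟨z, by rw [← Scheme.Hom.comp_apply, ← Over.comp_left, hwh]⟩
  let w : V₀ ⟶ NO := Over.homMk (IsOpenImmersion.lift O.ι w₀.left hwO) (by
    show IsOpenImmersion.lift O.ι w₀.left hwO ≫ O.ι ≫ N.hom = _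
    rw [← Category.assoc, IsOpenImmersion.lift_fac, Over.w])
  have hwj : w ≫ jO = w₀ := Over.OverMorphism.ext (IsOpenImmersion.lift_fac _ _ _)
  have hrO : Set.range (O.ι ≫ h₀.left) ⊆ Set.range inl.left := by
    rintro _ ⟨z, rfl⟩; exact z.2
  let r : NO ⟶ V₀ := Over.homMk (IsOpenImmersion.lift inl.left (O.ι ≫ h₀.left) hrO) (by
    show IsOpenImmersion.lift inl.left (O.ι ≫ h₀.left) hrO ≫ V₀.hom = O.ι ≫ N.hom
    rw [← Over.w inl, IsOpenImmersion.lift_fac_assoc, Category.assoc, Over.w])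
  have hri : r ≫ inl = jO ≫ h₀ := Over.OverMorphism.ext (IsOpenImmersion.lift_fac _ _ _)
  have hmi : Mono inl := (Over.forget S).mono_of_mono_map (inferInstanceAs (Mono inl.left))
  have hmj : Mono jO := (Over.forget S).mono_of_mono_map (inferInstanceAs (Mono jO.left))
  have : IsIso w := ⟨r, by rw [← cancel_mono inl, Category.assoc, hri, ← Category.assoc, hwj, hwh,
      Category.id_comp],
    by rw [← cancel_mono jO, Category.assoc, hwj, Category.id_comp, ← hkl, ← Category.assoc, hri,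
      Category.assoc, hhk, Category.comp_id]⟩
  refine ⟨NO, jO, (yon S).map w, ‹_›, inferInstance, isPullback_of_lifts ?_ (fun T b c hbc => ?_)
    (fun T a a' h _ => (cancel_mono jW).1 h)⟩
  · rw [← Functor.map_comp, hwj, hw₀]
  · obtain ⟨c, rfl⟩ := (yon S).map_surjective c
    obtain ⟨a, ha⟩ := exists_lift_of_range_openImmersion (IsAlgSpace.yon_obj T) hjo b (by
      rw [range_map_yon]
      rintro _ ⟨t, rfl⟩
      by_contra hn'
      obtain ⟨p', hp'⟩ := (range_map_openSubι (W := Wᶜ)).ge hn'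
      obtain ⟨T', q, s, rfl⟩ := exists_ofPt p'
      obtain ⟨φ, hφ⟩ := (yon S).map_surjective (q ≫ openSubι P Wᶜ ≫ fN)
      have h1 := congrArg (fun p => AlgSp.Points.toScheme Z (AlgSp.Points.map g p)) hp'
      simp only [AlgSp.Points.map_ofPt] at h1
      rw [Category.assoc, hgc, ← Category.assoc, ← hφ, ← Functor.map_comp, AlgSp.Points.toScheme_ofPt,
        ← hfh, ← Category.assoc b, hbc, ← Functor.map_comp, ← Functor.map_comp,
        AlgSp.Points.toScheme_ofPt] at h1
      exact Set.disjoint_left.1 (isCompl_range_inl_inr (X := V₀.left) (Y := N.left)).1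
        (show ((c ≫ jO) ≫ h₀).left t ∈ _ from (c.left t).2) ⟨φ.left s, h1⟩)
    obtain ⟨a₀, rfl⟩ := (yon S).map_surjective a
    refine ⟨(yon S).map a₀, ha, ?_⟩
    rw [← Functor.map_comp]
    congr 1
    rw [← cancel_mono jO, Category.assoc, hwj]
    apply (yon S).map_injective
    rw [Functor.map_comp, hw₀, ← Category.assoc, ha, hbc, Functor.map_comp]

/-- The quasi-finite locus. -/
def qfLocus {X Y : Sp S} (f : X ⟶ Y) : Set (AlgSp.Points X) :=
  {x | HasAtMor (fun U _ h u => ∃ W : U.Opens, u ∈ W ∧ LocallyQuasiFinite (W.ι ≫ h) ∧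
    LocallyOfFiniteType (W.ι ≫ h)) f x}

theorem mem_qfLocus_of_iso {X Y Y' : AlgSp.Space S} {f : X ⟶ Y} {ν : Y' ⟶ Y} {f' : X ⟶ Y'}
    (hft : LocP @LocallyOfFiniteType f.hom) (hn : IsRelNormalization f.hom ν.hom f'.hom)
    {O : Set (AlgSp.Points Y'.obj)} (hO : IsOpen O)
    (hiso : IsIso (pullback.snd f'.hom (openSubι Y'.obj O))) {x : AlgSp.Points X.obj}
    (hx : AlgSp.Points.map f'.hom x ∈ O) : x ∈ qfLocus f.hom := by
  obtain ⟨V, b, v, hV, hb, hbv⟩ := SplitOff.exists_affine_chart_through Y (AlgSp.Points.map f.hom x)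
  obtain ⟨N, νN, q, sqN, -, hνN⟩ := hn.2.1 hV b
  have hq : RepWith @Etale q := repWith_of_isPullback sqN.flip hb
  obtain ⟨n₀, hn₀, -⟩ := Groth.AlgSpBasic.exists_point_of_isPullback sqN (AlgSp.Points.map f'.hom x)
    (AlgSp.Points.ofScheme V v)
    (by rw [← AlgSp.Points.map_comp, hn.1, ← hbv, AlgSp.Points.ofPt_eq_map_ofScheme])
  obtain ⟨n, rfl⟩ : ∃ n, AlgSp.Points.ofScheme N n = n₀ := ⟨_, AlgSp.Points.ofScheme_toScheme _ _⟩
  rw [← AlgSp.Points.ofPt_eq_map_ofScheme] at hn₀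
  let No : N.left.Opens := ⟨AlgSp.Points.ofPt q ⁻¹' O, hO.preimage (AlgSp.Points.continuous_ofPt q)⟩
  let NO : Over S := Over.mk (No.ι ≫ N.hom)
  let jN : NO ⟶ N := Over.homMk No.ι rfl
  have : IsOpenImmersion jN.left := inferInstanceAs (IsOpenImmersion No.ι)
  have hqo : RepWith @Etale ((yon S).map jN ≫ q) :=
    repWith_comp ((repWith_yon_map_iff _ jN).2 (inferInstance : Etale jN.left)) hq
  obtain ⟨qU, hqU⟩ := (openSub_exists_lift_iff Y'.obj O ((yon S).map jN ≫ q)).2 fun m => by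
    rw [ofPt_comp_yon]; exact m.2
  let ι := openSubι Y'.obj O
  have sqU := IsPullback.of_hasPullback f'.hom ι
  let l := qU ≫ CategoryTheory.inv (pullback.snd f'.hom ι)
  have sq₁ : IsPullback l (𝟙 _) (pullback.snd f'.hom ι) qU :=
    IsPullback.of_vert_isIso ⟨by simp [l]⟩
  have sq₂ : IsPullback (l ≫ pullback.fst f'.hom ι) (𝟙 _) f'.hom ((yon S).map jN ≫ q) := by
    rw [← hqU]; exact sq₁.paste_horiz sqU
  let a := l ≫ pullback.fst f'.hom ι
  have ha : RepWith @Etale a := repWith_of_isPullback sq₂.flip hqo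
  have haf : a ≫ f'.hom = (yon S).map jN ≫ q := by rw [sq₂.w, Category.id_comp]
  let nO : ↥NO.left := ⟨n, by show AlgSp.Points.ofPt q n ∈ O; rw [hn₀]; exact hx⟩
  have hax : AlgSp.Points.ofPt a nO = x := by
    obtain ⟨o, ho⟩ := (range_map_openSubι (W := O)).ge hx
    obtain ⟨x₀, hx₀, hx₀'⟩ := Groth.AlgSpBasic.exists_point_of_isPullback sqU x o ho.symm
    have hfa : AlgSp.Points.map f'.hom (AlgSp.Points.ofPt a nO) = AlgSp.Points.map f'.hom x := by
      rw [AlgSp.Points.map_ofPt, haf, ofPt_comp_yon]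
      exact hn₀
    have hι : Function.Injective (AlgSp.Points.map ι) := injective_map_of_repWith
      (fun _ _ φ (h : IsOpenImmersion φ) => φ.isOpenEmbedding.injective) (repWith_openSubι hO)
    have key : AlgSp.Points.ofPt l nO = x₀ := by
      have hinj : Function.Injective (AlgSp.Points.map (pullback.snd f'.hom ι)) := fun y y' e => by
        have := congrArg (AlgSp.Points.map (CategoryTheory.inv (pullback.snd f'.hom ι))) e
        rwa [← AlgSp.Points.map_comp, ← AlgSp.Points.map_comp, IsIso.hom_inv_id,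
          AlgSp.Points.map_id, AlgSp.Points.map_id] at this
      refine hinj (hι ?_)
      rw [hx₀', ho, ← hfa, AlgSp.Points.map_ofPt, AlgSp.Points.map_ofPt, AlgSp.Points.map_ofPt]
      congr 1
      rw [Category.assoc, ← pullback.condition]
      simp only [a, l, Category.assoc]
    rw [← hx₀, ← key, AlgSp.Points.map_ofPt]
  have comm : a ≫ f.hom = (yon S).map (jN ≫ νN) ≫ b := by
    rw [← hn.1, ← Category.assoc, haf, Category.assoc, sqN.w, Functor.map_comp, Category.assoc]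
  have hl : LocallyOfFiniteType (jN ≫ νN).left := hft a b _ ha hb comm
  refine ⟨NO, V, a, b, jN ≫ νN, nO, ha, hb, comm, hax, ⊤, trivial, ?_, ?_⟩
  · have : LocallyQuasiFinite (jN ≫ νN).left := by
      rw [Over.comp_left] at hl ⊢
      exact IntegralQuasiFinite.locallyQuasiFinite_comp jN.left νN.left
    infer_instance
  · infer_instance

theorem mem_goodLocus_of_qf {X Y Y' : AlgSp.Space S} {f : X ⟶ Y} {ν : Y' ⟶ Y} {f' : X ⟶ Y'}
    (hf1 : AlgSp.IsFiniteTypeMor f.hom) (hf2 : AlgSp.IsSeparatedMor f.hom)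
    (hn : IsRelNormalization f.hom ν.hom f'.hom) {x : AlgSp.Points X.obj} (hx : x ∈ qfLocus f.hom) :
    ∃ (NO : AlgSp.Space S) (g : NO ⟶ Y') (V₀ : AlgSp.Space S) (g' : V₀ ⟶ X) (l : V₀ ⟶ NO),
      IsEtaleMor g.hom ∧ IsPullback g'.hom l.hom f'.hom g.hom ∧ IsIso l.hom ∧
        AlgSp.Points.map f'.hom x ∈ Set.range (AlgSp.Points.map g.hom) := by
  obtain ⟨V₁, b, v₁, -, hb, hbv⟩ := SplitOff.exists_affine_chart_through Y (AlgSp.Points.map f.hom x)
  have sqb := IsPullback.of_hasPullback f.hom b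
  obtain ⟨z, hz₁, hz₂⟩ := Groth.AlgSpBasic.exists_point_of_isPullback sqb x (AlgSp.Points.ofScheme V₁ v₁)
    (by rw [← hbv, AlgSp.Points.ofPt_eq_map_ofScheme])
  obtain ⟨U, a, u, g, hae, hag, hgu, -, hall⟩ := SplitOff.exists_split_off f hf1.1 hf2 b hb v₁
    (n := 1) (fun _ => z) (fun _ => hz₂) (fun _ => by rw [hz₁]; exact hx)
  let P₀ : AlgSp.Space S := ⟨pullback f.hom a.hom, isAlgSpace_pullback X U Y f.hom a.hom⟩
  let prX : P₀ ⟶ X := ObjectProperty.homMk (pullback.fst f.hom a.hom)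
  let prU : P₀ ⟶ U := ObjectProperty.homMk (pullback.snd f.hom a.hom)
  have sq₀ : IsPullback prX.hom prU.hom f.hom a.hom := IsPullback.of_hasPullback _ _
  let p := sqb.lift prX.hom (prU.hom ≫ g) (by rw [Category.assoc, ← hag]; exact sq₀.w)
  have hp₁ : p ≫ pullback.fst f.hom b = prX.hom := sqb.lift_fst _ _ _
  have hp₂ : p ≫ pullback.snd f.hom b = prU.hom ≫ g := sqb.lift_snd _ _ _
  have sqp : IsPullback p prU.hom (pullback.snd f.hom b) g :=
    IsPullback.of_right (by rw [hp₁, ← hag]; exact sq₀) hp₂ sqb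
  obtain ⟨w, hw₁, hw₂⟩ := Groth.AlgSpBasic.exists_point_of_isPullback sqp z u (by rw [hz₂, hgu])
  obtain ⟨VP, jV, hjo, hjc, hjf, -, hwV⟩ := hall P₀ prX prU sq₀
  have hwV' := hwV w hw₂ ⟨0, fun q h₁ h₂ => by
    rw [show q = p from sqb.hom_ext (h₁.trans hp₁.symm) (h₂.trans hp₂.symm)]
    exact hw₁⟩
  obtain ⟨V, c, t, hV, hc, hct⟩ := SplitOff.exists_affine_chart_through U u
  have hb' : RepWith @Etale (c ≫ a.hom) := hae c hc
  obtain ⟨V₀, v, fst₀, sqV₀, -, hv⟩ := hjf hV c
  have sqc := IsPullback.of_hasPullback prU.hom c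
  let jW := sqc.lift (fst₀ ≫ jV.hom) ((yon S).map v) (by rw [Category.assoc]; exact sqV₀.w)
  have hjW₁ : jW ≫ pullback.fst prU.hom c = fst₀ ≫ jV.hom := sqc.lift_fst _ _ _
  have hjW₂ : jW ≫ pullback.snd prU.hom c = (yon S).map v := sqc.lift_snd _ _ _
  have sqW : IsPullback fst₀ jW jV.hom (pullback.fst prU.hom c) :=
    IsPullback.of_bot (by rw [hjW₂]; exact sqV₀) hjW₁.symm sqc
  have hWr := range_map_eq_of_isPullback sqW
  have hWc : IsClosed (Set.range (AlgSp.Points.map jW)) := by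
    rw [hWr]
    exact (isClosedMap_map_of_repWith
      (fun _ _ φ (h : IsClosedImmersion φ) => φ.isClosedEmbedding.isClosedMap) hjc).isClosed_range.preimage
        (AlgSp.Points.continuous_map _)
  have sqP : IsPullback (pullback.fst prU.hom c ≫ prX.hom) (pullback.snd prU.hom c) f.hom (c ≫ a.hom) :=
    sqc.paste_horiz sq₀
  obtain ⟨N, νN, q, sqN, -, hνN⟩ := hn.2.1 hV (c ≫ a.hom)
  let Pv : AlgSp.Space S := ⟨pullback prU.hom c,
    isAlgSpace_pullback P₀ ⟨_, IsAlgSpace.yon_obj V⟩ U prU.hom c⟩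
  let fN := sqN.lift ((pullback.fst prU.hom c ≫ prX.hom) ≫ f'.hom) (pullback.snd prU.hom c)
    (by rw [Category.assoc, hn.1]; exact sqP.w)
  have hfN₁ : fN ≫ q = (pullback.fst prU.hom c ≫ prX.hom) ≫ f'.hom := sqN.lift_fst _ _ _
  have hfN₂ : fN ≫ (yon S).map νN = pullback.snd prU.hom c := sqN.lift_snd _ _ _
  have sqF : IsPullback (pullback.fst prU.hom c ≫ prX.hom) fN f'.hom q :=
    IsPullback.of_bot (by rw [hfN₂, hn.1]; exact sqP) hfN₁.symm sqN
  have hqs : IsQuasiSeparatedMor f.hom :=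
    repWith_mono (fun _ _ k (_ : IsClosedImmersion k) => (inferInstance : QuasiCompact k)) hf2
  have hnN := Groth.AlgSp3.isRelNormalization_etale_baseChange Y.property X.property Y'.property
    (IsAlgSpace.yon_obj V) hf1.2 hqs hn (isEtaleMor_chart Y.property hb') sqP sqN hfN₂ hfN₁
  have : IsFinite v.left := hv
  have := hνN
  obtain ⟨NO, jO, l, hjO, hl, sqL⟩ := exists_open_iso hnN
    (repWith_of_isPullback sqW hjo) hWc hjW₂ Pv.property
  have hq : RepWith @Etale q := repWith_of_isPullback sqN.flip hb'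
  have hqO : RepWith @Etale ((yon S).map jO ≫ q) :=
    repWith_comp ((repWith_yon_map_iff _ jO).2 (inferInstance : Etale jO.left)) hq
  refine ⟨⟨_, IsAlgSpace.yon_obj NO⟩, ObjectProperty.homMk ((yon S).map jO ≫ q),
    ⟨_, IsAlgSpace.yon_obj V₀⟩, ObjectProperty.homMk (jW ≫ pullback.fst prU.hom c ≫ prX.hom),
    ObjectProperty.homMk l, isEtaleMor_chart Y'.property hqO, sqL.paste_horiz sqF, hl, ?_⟩
  obtain ⟨wv, hwv₁, -⟩ := Groth.AlgSpBasic.exists_point_of_isPullback sqc w (AlgSp.Points.ofScheme V t)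
    (by rw [hw₂, ← hct, AlgSp.Points.ofPt_eq_map_ofScheme])
  obtain ⟨s, rfl⟩ : wv ∈ Set.range (AlgSp.Points.map jW) := by
    rw [hWr, Set.mem_preimage, hwv₁]; exact hwV'
  refine ⟨AlgSp.Points.map l s, ?_⟩
  show AlgSp.Points.map ((yon S).map jO ≫ q) (AlgSp.Points.map l s) = _
  rw [← hz₁, ← hw₁, ← hwv₁]
  simp only [← AlgSp.Points.map_comp]
  congr 1
  rw [← (sqL.paste_horiz sqF).w]
  simp only [Category.assoc, hp₁]

theorem exists_isoLocus {X Y Y' : AlgSp.Space S} (f : X ⟶ Y) (ν : Y' ⟶ Y) (f' : X ⟶ Y')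
    (hf1 : AlgSp.IsFiniteTypeMor f.hom) (hf2 : AlgSp.IsSeparatedMor f.hom)
    (hn : IsRelNormalization f.hom ν.hom f'.hom) :
    ∃ (U' : AlgSp.Space S) (j : U' ⟶ Y'), RepWith @IsOpenImmersion j.hom ∧
      ∀ (P : AlgSp.Space S) (fst : P ⟶ X) (snd : P ⟶ U'), IsPullback fst.hom snd.hom f'.hom j.hom →
        IsIso snd.hom ∧ Set.range (AlgSp.Points.map fst.hom) = qfLocus f.hom := by
  obtain ⟨O, h1, -, h3, -⟩ := exists_largest_open (isBaseNotion_fppf (S := S))
    (Groth.AlgStBasic.isLocalOnBase_fppf_of_fpqc isLocalOnBase_fpqc_isomorphisms) f'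
  let U' : AlgSp.Space S := ⟨openSub Y'.obj O, isAlgSpace_openSub Y'.property O.isOpen⟩
  let j : U' ⟶ Y' := ObjectProperty.homMk (openSubι Y'.obj O)
  have hjo : RepWith @IsOpenImmersion j.hom := repWith_openSubι O.isOpen
  have hrange : Set.range (AlgSp.Points.map j.hom) = (O : Set (AlgSp.Points Y'.obj)) :=
    range_map_openSubι
  refine ⟨U', j, hjo, fun P fst snd sq => ⟨(MorphismProperty.isomorphisms.iff _).1
    (h1 U' P j fst snd hjo hrange sq), ?_⟩⟩
  rw [range_map_eq_of_isPullback sq.flip, hrange]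
  ext x
  constructor
  · intro hx
    refine mem_qfLocus_of_iso hf1.1 hn O.isOpen ?_ hx
    exact (MorphismProperty.isomorphisms.iff _).1 (h1 U'
      ⟨pullback f'.hom j.hom, isAlgSpace_pullback X U' Y' f'.hom j.hom⟩ j
      (ObjectProperty.homMk (pullback.fst f'.hom j.hom))
      (ObjectProperty.homMk (pullback.snd f'.hom j.hom)) hjo hrange
      (IsPullback.of_hasPullback _ _))
  · intro hx
    obtain ⟨NO, g, V₀, g', l, hg, sq', hl, hmem⟩ := mem_goodLocus_of_qf hf1 hf2 hn hx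
    exact h3 NO V₀ g g' l (locP_flat_lfp_of_isEtaleMor hg) sq'
      ((MorphismProperty.isomorphisms.iff _).2 hl) hmem

end

end Groth.AlgSp2.NormalizationIsoLocus
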