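import Groth.Agent.AlgSp2.FpqcTop
import Groth.Agent.AlgSp2.LocPSource

/-!
# Open subsets descend along fpqc coverings
-/

set_option autoImplicit false
set_option backward.isDefEq.respectTransparency.types false
universe u

open CategoryTheory CategoryTheory.Limits AlgebraicGeometry AlgSp

namespace Groth.AlgSp2

open Groth.AlgSpBasic

noncomputable section

variable {S : Scheme.{u}} {ι : Type u} {T : Sp S} {Ti : ι → Sp S} {g : ∀ i, Ti i ⟶ T}

theorem existsUnique_open_descend (hT : IsAlgSpace T) (hg : IsFpqcCover Ti g)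
    (Wi : ∀ i, Set (Points (Ti i))) (hW : ∀ i, IsOpen (Wi i))
    (hc : ∀ i j, Points.map (pullback.fst (g i) (g j)) ⁻¹' Wi i =
      Points.map (pullback.snd (g i) (g j)) ⁻¹' Wi j) :
    ∃! W : TopologicalSpace.Opens (Points T),
      ∀ i, Points.map (g i) ⁻¹' (W : Set (Points T)) = Wi i := by
  let A : Set (Points T) := ⋃ i, Points.map (g i) '' Wi i
  have hA : ∀ i, Points.map (g i) ⁻¹' A = Wi i := fun i => by
    refine Set.Subset.antisymm (fun x hx => ?_) fun x hx => Set.mem_iUnion.2 ⟨i, x, hx, rfl⟩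
    obtain ⟨j, y, hy, e⟩ := Set.mem_iUnion.1 hx
    obtain ⟨z, h₁, h₂⟩ := Groth.AlgSpBasic.exists_point_of_isPullback
      (IsPullback.of_hasPullback (g i) (g j)) x y e.symm
    have h : z ∈ Points.map (pullback.snd (g i) (g j)) ⁻¹' Wi j :=
      show Points.map (pullback.snd (g i) (g j)) z ∈ Wi j by rw [h₂]; exact hy
    rw [← hc i j] at h
    rw [← h₁]
    exact h
  have hAo : IsOpen A := by
    refine isOpen_points_of_affine hT fun V φ hV => ?_
    obtain ⟨m, W, c, hWa, hcf, hs, hl⟩ := hg.2 V hV φ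
    refine isOpen_preimage_of_affCover φ ⟨m, W, c, hWa, hcf, hs⟩ A fun k => ?_
    obtain ⟨i, l, hl⟩ := hl k
    rw [← hl]
    have e : Points.ofPt (l ≫ g i) ⁻¹' A = Points.ofPt l ⁻¹' Wi i := by
      rw [← hA i]
      rfl
    rw [e]
    exact (hW i).preimage (Points.continuous_ofPt l)
  refine ⟨⟨A, hAo⟩, hA, fun W h => ?_⟩
  ext x
  obtain ⟨i, y, rfl⟩ := isFpqcCover_surj hg x
  exact (Set.ext_iff.1 (h i) y).trans (Set.ext_iff.1 (hA i) y).symm

end

end Groth.AlgSp2
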