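import Groth.Agent.AlgSpBasic.PointSpace
import Groth.Agent.AlgSp2.FppfProps
import Groth.Agent.AlgSpBasic.SepLocal
import Groth.Agent.DescentBase.UnivOpenField

/-!
# Everything over a field is flat and universally open
-/

set_option autoImplicit false
set_option backward.isDefEq.respectTransparency.types false
universe u

open CategoryTheory CategoryTheory.Limits AlgebraicGeometry AlgSp
open Groth.AlgSpBasic

namespace Groth.AlgSp2.OverField

noncomputable section

variable {S : Scheme.{u}} {k : Type u} [Field k] {σ : Spec (CommRingCat.of k) ⟶ S}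

theorem hasFlatPoint_yon (k : Type u) [Field k] (σ : Spec (CommRingCat.of k) ⟶ S) :
    HasFlatPoint ((yon S).obj (Over.mk σ)) :=
  ⟨k, inferInstance, σ, 𝟙 _, locP_of_repWith (repWith_isIso _), fun x => ⟨x, AlgSp.Points.map_id x⟩⟩

theorem isUnivOpenMor_of_repWith {X Y : Sp S} {f : X ⟶ Y} (h : RepWith @UniversallyOpen f) :
    IsUnivOpenMor f :=
  fun _ _ _ _ _ _ sq => isOpenMap_map_of_repWith
    (fun _ _ φ (_ : UniversallyOpen φ) => φ.isOpenMap) (repWith_of_isPullback sq h)

/-- A map to the spectrum of a field is flat and universally open. -/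
theorem flat_univOpen {X : Sp S} (hX : IsAlgSpace X) (f : X ⟶ (yon S).obj (Over.mk σ)) :
    LocP @Flat f ∧ IsUnivOpenMor f := by
  have hZ : IsAlgSpace ((yon S).obj (Over.mk σ)) := IsAlgSpace.yon_obj _
  refine ⟨locP_flat_of_hasFlatPoint hZ (hasFlatPoint_yon k σ) f, ?_⟩
  obtain ⟨U, a, ha, has⟩ := hX.atlas
  obtain ⟨h, hh⟩ := (yon S).map_surjective (a ≫ f)
  refine (isLocalOnSource_fppf_isUnivOpenMor (fun _ : PUnit.{u + 1} => (yon S).obj U) (fun _ => a) hX
    (fun _ => IsAlgSpace.yon_obj U) ⟨fun _ => ⟨?_, ?_⟩, fun x => ⟨⟨⟩, ?_⟩⟩ f hZ).2 fun _ => ?_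
  · exact locP_of_repWith (repWith_mono (fun _ _ g (_ : Etale g) => (inferInstance : Flat g)) ha)
  · exact locP_of_repWith (repWith_mono
      (fun _ _ g (_ : Etale g) => (inferInstance : LocallyOfFinitePresentation g)) ha)
  · exact surjective_map_of_repWith has x
  · rw [← hh]
    exact isUnivOpenMor_of_repWith ((repWith_yon_map_iff _ h).2
      (Groth.DescentBase.universallyOpen_of_field k h.left))

theorem flat_univOpen_of_iso {X U : Sp S} (hX : IsAlgSpace X)
    (e : U ≅ (yon S).obj (Over.mk σ)) (f : X ⟶ U) : LocP @Flat f ∧ IsUnivOpenMor f := by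
  have hU : IsAlgSpace U := IsAlgSpace.of_iso (IsAlgSpace.yon_obj _) e.symm
  have sq : IsPullback (𝟙 X) f (f ≫ e.hom) e.hom := IsPullback.of_horiz_isIso ⟨by simp⟩
  obtain ⟨h₁, h₂⟩ := flat_univOpen hX (f ≫ e.hom)
  exact ⟨locP_of_isPullback hX (IsAlgSpace.yon_obj _) hU sq h₁,
    fun Z Z' hZ a fst snd sq' =>
      h₂ hZ (a ≫ e.hom) fst snd (by simpa using sq'.paste_horiz sq)⟩

end

end Groth.AlgSp2.OverField
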