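import Groth.Prelude.Def_W4stk3sptopologiesPh
import Groth.Agent.HTopHyper.PhGlue
import Groth.Agent.AlgSp2.FppfProps
import Groth.Agent.S7190
import Groth.Agent.AlgSpBasic.Unramified

/-!
# ph coverings of algebraic spaces
-/

set_option autoImplicit false
set_option backward.isDefEq.respectTransparency.types false
set_option linter.unusedVariables false
universe u

open CategoryTheory CategoryTheory.Limits AlgebraicGeometry AlgSp

namespace Groth.AlgSp2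

open Groth.AlgSpBasic Groth.HTopHyper

noncomputable section

variable {S : Scheme.{u}} {ι : Type u} {X X' : Sp S} {Xi : ι → Sp S}

/-- The lifts of a morphism from a scheme through a family. -/
structure FamLift (g : ∀ i, Xi i ⟶ X) {Z : Over S} (h : (yon S).obj Z ⟶ X) : Type (u + 1) where
  W : Over S
  c : W ⟶ Z
  i : ι
  l : (yon S).obj W ⟶ Xi i
  w : l ≫ g i = (yon S).map c ≫ h

/-- The family of all lifts of a morphism from a scheme through a family. -/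
abbrev famLifts (g : ∀ i, Xi i ⟶ X) {Z : Over S} (h : (yon S).obj Z ⟶ X) :
    PreZeroHypercover.{u + 1} Z.left :=
  PreZeroHypercover.mk (FamLift g h) (fun a => a.W.left) (fun a => a.c.left)

variable {g : ∀ i, Xi i ⟶ X} {Z : Over S} {h : (yon S).obj Z ⟶ X}

theorem exists_lift_of_refines {A : Scheme.{u}} (π : A ⟶ Z.left) (a : FamLift g h)
    (r : A ⟶ a.W.left) (e : r ≫ a.c.left = π) :
    ∃ (i : ι) (l : (yon S).obj (Over.mk (π ≫ Z.hom)) ⟶ Xi i),
      l ≫ g i = (yon S).map (Over.homMk π rfl : Over.mk (π ≫ Z.hom) ⟶ Z) ≫ h := by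
  let r' : Over.mk (π ≫ Z.hom) ⟶ a.W := Over.homMk r (by
    change r ≫ a.W.hom = π ≫ Z.hom
    rw [← e, Category.assoc, Over.w a.c])
  refine ⟨a.i, (yon S).map r' ≫ a.l, ?_⟩
  rw [Category.assoc, a.w, ← Category.assoc, ← Functor.map_comp,
    show r' ≫ a.c = Over.homMk π rfl from Over.OverMorphism.ext e]

theorem phLift_iff :
    (∃ F : PreZeroHypercover.{0} Z.left, HTop.IsStandardPh F ∧ ∀ j : F.I₀, ∃ (i : ι)
      (l : (yon S).obj (Over.mk (F.f j ≫ Z.hom)) ⟶ Xi i),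
        l ≫ g i = (yon S).map (Over.homMk (F.f j) rfl : Over.mk (F.f j ≫ Z.hom) ⟶ Z) ≫ h) ↔
      PhRefinable (𝟙 Z.left) (famLifts g h) := by
  constructor
  · rintro ⟨F, hF, hl⟩
    refine ⟨F, hF, fun j => ?_⟩
    obtain ⟨i, l, hl⟩ := hl j
    let a : FamLift g h := FamLift.mk (Over.mk (F.f j ≫ Z.hom)) (Over.homMk (F.f j) rfl) i l hl
    refine ⟨a, 𝟙 (F.X j), ?_⟩
    exact (Category.id_comp (F.f j)).trans (Category.comp_id (F.f j)).symm
  · rintro ⟨F, hF, hr⟩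
    refine ⟨F, hF, fun j => ?_⟩
    obtain ⟨a, r, hr⟩ := hr j
    exact exists_lift_of_refines (F.f j) a r (hr.trans (Category.comp_id _))

theorem isPhCover_of_isPullback {Xi' : ι → Sp S} {q : ∀ i, Xi' i ⟶ X'} {a : X' ⟶ X}
    {p : ∀ i, Xi' i ⟶ Xi i} (hX : IsAlgSpace X) (hX' : IsAlgSpace X')
    (hXi : ∀ i, IsAlgSpace (Xi i)) (sq : ∀ i, IsPullback (q i) (p i) a (g i))
    (hg : IsPhCover Xi g) : IsPhCover Xi' q := by
  refine ⟨fun i => locP_of_isPullback (hXi i) hX hX' (sq i).flip (hg.1 i), fun Z hZ t => ?_⟩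
  obtain ⟨F, hF, hl⟩ := hg.2 Z hZ (t ≫ a)
  refine ⟨F, hF, fun j => ?_⟩
  obtain ⟨i, l, hl⟩ := hl j
  exact ⟨i, (sq i).lift ((yon S).map (Over.homMk (F.f j) rfl : Over.mk (F.f j ≫ Z.hom) ⟶ Z) ≫ t) l
    (by rw [Category.assoc, hl]), (sq i).lift_fst _ _ _⟩

theorem isPhCover_sigma {κ : ι → Type u} {Xij : ∀ i, κ i → Sp S} {gij : ∀ i j, Xij i j ⟶ Xi i}
    (hX : IsAlgSpace X) (hXi : ∀ i, IsAlgSpace (Xi i)) (hXij : ∀ i j, IsAlgSpace (Xij i j))
    (hg : IsPhCover Xi g) (hgij : ∀ i, IsPhCover (Xij i) (gij i)) :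
    IsPhCover (fun r : Σ i, κ i => Xij r.1 r.2) (fun r => gij r.1 r.2 ≫ g r.1) := by
  refine ⟨fun r => locP_comp (hXij r.1 r.2) (hXi r.1) hX ((hgij r.1).1 r.2) (hg.1 r.1),
    fun Z hZ h => ?_⟩
  rw [phLift_iff]
  have : IsAffine Z.left := hZ
  obtain ⟨F, hF, hl⟩ := hg.2 Z hZ h
  choose i l hl using hl
  have key : PhRefinable (𝟙 Z.left) (F.bind fun k => famLifts (gij (i k)) (l k)) := by
    refine phRefinable_bind ⟨F, hF, fun k => ⟨k, 𝟙 (F.X k), by simp⟩⟩ _ fun k A _ c => ?_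
    have h0 := (hgij (i k)).2 (Over.mk (F.f k ≫ Z.hom)) (hF.isAffine_obj k) (l k)
    rw [phLift_iff] at h0
    exact (Category.comp_id c) ▸ h0.pullback₁ c
  obtain ⟨G, hG, hr⟩ := key
  refine ⟨G, hG, fun j => ?_⟩
  obtain ⟨⟨k, a⟩, r, hr⟩ := hr j
  refine ⟨⟨a.W, a.c ≫ (Over.homMk (F.f k) rfl : Over.mk (F.f k ≫ Z.hom) ⟶ Z), ⟨i k, a.i⟩, a.l, ?_⟩,
    r, hr⟩
  rw [Functor.map_comp, Category.assoc, ← hl k, ← Category.assoc, ← Category.assoc, ← a.w,
    Category.assoc]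

theorem isPhCover_of_isFppfCover (hX : IsAlgSpace X) (hXi : ∀ i, IsAlgSpace (Xi i))
    (hg : IsFppfCover Xi g) : IsPhCover Xi g := by
  refine ⟨fun i => locP_mono (fun A B k (hk : LocallyOfFinitePresentation k) =>
    (inferInstance : LocallyOfFiniteType k)) (hg.1 i).2, fun Z hZ h => ?_⟩
  rw [phLift_iff]
  have : IsAffine Z.left := hZ
  have key : ∀ z : Z.left, ∃ a : FamLift g h, Flat a.c.left ∧
      LocallyOfFinitePresentation a.c.left ∧ z ∈ Set.range a.c.left := by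
    intro z
    obtain ⟨i, y, hy⟩ := hg.2 (Points.ofPt h z)
    have sq := IsPullback.of_hasPullback (g i) h
    have hP := isAlgSpace_of_isPullback sq hX.diag (hXi i) (IsAlgSpace.yon_obj Z)
    obtain ⟨w, -, hw⟩ := Groth.AlgSpBasic.exists_point_of_isPullback sq y (Points.ofScheme Z z)
      (hy.trans (Points.ofPt_eq_map_ofScheme h z))
    obtain ⟨T, ψ, hψ, hψs⟩ := hP.atlas
    obtain ⟨t, rfl⟩ := surjective_ofPt_of_repWith hψs w
    obtain ⟨χ, hχ⟩ := (yon S).map_surjective (ψ ≫ pullback.snd (g i) h)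
    have e : ψ ≫ pullback.snd (g i) h = (yon S).map χ ≫ 𝟙 _ := by rw [Category.comp_id, hχ]
    refine ⟨⟨T, χ, i, ψ ≫ pullback.fst (g i) h, by
      rw [Category.assoc, pullback.condition, ← Category.assoc, hχ]⟩,
      locP_of_isPullback (hXi i) hX (IsAlgSpace.yon_obj Z) sq (hg.1 i).1
        ψ (𝟙 _) χ hψ (repWith_id _ Z) e,
      locP_of_isPullback (hXi i) hX (IsAlgSpace.yon_obj Z) sq (hg.1 i).2
        ψ (𝟙 _) χ hψ (repWith_id _ Z) e, ⟨t, ?_⟩⟩
    rw [Points.map_ofPt, ← hχ] at hw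
    have := congrArg (Points.toScheme Z) hw
    rwa [Points.toScheme_ofPt, Points.toScheme_ofScheme] at this
  choose a hfl hfp hz using key
  have hE := Groth.Agent.S7190.result
    (PreZeroHypercover.mk Z.left (fun z => (a z).W.left) (fun z => (a z).c.left)) hfl hfp
    (fun z => ⟨z, hz z⟩)
  obtain ⟨F, hF, hr⟩ := phRefinable_of_isPhCover (𝟙 Z.left) hE
  exact ⟨F, hF, fun j => let ⟨z, r, hr⟩ := hr j; ⟨a z, r, hr⟩⟩

end

end Groth.AlgSp2
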