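import Groth.Agent.AlgSp2.ResidualSpace
import Groth.Agent.AlgSpBasic.DecentTop
import Groth.Agent.S3433
import Mathlib.Topology.Spectral.Basic
import Mathlib.Topology.JacobsonSpace

/-!
# Punctured generizations on decent locally Noetherian spaces
-/

set_option autoImplicit false
set_option backward.isDefEq.respectTransparency.types false
universe u

open CategoryTheory CategoryTheory.Limits AlgebraicGeometry AlgSp Groth.AlgSpBasic TopologicalSpace

namespace Groth.AlgSp2.PuncturedGen

section Topology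

variable {A B : Type*} [TopologicalSpace A] [TopologicalSpace B] {f : A → B}

theorem quasiSober_of_surjective [NoetherianSpace A] [QuasiSober A] (hf : Continuous f)
    (hs : Function.Surjective f) : QuasiSober B := by
  refine ⟨fun {Z} hZ hZc => ?_⟩
  obtain ⟨T, hTf, hTc, hTi, hT⟩ :=
    NoetherianSpace.exists_finite_set_isClosed_irreducible (hZc.preimage hf)
  obtain ⟨W, hW, hle⟩ := isIrreducible_iff_sUnion_isClosed.1 hZ (hTf.toFinset.image fun W => closure (f '' W))
    (fun z hz => by
      classical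
      obtain ⟨W, -, rfl⟩ := Finset.mem_image.1 hz
      exact isClosed_closure)
    (fun z hz => by
      classical
      obtain ⟨a, rfl⟩ := hs z
      obtain ⟨W, hW, haW⟩ := (hT ▸ hz : a ∈ ⋃₀ T)
      exact ⟨_, Finset.mem_coe.2 (Finset.mem_image_of_mem _ (hTf.mem_toFinset.2 hW)),
        subset_closure ⟨a, haW, rfl⟩⟩)
  classical
  obtain ⟨W', hW', rfl⟩ := Finset.mem_image.1 hW
  rw [Set.Finite.mem_toFinset] at hW'
  obtain ⟨w, hw⟩ := QuasiSober.sober (hTi W' hW') (hTc W' hW')
  refine ⟨f w, ?_⟩
  have hmem : f w ∈ Z := by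
    have : w ∈ f ⁻¹' Z := hT ▸ ⟨W', hW', hw.mem⟩
    exact this
  refine (subset_antisymm (closure_minimal (Set.singleton_subset_iff.2 hmem) hZc) ?_ : closure {f w} = Z)
  refine hle.trans (closure_minimal ?_ isClosed_closure)
  rintro _ ⟨v, hv, rfl⟩
  exact specializes_iff_mem_closure.1 ((hw.specializes hv).map hf)

/-- Jacobson spaces descend along maps lifting generizations with specialization-free fibres. -/
theorem jacobsonSpace_of_surjective [NoetherianSpace A] [JacobsonSpace A] [T0Space B] (hf : Continuous f)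
    (hs : Function.Surjective f) (hlift : ∀ a y, y ⤳ f a → ∃ a', a' ⤳ a ∧ f a' = y)
    (hfib : ∀ a a', a ⤳ a' → f a = f a' → a = a') : JacobsonSpace B := by
  have : NoetherianSpace B := noetherianSpace_of_surjective f hf hs
  rw [jacobsonSpace_iff_locallyClosed]
  intro Z hne hZ
  obtain ⟨C, ⟨y, hy, rfl⟩, hmin⟩ := (wellFounded_lt (α := Closeds B)).has_min
    ((fun y => Closeds.closure {y}) '' Z) (hne.image _)
  refine ⟨y, hy, ?_⟩
  by_contra hyc
  obtain ⟨y₁, hy₁, hne₁⟩ : ∃ y₁ ∈ closure ({y} : Set B), y₁ ≠ y := by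
    by_contra hn
    push Not at hn
    exact hyc (isClosed_of_closure_subset fun z hz => hn z hz)
  obtain ⟨a₁, rfl⟩ := hs y₁
  obtain ⟨a, ha, rfl⟩ := hlift a₁ y (specializes_iff_mem_closure.2 hy₁)
  obtain ⟨c, ⟨hcZ, hca⟩, hcc⟩ := jacobsonSpace_iff_locallyClosed.1 ‹JacobsonSpace A›
    (f ⁻¹' Z ∩ closure {a}) ⟨a, hy, subset_closure rfl⟩
    ((hZ.preimage hf).inter isClosed_closure.isLocallyClosed)
  have hac : a ⤳ c := specializes_iff_mem_closure.2 hca
  have hne' : a ≠ c := by
    rintro rfl
    have : a₁ ∈ closure ({a} : Set A) := specializes_iff_mem_closure.1 ha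
    rw [(hcc : IsClosed ({a} : Set A)).closure_eq, Set.mem_singleton_iff] at this
    exact hne₁ (congrArg f this)
  refine hmin _ ⟨f c, hcZ, rfl⟩ (lt_of_le_not_ge ?_ ?_)
  · show closure {f c} ⊆ closure {f a}
    exact closure_minimal (Set.singleton_subset_iff.2
      (specializes_iff_mem_closure.1 (hac.map hf))) isClosed_closure
  · intro h
    have h' : f c ⤳ f a := specializes_iff_mem_closure.2 (h (subset_closure rfl))
    exact hne' (hfib a c hac ((hac.map hf).antisymm h').eq)

theorem properties_of_surjective [NoetherianSpace A] [QuasiSober A] [JacobsonSpace A] [T0Space B]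
    (hf : Continuous f) (hs : Function.Surjective f)
    (hlift : ∀ a y, y ⤳ f a → ∃ a', a' ⤳ a ∧ f a' = y)
    (hfib : ∀ a a', a ⤳ a' → f a = f a' → a = a') :
    NoetherianSpace B ∧ SpectralSpace B ∧ QuasiSober B ∧ JacobsonSpace B := by
  have : NoetherianSpace B := noetherianSpace_of_surjective f hf hs
  have : QuasiSober B := quasiSober_of_surjective hf hs
  have : QuasiSeparatedSpace B := ⟨fun U V _ _ _ _ => NoetherianSpace.isCompact _⟩
  exact ⟨inferInstance, SpectralSpace.mk, inferInstance, jacobsonSpace_of_surjective hf hs hlift hfib⟩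

end Topology

noncomputable section

variable {S : Scheme.{u}} {X : Sp S}

theorem punctured (hX : IsAlgSpace X) (hd : IsDecent X) (hN : IsLocNoethSp X) (x : Points X) :
    NoetherianSpace {x' : Points X // x' ⤳ x ∧ x' ≠ x} ∧
      SpectralSpace {x' : Points X // x' ⤳ x ∧ x' ≠ x} ∧
      QuasiSober {x' : Points X // x' ⤳ x ∧ x' ≠ x} ∧
      JacobsonSpace {x' : Points X // x' ⤳ x ∧ x' ≠ x} := by
  have := t0Space_of_isDecent hX hd
  obtain ⟨U, a, ha, has⟩ := hX.atlas
  have := Groth.AlgSp2.isLocallyNoetherian_of_etale hX hN ha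
  obtain ⟨z, rfl⟩ := surjective_ofPt_of_repWith has x
  let O : Type u := U.left.presheaf.stalk z
  let A : Type u := ↥({IsLocalRing.closedPoint O}ᶜ : Set (PrimeSpectrum O))
  let ι : A → ↥U.left := fun P => U.left.fromSpecStalk z P.1
  have hι : Continuous ι := (U.left.fromSpecStalk z).continuous.comp continuous_subtype_val
  have hinj : Function.Injective (U.left.fromSpecStalk z) :=
    (U.left.fromSpecStalk z).isEmbedding.injective
  have hιz : ∀ P : A, ι P ⤳ z := fun P => by
    have h : ι P ∈ Set.range (U.left.fromSpecStalk z) := ⟨P.1, rfl⟩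
    rw [Scheme.range_fromSpecStalk] at h
    exact h
  have hιne : ∀ P : A, ι P ≠ z := fun P e =>
    P.2 (hinj (e.trans (Scheme.fromSpecStalk_closedPoint).symm))
  let f : A → {x' : Points X // x' ⤳ Points.ofPt a z ∧ x' ≠ Points.ofPt a z} := fun P =>
    ⟨Points.ofPt a (ι P), (hιz P).map (Points.continuous_ofPt a),
      fun e => hιne P (ResidualSpace.eq_of_specializes hX hN ha (hιz P) e)⟩
  have hf : Continuous f := ((Points.continuous_ofPt a).comp hι).subtype_mk _
  have hlift₀ : ∀ (v : ↥U.left) (y : Points X), v ⤳ z → y ⤳ Points.ofPt a v → y ≠ Points.ofPt a z →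
      ∃ P : A, ι P ⤳ v ∧ Points.ofPt a (ι P) = y := by
    intro v y hv hy hne
    obtain ⟨v', hv', rfl⟩ := exists_specializes_of_finiteAt (finiteAt_of_isDecent hd y) ha hy
    obtain ⟨P, hP⟩ : v' ∈ Set.range (U.left.fromSpecStalk z) := by
      rw [Scheme.range_fromSpecStalk]; exact hv'.trans hv
    refine ⟨⟨P, fun h => hne ?_⟩, hP ▸ hv', congrArg (Points.ofPt a) hP⟩
    rw [← hP, Set.mem_singleton_iff.1 h, Scheme.fromSpecStalk_closedPoint]
  have : IsNoetherianRing O := inferInstanceAs (IsNoetherianRing ↥(U.left.presheaf.stalk z))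
  have hopen : IsOpen ({IsLocalRing.closedPoint O}ᶜ : Set (PrimeSpectrum O)) :=
    ((PrimeSpectrum.isClosed_singleton_iff_isMaximal _).2 (IsLocalRing.maximalIdeal.isMaximal O)).isOpen_compl
  have : QuasiSober A := hopen.isOpenEmbedding_subtypeVal.quasiSober
  have : JacobsonSpace A := (Groth.Agent.S3433.result O).1
  refine properties_of_surjective hf ?_ ?_ ?_
  · rintro ⟨y, hy, hne⟩
    obtain ⟨P, -, hP⟩ := hlift₀ z y specializes_rfl hy hne
    exact ⟨P, Subtype.ext hP⟩
  · rintro P ⟨y, hy, hne⟩ h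
    obtain ⟨P', hP', e⟩ := hlift₀ (ι P) y (hιz P) (h.map continuous_subtype_val) hne
    refine ⟨P', ?_, Subtype.ext e⟩
    rw [subtype_specializes_iff]
    exact (U.left.fromSpecStalk z).isEmbedding.isInducing.specializes_iff.1 hP'
  · intro P P' h e
    exact Subtype.ext (hinj (ResidualSpace.eq_of_specializes hX hN ha (h.map hι) (congrArg Subtype.val e)))

end

end Groth.AlgSp2.PuncturedGen
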