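import Groth.Agent.QfCodim.Scheme
import Groth.Agent.AlgSp2.QfNbhd
import Groth.Agent.AlgSp2.InfSmallExt
import Groth.Agent.AlgSp3.HasAtMor
import Groth.Agent.AlgSpBasic.LocalDim

/-!
# Quasi-finiteness of morphisms of algebraic spaces over points of codimension at most one
-/

set_option autoImplicit false
set_option backward.isDefEq.respectTransparency.types false
universe u

open CategoryTheory CategoryTheory.Limits AlgebraicGeometry AlgSp

namespace Groth.AlgSp2.QfCodim

open Groth.AlgSpBasic Groth.AlgSp3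

noncomputable section

variable {S : Scheme.{u}} {X Y : AlgSp.Space S} (f : X ⟶ Y) (hf : LocP @LocallyOfFiniteType f.hom)
  (hY : IsLocNoethSp Y.obj) (y : AlgSp.Points Y.obj)
  (hy : HasAt (fun U u => ringKrullDim ↥(U.presheaf.stalk u) ≤ 1) Y.obj y)

/-- `f` is quasi-finite near the point. -/
abbrev QfAt {A B : Sp S} (g : A ⟶ B) (x : AlgSp.Points A) : Prop :=
  HasAtMor (fun U _ h u => ∃ W : U.Opens, u ∈ W ∧ LocallyQuasiFinite (W.ι ≫ h) ∧
    LocallyOfFiniteType (W.ι ≫ h)) g x

theorem qfAt_iff_of_chart {A B : Sp S} (hA : IsAlgSpace A) (hB : IsAlgSpace B) {g : A ⟶ B}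
    {U V : Over S} {a : (yon S).obj U ⟶ A} {b : (yon S).obj V ⟶ B} {k : U ⟶ V}
    (ha : RepWith @Etale a) (hb : RepWith @Etale b) (comm : a ≫ g = (yon S).map k ≫ b)
    [LocallyOfFiniteType k.left] (u : ↥U.left) :
    QfAt g (Points.ofPt a u) ↔ k.left.QuasiFiniteAt u := by
  rw [Groth.QfCodim.quasiFiniteAt_iff, ← nbhd_lqf_iff_fibreDimAt]
  exact hasAtMor_iff_of_chart (etMor_nbhd
    (@LocallyQuasiFinite ⊓ @LocallyOfFiniteType : MorphismProperty Scheme.{u})) id hA.diag hB.diag
      ha hb comm u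

include hf hY hy in
theorem qfAt_of_generic
    (hgen : ∀ (U V : Over S) (a : (yon S).obj U ⟶ X.obj) (b : (yon S).obj V ⟶ Y.obj) (k : U ⟶ V),
      RepWith @Etale a → RepWith @Etale b → a ≫ f.hom = (yon S).map k ≫ b → ∀ ξ : ↥U.left,
      Order.coheight ξ = 0 → Points.map f.hom (Points.ofPt a ξ) ⤳ y → k.left.QuasiFiniteAt ξ)
    (x : AlgSp.Points X.obj) (hx : Points.map f.hom x = y) : QfAt f.hom x := by
  obtain ⟨U, V, a, b, k, u, ha, hb, comm, rfl⟩ := exists_chart_at X.property Y.property f.hom x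
  have : LocallyOfFiniteType k.left := hf a b k ha hb comm
  have : IsLocallyNoetherian V.left := isLocallyNoetherian_of_etale Y.property hY hb
  rw [qfAt_iff_of_chart X.property Y.property ha hb comm]
  have hky : Points.ofPt b (k.left u) = y := by
    rw [← hx, Points.map_ofPt, comm, ofPt_comp_yon]
  refine Groth.QfCodim.quasiFiniteAt_of_codim_le_one k.left u ?_ fun ξ hs hξ => ?_
  · obtain ⟨V', b', v', hb', hv', hd⟩ := hy
    rw [← inv_eq_of_ofPt_eq etaleInvariant_ringKrullDim Y.property hb' hb (hv'.trans hky.symm)]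
    exact hd
  · refine hgen U V a b k ha hb comm ξ hξ ?_
    rw [← hx]
    exact (hs.map (Points.continuous_ofPt a)).map (Points.continuous_map f.hom)

theorem hasAt_codimZero {A : Sp S} {U : Over S} {a : (yon S).obj U ⟶ A} (ha : RepWith @Etale a)
    {ξ : ↥U.left} (hξ : Order.coheight ξ = 0) :
    HasAt (fun U u => ringKrullDim ↥(U.presheaf.stalk u) = 0) A (Points.ofPt a ξ) :=
  ⟨U, a, ξ, ha, rfl, (ringKrullDim_stalk_eq_coheight ξ).trans (by rw [hξ]; rfl)⟩

include hf hY hy in
theorem qfAt_of_trdeg_zero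
    (h : ∀ x : AlgSp.Points X.obj,
      HasAt (fun U u => ringKrullDim ↥(U.presheaf.stalk u) = 0) X.obj x →
      Points.map f.hom x ⤳ y → HasAtMor (fun _ _ h u => Dual3.resTrdeg h u = 0) f.hom x)
    (x : AlgSp.Points X.obj) (hx : Points.map f.hom x = y) : QfAt f.hom x := by
  refine qfAt_of_generic f hf hY y hy (fun U V a b k ha hb comm ξ hξ hs => ?_) x hx
  have : LocallyOfFiniteType k.left := hf a b k ha hb comm
  exact Groth.QfCodim.quasiFiniteAt_of_trdeg_zero k.left hξ
    ((hasAtMor_iff_of_chart etMor_resTrdeg (· = 0) X.property.diag Y.property.diag ha hb comm ξ).1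
      (h _ (hasAt_codimZero ha hξ) hs))

include hf hY hy in
theorem qfAt_of_qf_codimZero
    (h : ∀ x : AlgSp.Points X.obj,
      HasAt (fun U u => ringKrullDim ↥(U.presheaf.stalk u) = 0) X.obj x → QfAt f.hom x)
    (x : AlgSp.Points X.obj) (hx : Points.map f.hom x = y) : QfAt f.hom x := by
  refine qfAt_of_generic f hf hY y hy (fun U V a b k ha hb comm ξ hξ hs => ?_) x hx
  have : LocallyOfFiniteType k.left := hf a b k ha hb comm
  exact (qfAt_iff_of_chart X.property Y.property ha hb comm ξ).1 (h _ (hasAt_codimZero ha hξ))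

include hf hY hy in
theorem qfAt_of_dense (h : Dense {x : AlgSp.Points X.obj | QfAt f.hom x})
    (x : AlgSp.Points X.obj) (hx : Points.map f.hom x = y) : QfAt f.hom x := by
  refine qfAt_of_generic f hf hY y hy (fun U V a b k ha hb comm ξ hξ hs => ?_) x hx
  have : LocallyOfFiniteType k.left := hf a b k ha hb comm
  have : IsLocallyNoetherian V.left := isLocallyNoetherian_of_etale Y.property hY hb
  have : IsLocallyNoetherian U.left := LocallyOfFiniteType.isLocallyNoetherian k.left
  refine (qfAt_iff_of_chart X.property Y.property ha hb comm ξ).1 ?_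
  exact Groth.QfCodim.mem_of_dense_of_coheight_eq_zero
    ((isOpen_hasAtMor_nbhd (@LocallyQuasiFinite ⊓ @LocallyOfFiniteType : MorphismProperty Scheme.{u})
      X.property Y.property f.hom).preimage (Points.continuous_ofPt a))
    (h.preimage (isOpenMap_ofPt_of_etale ha)) hξ

theorem exists_finite_nhd (hp : IsProperMor f.hom)
    (hq : ∀ x : AlgSp.Points X.obj, Points.map f.hom x = y → QfAt f.hom x) :
    ∃ (Y' : AlgSp.Space S) (j : Y' ⟶ Y), RepWith @IsOpenImmersion j.hom ∧
      y ∈ Set.range (Points.map j.hom) ∧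
      ∀ (P : AlgSp.Space S) (fst : P ⟶ Y') (snd : P ⟶ X),
        IsPullback fst.hom snd.hom j.hom f.hom → IsFiniteMor fst.hom := by
  obtain ⟨V, j, hj, hy', hfin⟩ := exists_open_finite_of_qf_over f y hp hq
  exact ⟨V, j, hj, hy', fun P fst snd sq => hfin P snd fst sq.flip⟩

end

end Groth.AlgSp2.QfCodim
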