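import Groth.Prelude.Def_AlgSpGpd
import Groth.Agent.AlgSpBasic.AffineDescent
import Groth.Agent.AlgSp2.FpqcRep
import Groth.Agent.AlgSp2.GrpdAlg
import Mathlib.CategoryTheory.Sites.RegularEpi

/-!
# Quotient sheaves of pre-equivalence relations
-/

set_option autoImplicit false
set_option backward.isDefEq.respectTransparency.types false
universe u

open CategoryTheory CategoryTheory.Limits AlgebraicGeometry Opposite AlgSp
open Groth.AlgSpBasic

namespace Groth.AlgSp2.QuotPreEqv

noncomputable section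

variable {S : Scheme.{u}} {R U : Sp S} (s t : R ⟶ U)

/-- The relation on sections. -/
def rel (T : (Over S)ᵒᵖ) (x y : U.obj.obj T) : Prop :=
  ∃ r : R.obj.obj T, t.hom.app T r = x ∧ s.hom.app T r = y

/-- The quotient presheaf. -/
def presheaf : (Over S)ᵒᵖ ⥤ Type (u + 1) where
  obj T := Quot (rel s t T)
  map {T T'} i := TypeCat.ofHom (Quot.map (U.obj.map i) (by
    rintro x y ⟨r, rfl, rfl⟩
    exact ⟨R.obj.map i r, NatTrans.naturality_apply t.hom i r, NatTrans.naturality_apply s.hom i r⟩))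
  map_id T := by
    ext ⟨x⟩
    show Quot.mk _ (U.obj.map (𝟙 T) x) = Quot.mk _ x
    rw [Functor.map_id_apply]
  map_comp i j := by
    ext ⟨x⟩
    show Quot.mk _ (U.obj.map (i ≫ j) x) = Quot.mk _ (U.obj.map j (U.obj.map i x))
    rw [Functor.map_comp_apply]

/-- The quotient map on presheaves. -/
def mkMap : U.obj ⟶ presheaf s t where
  app T := TypeCat.ofHom (Quot.mk (rel s t T))
  naturality _ _ _ := rfl

/-- Its composite with sheafification. -/
def shMap : U ⟶ ⟨(J S).sheafify (presheaf s t), GrothendieckTopology.sheafify_isSheaf _ _⟩ :=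
  ObjectProperty.homMk (mkMap s t ≫ (J S).toSheafify (presheaf s t))

theorem shMap_condition : s ≫ shMap s t = t ≫ shMap s t := by
  apply ObjectProperty.hom_ext
  ext T r
  exact (congrArg (((J S).toSheafify (presheaf s t)).app T)
    (Quot.sound (r := rel s t T) ⟨r, rfl, rfl⟩)).symm

theorem equivalence_rel (h : IsPreEqvRelSp s t) (T : Over S) :
    _root_.Equivalence (rel s t (op T)) := by
  have e : ∀ x y : U.obj.obj (op T), rel s t (op T) x y ↔
      ∃ r : (yon S).obj T ⟶ R, r ≫ t = yEquiv.symm x ∧ r ≫ s = yEquiv.symm y := by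
    intro x y
    constructor
    · rintro ⟨r, rfl, rfl⟩
      exact ⟨yEquiv.symm r, yEquiv.injective (by rw [yEquiv_comp, Equiv.apply_symm_apply, Equiv.apply_symm_apply]),
        yEquiv.injective (by rw [yEquiv_comp, Equiv.apply_symm_apply, Equiv.apply_symm_apply])⟩
    · rintro ⟨r, h₁, h₂⟩
      exact ⟨yEquiv r, by rw [← yEquiv_comp, h₁, Equiv.apply_symm_apply],
        by rw [← yEquiv_comp, h₂, Equiv.apply_symm_apply]⟩
  have H := (h T).comap (fun x : U.obj.obj (op T) => yEquiv.symm x)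
  constructor
  · exact fun x => (e x x).2 (H.refl x)
  · exact fun hxy => (e _ _).2 (H.symm ((e _ _).1 hxy))
  · exact fun h₁ h₂ => (e _ _).2 (H.trans ((e _ _).1 h₁) ((e _ _).1 h₂))

/-- The pre-relation covers the kernel pair of the quotient map. -/
theorem isLocallySurjective_lift (h : IsPreEqvRelSp s t) :
    Sheaf.IsLocallySurjective
      (pullback.lift t s (quotSp_condition s t).symm :
        R ⟶ pullback (quotSpπ s t) (quotSpπ s t)) := by
  constructor
  intro T x
  let z : (yon S).obj T ⟶ _ := yEquiv.symm x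
  let a := z ≫ pullback.fst (quotSpπ s t) (quotSpπ s t)
  let b := z ≫ pullback.snd (quotSpπ s t) (quotSpπ s t)
  have hab : a ≫ shMap s t = b ≫ shMap s t := by
    rw [← quotSpπ_desc s t (shMap s t) (shMap_condition s t), ← Category.assoc, ← Category.assoc]
    simp only [a, b, Category.assoc, pullback.condition_assoc]
  have := congrArg yEquiv hab
  rw [yEquiv_comp, yEquiv_comp] at this
  refine GrothendieckTopology.superset_covering _ (fun V i hi => ?_)
    (Presheaf.equalizerSieve_mem (J S) ((J S).toSheafify (presheaf s t)) (X := op T)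
      (Quot.mk _ (yEquiv a)) (Quot.mk _ (yEquiv b)) this)
  obtain ⟨r, hr₁, hr₂⟩ := ((equivalence_rel s t h V).quot_mk_eq_iff _ _).1 hi
  refine ⟨r, ?_⟩
  apply yEquiv.symm.injective
  apply pullback.hom_ext
  · apply yEquiv.injective
    rw [yEquiv_comp, yEquiv_comp, Equiv.apply_symm_apply, Equiv.apply_symm_apply,
      ← NatTrans.comp_app_apply, ← ObjectProperty.FullSubcategory.comp_hom, pullback.lift_fst,
      NatTrans.naturality_apply]
    refine hr₁.trans (congrArg (U.obj.map i.op) ?_)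
    simp only [a, z]
    rw [yEquiv_comp, Equiv.apply_symm_apply]
  · apply yEquiv.injective
    rw [yEquiv_comp, yEquiv_comp, Equiv.apply_symm_apply, Equiv.apply_symm_apply,
      ← NatTrans.comp_app_apply, ← ObjectProperty.FullSubcategory.comp_hom, pullback.lift_snd,
      NatTrans.naturality_apply]
    refine hr₂.trans (congrArg (U.obj.map i.op) ?_)
    simp only [b, z]
    rw [yEquiv_comp, Equiv.apply_symm_apply]

theorem exists_cover_of_eq {R U : Sp S} {s t : R ⟶ U} (h : IsPreEqvRelSp s t) {Z : Sp S} (a b : Z ⟶ U)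
    (e : a ≫ quotSpπ s t = b ≫ quotSpπ s t) :
    ∃ (Z' : Sp S) (p : Z' ⟶ Z) (r : Z' ⟶ R), Epi p ∧ r ≫ t = p ≫ a ∧ r ≫ s = p ≫ b := by
  let l := (pullback.lift t s (quotSp_condition s t).symm :
    R ⟶ pullback (quotSpπ s t) (quotSpπ s t))
  have hl : Sheaf.IsLocallySurjective l := isLocallySurjective_lift s t h
  let m := pullback.lift a b e
  have := isLocallySurjective_of_isPullback (IsPullback.of_hasPullback l m)
  refine ⟨_, pullback.snd l m, pullback.fst l m,
    (Sheaf.isLocallySurjective_iff_epi _).1 this, ?_, ?_⟩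
  · have := pullback.condition (f := l) (g := m) =≫ pullback.fst _ _
    simp only [l, m] at this
    rwa [Category.assoc, Category.assoc, pullback.lift_fst, pullback.lift_fst] at this
  · have := pullback.condition (f := l) (g := m) =≫ pullback.snd _ _
    simp only [l, m] at this
    rwa [Category.assoc, Category.assoc, pullback.lift_snd, pullback.lift_snd] at this

/-- A map of quotients is a monomorphism if related points of the source are related there. -/
theorem mono_of_lift {R' U' : Sp S} {s t : R ⟶ U} {s' t' : R' ⟶ U'} (h : IsPreEqvRelSp s t) (g : U' ⟶ U)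
    (hlift : ∀ {Z : Sp S} (a b : Z ⟶ U') (r : Z ⟶ R), r ≫ t = a ≫ g → r ≫ s = b ≫ g →
      ∃ r' : Z ⟶ R', r' ≫ t' = a ∧ r' ≫ s' = b)
    (ψ : quotSp s' t' ⟶ quotSp s t) (hψ : quotSpπ s' t' ≫ ψ = g ≫ quotSpπ s t) : Mono ψ := by
  have hπ : Epi (quotSpπ s' t') := inferInstanceAs (Epi (coequalizer.π s' t'))
  have hπl := (Sheaf.isLocallySurjective_iff_epi (quotSpπ s' t')).2 hπ
  constructor
  intro Z x y e
  have := (Sheaf.isLocallySurjective_iff_epi _).1
    (isLocallySurjective_of_isPullback (IsPullback.of_hasPullback (quotSpπ s' t') x))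
  let px := pullback.snd (quotSpπ s' t') x
  have := (Sheaf.isLocallySurjective_iff_epi _).1
    (isLocallySurjective_of_isPullback (IsPullback.of_hasPullback (quotSpπ s' t') (px ≫ y)))
  let py := pullback.snd (quotSpπ s' t') (px ≫ y)
  let a := py ≫ pullback.fst (quotSpπ s' t') x
  let b := pullback.fst (quotSpπ s' t') (px ≫ y)
  have hae : a ≫ quotSpπ s' t' = py ≫ px ≫ x := by simp only [a, px, Category.assoc, pullback.condition]
  have hbe : b ≫ quotSpπ s' t' = py ≫ px ≫ y := pullback.condition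
  clear_value a b
  have he : (a ≫ g) ≫ quotSpπ s t = (b ≫ g) ≫ quotSpπ s t := by
    calc (a ≫ g) ≫ quotSpπ s t = (a ≫ quotSpπ s' t') ≫ ψ := by rw [Category.assoc, Category.assoc, hψ]
      _ = (b ≫ quotSpπ s' t') ≫ ψ := by rw [hae, hbe]; simp only [Category.assoc, e]
      _ = (b ≫ g) ≫ quotSpπ s t := by rw [Category.assoc, Category.assoc, hψ]
  obtain ⟨Z', p, r, hp, h₁, h₂⟩ := exists_cover_of_eq h _ _ he
  rw [← Category.assoc] at h₁ h₂
  obtain ⟨r', h₁', h₂'⟩ := hlift _ _ r h₁ h₂
  have key : p ≫ a ≫ quotSpπ s' t' = p ≫ b ≫ quotSpπ s' t' := by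
    rw [← Category.assoc, ← h₁', ← Category.assoc p b, ← h₂', Category.assoc, Category.assoc]
    exact congrArg (r' ≫ ·) (quotSp_condition s' t').symm
  rw [hae, hbe] at key
  rwa [cancel_epi, cancel_epi, cancel_epi] at key

/-- An epimorphic monomorphism of quotient sheaves is an isomorphism. -/
theorem isIso_of_epi {R' U' : Sp S} {s t : R ⟶ U} {s' t' : R' ⟶ U'} (g : U' ⟶ U)
    (ψ : quotSp s' t' ⟶ quotSp s t) (hψ : quotSpπ s' t' ≫ ψ = g ≫ quotSpπ s t) [Mono ψ]
    [Epi (g ≫ quotSpπ s t)] : IsIso ψ := by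
  have : Epi (quotSpπ s' t' ≫ ψ) := by rw [hψ]; infer_instance
  have := epi_of_epi (quotSpπ s' t') ψ
  exact isIso_of_mono_of_epi ψ

theorem isPreEqvRelSp_groupoid {B : Sp S} (G : GroupoidSp B) : IsPreEqvRelSp G.s G.t := by
  refine fun T => ⟨fun a => ⟨a ≫ G.e, ?_, ?_⟩, ?_, ?_⟩
  · rw [Category.assoc, G.e_t, Category.comp_id]
  · rw [Category.assoc, G.e_s, Category.comp_id]
  · rintro a b ⟨r, rfl, rfl⟩
    exact ⟨r ≫ G.i, GrpdAlg.inv_tgt G r, GrpdAlg.inv_src G r⟩
  · rintro a b c ⟨r, rfl, h⟩ ⟨r', h', rfl⟩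
    exact ⟨GrpdAlg.comp G r r' (h.trans h'.symm), GrpdAlg.comp_tgt G _, GrpdAlg.comp_src G _⟩

end

end Groth.AlgSp2.QuotPreEqv
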