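import Groth.Agent.AlgSp2.GeomReducedFibre
import Groth.Agent.AlgSp2.CancelSep
import Groth.Agent.Flatmor4.CMComp
import Mathlib.RingTheory.Filtration
import Mathlib.Tactic.LinearCombination
import Mathlib.RingTheory.DiscreteValuationRing.Basic

/-!
# Proper flat algebraic spaces over a DVR with reduced special fibre
-/

set_option autoImplicit false
set_option backward.isDefEq.respectTransparency.types false
set_option linter.style.haveILetI false
universe u

open CategoryTheory CategoryTheory.Limits AlgebraicGeometry AlgSp Groth.AlgSpBasic IsLocalRing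

namespace Groth.AlgSp2.ReducedOverDVR

noncomputable section

/-- A flat local algebra over a ring with principal regular maximal ideal is reduced if its closed fibre is. -/
theorem isReduced_of_closedFibre {A B : Type u} [CommRing A] [CommRing B] [IsDomain A] [IsLocalRing A]
    [IsLocalRing B] [IsNoetherianRing B] (φ : A →+* B) [IsLocalHom φ] (hφ : φ.Flat) {p : A} (hp0 : p ≠ 0)
    (hp : maximalIdeal A = Ideal.span {p}) (h : _root_.IsReduced (B ⧸ (maximalIdeal A).map φ)) :
    _root_.IsReduced B := by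
  have hmap : (maximalIdeal A).map φ = Ideal.span {φ p} := by rw [hp, Ideal.map_span, Set.image_singleton]
  have hpm : φ p ∈ maximalIdeal B := fun hu => (hp ▸ Ideal.mem_span_singleton_self p : p ∈ maximalIdeal A)
    (isUnit_of_map_unit φ p hu)
  have hreg : ∀ y : B, φ p * y = 0 → y = 0 := by
    letI := φ.toAlgebra
    haveI : Module.Flat A B := hφ
    intro y hy
    exact (IsSMulRegular.of_flat (S := B) (IsSMulRegular.of_ne_zero (R := A) (M := A) hp0)).right_eq_zero_of_smul hy
  refine ⟨fun x hx => ?_⟩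
  have hpow : ∀ n : ℕ, ∀ z : B, IsNilpotent z → z ∈ (Ideal.span {φ p}) ^ n := by
    intro n
    induction n with
    | zero => simp
    | succ n ih =>
      intro z hz
      have hz1 : z ∈ (maximalIdeal A).map φ :=
        Ideal.Quotient.eq_zero_iff_mem.1 (h.eq_zero _ (hz.map (Ideal.Quotient.mk ((maximalIdeal A).map φ))))
      rw [hmap, Ideal.mem_span_singleton] at hz1
      obtain ⟨y, rfl⟩ := hz1
      have hy : IsNilpotent y := by
        obtain ⟨m, hm⟩ := hz
        refine ⟨m, ?_⟩
        have : ∀ j : ℕ, φ p ^ j * y ^ m = 0 → y ^ m = 0 := by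
          intro j
          induction j with
          | zero => intro hj; rwa [pow_zero, one_mul] at hj
          | succ j ihj =>
            intro hj
            exact ihj (hreg _ (by rw [← mul_assoc, ← pow_succ']; exact hj))
        exact this m (by rw [← mul_pow]; exact hm)
      rw [pow_succ']
      exact Ideal.mul_mem_mul (Ideal.mem_span_singleton_self _) (ih y hy)
  have h0 := Ideal.iInf_pow_eq_bot_of_isLocalRing (Ideal.span {φ p})
    (fun e => (maximalIdeal.isMaximal B).ne_top (top_le_iff.1 (e ▸ (Ideal.span_singleton_le_iff_mem _).2 hpm)))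
  exact Ideal.mem_bot.1 (h0 ▸ Ideal.mem_iInf.2 fun n => hpow n x hx)

/-- The reduced locus of a locally Noetherian scheme is open. -/
theorem isOpen_reducedLocus (U : Scheme.{u}) [IsLocallyNoetherian U] :
    IsOpen {u : U | _root_.IsReduced (U.presheaf.stalk u)} := by
  classical
  rw [isOpen_iff_forall_mem_open]
  intro u hu
  obtain ⟨W, hW, huW, -⟩ := exists_isAffineOpen_mem_and_subset (X := U) (x := u) (U := ⊤) trivial
  haveI : IsNoetherianRing Γ(U, W) := IsLocallyNoetherian.component_noetherian ⟨W, hW⟩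
  haveI : _root_.IsReduced (U.presheaf.stalk u) := hu
  letI := TopCat.Presheaf.algebra_section_stalk U.presheaf (⟨u, huW⟩ : W)
  haveI := hW.isLocalization_stalk ⟨u, huW⟩
  obtain ⟨t, ht⟩ := IsNoetherian.noetherian (nilradical Γ(U, W))
  have hc : ∀ n ∈ t, ∃ c, c ∉ (hW.primeIdealOf ⟨u, huW⟩).asIdeal ∧ c * n = 0 := fun n hn => by
    have h1 : IsNilpotent n := mem_nilradical.1 (ht ▸ Ideal.subset_span hn)
    have h2 : algebraMap Γ(U, W) (U.presheaf.stalk u) n = 0 := IsReduced.eq_zero _ (h1.map _)
    obtain ⟨c, hc⟩ := (IsLocalization.map_eq_zero_iff (hW.primeIdealOf ⟨u, huW⟩).asIdeal.primeCompl _ _).1 h2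
    exact ⟨c, c.2, hc⟩
  choose c hc1 hc2 using hc
  let f : Γ(U, W) := ∏ n ∈ t.attach, c n.1 n.2
  have hfN : ∀ z, IsNilpotent z → f * z = 0 := fun z hz => by
    have hz' : z ∈ Ideal.span (t : Set Γ(U, W)) := by rw [Ideal.span, ht]; exact mem_nilradical.2 hz
    clear hz
    induction hz' using Submodule.span_induction with
    | mem n hn =>
      obtain ⟨d, hd⟩ : c n hn ∣ f := Finset.dvd_prod_of_mem (fun m : t => c m.1 m.2) (Finset.mem_attach t ⟨n, hn⟩)
      rw [hd, mul_comm (c n hn) d, mul_assoc, hc2 n hn, mul_zero]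
    | zero => exact mul_zero _
    | add a b _ _ ha hb => rw [mul_add, ha, hb, add_zero]
    | smul a b _ hb => rw [smul_eq_mul, mul_left_comm, hb, mul_zero]
  refine ⟨(U.basicOpen f : Set U), fun v hv => ?_, (U.basicOpen f).2, ?_⟩
  · have hvW : v ∈ W := U.basicOpen_le f hv
    letI := TopCat.Presheaf.algebra_section_stalk U.presheaf (⟨v, hvW⟩ : W)
    haveI := hW.isLocalization_stalk ⟨v, hvW⟩
    have hfu : IsUnit (algebraMap Γ(U, W) (U.presheaf.stalk v) f) := (U.mem_basicOpen f v hvW).1 hv
    refine ⟨fun x ⟨m, hx⟩ => ?_⟩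
    obtain ⟨⟨a, s⟩, hs⟩ := IsLocalization.surj (hW.primeIdealOf ⟨v, hvW⟩).asIdeal.primeCompl x
    have h1 : algebraMap Γ(U, W) (U.presheaf.stalk v) (a ^ m) = 0 := by
      rcases m with _ | m
      · rw [pow_zero] at hx; rw [pow_zero, map_one]; exact hx
      · rw [map_pow, ← hs, mul_pow, hx, zero_mul]
    obtain ⟨s', hs'⟩ := (IsLocalization.map_eq_zero_iff (hW.primeIdealOf ⟨v, hvW⟩).asIdeal.primeCompl _ _).1 h1
    have h2 : IsNilpotent (s'.1 * a) := ⟨m + 1, by linear_combination (s'.1 ^ m * a) * hs'⟩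
    have h3 := congrArg (algebraMap Γ(U, W) (U.presheaf.stalk v)) (hfN _ h2)
    rw [map_mul, map_zero] at h3
    have h4 := hfu.mul_right_eq_zero.1 h3
    rw [map_mul] at h4
    have h5 := ((IsLocalization.map_units (U.presheaf.stalk v) s').mul_right_eq_zero).1 h4
    rw [← hs] at h5
    exact (IsLocalization.map_units (U.presheaf.stalk v) s).mul_left_eq_zero.1 h5
  · refine (U.mem_basicOpen f u huW).2 (IsLocalization.map_units (M := (hW.primeIdealOf ⟨u, huW⟩).asIdeal.primeCompl)
      (U.presheaf.stalk u) ⟨f, ?_⟩)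
    exact Submonoid.prod_mem _ fun n _ => hc1 n.1 n.2

/-- A chart of a base change of a space over the base scheme. -/
theorem exists_chart_bc {S : Scheme.{u}} {X : Sp S} (s : X ⟶ (yon S).obj (Over.mk (𝟙 S))) {U : Over S}
    {a : (yon S).obj U ⟶ X} (ha : RepWith @Etale a) (has : RepWith @Surjective a) (T : Over S)
    (t : T ⟶ Over.mk (𝟙 S)) {P : Sp S} {fst : P ⟶ X} {snd : P ⟶ (yon S).obj T}
    (sq : IsPullback fst snd s ((yon S).map t)) :
    ∃ l : (yon S).obj (Over.mk (pullback.fst U.hom T.hom ≫ U.hom)) ⟶ P,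
      RepWith @Etale l ∧ RepWith @Surjective l := by
  let W : Over S := Over.mk (pullback.fst U.hom T.hom ≫ U.hom)
  let w₁ : W ⟶ U := Over.homMk (pullback.fst U.hom T.hom) rfl
  let w₂ : W ⟶ T := Over.homMk (pullback.snd U.hom T.hom) pullback.condition.symm
  obtain ⟨h₀, hh₀⟩ := (yon S).map_surjective (a ≫ s)
  have hleft : ∀ {A : Over S} (φ : A ⟶ Over.mk (𝟙 S)), φ.left = A.hom := fun φ => by
    exact (Category.comp_id φ.left).symm.trans (Over.w φ)
  have hW : IsPullback w₁ w₂ h₀ t := by
    refine IsPullback.of_map (Over.forget S) (Over.OverMorphism.ext ?_) ?_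
    · show w₁.left ≫ h₀.left = w₂.left ≫ t.left
      rw [hleft, hleft]
      exact pullback.condition
    · show IsPullback w₁.left w₂.left h₀.left t.left
      rw [hleft, hleft]
      exact IsPullback.of_hasPullback U.hom T.hom
  have big : IsPullback ((yon S).map w₁) ((yon S).map w₂) (a ≫ s) ((yon S).map t) := by
    rw [← hh₀]; exact hW.map (yon S)
  let l : (yon S).obj W ⟶ P := sq.lift ((yon S).map w₁ ≫ a) ((yon S).map w₂)
    ((Category.assoc _ _ _).trans big.w)
  have hl : IsPullback ((yon S).map w₁) l a fst :=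
    IsPullback.of_bot (by rw [sq.lift_snd]; exact big) (sq.lift_fst _ _ _).symm sq
  exact ⟨l, repWith_of_isPullback hl ha, repWith_of_isPullback hl has⟩

/-- Reducedness of a scheme fibre from a base change to a field. -/
theorem isReduced_fiber_stalk {U S : Scheme.{u}} (h : U ⟶ S) {K : Type u} [Field K]
    (i : Spec (CommRingCat.of K) ⟶ S) [IsReduced (pullback h i)] {s₀ : S}
    (hi : i (IsLocalRing.closedPoint K) = s₀) (z : h.fiber s₀) :
    _root_.IsReduced ((h.fiber s₀).presheaf.stalk z) := by
  obtain ⟨ψ, hψ⟩ : ∃ ψ : S.residueField s₀ ⟶ CommRingCat.of K, Spec.map ψ ≫ S.fromSpecResidueField s₀ = i := by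
    subst hi
    exact ⟨_, (Scheme.SpecToEquivOfField K S).symm_apply_apply i⟩
  let q : pullback h i ⟶ h.fiber s₀ := pullback.lift (pullback.fst h i) (pullback.snd h i ≫ Spec.map ψ)
    (by rw [Category.assoc, hψ]; exact pullback.condition)
  have hq : IsPullback q (pullback.snd h i) (h.fiberToSpecResidueField s₀) (Spec.map ψ) := by
    have hbig : IsPullback (q ≫ h.fiberι s₀) (pullback.snd h i) h (Spec.map ψ ≫ S.fromSpecResidueField s₀) := by
      rw [show q ≫ h.fiberι s₀ = pullback.fst h i from pullback.lift_fst _ _ _, hψ]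
      exact IsPullback.of_hasPullback h i
    exact IsPullback.of_right hbig (pullback.lift_snd _ _ _) (IsPullback.of_hasPullback h (S.fromSpecResidueField s₀))
  have : Flat q := MorphismProperty.of_isPullback (P := @Flat) hq.flip
    (GeomReducedFibre.flat_of_fields (K := S.residueField s₀) ψ)
  have : Surjective q := MorphismProperty.of_isPullback (P := @Surjective) hq.flip
    ⟨fun y => ⟨IsLocalRing.closedPoint K, Subsingleton.elim (α := PrimeSpectrum (S.residueField s₀)) _ y⟩⟩
  obtain ⟨w, hw⟩ := q.surjective z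
  exact Groth.VarietyBC.isReduced_stalk_of_flat q w hw

variable (R : Type u) [CommRing R] [IsDomain R] [IsDiscreteValuationRing R]

/-- At points over the closed point a flat scheme with reduced special fibre is reduced. -/
theorem isReduced_stalk_of_special {U : Scheme.{u}} (h : U ⟶ Spec (CommRingCat.of R)) [Flat h] [IsLocallyNoetherian U]
    [IsReduced (pullback h (Spec.map (CommRingCat.ofHom (IsLocalRing.residue R))))] (u : U)
    (hu : h u = IsLocalRing.closedPoint R) : _root_.IsReduced (U.presheaf.stalk u) := by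
  have hA : ∀ p : Spec (CommRingCat.of R), p = IsLocalRing.closedPoint R →
      IsDomain ((Spec (CommRingCat.of R)).presheaf.stalk p) ∧
        ∃ π : (Spec (CommRingCat.of R)).presheaf.stalk p, π ≠ 0 ∧
          maximalIdeal ((Spec (CommRingCat.of R)).presheaf.stalk p) = Ideal.span {π} := by
    rintro p rfl
    let e : R ≃+* (Spec (CommRingCat.of R)).presheaf.stalk (IsLocalRing.closedPoint R) :=
      (stalkClosedPointIso (CommRingCat.of R)).symm.commRingCatIsoToRingEquiv
    obtain ⟨ϖ, hϖ⟩ := IsDiscreteValuationRing.exists_irreducible R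
    refine ⟨e.symm.toMulEquiv.isDomain, e ϖ, fun h0 => hϖ.ne_zero (e.injective (h0.trans (map_zero e).symm)), ?_⟩
    rw [← IsLocalRing.map_maximalIdeal_of_surjective e.toRingHom e.surjective, hϖ.maximalIdeal_eq,
      Ideal.map_span, Set.image_singleton]
    rfl
  obtain ⟨hdom, π, hπ0, hπ⟩ := hA (h u) hu
  haveI := hdom
  refine isReduced_of_closedFibre (h.stalkMap u).hom (Flat.stalkMap h u) hπ0 hπ ?_
  obtain ⟨e⟩ := Groth.Flatmor4.exists_fiberStalkEquiv h u
  have hi : Spec.map (CommRingCat.ofHom (IsLocalRing.residue R)) (IsLocalRing.closedPoint (IsLocalRing.ResidueField R)) = h u :=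
    (IsLocalRing.comap_closedPoint (IsLocalRing.residue R)).trans hu.symm
  haveI := isReduced_fiber_stalk h _ hi (h.asFiber u)
  exact isReduced_of_injective e e.injective

/-- A proper flat algebraic space over a discrete valuation ring with reduced special fibre is reduced. -/
theorem isReduced_chart {X : Sp (Spec (CommRingCat.of R))} (hX : IsAlgSpace X)
    (s : X ⟶ (yon (Spec (CommRingCat.of R))).obj (Over.mk (𝟙 _)))
    (hs1 : IsProperMor s) (hs2 : LocP @Flat s)
    (h0 : ∀ (X0 : Sp (Spec (CommRingCat.of R))) (fst : X0 ⟶ X)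
      (snd : X0 ⟶ (yon (Spec (CommRingCat.of R))).obj
        (Over.mk (Spec.map (CommRingCat.ofHom (IsLocalRing.residue R))))),
      IsPullback fst snd s ((yon (Spec (CommRingCat.of R))).map
        (Over.homMk (Spec.map (CommRingCat.ofHom (IsLocalRing.residue R))) (Category.comp_id _) :
          Over.mk (Spec.map (CommRingCat.ofHom (IsLocalRing.residue R))) ⟶ Over.mk (𝟙 _))) →
      EtaleLocally (fun U => IsReduced U) X0)
    {U : Over (Spec (CommRingCat.of R))} {a : (yon (Spec (CommRingCat.of R))).obj U ⟶ X} (ha : RepWith @Etale a)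
    (has : RepWith @Surjective a) : IsReduced U.left := by
  let S : Scheme.{u} := Spec (CommRingCat.of R)
  obtain ⟨h₀, hh₀⟩ := (yon S).map_surjective (a ≫ s)
  have hh₀' : h₀.left = U.hom := by
    exact (Category.comp_id h₀.left).symm.trans (Over.w h₀)
  have hcomm : a ≫ s = (yon S).map h₀ ≫ 𝟙 _ := by rw [Category.comp_id, hh₀]
  have : Flat U.hom := hh₀' ▸ hs2 a (𝟙 _) h₀ ha (repWith_id _ _) hcomm
  have : LocallyOfFiniteType U.hom := hh₀' ▸ hs1.2.1.1 a (𝟙 _) h₀ ha (repWith_id _ _) hcomm
  have : IsLocallyNoetherian U.left := LocallyOfFiniteType.isLocallyNoetherian U.hom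
  let i : Spec (CommRingCat.of (IsLocalRing.ResidueField R)) ⟶ S := Spec.map (CommRingCat.ofHom (IsLocalRing.residue R))
  have : IsReduced (pullback U.hom i) := by
    have sq := IsPullback.of_hasPullback s ((yon S).map (Over.homMk i (Category.comp_id _) :
      Over.mk i ⟶ Over.mk (𝟙 S)))
    obtain ⟨l, hl, -⟩ := exists_chart_bc s ha has (Over.mk i) _ sq
    exact Groth.AlgSp3.isReduced_etale_chart
      (isAlgSpace_of_isPullback sq (IsAlgSpace.yon_obj _).diag hX (IsAlgSpace.yon_obj _)) (h0 _ _ _ sq) hl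
  let L : Set (Points X) := Points.ofPt a '' {u | _root_.IsReduced (U.left.presheaf.stalk u)}
  have hL : IsOpen L := isOpenMap_ofPt_of_etale ha _ (isOpen_reducedLocus U.left)
  have hsp : ∀ u : U.left, Points.map s (Points.ofPt a u) = Points.schemeHomeo (Over.mk (𝟙 S)) (U.hom u) := fun u => by
    rw [Points.map_ofPt, hcomm, Category.comp_id, ofPt_eq_map, ← hh₀']
    exact Points.map_yon_map_apply h₀ u
  have hall : ∀ x, x ∈ L := by
    by_contra hne
    push Not at hne
    obtain ⟨x, hx⟩ := hne
    have hcl : IsClosed (Points.map s '' Lᶜ) :=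
      Groth.AlgSp2.isClosedMor_of_univClosed (IsAlgSpace.yon_obj _) hs1.2.2 _ hL.isClosed_compl
    have hcl' := hcl.preimage (Points.schemeHomeo (Over.mk (𝟙 S))).continuous
    obtain ⟨y, hy⟩ := (Points.schemeHomeo (Over.mk (𝟙 S))).surjective (Points.map s x)
    have hy' : y ∈ Points.schemeHomeo (Over.mk (𝟙 S)) ⁻¹' (Points.map s '' Lᶜ) := ⟨x, hx, hy.symm⟩
    have hc : (IsLocalRing.closedPoint R : S) ∈ Points.schemeHomeo (Over.mk (𝟙 S)) ⁻¹' (Points.map s '' Lᶜ) :=
      (IsLocalRing.specializes_closedPoint (R := R) y).mem_closed hcl' hy'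
    obtain ⟨z, hz, hzc⟩ := hc
    obtain ⟨u, rfl⟩ := surjective_ofPt_of_repWith has z
    rw [hsp] at hzc
    exact hz ⟨u, isReduced_stalk_of_special R U.hom u ((Points.schemeHomeo (Over.mk (𝟙 S))).injective hzc), rfl⟩
  have : ∀ u, _root_.IsReduced (U.left.presheaf.stalk u) := fun u => by
    obtain ⟨v, hv, hvu⟩ := hall (Points.ofPt a u)
    obtain ⟨M, m, n, w, hm, hn, hw₁, hw₂, -⟩ := GeomReducedSp.exists_common_chart hX ha ha hvu
    have h1 := hw₁ ▸ (GeomReducedSp.isReduced_stalk_etale_iff m.left w)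
    have h2 := hw₂ ▸ (GeomReducedSp.isReduced_stalk_etale_iff n.left w)
    exact h2.1 (h1.2 hv)
  exact isReduced_of_isReduced_stalk _

theorem isReduced_generic {U : Scheme.{u}} [IsReduced U] (h : U ⟶ Spec (CommRingCat.of R)) :
    IsReduced (pullback h (Spec.map (CommRingCat.ofHom (algebraMap R (FractionRing R))))) := by
  let j := Spec.map (CommRingCat.ofHom (algebraMap R (FractionRing R)))
  have : Flat j := by
    rw [HasRingHomProperty.Spec_iff (P := @Flat)]
    exact RingHom.flat_algebraMap_iff.2 (IsLocalization.flat (FractionRing R) (nonZeroDivisors R))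
  have : IsPreimmersion j := IsPreimmersion.of_isLocalization (S := FractionRing R) (nonZeroDivisors R)
  have : ∀ z, _root_.IsReduced ((pullback h j).presheaf.stalk z) := fun z => by
    have := Groth.VarietyBC.isIso_stalkMap_of_flat_preimmersion (pullback.fst h j) z
    have hb := ConcreteCategory.bijective_of_isIso ((pullback.fst h j).stalkMap z)
    let e := RingEquiv.ofBijective ((pullback.fst h j).stalkMap z).hom hb
    exact isReduced_of_injective e.symm e.symm.injective
  exact isReduced_of_isReduced_stalk _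

end

end Groth.AlgSp2.ReducedOverDVR
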