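import Groth.Agent.AlgSpBasic.PointMono
import Groth.Agent.AlgSpBasic.Univ
import Groth.Agent.AlgSp3.RedInduced
import Groth.Agent.AlgSp3.ImmersionImage
import Mathlib.RingTheory.Ideal.MinimalPrime.Noetherian
import Mathlib.RingTheory.KrullDimension.Field

/-!
# Residual spaces of points of locally Noetherian algebraic spaces
-/

set_option autoImplicit false
set_option backward.isDefEq.respectTransparency.types false
universe u

open CategoryTheory CategoryTheory.Limits AlgebraicGeometry AlgSp Groth.AlgSpBasic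

namespace Groth.AlgSp2.ResidualSpace

noncomputable section

variable {S : Scheme.{u}} {X : Sp S}

/-- The predicate of carrying an fppf point. -/
def HasPoint (Z : Sp S) : Prop :=
  ∃ (k : Type u) (_ : Field k) (str : Spec (CommRingCat.of k) ⟶ S) (p : (yon S).obj (Over.mk str) ⟶ Z),
    LocP @LocallyOfFinitePresentation p ∧ LocP @Flat p ∧ IsSurjectiveMor p

theorem hasPoint_field {k : Type u} [Field k] (str : Spec (CommRingCat.of k) ⟶ S) :
    HasPoint ((yon S).obj (Over.mk str)) :=
  ⟨k, inferInstance, str, 𝟙 _,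
    locP_of_repWith (repWith_mono (P := @Etale) (Q := @LocallyOfFinitePresentation)
      (fun _ _ φ (_ : Etale φ) => inferInstance) (repWith_id @Etale _)),
    locP_of_repWith (repWith_isIso (P := @Flat) (𝟙 _)), fun x => ⟨x, by simp⟩⟩

theorem range_eq_singleton_mk (p : FieldPt X) :
    Set.range (Points.map p.toHom) = {Points.mk p} := by
  have h : ∀ z, Points.map p.toHom z = Points.mk p := by
    intro z
    obtain ⟨t, rfl⟩ := (Points.schemeEquiv p.pt).surjective z
    rw [show Points.map p.toHom (Points.schemeEquiv p.pt t) = Points.ofPt p.toHom t from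
      (ofPt_eq_map p.toHom t).symm, Points.ofPt_toHom]
  refine Set.eq_singleton_iff_unique_mem.2
    ⟨⟨Points.schemeEquiv p.pt (IsLocalRing.closedPoint p.K), h _⟩, ?_⟩
  rintro _ ⟨z, rfl⟩
  exact h z

theorem iso_field_iff (hX : IsAlgSpace X) {x : Points X} {Z : Sp S} (hZs : IsAlgSpace Z) (i : Z ⟶ X)
    [Mono i] (hi : Set.range (Points.map i) = {x}) (hZ : HasPoint Z) :
    (∃ (k : Type u) (_ : Field k) (str : Spec (CommRingCat.of k) ⟶ S),
        Nonempty (Z ≅ (yon S).obj (Over.mk str))) ↔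
      ∃ p : FieldPt X, Points.mk p = x ∧ Mono p.toHom := by
  constructor
  · rintro ⟨k, _, str, ⟨e⟩⟩
    let p : FieldPt X := ⟨k, str, (J S).uliftYonedaEquiv.{u + 1} (e.inv ≫ i)⟩
    have hp : p.toHom = e.inv ≫ i := (J S).uliftYonedaEquiv.{u + 1}.symm_apply_apply _
    have hm : Mono p.toHom := hp ▸ inferInstance
    refine ⟨p, ?_, hm⟩
    obtain ⟨z, hz⟩ : Points.mk p ∈ Set.range (Points.map p.toHom) := by rw [range_eq_singleton_mk]; rfl
    rw [hp, Points.map_comp] at hz
    exact (Set.mem_singleton_iff.1 (hi ▸ (⟨_, hz⟩ : Points.mk p ∈ Set.range (Points.map i))))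
  · rintro ⟨p, rfl, hp⟩
    obtain ⟨k, _, str, q, h₁, h₂, h₃⟩ := hZ
    obtain ⟨k', _, str', q', g₁, g₂, g₃⟩ := hasPoint_field p.str
    obtain ⟨e, -⟩ := exists_iso_of_mono_pointSpaces hX hZs (IsAlgSpace.yon_obj p.pt) i p.toHom hi
      (range_eq_singleton_mk p) h₁ h₂ h₃ g₁ g₂ g₃
    exact ⟨p.K, p.field, p.str, ⟨e.symm⟩⟩

/-- No specializations inside the fibre of a chart of a locally Noetherian space. -/
theorem eq_of_specializes (hX : IsAlgSpace X) (hN : IsLocNoethSp X) {U : Over S}
    {a : (yon S).obj U ⟶ X} (ha : RepWith @Etale a) {v v' : ↥U.left} (h : v ⤳ v')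
    (he : Points.ofPt a v = Points.ofPt a v') : v = v' := by
  have := Groth.AlgSp2.isLocallyNoetherian_of_etale hX hN ha
  obtain ⟨R, t, s, sq⟩ := exists_pullback_of_diag hX.diag a a
  have : Etale t.left := (repWith_yon_map_iff _ t).1 (repWith_of_isPullback sq.flip ha)
  have : Etale s.left := (repWith_yon_map_iff _ s).1 (repWith_of_isPullback sq ha)
  obtain ⟨r, rfl, rfl⟩ := (ofPt_eq_ofPt_iff sq v v').1 he
  have e := (etaleInvariant_ringKrullDim t.left r).symm.trans (etaleInvariant_ringKrullDim s.left r)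
  have hfin : Order.coheight (s.left r) < ⊤ := by
    have hd := ringKrullDim_lt_top (R := ↥(U.left.presheaf.stalk (s.left r)))
    rw [ringKrullDim_stalk_eq_coheight] at hd
    exact WithBot.coe_lt_coe.1 hd
  dsimp only at e
  rw [ringKrullDim_stalk_eq_coheight, ringKrullDim_stalk_eq_coheight, WithBot.coe_inj] at e
  by_contra hne
  have hle : s.left r ≤ t.left r := h
  have hlt : s.left r < t.left r := lt_of_le_not_ge hle fun h' =>
    hne (h.antisymm (h' : s.left r ⤳ t.left r)).eq
  exact absurd (Order.coheight_strictAnti hlt (e ▸ hfin)) (by rw [e]; exact lt_irrefl _)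

theorem repWith_closedImmersion_of_isClosed (hX : IsAlgSpace X) (hN : IsLocNoethSp X) {x : Points X}
    {Z : Sp S} (hZs : IsAlgSpace Z) (i : Z ⟶ X) [Mono i] (hi : Set.range (Points.map i) = {x})
    (hZ : HasPoint Z) (hx : IsClosed ({x} : Set (Points X))) : RepWith @IsClosedImmersion i := by
  obtain ⟨Z₀, i₀, hZ₀, hci, hr, hred⟩ := Groth.AlgSp3.exists_isRedInduced hX hx
  have : Mono i₀ := mono_of_repWith (fun _ _ g (_ : IsClosedImmersion g) => inferInstance) hci
  obtain ⟨U, a, ha, has⟩ := hX.atlas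
  obtain ⟨V, snd, fst, sq⟩ := hci.rep a
  have : IsClosedImmersion snd.left := hci.property a fst snd sq
  have := Groth.AlgSp2.isLocallyNoetherian_of_etale hX hN ha
  have hfe : RepWith @Etale fst := repWith_of_isPullback sq.flip ha
  have hfs : RepWith @Surjective fst := repWith_of_isPullback sq.flip has
  have : IsReduced V.left := Groth.AlgSp3.isReduced_etale_chart hZ₀ hred hfe
  have : IsLocallyNoetherian V.left := LocallyOfFiniteType.isLocallyNoetherian snd.left
  have hpt : ∀ z : Points Z₀, Points.map i₀ z = x := fun z => Set.mem_singleton_iff.1 (hr ▸ ⟨z, rfl⟩)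
  have hmax : ∀ v v' : ↥V.left, v ⤳ v' → v = v' := fun v v' h =>
    snd.left.isClosedEmbedding.injective (eq_of_specializes hX hN ha (h.map snd.left.continuous) (by
      rw [← ofPt_comp_yon, ← ofPt_comp_yon, ← sq.w, ← Points.map_ofPt, ← Points.map_ofPt, hpt, hpt]))
  obtain ⟨z, hz⟩ : x ∈ Set.range (Points.map i₀) := by rw [hr]; rfl
  obtain ⟨v, rfl⟩ := surjective_ofPt_of_repWith hfs z
  have hdim : topologicalKrullDim V.left ≤ 0 := by
    rw [topologicalKrullDim]
    refine Order.krullDim_nonpos_iff_forall_isMax.2 fun C D hCD => ?_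
    obtain ⟨c, hc⟩ := QuasiSober.sober C.2 C.3
    obtain ⟨d, hd⟩ := QuasiSober.sober D.2 D.3
    have hdc : d ⤳ c := hd.specializes (hCD hc.mem)
    have := hmax d c hdc
    subst this
    exact le_of_eq (TopologicalSpace.IrreducibleCloseds.ext (hd.def.symm.trans hc.def))
  have : IsLocallyArtinian V.left := IsLocallyArtinian.of_topologicalKrullDim_le_zero hdim
  have hfs' : FieldStalks V.left := fun b => by
    have h0 : ringKrullDim ↥(V.left.presheaf.stalk b) = 0 := by
      rw [ringKrullDim_stalk_eq_coheight]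
      exact_mod_cast Order.coheight_eq_zero.2 fun c hc => le_of_eq (hmax c b hc)
    have : Ring.KrullDimLE 0 ↥(V.left.presheaf.stalk b) := (Ring.krullDimLE_iff).2 (by rw [h0]; rfl)
    exact Ring.KrullDimLE.isField_of_isReduced
  let K : Over S := Over.mk (V.left.fromSpecResidueField v ≫ V.hom)
  let j : K ⟶ V := Over.homMk (V.left.fromSpecResidueField v) rfl
  have : IsOpenImmersion j.left := isOpenImmersion_of_preimmersion (V.left.fromSpecResidueField v) hfs'
  have he : RepWith @Etale ((yon S).map j ≫ fst) :=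
    repWith_comp ((repWith_yon_map_iff _ j).2 inferInstance) hfe
  have hinj : Function.Injective (Points.map i₀) :=
    injective_map_of_repWith (fun _ _ φ (_ : IsClosedImmersion φ) => φ.isClosedEmbedding.injective) hci
  have hsurj : IsSurjectiveMor ((yon S).map j ≫ fst) := fun z =>
    ⟨Points.schemeEquiv K (default : ↥(Spec (V.left.residueField v))), hinj ((hpt _).trans (hpt z).symm)⟩
  have h₀ : HasPoint Z₀ := ⟨V.left.residueField v, inferInstance, _, (yon S).map j ≫ fst,
    locP_of_repWith (repWith_mono (P := @Etale) (Q := @LocallyOfFinitePresentation)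
      (fun _ _ φ (_ : Etale φ) => inferInstance) he),
    locP_of_repWith (repWith_flat_of_etale he), hsurj⟩
  obtain ⟨k, _, str, q, h₁, h₂, h₃⟩ := hZ
  obtain ⟨k', _, str', q', g₁, g₂, g₃⟩ := h₀
  obtain ⟨e, he'⟩ := exists_iso_of_mono_pointSpaces hX hZ₀ hZs i₀ i hr hi g₁ g₂ g₃ h₁ h₂ h₃
  rw [← he']
  exact (MorphismProperty.cancel_left_of_respectsIso (RepWith @IsClosedImmersion) e.hom i₀).2 hci

theorem isClosed_iff (hX : IsAlgSpace X) (hN : IsLocNoethSp X) {x : Points X}
    {Z : Sp S} (hZs : IsAlgSpace Z) (i : Z ⟶ X) [Mono i] (hi : Set.range (Points.map i) = {x})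
    (hZ : HasPoint Z) : IsClosed ({x} : Set (Points X)) ↔ RepWith @IsClosedImmersion i := by
  refine ⟨repWith_closedImmersion_of_isClosed hX hN hZs i hi hZ, fun h => ?_⟩
  rw [← hi]
  exact (isClosedMap_map_of_repWith (P := @IsClosedImmersion)
    (fun _ _ φ (_ : IsClosedImmersion φ) => φ.isClosedEmbedding.isClosedMap) h).isClosed_range

/-- A map from an affine scheme to a Noetherian affine scheme with image free of specializations
has finite image. -/
theorem finite_range_of_antichain {A B : CommRingCat.{u}} [IsNoetherianRing A] (φ : A ⟶ B)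
    (h : ∀ P Q : Spec B, Spec.map φ P ⤳ Spec.map φ Q → Spec.map φ P = Spec.map φ Q) :
    (Set.range (Spec.map φ)).Finite := by
  refine (((RingHom.ker φ.hom).finite_minimalPrimes_of_isNoetherianRing).preimage
    (fun P _ Q _ e => PrimeSpectrum.ext e) : (PrimeSpectrum.asIdeal (R := A) ⁻¹' _).Finite).subset ?_
  rintro _ ⟨Q, rfl⟩
  have hle : RingHom.ker φ.hom ≤ (Spec.map φ Q).asIdeal := Ideal.comap_mono bot_le
  obtain ⟨m, hm, hmle⟩ := Ideal.exists_minimalPrimes_le hle
  obtain ⟨P, hP, -, hPm⟩ := Ideal.exists_comap_eq_of_mem_minimalPrimes φ.hom (I := ⊥) m hm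
  have e : Spec.map φ ⟨P, hP⟩ = Spec.map φ Q :=
    h _ _ ((PrimeSpectrum.le_iff_specializes _ _).1 (show P.comap φ.hom ≤ _ from hPm.le.trans hmle))
  rw [← e, Set.mem_preimage]
  have hm' : P.comap φ.hom = m := hPm
  show P.comap φ.hom ∈ _
  rw [hm']
  exact hm

theorem exists_open_const {W U : Scheme.{u}} [IsLocallyNoetherian U] (g : W ⟶ U)
    (h : ∀ w w' : W, g w ⤳ g w' → g w = g w') (w : W) :
    ∃ O : W.Opens, w ∈ O ∧ ∀ z ∈ O, g z = g w := by
  obtain ⟨A, hA, hwA, -⟩ := exists_isAffineOpen_mem_and_subset (X := U) (x := g w) (U := ⊤) trivial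
  obtain ⟨B, hB, hwB, hBA⟩ :=
    exists_isAffineOpen_mem_and_subset (X := W) (x := w) (U := g ⁻¹ᵁ A) hwA
  have : IsNoetherianRing Γ(U, A) := IsLocallyNoetherian.component_noetherian ⟨A, hA⟩
  let φ : Γ(U, A) ⟶ Γ(W, B) := g.appLE A B hBA
  have hφ : ∀ P, hA.fromSpec (Spec.map φ P) = g (hB.fromSpec P) := fun P => by
    rw [← Scheme.Hom.comp_apply, ← Scheme.Hom.comp_apply]
    exact congrArg (fun f : Spec Γ(W, B) ⟶ U => f P) (IsAffineOpen.SpecMap_appLE_fromSpec g hA hB hBA)
  have hfin : (g '' (B : Set W)).Finite := by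
    refine ((finite_range_of_antichain φ fun P Q hs => ?_).image hA.fromSpec).subset ?_
    · apply hA.fromSpec.isOpenEmbedding.injective
      rw [hφ, hφ]
      refine h _ _ ?_
      rw [← hφ, ← hφ]
      exact hs.map hA.fromSpec.continuous
    · rintro _ ⟨z, hz, rfl⟩
      obtain ⟨P, rfl⟩ := hB.range_fromSpec.ge hz
      exact ⟨_, ⟨P, rfl⟩, hφ P⟩
  let C : Set U := ⋃ v ∈ (g '' (B : Set W)) \ {g w}, closure {v}
  have hC : IsClosed C := hfin.sdiff.isClosed_biUnion fun v _ => isClosed_closure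
  refine ⟨B ⊓ g ⁻¹ᵁ ⟨Cᶜ, hC.isOpen_compl⟩, ⟨hwB, fun hm => ?_⟩, fun z hz => ?_⟩
  · obtain ⟨v, ⟨⟨z, hz, rfl⟩, hv⟩, hvc⟩ := Set.mem_iUnion₂.1 hm
    exact hv (h z w (specializes_iff_mem_closure.2 hvc))
  · by_contra hne
    exact hz.2 (Set.mem_iUnion₂.2 ⟨g z, ⟨⟨z, hz.1, rfl⟩, hne⟩, subset_closure rfl⟩)

theorem exists_fac (hX : IsAlgSpace X) (hN : IsLocNoethSp X) {Y Z : Sp S}
    (f : Y ⟶ X) {x : Points X} (hf : ∀ y, Points.map f y = x) (hr : EtaleLocally (fun U => IsReduced U) Y)
    (hZs : IsAlgSpace Z) (i : Z ⟶ X) [Mono i] (hi : Set.range (Points.map i) = {x}) :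
    ∃ g : Y ⟶ Z, g ≫ i = f := by
  obtain ⟨V, b, hb, hbs, hV⟩ := hr
  have : IsReduced V.left := hV
  obtain ⟨U, a, ha, has⟩ := hX.atlas
  have := Groth.AlgSp2.isLocallyNoetherian_of_etale hX hN ha
  obtain ⟨W, wU, wV, sqW⟩ := exists_pullback_yon ha.rep (b ≫ f)
  have : Etale wV.left := ha.property _ _ _ sqW
  have : Surjective wV.left := has.property _ _ _ sqW
  have : IsReduced W.left := Groth.AlgSp2.isReduced_of_smooth_morphism wV.left
  let P := pullback f i
  have hwF : ∀ w, Points.ofPt a (wU.left w) = x := fun w => by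
    rw [← ofPt_comp_yon, sqW.w, ← Category.assoc, ← Points.map_ofPt, hf]
  have factor : ∀ u : ↥U.left, Points.ofPt a u = x →
      ∃ l, l ≫ i = (yon S).map (Over.homMk (U.left.fromSpecResidueField u) rfl :
        Over.mk (U.left.fromSpecResidueField u ≫ U.hom) ⟶ U) ≫ a := by
    intro u hu
    let j : Over.mk (U.left.fromSpecResidueField u ≫ U.hom) ⟶ U :=
      Over.homMk (U.left.fromSpecResidueField u) rfl
    let c := (yon S).map j ≫ a
    have sq := IsPullback.of_hasPullback c i
    have hk : IsAlgSpace ((yon S).obj (Over.mk (U.left.fromSpecResidueField u ≫ U.hom))) :=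
      IsAlgSpace.yon_obj _
    have hP : IsAlgSpace (pullback c i) := isAlgSpace_of_isPullback sq hX.diag hk hZs
    obtain ⟨k', _, str, p, h₁, h₂, h₃⟩ := hasPoint_field (U.left.fromSpecResidueField u ≫ U.hom)
    rcases isEmpty_or_isIso_of_mono_pointSpace hk hP (pullback.fst c i) h₁ h₂ h₃ with h | h
    · exfalso
      obtain ⟨z, hz⟩ : x ∈ Set.range (Points.map i) := by rw [hi]; rfl
      let t := Points.schemeEquiv (Over.mk (U.left.fromSpecResidueField u ≫ U.hom))
        (default : ↥(Spec (U.left.residueField u)))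
      have ht : Points.map c t = Points.map i z := by
        rw [hz, ← hu]
        refine (ofPt_eq_map c _).symm.trans ?_
        rw [ofPt_comp_yon]
        exact congrArg (Points.ofPt a) (Scheme.fromSpecResidueField_apply _ _)
      obtain ⟨q, -⟩ := Groth.AlgSpBasic.exists_point_of_isPullback sq t z ht
      exact h.false q
    · exact ⟨inv (pullback.fst c i) ≫ pullback.snd c i, by
        rw [Category.assoc, ← pullback.condition, IsIso.inv_hom_id_assoc]⟩
  have local' : ∀ w : ↥W.left, ∃ O : W.left.Opens, w ∈ O ∧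
      ∃ l : (yon S).obj (Over.mk (O.ι ≫ W.hom)) ⟶ P, l ≫ pullback.fst f i =
        ((yon S).map (Over.homMk O.ι rfl : Over.mk (O.ι ≫ W.hom) ⟶ W) ≫ (yon S).map wV) ≫ b := by
    intro w
    obtain ⟨O, hwO, hO⟩ := exists_open_const wU.left
      (fun w₁ w₂ h => eq_of_specializes hX hN ha h ((hwF w₁).trans (hwF w₂).symm)) w
    have : IsReduced (O : Scheme.{u}) := isReduced_of_isOpenImmersion O.ι
    obtain ⟨g, hg⟩ := exists_fac_fromSpecResidueField (O.ι ≫ wU.left) (wU.left w)
      (fun z => by rw [Scheme.Hom.comp_apply]; exact hO _ z.2)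
    obtain ⟨l, hl⟩ := factor (wU.left w) (hwF w)
    let jO : Over.mk (O.ι ≫ W.hom) ⟶ W := Over.homMk O.ι rfl
    let gO : Over.mk (O.ι ≫ W.hom) ⟶ Over.mk (U.left.fromSpecResidueField (wU.left w) ≫ U.hom) :=
      Over.homMk g (by
        change g ≫ U.left.fromSpecResidueField (wU.left w) ≫ U.hom = O.ι ≫ W.hom
        rw [← Category.assoc, hg, Category.assoc, Over.w wU])
    refine ⟨O, hwO, pullback.lift (((yon S).map jO ≫ (yon S).map wV) ≫ b)
      ((yon S).map gO ≫ l) ?_, pullback.lift_fst _ _ _⟩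
    have e : gO ≫ (Over.homMk (U.left.fromSpecResidueField (wU.left w)) rfl :
        Over.mk (U.left.fromSpecResidueField (wU.left w) ≫ U.hom) ⟶ U) = jO ≫ wU :=
      Over.OverMorphism.ext hg
    rw [Category.assoc, Category.assoc, Category.assoc, hl, ← sqW.w, ← Category.assoc,
      ← Functor.map_comp, ← e, Functor.map_comp, Category.assoc]
  choose O hwO l hl using local'
  let 𝒰 : W.left.OpenCover := Scheme.openCoverOfIsOpenCover _ O
    (top_le_iff.1 fun w _ => TopologicalSpace.Opens.mem_iSup.2 ⟨w, hwO w⟩)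
  have hl' : ∀ n : 𝒰.I₀, l n ≫ pullback.fst f i =
      ((yon S).map (Over.homMk (𝒰.f n) rfl : Over.mk (𝒰.f n ≫ W.hom) ⟶ W) ≫ (yon S).map wV) ≫ b := hl
  obtain ⟨L, hL⟩ := exists_glue_of_openCover (F := P) 𝒰 l fun n k T q r h => by
    rw [← cancel_mono (pullback.fst f i), Category.assoc, Category.assoc]
    refine (congrArg _ (hl' n)).trans (Eq.trans ?_ (congrArg _ (hl' k)).symm)
    simp only [← Category.assoc, ← Functor.map_comp]
    congr 3
    ext1
    exact h
  have hLf : L ≫ pullback.fst f i = (yon S).map wV ≫ b := by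
    have key : ∀ n, (yon S).map (Over.homMk (𝒰.f n) rfl : Over.mk (𝒰.f n ≫ W.hom) ⟶ W) ≫
        L ≫ pullback.fst f i =
      (yon S).map (Over.homMk (𝒰.f n) rfl : Over.mk (𝒰.f n ≫ W.hom) ⟶ W) ≫ (yon S).map wV ≫ b :=
      fun n => by rw [reassoc_of% (hL n)]; exact (hl' n).trans (Category.assoc _ _ _)
    exact Groth.AlgSp2.yon_hom_ext_of_openCover 𝒰 _ _ key
  have : Sheaf.IsLocallySurjective b := isLocallySurjective_of_etale b hb hbs
  have : Sheaf.IsLocallySurjective ((yon S).map wV) := isLocallySurjective_of_etale _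
    ((repWith_yon_map_iff _ wV).2 ‹_›) ((repWith_yon_map_iff _ wV).2 ‹_›)
  have := (Sheaf.isLocallySurjective_iff_epi b).1 inferInstance
  have := (Sheaf.isLocallySurjective_iff_epi ((yon S).map wV)).1 inferInstance
  have : Epi (L ≫ pullback.fst f i) := by rw [hLf]; infer_instance
  have : Epi (pullback.fst f i) := epi_of_epi L _
  have : IsIso (pullback.fst f i) := isIso_of_mono_of_epi _
  exact ⟨inv (pullback.fst f i) ≫ pullback.snd f i, by
    rw [Category.assoc, ← pullback.condition, IsIso.inv_hom_id_assoc]⟩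

end

end Groth.AlgSp2.ResidualSpace
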