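import Groth.Agent.AlgSpBasic.DecentClosedImm
import Groth.Agent.AlgSp2.GrpdStabilizer
import Groth.Agent.AlgSpBasic.QComp
import Groth.Agent.AlgSpBasic.Proper
import Groth.Agent.AlgSpCartier.ClosedSubProps

/-!
# Rational points of decent spaces, and groupoids over a field are separated
-/

set_option autoImplicit false
set_option backward.isDefEq.respectTransparency.types false
universe u

open CategoryTheory CategoryTheory.Limits AlgebraicGeometry AlgSp
open Groth.AlgSpBasic

namespace Groth.AlgSp2.SectionPoint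

noncomputable section

variable {S : Scheme.{u}} {k : Type u} [Field k] {σ : Spec (CommRingCat.of k) ⟶ S}

theorem isClosed_point_of_section {X : Sp S} (hX : IsAlgSpace X) (hd : IsDecent X)
    (e : (yon S).obj (Over.mk σ) ⟶ X) (r : X ⟶ (yon S).obj (Over.mk σ)) (her : e ≫ r = 𝟙 _)
    (t : ↥(Spec (CommRingCat.of k))) :
    IsClosed ({AlgSp.Points.ofPt e t} : Set (AlgSp.Points X)) := by
  obtain ⟨U, π, hπ, hπs⟩ := hX.atlas
  rw [← (isQuotientMap_ofPt hπ hπs).isClosed_preimage, ← isOpen_compl_iff]
  refine isOpen_iff_forall_mem_open.2 fun u hu => ?_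
  obtain ⟨A, hA, huA, -⟩ :=
    exists_isAffineOpen_mem_and_subset (X := U.left) (x := u) (U := ⊤) trivial
  let AO : Over S := Over.mk (A.ι ≫ U.hom)
  let jA : AO ⟶ U := Over.homMk A.ι rfl
  have : Etale jA.left := inferInstanceAs (Etale A.ι)
  have : IsAffine AO.left := hA
  let b := (yon S).map jA ≫ π
  have hb : RepWith @Etale b := repWith_comp ((repWith_yon_map_iff _ jA).2 ‹_›) hπ
  let F := AlgSp.Points.ofPt b ⁻¹' {AlgSp.Points.ofPt e t}
  have hF : IsClosed F := by
    have hfin : F.Finite := finiteAt_of_isDecent hd _ AO b ‹_› hb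
    rw [← Set.biUnion_of_singleton F]
    refine hfin.isClosed_biUnion fun w (hw : AlgSp.Points.ofPt b w = _) => ?_
    obtain ⟨Q, qA, qk, sq⟩ := exists_pullback_yon hb.rep e
    obtain ⟨q, hq, -⟩ := (ofPt_eq_ofPt_iff sq w t).1 hw
    obtain ⟨g, hg⟩ := (yon S).map_surjective (b ≫ r)
    have hqk : qA ≫ g = qk := (yon S).map_injective (by
      rw [Functor.map_comp, hg, ← Category.assoc, sq.w, Category.assoc, her, Category.comp_id])
    subst hq
    have : Etale qk.left := hb.property _ _ _ sq
    have : LocallyQuasiFinite qk.left := Groth.DescentBase.locallyQuasiFinite_of_etale _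
    have : LocallyQuasiFinite (Q.left.fromSpecResidueField q ≫ qk.left) :=
      MorphismProperty.comp_mem @LocallyQuasiFinite _ _ inferInstance ‹_›
    have hfin' : IsFinite (Q.left.fromSpecResidueField q ≫ qk.left) :=
      Groth.AlgSp2.isFinite_of_finite (X := Spec (Q.left.residueField q)) (K := k) _
    let χ := Spec.preimage (AO.left.fromSpecResidueField (qA.left q) ≫ g.left)
    have hχ : Spec.map χ = AO.left.fromSpecResidueField (qA.left q) ≫ g.left := Spec.map_preimage _
    have h' : IsIntegralHom (Spec.map (qA.left.residueFieldMap q) ≫ Spec.map χ) := by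
      rw [hχ, Scheme.Hom.SpecMap_residueFieldMap_fromSpecResidueField_assoc,
        ← Over.comp_left, hqk]
      infer_instance
    rw [← Spec.map_comp, IsIntegralHom.SpecMap_iff] at h'
    have : IsIntegralHom (AO.left.fromSpecResidueField (qA.left q) ≫ g.left) := by
      rw [← hχ, IsIntegralHom.SpecMap_iff]
      intro x
      obtain ⟨P, hP, hx⟩ := h' (qA.left.residueFieldMap q x)
      refine ⟨P, hP, (qA.left.residueFieldMap q).hom.injective ?_⟩
      rw [map_zero, Polynomial.hom_eval₂]
      exact hx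
    exact isClosed_singleton_of_integral g.left (qA.left q)
  refine ⟨A.ι '' Fᶜ, ?_, A.ι.isOpenEmbedding.isOpenMap _ hF.isOpen_compl,
    ⟨⟨u, huA⟩, fun h => hu ?_, rfl⟩⟩
  · rintro _ ⟨w, hw, rfl⟩ h
    exact hw (show AlgSp.Points.ofPt b w = _ by rw [ofPt_comp_yon]; exact h)
  · show AlgSp.Points.ofPt π u ∈ ({_} : Set _)
    rw [← (show AlgSp.Points.ofPt b ⟨u, huA⟩ = AlgSp.Points.ofPt π u from ofPt_comp_yon _ _ _)]
    exact h

/-- A rational point of a decent space is a closed immersion. -/
theorem repWith_closedImmersion_section {X : Sp S} (hX : IsAlgSpace X) (hd : IsDecent X)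
    (e : (yon S).obj (Over.mk σ) ⟶ X) (r : X ⟶ (yon S).obj (Over.mk σ)) (her : e ≫ r = 𝟙 _) :
    RepWith @IsClosedImmersion e := by
  obtain ⟨p, hp, hcl⟩ := exists_closedImmersion_of_isClosed hX hd
    (isClosed_point_of_section hX hd e r her (IsLocalRing.closedPoint k))
  obtain ⟨Q, w, v, sq⟩ := exists_pullback_yon hcl.rep e
  have hw : IsClosedImmersion v.left := hcl.property _ _ _ sq
  obtain ⟨q, -⟩ := (ofPt_eq_ofPt_iff sq (IsLocalRing.closedPoint p.K) (IsLocalRing.closedPoint k)).1
    ((AlgSp.Points.ofPt_toHom p _).trans hp)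
  have : Nonempty Q.left := ⟨q⟩
  have : IsIso v.left := Groth.AlgSp2.isIso_of_mono_to_field (K := k) v.left
  have : IsIso v := by
    have : IsIso ((Over.forget S).map v) := ‹IsIso v.left›
    exact isIso_of_reflects_iso v (Over.forget S)
  let l : Over.mk σ ⟶ p.pt := inv v ≫ w
  have hl : (yon S).map l ≫ p.toHom = e := by
    rw [Functor.map_comp, Category.assoc, sq.w, ← Category.assoc, ← Functor.map_comp,
      IsIso.inv_hom_id, (yon S).map_id]
    exact Category.id_comp _
  obtain ⟨m, hm⟩ := (yon S).map_surjective (p.toHom ≫ r)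
  have hlm : l ≫ m = 𝟙 _ := (yon S).map_injective (by
    rw [Functor.map_comp, hm, ← Category.assoc, hl, her, (yon S).map_id])
  have hlm' : l.left ≫ m.left = 𝟙 _ := congrArg (fun φ : Over.mk σ ⟶ Over.mk σ => φ.left) hlm
  let ψ : CommRingCat.of p.K ⟶ CommRingCat.of k := Spec.preimage l.left
  let χ : CommRingCat.of k ⟶ CommRingCat.of p.K := Spec.preimage m.left
  have hχψ : χ ≫ ψ = 𝟙 _ := Spec.map_injective (by
    rw [Spec.map_comp, Spec.map_preimage, Spec.map_preimage, Spec.map_id]; exact hlm')
  have hψ : IsIso ψ := by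
    rw [ConcreteCategory.isIso_iff_bijective]
    exact ⟨ψ.hom.injective, fun y => ⟨χ y, congrArg (fun φ : CommRingCat.of k ⟶ CommRingCat.of k => φ y) hχψ⟩⟩
  have : IsIso l.left := by
    rw [← Spec.map_preimage l.left]; exact inferInstanceAs (IsIso (Spec.map ψ))
  have : IsIso l := by
    have : IsIso ((Over.forget S).map l) := ‹IsIso l.left›
    exact isIso_of_reflects_iso l (Over.forget S)
  rw [← hl]
  exact repWith_comp (repWith_isIso _) hcl

theorem repWith_closedImmersion_section' {X U : Sp S} (hX : IsAlgSpace X) (hd : IsDecent X)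
    (i : U ≅ (yon S).obj (Over.mk σ)) (e : U ⟶ X) (r : X ⟶ U) (her : e ≫ r = 𝟙 _) :
    RepWith @IsClosedImmersion e := by
  have h := repWith_closedImmersion_section hX hd (i.inv ≫ e) (r ≫ i.hom)
    (by rw [Category.assoc, reassoc_of% her, Iso.inv_hom_id])
  exact (MorphismProperty.cancel_left_of_respectsIso (RepWith @IsClosedImmersion) i.inv e).1 h

/-- `T` is final. -/
def isTerminalYon (S : Scheme.{u}) : IsTerminal ((yon S).obj (Over.mk (𝟙 S))) :=
  Over.mkIdTerminal.isTerminalObj (yon S) _

/-- Separated over the final sheaf means separated. -/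
theorem isSeparatedSp_of_isSeparatedMor {F T : Sp S} (hT : IsTerminal T) (f : F ⟶ T)
    (h : IsSeparatedMor f) : IsSeparatedSp F := by
  have sq : IsPullback (prod.fst : F ⨯ F ⟶ F) prod.snd f f :=
    hT.hom_ext (hT.from F) f ▸ IsPullback.of_is_product' (prodIsProd F F) hT
  have e : Limits.diag F = pullback.diagonal f ≫ sq.isoPullback.inv := by
    apply prod.hom_ext
    · rw [Category.assoc, sq.isoPullback_inv_fst, pullback.diagonal_fst, prod.lift_fst]
    · rw [Category.assoc, sq.isoPullback_inv_snd, pullback.diagonal_snd, prod.lift_snd]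
  show RepWith @IsClosedImmersion (Limits.diag F)
  rw [e]
  exact repWith_comp h (repWith_isIso _)

/-- The groupoid seen over the final sheaf. -/
def overTerminal {B : Sp S} (G : GroupoidSp B) :
    GroupoidSp ((yon S).obj (Over.mk (𝟙 S))) :=
  { G with
    pU := (isTerminalYon S).from G.U
    pR := (isTerminalYon S).from G.R
    s_over := (isTerminalYon S).hom_ext _ _
    t_over := (isTerminalYon S).hom_ext _ _ }

theorem isSeparatedSp_arrows {B : Sp S} (G : GroupoidSp B) (hR : IsAlgSpace G.R)
    (i : G.U ≅ (yon S).obj (Over.mk σ)) (hd : IsDecent G.R) : IsSeparatedSp G.R := by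
  let T := (yon S).obj (Over.mk (𝟙 S))
  have hU : IsAlgSpace G.U := IsAlgSpace.of_iso (IsAlgSpace.yon_obj _) i.symm
  have hT : IsAlgSpace T := IsAlgSpace.yon_obj _
  let G' := overTerminal G
  let hom : Over.mk σ ⟶ Over.mk (𝟙 S) := Over.homMk σ (Category.comp_id σ)
  have hp : IsSeparatedMor G'.pU := by
    have e : G'.pU = i.hom ≫ (yon S).map hom := (isTerminalYon S).hom_ext _ _
    rw [e]
    refine repWith_diagonal_comp (repWith_isIso _) ((isSeparatedMor_yon_map_iff hom).2 ?_)
    show IsSeparated σ
    have : IsSeparated (σ ≫ terminal.from S) := inferInstance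
    exact IsSeparated.of_comp σ (terminal.from S)
  have hp₁ : IsSeparatedMor (pullback.fst G'.pU G'.pU) :=
    repWith_diagonal_baseChange (IsPullback.of_hasPullback G'.pU G'.pU).flip hp
  have he : RepWith @IsClosedImmersion G'.e :=
    repWith_closedImmersion_section' hR hd i G.e G.s G.e_s
  let eG := InvariantLargest.stabMk G' G'.e (by rw [G'.e_t, G'.e_s])
  have heG : eG ≫ G'.stabilizerι = G'.e := InvariantLargest.stabMk_ι G' _ _
  have hι : RepWith @IsClosedImmersion G'.stabilizerι :=
    repWith_of_isPullback (IsPullback.of_hasPullback G'.j G'.diag).flip (by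
      have : G'.diag = pullback.diagonal G'.pU := rfl
      rw [this]; exact hp)
  have heG' : RepWith @IsClosedImmersion eG := by
    have : Mono G'.stabilizerι := mono_of_repWith
      (fun _ _ g (_ : IsClosedImmersion g) => (inferInstance : Mono g)) hι
    exact Groth.AlgSpCartier.repWith_of_comp_mono (i := G'.stabilizerι) (by rw [heG]; exact he)
  obtain ⟨d, sqd⟩ := GrpdStabilizer.exists_isPullback_diagonal G' eG heG
  have hj : IsSeparatedMor G'.j := repWith_of_isPullback sqd heG'
  exact isSeparatedSp_of_isSeparatedMor (isTerminalYon S)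
    ((G'.j ≫ pullback.fst G'.pU G'.pU) ≫ G'.pU)
    (repWith_diagonal_comp (repWith_diagonal_comp hj hp₁) hp)

end

end Groth.AlgSp2.SectionPoint
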