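import Groth.Agent.AlgSp2.InfFamily
import Groth.Agent.AlgSp2.AffineDescent
import Groth.Agent.AlgSp2.AffineDescentLocal

/-!
# Coproducts of schemes are universal among fppf sheaves
-/

set_option autoImplicit false
set_option backward.isDefEq.respectTransparency.types false
set_option linter.unusedVariables false
universe u

open CategoryTheory CategoryTheory.Limits AlgebraicGeometry AlgSp TopologicalSpace

namespace Groth.AlgSp2

open Groth.AlgSpBasic

noncomputable section

variable {S : Scheme.{u}} {ι : Type u} (V : ι → Over S)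

/-- The inclusions into a disjoint union of schemes form a colimit cofan of sheaves. -/
def isColimitSigma : IsColimit (Cofan.mk ((yon S).obj (sigmaObj V))
    fun i => (yon S).map (sigmaIncl V i)) :=
  Cofan.IsColimit.mk _ (fun s => (exists_glue V s.inj).choose)
    (fun s i => (exists_glue V s.inj).choose_spec.1 i)
    (fun s m hm => (exists_glue V s.inj).unique hm (exists_glue V s.inj).choose_spec.1)

variable {X : Sp S} {p : X ⟶ (yon S).obj (sigmaObj V)} {Xi : ι → Sp S} {j : ∀ i, Xi i ⟶ X}
  {pr : ∀ i, Xi i ⟶ (yon S).obj (V i)}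

theorem mono_yon_sigmaIncl (i : ι) : Mono ((yon S).map (sigmaIncl V i)) :=
  monomorphisms_repWith_mono ((repWith_yon_map_iff _ _).2
    (inferInstanceAs (Mono (Sigma.ι (fun i => (V i).left) i))))

/-- Maps out of a sheaf over a disjoint union glue. -/
theorem exists_glue_baseChange (sq : ∀ i, IsPullback (j i) (pr i) p ((yon S).map (sigmaIncl V i)))
    {Q : Sp S} (x : ∀ i, Xi i ⟶ Q) : ∃! y : X ⟶ Q, ∀ i, j i ≫ y = x i := by
  classical
  have key : ∀ (T : Over S) (t : (yon S).obj T ⟶ X), ∃! y : (yon S).obj T ⟶ Q,
      ∀ (Z : Over S) (m : Z ⟶ T) (i : ι) (z : (yon S).obj Z ⟶ Xi i),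
        z ≫ j i = (yon S).map m ≫ t → (yon S).map m ≫ y = z ≫ x i := by
    intro T t
    obtain ⟨k, hk⟩ := (yon S).map_surjective (t ≫ p)
    let W : ι → Over S := fun i => pullback k (sigmaIncl V i)
    let c : ∀ i, W i ⟶ T := fun i => pullback.fst k (sigmaIncl V i)
    let d : ∀ i, W i ⟶ V i := fun i => pullback.snd k (sigmaIncl V i)
    have sW : ∀ i, IsPullback (c i).left (d i).left k.left (sigmaIncl V i).left := fun i =>
      (IsPullback.of_hasPullback k (sigmaIncl V i)).map (Over.forget S)
    have hco : ∀ i, IsOpenImmersion (c i).left := fun i => MorphismProperty.of_isPullback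
      (P := @IsOpenImmersion) (sW i).flip
      (inferInstanceAs (IsOpenImmersion (Sigma.ι (fun i => (V i).left) i)))
    have hcs : ∀ z, ∃ i, z ∈ Set.range (c i).left := fun z => by
      obtain ⟨i, v, hv⟩ := (sigmaOpenCover fun i => (V i).left).exists_eq (k.left z)
      obtain ⟨w, hw, -⟩ := Scheme.exists_preimage_of_isPullback (sW i) z v hv.symm
      exact ⟨i, w, hw⟩
    have : IsOpenImmersion (sigmaOut c).left := by
      refine isOpenImmersion_sigmaDesc _ _ fun a b hab => Set.disjoint_iff_forall_ne.2 ?_
      rintro _ ⟨w, rfl⟩ _ ⟨w', rfl⟩ e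
      exact ((disjoint_opensRange_sigmaι (fun i => (V i).left) a b hab).le_bot
        (show k.left ((c a).left w) ∈ (Sigma.ι (fun i => (V i).left) a).opensRange ⊓
          (Sigma.ι (fun i => (V i).left) b).opensRange from
        ⟨⟨(d a).left w,
          (congrArg (fun φ : (W a).left ⟶ (sigmaObj V).left => φ w) (sW a).w).symm⟩,
        ⟨(d b).left w', ((congrArg (fun φ : (W b).left ⟶ (sigmaObj V).left => φ w') (sW b).w).symm).trans
          (congrArg k.left (e : (c a).left w = (c b).left w')).symm⟩⟩)).elim
    have : Surjective (sigmaOut c).left := surjective_sigmaOut c hcs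
    have : IsIso (sigmaOut c).left :=
      (isIso_iff_isOpenImmersion_and_surjective _).2 ⟨inferInstance, inferInstance⟩
    have : IsIso ((Over.forget S).map (sigmaOut c)) := ‹IsIso (sigmaOut c).left›
    have : IsIso (sigmaOut c) := isIso_of_reflects_iso (sigmaOut c) (Over.forget S)
    let ti : ∀ i, (yon S).obj (W i) ⟶ Xi i := fun i =>
      (sq i).lift ((yon S).map (c i) ≫ t) ((yon S).map (d i)) (by
        rw [Category.assoc, ← hk, ← Functor.map_comp, ← Functor.map_comp]
        exact congrArg (yon S).map pullback.condition)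
    obtain ⟨y', hy', -⟩ := exists_glue W fun i => ti i ≫ x i
    refine ⟨(yon S).map (inv (sigmaOut c)) ≫ y', fun Z m i z hz => ?_, fun y hy => ?_⟩
    · obtain ⟨v, hv⟩ := (yon S).map_surjective (z ≫ pr i)
      have e : m ≫ k = v ≫ sigmaIncl V i := (yon S).map_injective (by
        rw [Functor.map_comp, Functor.map_comp, hk, hv, ← Category.assoc, ← hz, Category.assoc,
          Category.assoc, (sq i).w])
      let l : Z ⟶ W i := pullback.lift m v e
      have hl : z = (yon S).map l ≫ ti i := by
        refine (sq i).hom_ext ?_ ?_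
        · rw [hz, Category.assoc, (sq i).lift_fst, ← Category.assoc, ← Functor.map_comp,
            pullback.lift_fst]
        · rw [Category.assoc, (sq i).lift_snd, ← hv, ← Functor.map_comp, pullback.lift_snd]
      have e' : m ≫ inv (sigmaOut c) = l ≫ sigmaIncl W i := by
        rw [IsIso.comp_inv_eq, Category.assoc, sigmaIncl_out]
        exact (pullback.lift_fst _ _ _).symm
      rw [← Category.assoc, ← Functor.map_comp, e', Functor.map_comp, Category.assoc, hy', hl,
        Category.assoc]
    · refine hom_ext_of_family c (fun i => inferInstance) hcs fun i => ?_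
      rw [hy _ (c i) i (ti i) ((sq i).lift_fst _ _ _), ← Category.assoc, ← Functor.map_comp,
        show c i ≫ inv (sigmaOut c) = sigmaIncl W i by rw [IsIso.comp_inv_eq, sigmaIncl_out], hy']
  choose y hy hu using key
  obtain ⟨φ, hφ⟩ := exists_hom_of_natural y fun T T' g t => (hu _ _ _ fun Z m i z hz => by
    rw [← Category.assoc, ← Functor.map_comp]
    exact hy T t Z (m ≫ g) i z (by rw [hz, Functor.map_comp, Category.assoc])).symm
  refine ⟨φ, fun i => hom_ext_yon fun T z => ?_, fun φ' h => hom_ext_yon fun T t => ?_⟩
  · rw [← Category.assoc, hφ]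
    have := hy T (z ≫ j i) T (𝟙 T) i z (by simp)
    simpa using this
  · rw [hφ]
    refine hu T t _ fun Z m i z hz => ?_
    rw [← Category.assoc, ← hz, Category.assoc, h]

/-- Base changes of disjoint unions are colimit cofans. -/
def isColimitSigmaBaseChange (sq : ∀ i, IsPullback (j i) (pr i) p ((yon S).map (sigmaIncl V i))) :
    IsColimit (Cofan.mk X j) :=
  Cofan.IsColimit.mk _ (fun s => (exists_glue_baseChange V sq s.inj).choose)
    (fun s i => (exists_glue_baseChange V sq s.inj).choose_spec.1 i)
    (fun s m hm => (exists_glue_baseChange V sq s.inj).unique hm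
      (exists_glue_baseChange V sq s.inj).choose_spec.1)

end

end Groth.AlgSp2
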