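import Groth.Agent.AlgSp2.InfSmallExt
import Groth.Agent.Calg1.SmallLiftsAt
import Groth.Agent.AlgSpBasic.OpenSub
import Groth.Agent.AlgSpBasic.Univ
import Groth.Agent.AlgSp3.HasAtMor

/-!
# Smoothness at a point via lifting along square zero surjections of local rings
-/

set_option autoImplicit false
set_option backward.isDefEq.respectTransparency.types false
universe u

open CategoryTheory CategoryTheory.Limits AlgebraicGeometry AlgSp TopologicalSpace

namespace Groth.AlgSp2

open Groth.AlgSpBasic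

noncomputable section

variable {S : Scheme.{u}} {X Y : Sp S}

/-- Formally smooth morphisms lift along square zero surjections. -/
theorem exists_lift_of_surjective {f : X ⟶ Y} (hf : IsFormallySmoothMor f) {B' B : Type u}
    [CommRing B'] [CommRing B] (π : B' →+* B) (hπ : Function.Surjective π)
    (hI : RingHom.ker π ^ 2 = ⊥) (s : Spec (CommRingCat.of B') ⟶ S)
    (α : (yon S).obj (Over.mk (Spec.map (CommRingCat.ofHom π) ≫ s)) ⟶ X)
    (β : (yon S).obj (Over.mk s) ⟶ Y) (w : α ≫ f = (yon S).map (smallHom π s) ≫ β) :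
    ∃ γ : (yon S).obj (Over.mk s) ⟶ X, (yon S).map (smallHom π s) ≫ γ = α ∧ γ ≫ f = β := by
  obtain ⟨m, hm⟩ := exists_quot_iso π hπ s
  let sq : InfSq f :=
    { A := B', I := RingHom.ker π, sq_zero := hI, str := s, top := (yon S).map m.hom ≫ α, bot := β,
      comm := (by
        change ((yon S).map m.hom ≫ α) ≫ f = (yon S).map (quotHom s (RingHom.ker π)) ≫ β
        rw [Category.assoc, w, ← Functor.map_comp_assoc, hm]) }
  obtain ⟨γ, hγ₁, hγ₂⟩ := hf sq
  refine ⟨γ, ?_, hγ₂⟩
  rw [← cancel_epi ((yon S).map m.hom), ← Functor.map_comp_assoc, hm]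
  exact hγ₁

theorem ker_sq_eq_bot_of_principal {B' B : Type u} [CommRing B'] [CommRing B] [IsLocalRing B']
    [Nontrivial B] {π : B' →+* B} {t : B'} (hker : RingHom.ker π = Ideal.span {t})
    (ht : ∀ a ∈ IsLocalRing.maximalIdeal B', a * t = 0) : RingHom.ker π ^ 2 = ⊥ := by
  have htm : t ∈ IsLocalRing.maximalIdeal B' := IsLocalRing.le_maximalIdeal (RingHom.ker_ne_top π)
    (hker ▸ Ideal.mem_span_singleton_self t)
  rw [pow_two, hker, Ideal.span_singleton_mul_span_singleton, ht t htm,
    Ideal.span_singleton_eq_bot]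

/-- A morphism which is smooth at a point lifts along square zero surjections of local rings whose
closed point is sent there. -/
theorem exists_lift_of_smoothAt (hX : IsAlgSpace X) (hY : IsAlgSpace Y) {f : X ⟶ Y} {x : Points X}
    (hf : HasAtMor (fun U _ h u => ∃ W : U.Opens, u ∈ W ∧ Smooth (W.ι ≫ h)) f x) {B' B : Type u}
    [CommRing B'] [CommRing B] [IsLocalRing B] (π : B' →+* B) (hπ : Function.Surjective π)
    (hI : RingHom.ker π ^ 2 = ⊥) (s : Spec (CommRingCat.of B') ⟶ S)
    (α : (yon S).obj (Over.mk (Spec.map (CommRingCat.ofHom π) ≫ s)) ⟶ X)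
    (β : (yon S).obj (Over.mk s) ⟶ Y) (hα : Points.ofPt α (IsLocalRing.closedPoint B) = x)
    (w : α ≫ f = (yon S).map (smallHom π s) ≫ β) :
    ∃ γ : (yon S).obj (Over.mk s) ⟶ X, (yon S).map (smallHom π s) ≫ γ = α ∧ γ ≫ f = β := by
  obtain ⟨U, V, a, b, h, u, ha, hb, comm, hu, W₀, huW, hW⟩ := hf
  let W : Over S := Over.mk (W₀.ι ≫ U.hom)
  let ι : W ⟶ U := Over.homMk W₀.ι rfl
  let a' : (yon S).obj W ⟶ X := (yon S).map ι ≫ a
  have ha' : RepWith @Etale a' :=
    repWith_comp ((repWith_yon_map_iff @Etale ι).2 (inferInstanceAs (Etale W₀.ι))) ha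
  let O : Set (Points X) := Set.range (Points.map a')
  have hO : IsOpen O := (isOpenMap_map_of_repWith
    (fun _ _ φ (_ : Etale φ) => φ.isOpenMap) ha').isOpen_range
  have hιO := repWith_openSubι hO
  have hmem : ∀ t, Points.ofPt a' t ∈ O := fun t => by
    rw [ofPt_eq_map]; exact ⟨_, rfl⟩
  obtain ⟨a'', ha''⟩ := (openSub_exists_lift_iff X O a').2 hmem
  have hmι : Mono (openSubι X O) := monomorphisms_repWith_mono (repWith_mono
    (fun _ _ φ (_ : IsOpenImmersion φ) => (inferInstance : Mono φ)) hιO)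
  have sq : IsPullback (𝟙 _) a'' a' (openSubι X O) := by
    refine isPullback_of_lifts (by rw [Category.id_comp, ha'']) (fun T b c e => ⟨b,
      Category.comp_id _, (cancel_mono (openSubι X O)).1 (by rw [Category.assoc, ha'', e])⟩)
      fun T p p' e _ => by simpa using e
  have ha''e : RepWith @Etale a'' := repWith_of_isPullback sq ha'
  have ha''s : RepWith @Surjective a'' := repWith_surjective_of_points ha''e.rep fun y => by
    obtain ⟨p, hp⟩ : Points.map (openSubι X O) y ∈ O := by
      have := Set.mem_range_self (f := Points.map (openSubι X O)) y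
      rwa [range_map_openSubι] at this
    refine ⟨p, injective_map_of_repWith (fun _ _ φ (h : IsOpenImmersion φ) =>
      φ.isOpenEmbedding.injective) hιO ?_⟩
    rw [← Points.map_comp, ha'', hp]
  have comm' : a'' ≫ openSubι X O ≫ f = (yon S).map (ι ≫ h) ≫ b := by
    rw [reassoc_of% ha'', Category.assoc, comm, Functor.map_comp, Category.assoc]
  have hfs : IsFormallySmoothMor (openSubι X O ≫ f) := Inf.smooth_of_chart hY ha''e ha''s hb comm'
    (have : Smooth (ι ≫ h).left := hW
     Groth.FlatmorThree.SmoothLift.isFormallySmoothHom_of_smooth _)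
  have hαO : ∀ t, Points.ofPt α t ∈ O := fun t =>
    (IsLocalRing.specializes_closedPoint t).mem_open (hO.preimage (Points.continuous_ofPt α))
      (by
        change Points.ofPt α (IsLocalRing.closedPoint B) ∈ O
        rw [hα, ← hu]
        have := hmem (⟨u, huW⟩ : W₀)
        rwa [ofPt_comp_yon] at this)
  obtain ⟨α', hα'⟩ := (openSub_exists_lift_iff X O α).2 hαO
  obtain ⟨γ, hγ₁, hγ₂⟩ := exists_lift_of_surjective hfs π hπ hI s α' β
    (by rw [reassoc_of% hα', w])
  exact ⟨γ ≫ openSubι X O, by rw [reassoc_of% hγ₁, hα'], by rw [Category.assoc, hγ₂]⟩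

/-- Over a locally Noetherian base locally of finite type is locally of finite presentation. -/
theorem lfp_of_lft {U V : Scheme.{u}} (h : U ⟶ V) [IsLocallyNoetherian V]
    [LocallyOfFiniteType h] : LocallyOfFinitePresentation h := by
  rw [HasRingHomProperty.iff_appLE (P := @LocallyOfFinitePresentation)]
  intro V₀ U₀ e
  have : IsNoetherianRing Γ(V, V₀.1) := IsLocallyNoetherian.component_noetherian V₀
  exact RingHom.FinitePresentation.of_finiteType.1
    (HasRingHomProperty.appLE (P := @LocallyOfFiniteType) h inferInstance V₀ U₀ e)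

/-- Lifting along small extensions of Artinian local rings at a point gives smoothness there. -/
theorem smoothAt_of_small_lifts (hX : IsAlgSpace X) (hY : IsAlgSpace Y) (f : X ⟶ Y)
    (hN : IsLocNoethSp Y) (hft : LocP @LocallyOfFiniteType f) (x : Points X)
    (H : ∀ (B' B : Type u) [CommRing B'] [CommRing B] [IsLocalRing B'] [IsLocalRing B]
      [IsArtinianRing B'] [IsArtinianRing B] (π : B' →+* B), Function.Surjective π →
      (∃ t : B', RingHom.ker π = Ideal.span {t} ∧ ∀ a ∈ IsLocalRing.maximalIdeal B', a * t = 0) →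
      ∀ (s : Spec (CommRingCat.of B') ⟶ S)
        (α : (yon S).obj (Over.mk (Spec.map (CommRingCat.ofHom π) ≫ s)) ⟶ X)
        (β : (yon S).obj (Over.mk s) ⟶ Y),
        Points.ofPt α (IsLocalRing.closedPoint B) = x →
        α ≫ f = (yon S).map (smallHom π s) ≫ β →
        ∃ γ : (yon S).obj (Over.mk s) ⟶ X, (yon S).map (smallHom π s) ≫ γ = α ∧ γ ≫ f = β) :
    HasAtMor (fun U _ h u => ∃ W : U.Opens, u ∈ W ∧ Smooth (W.ι ≫ h)) f x := by
  obtain ⟨U, V, a, b, h, u, ha, hb, comm, hu⟩ := Groth.AlgSp3.exists_chart_at hX hY f x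
  refine ⟨U, V, a, b, h, u, ha, hb, comm, hu, ?_⟩
  have : IsLocallyNoetherian V.left := isLocallyNoetherian_of_etale hY hN hb
  have : LocallyOfFiniteType h.left := hft a b h ha hb comm
  have := lfp_of_lft h.left
  obtain ⟨_, ⟨V₀, hV, rfl⟩, huV, -⟩ :=
    V.left.isBasis_affineOpens.exists_subset_of_mem_open (Set.mem_univ (h.left u)) isOpen_univ
  obtain ⟨_, ⟨U₀, hU, rfl⟩, huU, hle⟩ :=
    U.left.isBasis_affineOpens.exists_subset_of_mem_open huV (V₀.2.preimage h.left.continuous)
  let φ := h.left.appLE V₀ U₀ hle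
  have hfs : (h.left.stalkMap u).hom.FormallySmooth := by
    rw [formallySmooth_stalkMap_iff V₀ hV U₀ hU hle huU]
    have : IsNoetherianRing Γ(V.left, V₀) := IsLocallyNoetherian.component_noetherian ⟨V₀, hV⟩
    have hft' : φ.hom.FiniteType :=
      HasRingHomProperty.appLE (P := @LocallyOfFiniteType) h.left inferInstance ⟨V₀, hV⟩ ⟨U₀, hU⟩ hle
    algebraize [φ.hom]
    refine Groth.Calg1.HasSmallLiftsAt.isSmoothAt (hU.primeIdealOf ⟨u, huU⟩).asIdeal ?_
    intro B' B _ _ _ _ _ _ _ _ π t hπ hker ht g hg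
    let s : Spec (CommRingCat.of B') ⟶ S :=
      Spec.map (CommRingCat.ofHom (algebraMap Γ(V.left, V₀) B')) ≫ hV.fromSpec ≫ V.hom
    let β' : Over.mk s ⟶ V :=
      Over.homMk (Spec.map (CommRingCat.ofHom (algebraMap Γ(V.left, V₀) B')) ≫ hV.fromSpec)
        (Category.assoc _ _ _)
    have hπc : CommRingCat.ofHom (algebraMap Γ(V.left, V₀) B') ≫ CommRingCat.ofHom π.toRingHom =
        φ ≫ CommRingCat.ofHom g.toRingHom := by
      ext x
      exact (π.commutes x).trans (g.commutes x).symm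
    let α₀ : Spec (CommRingCat.of B) ⟶ U.left :=
      Spec.map (CommRingCat.ofHom g.toRingHom) ≫ hU.fromSpec
    have w₀ : Spec.map (CommRingCat.ofHom π.toRingHom) ≫
        Spec.map (CommRingCat.ofHom (algebraMap Γ(V.left, V₀) B')) ≫ hV.fromSpec = α₀ ≫ h.left := by
      rw [← Spec.map_comp_assoc, hπc, Spec.map_comp, Category.assoc,
        IsAffineOpen.SpecMap_appLE_fromSpec, Category.assoc]
    let α' : Over.mk (Spec.map (CommRingCat.ofHom π.toRingHom) ≫ s) ⟶ U := Over.homMk α₀ (by
      change α₀ ≫ U.hom = Spec.map _ ≫ s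
      rw [← Over.w h, ← Category.assoc, ← w₀]
      simp only [s, Category.assoc])
    have hw : α' ≫ h = smallHom π.toRingHom s ≫ β' := Over.OverMorphism.ext w₀.symm
    have hα₀ : α₀ (IsLocalRing.closedPoint B) = u := by
      rw [Scheme.Hom.comp_apply]
      have e : Spec.map (CommRingCat.ofHom g.toRingHom) (IsLocalRing.closedPoint B) =
          hU.primeIdealOf ⟨u, huU⟩ := PrimeSpectrum.ext hg
      rw [e, hU.fromSpec_primeIdealOf]
    obtain ⟨γ, hγ₁, hγ₂⟩ := H B' B π.toRingHom hπ ⟨t, hker, ht⟩ s ((yon S).map α' ≫ a)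
      ((yon S).map β' ≫ b) (by rw [ofPt_comp_yon, ← hu]; exact congrArg _ hα₀)
      (by rw [Category.assoc, comm, ← Functor.map_comp_assoc, hw, Functor.map_comp_assoc])
    obtain ⟨γ', hγ'₁, hγ'₂⟩ := exists_small_lift (etale_iff.1 (Inf.etale_of_repWith ha)).1
      π.toRingHom t hπ hker ht s ((yon S).map α') γ hγ₁.symm
    obtain ⟨γ'', rfl⟩ := (yon S).map_surjective γ'
    have e₁ : smallHom π.toRingHom s ≫ γ'' = α' :=
      (yon S).map_injective (by rw [Functor.map_comp, hγ'₁])
    have e₂ : γ'' ≫ h = β' := by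
      refine (yon S).map_injective ?_
      refine small_unique (etale_iff.1 (Inf.etale_of_repWith hb)).2 π.toRingHom hπ
        (ker_sq_eq_bot_of_principal hker ht) s ?_ ?_
      · rw [← Functor.map_comp, ← Functor.map_comp]
        exact congrArg _ ((Category.assoc _ _ _).symm.trans ((congrArg (· ≫ h) e₁).trans hw))
      · rw [Functor.map_comp, Category.assoc, ← comm, ← Category.assoc, hγ'₂, hγ₂]
    -- the lift lands in the affine open
    have hl₁ : Spec.map (CommRingCat.ofHom π.toRingHom) ≫ γ''.left = α₀ :=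
      congrArg CommaMorphism.left e₁
    have hrange : Set.range γ''.left ⊆ Set.range hU.fromSpec := by
      rintro _ ⟨p, rfl⟩
      have hsub : ∀ a b : PrimeSpectrum B', a = b := fun a b => PrimeSpectrum.ext <| by
        rw [IsLocalRing.eq_maximalIdeal (IsArtinianRing.isMaximal_of_isPrime a.asIdeal),
          IsLocalRing.eq_maximalIdeal (IsArtinianRing.isMaximal_of_isPrime b.asIdeal)]
      have : p = Spec.map (CommRingCat.ofHom π.toRingHom) (IsLocalRing.closedPoint B) := hsub _ _
      rw [this, ← Scheme.Hom.comp_apply, hl₁, Scheme.Hom.comp_apply]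
      exact ⟨_, rfl⟩
    obtain ⟨g', hg'⟩ := Spec.map_surjective (IsOpenImmersion.lift hU.fromSpec γ''.left hrange)
    have hγ : Spec.map g' ≫ hU.fromSpec = γ''.left := by
      rw [hg']; exact IsOpenImmersion.lift_fac _ _ _
    have h1 : g' ≫ CommRingCat.ofHom π.toRingHom = CommRingCat.ofHom g.toRingHom := by
      refine Spec.map_injective ((cancel_mono hU.fromSpec).1 ?_)
      rw [Spec.map_comp, Category.assoc, hγ, hl₁]
    have h2 : φ ≫ g' = CommRingCat.ofHom (algebraMap Γ(V.left, V₀) B') := by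
      refine Spec.map_injective ((cancel_mono hV.fromSpec).1 ?_)
      rw [Spec.map_comp, Category.assoc, IsAffineOpen.SpecMap_appLE_fromSpec h.left hV hU hle,
        reassoc_of% hγ]
      exact congrArg CommaMorphism.left e₂
    exact ⟨{ g'.hom with commutes' := fun r => congr(($h2).hom r) },
      AlgHom.ext fun x => congr(($h1).hom x)⟩
  obtain ⟨V₁, hV₁, U₁, hU₁, hle₁, hu₁, hsm⟩ := exists_smooth_of_formallySmooth_stalk h.left u hfs
  refine ⟨U₁, hu₁, ?_⟩
  have : IsAffine (U₁ : Scheme.{u}) := hU₁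
  have : IsAffine (V₁ : Scheme.{u}) := hV₁
  have : Smooth (h.left.resLE V₁ U₁ hle₁) := by
    rw [HasRingHomProperty.iff_of_isAffine (P := @Smooth)]
    exact (RingHom.Smooth.propertyIsLocal.respectsIso.arrow_mk_iso_iff
      (arrowResLEAppIso h.left V₁ U₁ hle₁)).mpr hsm
  rw [← Scheme.Hom.resLE_comp_ι h.left hle₁]
  infer_instance

theorem smoothAt_tfae (hX : IsAlgSpace X) (hY : IsAlgSpace Y) (f : X ⟶ Y) (hN : IsLocNoethSp Y)
    (hft : LocP @LocallyOfFiniteType f) (x : Points X) :
    (HasAtMor (fun U _ h u => ∃ W : U.Opens, u ∈ W ∧ Smooth (W.ι ≫ h)) f x ↔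
      ∀ (B' B : Type u) [CommRing B'] [CommRing B] [IsLocalRing B'] [IsLocalRing B] (π : B' →+* B),
        Function.Surjective π → RingHom.ker π ^ 2 = ⊥ →
        ∀ (s : Spec (CommRingCat.of B') ⟶ S)
          (α : (yon S).obj (Over.mk (Spec.map (CommRingCat.ofHom π) ≫ s)) ⟶ X)
          (β : (yon S).obj (Over.mk s) ⟶ Y),
          Points.ofPt α (IsLocalRing.closedPoint B) = x →
          α ≫ f = (yon S).map (smallHom π s) ≫ β →
          ∃ γ : (yon S).obj (Over.mk s) ⟶ X, (yon S).map (smallHom π s) ≫ γ = α ∧ γ ≫ f = β) ∧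
    (HasAtMor (fun U _ h u => ∃ W : U.Opens, u ∈ W ∧ Smooth (W.ι ≫ h)) f x ↔
      ∀ (B' B : Type u) [CommRing B'] [CommRing B] [IsLocalRing B'] [IsLocalRing B]
        [IsArtinianRing B'] [IsArtinianRing B] (π : B' →+* B), Function.Surjective π →
        (∃ t : B', RingHom.ker π = Ideal.span {t} ∧ ∀ a ∈ IsLocalRing.maximalIdeal B', a * t = 0) →
        ∀ (s : Spec (CommRingCat.of B') ⟶ S)
          (α : (yon S).obj (Over.mk (Spec.map (CommRingCat.ofHom π) ≫ s)) ⟶ X)
          (β : (yon S).obj (Over.mk s) ⟶ Y),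
          Points.ofPt α (IsLocalRing.closedPoint B) = x →
          α ≫ f = (yon S).map (smallHom π s) ≫ β →
          ∃ γ : (yon S).obj (Over.mk s) ⟶ X, (yon S).map (smallHom π s) ≫ γ = α ∧ γ ≫ f = β) := by
  refine ⟨⟨fun hf B' B _ _ _ _ π hπ hI s α β hα w =>
    exists_lift_of_smoothAt hX hY hf π hπ hI s α β hα w, fun H => ?_⟩,
    ⟨fun hf B' B _ _ _ _ _ _ π hπ hker s α β hα w => ?_,
      smoothAt_of_small_lifts hX hY f hN hft x⟩⟩
  · exact smoothAt_of_small_lifts hX hY f hN hft x
      fun B' B _ _ _ _ _ _ π hπ ⟨t, hker, ht⟩ s α β hα w =>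
        H B' B π hπ (ker_sq_eq_bot_of_principal hker ht) s α β hα w
  · obtain ⟨t, hker, ht⟩ := hker
    exact exists_lift_of_smoothAt hX hY hf π hπ (ker_sq_eq_bot_of_principal hker ht) s α β hα w

end

end Groth.AlgSp2
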