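import Groth.Agent.AlgSp2.LocPSource
import Groth.Agent.AlgSp2.LocPFpqc
import Groth.Agent.AlgSp2.FppfProps

/-!
# Smoothness is smooth local on the source; descent along surjective smooth morphisms
-/

set_option autoImplicit false
set_option backward.isDefEq.respectTransparency.types false
universe u

open CategoryTheory CategoryTheory.Limits AlgebraicGeometry AlgSp

namespace Groth.AlgSp2

open Groth.AlgSpBasic

variable {S : Scheme.{u}}

theorem isLocalOnSource_smooth_smooth : IsLocalOnSource (IsSmCover (S := S)) (LocP @Smooth) :=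
  have := isLocalAtSource_precoverage @Smooth.{u} @Smooth (fun _ _ _ h => h)
    (fun _ _ _ χ h (_ : Smooth χ) (_ : Surjective χ) (_ : Smooth (χ ≫ h)) =>
      smooth_of_comp_surjective_smooth χ h)
  isLocalOnSource_smooth_locP @Smooth

theorem smooth_etale_of_surjective_comp {X Y B : Sp S} (hX : IsAlgSpace X) (hY : IsAlgSpace Y)
    (hB : IsAlgSpace B) (f : X ⟶ Y) (q : Y ⟶ B) (hs : IsSurjectiveMor f) :
    (LocP @Smooth f → LocP @Smooth (f ≫ q) → LocP @Smooth q) ∧
    (IsEtaleMor f → IsEtaleMor (f ≫ q) → IsEtaleMor q) := by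
  obtain ⟨V, W, b, c, k, hb, hbs, hc, -, commk⟩ := exists_charts hY hB q
  obtain ⟨U₀, φ, hφ, hφs⟩ := hX.atlas
  obtain ⟨U, u₁, u₂, -, ha, -, comm, hsurj⟩ := exists_chart_pair (f := f) hX hY hφ hφs hb hbs
  have : Surjective u₂.left := hsurj hs
  have comm' : ((yon S).map u₁ ≫ φ) ≫ f ≫ q = (yon S).map (u₂ ≫ k) ≫ c := by
    rw [← Category.assoc, comm, Category.assoc, commk, Functor.map_comp, Category.assoc]
  constructor
  · intro hf hfq
    have : Smooth u₂.left := hf _ b u₂ ha hb comm
    have hc2 : Smooth (u₂ ≫ k).left := hfq _ c _ ha hc comm'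
    rw [Over.comp_left] at hc2
    exact locP_of_chart hY.diag hB.diag hb hbs hc commk
      (smooth_of_comp_surjective_smooth u₂.left k.left)
  · intro hf hfq
    have : Etale u₂.left := locP_of_isEtaleMor hf _ b u₂ ha hb comm
    have hc2 : Etale (u₂ ≫ k).left := locP_of_isEtaleMor hfq _ c _ ha hc comm'
    rw [Over.comp_left] at hc2
    exact isEtaleMor_of_locP hB (locP_of_chart hY.diag hB.diag hb hbs hc commk
      (SourceDescent.etale_of_comp_surjective u₂.left k.left))

end Groth.AlgSp2
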