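import Groth.Agent.AlgSp2.SpExtensive
import Groth.Agent.Pi1Quot.SigmaFinite

/-!
# Consequences of extensivity of fppf sheaves
-/

set_option autoImplicit false
set_option backward.isDefEq.respectTransparency.types false
universe u

open CategoryTheory CategoryTheory.Limits AlgebraicGeometry AlgSp

namespace Groth.AlgSp2.SpExtensive

open Groth.AlgSpBasic

noncomputable section

variable {S : Scheme.{u}}

/-- A binary coproduct as a coproduct over `ULift Bool`. -/
theorem repWith_inl {F G : Sp S} (c : BinaryCofan F G) (hc : IsColimit c) :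
    RepWith (@IsOpenImmersion ⊓ @IsClosedImmersion) c.inl := by
  let Fb : ULift.{u} Bool → Sp S := fun b => match b with
    | ⟨true⟩ => F
    | ⟨false⟩ => G
  let cb : Cofan Fb := Cofan.mk c.pt fun b => match b with
    | ⟨true⟩ => c.inl
    | ⟨false⟩ => c.inr
  have hcb : IsColimit cb := Cofan.IsColimit.mk _
    (fun s => hc.desc (BinaryCofan.mk (s.inj ⟨true⟩) (s.inj ⟨false⟩)))
    (fun s b => by
      obtain ⟨b⟩ := b
      cases b
      · exact hc.fac _ ⟨WalkingPair.right⟩
      · exact hc.fac _ ⟨WalkingPair.left⟩)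
    (fun s m hm => BinaryCofan.IsColimit.hom_ext hc
      ((hm ⟨true⟩).trans
        (hc.fac (BinaryCofan.mk (s.inj ⟨true⟩) (s.inj ⟨false⟩)) ⟨WalkingPair.left⟩).symm)
      ((hm ⟨false⟩).trans
        (hc.fac (BinaryCofan.mk (s.inj ⟨true⟩) (s.inj ⟨false⟩)) ⟨WalkingPair.right⟩).symm))
  exact repWith_inj cb hcb ⟨true⟩

/-- A decomposition of a scheme into summands. -/
theorem exists_decomposition {ι : Type u} (U : Over S) (F : ι → Sp S) (c : Cofan F)
    (hc : IsColimit c) (e : c.pt ≅ (yon S).obj U) :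
    ∃ (V : ι → Over S) (g : ∀ i, V i ⟶ U) (ei : ∀ i, (yon S).obj (V i) ≅ F i),
      (∀ i, IsOpenImmersion (g i).left ∧ IsClosedImmersion (g i).left) ∧
      (∀ i, (ei i).hom ≫ c.inj i ≫ e.hom = (yon S).map (g i)) ∧
      Nonempty (IsColimit (Cofan.mk U.left (fun i => (g i).left))) := by
  have hex : ∀ i, ∃ (V : Over S) (g : V ⟶ U) (ei : (yon S).obj V ≅ F i),
      (IsOpenImmersion g.left ∧ IsClosedImmersion g.left) ∧
        ei.hom ≫ c.inj i ≫ e.hom = (yon S).map g := by
    intro i
    have hr := repWith_inj c hc i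
    obtain ⟨V, g, fst, sq⟩ := hr.rep e.inv
    have : IsIso fst := (IsPullback.isIso_fst_of_isIso sq :)
    refine ⟨V, g, asIso fst, hr.property e.inv fst g sq, ?_⟩
    rw [asIso_hom, ← Category.assoc, sq.w, Category.assoc, Iso.inv_hom_id, Category.comp_id]
  choose V g ei hg he using hex
  refine ⟨V, g, ei, hg, he, ?_⟩
  let cV : Cofan fun i => (yon S).obj (V i) :=
    Cofan.mk ((yon S).obj U) fun i => (yon S).map (g i)
  have hcV : IsColimit cV := Cofan.IsColimit.mk _
    (fun s => e.inv ≫ Cofan.IsColimit.desc hc fun i => (ei i).inv ≫ s.inj i)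
    (fun s i => by
      show (yon S).map (g i) ≫ e.inv ≫ _ = _
      rw [← he i]
      simp)
    (fun s m hm => by
      rw [Iso.eq_inv_comp]
      refine Cofan.IsColimit.hom_ext hc _ _ fun i => ?_
      rw [Cofan.IsColimit.fac, Iso.eq_inv_comp, ← hm i]
      show _ = (yon S).map (g i) ≫ m
      rw [← he i]
      simp)
  let m := (isColimitSigma V).coconePointUniqueUpToIso hcV
  have hm : ∀ i, (yon S).map (sigmaIncl V i) ≫ m.hom = (yon S).map (g i) := fun i =>
    IsColimit.comp_coconePointUniqueUpToIso_hom (isColimitSigma V) hcV ⟨i⟩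
  let φ : sigmaObj V ≅ U := (yon S).preimageIso m
  have hφ : ∀ i, sigmaIncl V i ≫ φ.hom = g i := fun i => (yon S).map_injective (by
    rw [Functor.map_comp]
    show _ ≫ (yon S).map ((yon S).preimage m.hom) = _
    rw [Functor.map_preimage, hm])
  exact ⟨IsColimit.ofIsoColimit (coproductIsCoproduct fun i => (V i).left)
    (Cocone.ext ((Over.forget S).mapIso φ) fun ⟨i⟩ => congrArg CommaMorphism.left (hφ i))⟩

/-- Finite coproducts of finite morphisms are finite. -/
theorem isFiniteMor_cofan_desc {n : ℕ} {X : Fin n → Sp S} {Y : Sp S}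
    (g : ∀ i, X i ⟶ Y) (hg : ∀ i, IsFiniteMor (g i)) (c : Cofan X) (hc : IsColimit c)
    (d : c.pt ⟶ Y) (hd : ∀ i, c.inj i ≫ d = g i) : IsFiniteMor d := by
  let X' : ULift.{u} (Fin n) → Sp S := fun i => X i.down
  let c' : Cofan X' := Cofan.mk c.pt fun i => c.inj i.down
  have hc' : IsColimit c' := Cofan.IsColimit.mk _
    (fun s => Cofan.IsColimit.desc hc fun i => s.inj ⟨i⟩)
    (fun s i => Cofan.IsColimit.fac hc _ i.down)
    (fun s m hm => Cofan.IsColimit.hom_ext hc _ _ fun i =>
      (hm ⟨i⟩).trans (Cofan.IsColimit.fac hc (fun i => s.inj ⟨i⟩) i).symm)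
  intro Z hZ b
  choose W w fst sq hW hw using fun i : ULift.{u} (Fin n) => hg i.down hZ b
  obtain ⟨fst', sq'⟩ := exists_pullback_glue c' hc' d b W w fst fun i => by
    show IsPullback (fst i) _ (c.inj i.down ≫ d) b
    rw [hd]; exact sq i
  have hf : IsFinite (sigmaOut w).left :=
    Groth.Pi1Quot.isFinite_sigmaDesc fun i => (w i).left
  exact ⟨_, sigmaOut w, fst', sq', isAffine_of_isAffineHom (sigmaOut w).left, hf⟩

end

end Groth.AlgSp2.SpExtensive
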