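import Groth.Prelude.Def_AlgSpEt
import Groth.Prelude.Def_AlgSpCov
import Groth.Agent.AlgSp2.Locality
import Groth.Agent.AlgSpBasic.AlgSpace
import Mathlib.CategoryTheory.Sites.CoverPreserving
import Mathlib.CategoryTheory.Sites.CoverLifting

/-!
# The small etale site and the big etale site of spaces
-/

set_option autoImplicit false
set_option backward.isDefEq.respectTransparency.types false
universe u

open CategoryTheory CategoryTheory.Limits AlgebraicGeometry AlgSp Groth.AlgSpBasic

namespace Groth.AlgSp2.SpacesSiteCompare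

noncomputable section

variable {S : Scheme.{u}}

/-- A covering sieve of spaces pulls back to a sieve with etale arrows through every point. -/
theorem exists_etale_arrow {X : Space S} {R : Sieve X} (hR : R ∈ spacesTop S IsEtaleMor X) :
    ∀ {W : Space S} (f : W ⟶ X) (x : Points W.obj), ∃ (W' : Space S) (g : W' ⟶ W),
      IsEtaleMor g.hom ∧ R (g ≫ f) ∧ x ∈ Set.range (Points.map g.hom) := by
  induction hR with
  | of X R hR =>
    intro W f x
    obtain ⟨hP, hx⟩ := hR
    obtain ⟨Y, g, hg, y, hy⟩ := hx (Points.map f.hom x)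
    have sq := IsPullback.of_hasPullback g.hom f.hom
    let W' : Space S := ⟨pullback g.hom f.hom, isAlgSpace_pullback Y W X g.hom f.hom⟩
    obtain ⟨w, -, hw⟩ := Groth.AlgSpBasic.exists_point_of_isPullback sq y x hy
    refine ⟨W', ObjectProperty.homMk (pullback.snd g.hom f.hom),
      Groth.AlgSp2.isEtaleMor_of_isPullback Y.property X.property W.property sq (hP g hg), ?_, w, hw⟩
    exact ⟨Y, ObjectProperty.homMk (pullback.fst g.hom f.hom), g, hg,
      ObjectProperty.hom_ext _ pullback.condition⟩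
  | top X =>
    intro W f x
    exact ⟨W, 𝟙 W, fun U φ hφ => by simpa using hφ, trivial, x, by simp⟩
  | pullback X R _ Y h ih =>
    intro W f x
    obtain ⟨W', g, hg, hR', hx⟩ := ih (f ≫ h) x
    exact ⟨W', g, hg, by simpa using hR', hx⟩
  | transitive X R T _ _ ih1 ih2 =>
    intro W f x
    obtain ⟨W', g, hg, hR', x', rfl⟩ := ih1 f x
    obtain ⟨W'', g', hg', hT, x'', rfl⟩ := ih2 hR' (𝟙 W') x'
    refine ⟨W'', g' ≫ g, Groth.AlgSp2.isEtaleMor_comp hg' hg, ?_, x'', Points.map_comp _ _ _⟩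
    simpa using hT

variable {X : Sp S}

/-- A covering sieve of the small etale site has an arrow through every point. -/
theorem exists_arrow_of_mem_etTop {E : EtOver X} {R : Sieve E} (hR : R ∈ etTop X E) :
    ∀ {E' : EtOver X} (f : E' ⟶ E) (v : ↥E'.obj.left.left), ∃ (E'' : EtOver X) (g : E'' ⟶ E'),
      R (g ≫ f) ∧ v ∈ Set.range g.hom.left.left := by
  induction hR with
  | of E R hR =>
    intro E' f v
    obtain ⟨ι, Y, g, rfl⟩ := R.exists_eq_ofArrows
    obtain ⟨i, w, hw⟩ := (ofArrows_mem_etPre_iff Y g).1 hR (f.hom.left.left v)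
    obtain ⟨c, hc₁, hc₂⟩ := Scheme.exists_preimage_of_isPullback
      (((EtOver.isPullback (g i) f).map (EtOver.toScheme X))) w v hw
    exact ⟨EtOver.pullbackObj (g i) f, EtOver.pullbackSnd (g i) f,
      ⟨Y i, EtOver.pullbackFst (g i) f, g i, ⟨i⟩, (EtOver.isPullback (g i) f).w⟩, c, hc₂⟩
  | top E =>
    intro E' f v
    exact ⟨E', 𝟙 E', trivial, v, rfl⟩
  | pullback E R _ Y h ih =>
    intro E' f v
    obtain ⟨E'', g, hR', hx⟩ := ih (f ≫ h) v
    exact ⟨E'', g, by simpa using hR', hx⟩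
  | transitive E R T _ _ ih1 ih2 =>
    intro E' f v
    obtain ⟨E'', g, hR', w, rfl⟩ := ih1 f v
    obtain ⟨E₃, g', hT, w', rfl⟩ := ih2 hR' (𝟙 E'') w
    exact ⟨E₃, g' ≫ g, by simpa using hT, w', rfl⟩

/-- The comparison functor. -/
abbrev Φ {X Y : Space S} (f : Y ⟶ X) : EtOver Y.obj ⥤ Over X :=
  EtOver.toEtSpOver Y ⋙ ObjectProperty.ι (fun E : Over Y => IsEtaleMor E.hom.hom) ⋙ Over.map f

theorem mem_spacesTop_of_etale_family {X : Space S} {R : Sieve X} {ι : Type u} (Y : ι → Space S)
    (g : ∀ i, Y i ⟶ X) (hg : ∀ i, IsEtaleMor (g i).hom) (hR : ∀ i, R (g i))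
    (hx : ∀ x, ∃ i, x ∈ Set.range (Points.map (g i).hom)) : R ∈ spacesTop S IsEtaleMor X := by
  refine GrothendieckTopology.superset_covering _ ?_ (Precoverage.generate_mem_toGrothendieck
    ((ofArrows_mem_spacesPre_iff IsEtaleMor Y g).2 ⟨hg, fun x => hx x⟩))
  rintro Z _ ⟨W, c, _, ⟨i⟩, rfl⟩
  exact R.downward_closed (hR i) c

theorem isEtaleMor_yon {T T' : Over S} (m : T ⟶ T') [Etale m.left] : IsEtaleMor ((yon S).map m) :=
  (isEtaleMor_yon_map_iff m).2 ‹_›

theorem isCocontinuous {X Y : Space S} (f : Y ⟶ X) :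
    (Φ f).IsCocontinuous (etTop Y.obj) (spacesTopOver IsEtaleMor X) := by
  refine ⟨fun {E R} hR => ?_⟩
  rw [GrothendieckTopology.mem_over_iff] at hR
  have key : ∀ v : ↥E.obj.left.left, ∃ (E' : EtOver Y.obj) (g : E' ⟶ E),
      R.functorPullback (Φ f) g ∧ v ∈ Set.range g.hom.left.left := by
    intro v
    obtain ⟨W, g, hg, hRg, w, hw⟩ := exists_etale_arrow hR (𝟙 _) (Points.schemeEquiv E.obj.left v)
    rw [Category.comp_id] at hRg
    obtain ⟨U, c, hc, hcs⟩ := W.property.atlas
    obtain ⟨u, rfl⟩ := surjective_ofPt_of_repWith hcs w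
    obtain ⟨m, hm⟩ := (yon S).map_surjective (c ≫ g.hom)
    have he : RepWith @Etale ((yon S).map m) := hm ▸ hg c hc
    let a' : (yon S).obj U ⟶ Y.obj := (yon S).map m ≫ E.obj.hom
    have ha' : RepWith @Etale a' := repWith_comp he E.property
    let g' : EtOver.mk a' ha' ⟶ E := EtOver.homMk m rfl
    refine ⟨EtOver.mk a' ha', g', ?_, u, ?_⟩
    · show R ((Φ f).map g')
      rw [← (Sieve.overEquiv _).symm_apply_apply R]
      show (Sieve.overEquiv _ R).arrows ((Φ f).map g').left
      have : ((Φ f).map g').left = (ObjectProperty.homMk c : (ofScheme S).obj U ⟶ W) ≫ g :=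
        ObjectProperty.hom_ext _ hm
      rw [this]
      exact (Sieve.overEquiv _ R).downward_closed hRg _
    · apply (Points.schemeEquiv E.obj.left).injective
      refine Eq.trans ?_ hw
      refine ((Points.map_yon_map_apply m u).symm.trans ?_)
      show Points.map ((yon S).map m) (Points.schemeEquiv U u) = _
      rw [hm, Points.map_comp]
      exact congrArg (Points.map g.hom) (ofPt_eq_map c u).symm
  choose E' g hg hv using key
  refine GrothendieckTopology.superset_covering _ ?_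
    (ofArrows_mem_etTop E' g fun v => ⟨v, hv v⟩)
  rintro Z _ ⟨W, c, _, ⟨i⟩, rfl⟩
  exact (R.functorPullback (Φ f)).downward_closed (hg i) c

theorem coverPreserving {X Y : Space S} (f : Y ⟶ X) :
    CoverPreserving (etTop Y.obj) (spacesTopOver IsEtaleMor X) (Φ f) := by
  refine ⟨fun {E R} hR => ?_⟩
  rw [GrothendieckTopology.mem_over_iff]
  choose E' g hg v hv using fun v => exists_arrow_of_mem_etTop hR (𝟙 E) v
  refine mem_spacesTop_of_etale_family (fun w => (ofScheme S).obj (E' w).obj.left)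
    (fun w => (ofScheme S).map (g w).hom.left)
    (fun w => by have := EtOver.etale_left (g w); exact isEtaleMor_yon (g w).hom.left)
    (fun w => ?_) fun x => ?_
  · have hw : R (g w) := by simpa using hg w
    exact Sieve.image_mem_functorPushforward (Over.forget X) _
      (Sieve.image_mem_functorPushforward (Φ f) R hw)
  · obtain ⟨w, rfl⟩ := (Points.schemeEquiv E.obj.left).surjective x
    exact ⟨w, Points.schemeEquiv _ (v w), (Points.map_yon_map_apply _ _).trans (congrArg _ (hv w))⟩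

theorem compatiblePreserving {X Y : Space S} (f : Y ⟶ X) :
    CompatiblePreserving.{u + 2} (spacesTopOver IsEtaleMor X) (Φ f) := by
  refine ⟨fun F Z T x hx Y₁ Y₂ W f₁ f₂ g₁ g₂ hg₁ hg₂ e => ?_⟩
  have sq := ((EtOver.isPullback g₁ g₂).map (EtOver.forget Y.obj)).map (yon S)
  have e' : f₁.left.hom ≫ (yon S).map g₁.hom.left = f₂.left.hom ≫ (yon S).map g₂.hom.left :=
    congrArg (fun q : W ⟶ _ => q.left.hom) e
  let l₀ : W.left.obj ⟶ (yon S).obj (EtOver.pullbackObj g₁ g₂).obj.left :=
    sq.lift f₁.left.hom f₂.left.hom e'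
  let l : W ⟶ (Φ f).obj (EtOver.pullbackObj g₁ g₂) :=
    Over.homMk (ObjectProperty.homMk l₀) (by
      apply ObjectProperty.hom_ext
      have h₁ := congrArg (fun q : W.left ⟶ X => q.hom) (Over.w f₁)
      refine Eq.trans ?_ h₁
      show l₀ ≫ (EtOver.pullbackObj g₁ g₂).obj.hom ≫ f.hom = f₁.left.hom ≫ Y₁.obj.hom ≫ f.hom
      rw [← EtOver.w (EtOver.pullbackFst g₁ g₂), Category.assoc, ← Category.assoc l₀]
      congr 1
      exact sq.lift_fst _ _ _)
  have h₁ : l ≫ (Φ f).map (EtOver.pullbackFst g₁ g₂) = f₁ :=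
    Over.OverMorphism.ext (ObjectProperty.hom_ext _ (sq.lift_fst _ _ _))
  have h₂ : l ≫ (Φ f).map (EtOver.pullbackSnd g₁ g₂) = f₂ :=
    Over.OverMorphism.ext (ObjectProperty.hom_ext _ (sq.lift_snd _ _ _))
  rw [← h₁, ← h₂, op_comp, op_comp, Functor.map_comp, Functor.map_comp]
  exact congrArg (F.obj.map l.op) (hx _ _ hg₁ hg₂ (EtOver.pullback_condition g₁ g₂))

theorem isContinuous {X Y : Space S} (f : Y ⟶ X) :
    (Φ f).IsContinuous (etTop Y.obj) (spacesTopOver IsEtaleMor X) :=
  Functor.isContinuous_of_coverPreserving (compatiblePreserving f) (coverPreserving f)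

end

end Groth.AlgSp2.SpacesSiteCompare
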