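import Groth.Agent.S9778
import Groth.Agent.Flatmor4.QuasiFiniteSplit

/-!
# Finite families of quasi-finite points split off after an etale neighbourhood
-/

set_option autoImplicit false
set_option backward.isDefEq.respectTransparency.types false
universe u

open CategoryTheory CategoryTheory.Limits AlgebraicGeometry TopologicalSpace

namespace Groth.AlgSp2.SplitOff

variable {A X S : Scheme.{u}}

/-- After base change to `U` the points of `A` over `u` lie in a closed open part finite over `U`. -/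
def Split (h : A ⟶ S) {U : Scheme.{u}} (g : U ⟶ S) (u : U) : Prop :=
  ∃ O : (pullback h g).Opens, IsClosed (O : Set ↑(pullback h g)) ∧
    IsFinite (O.ι ≫ pullback.snd h g) ∧
    ∀ w : ↑(pullback h g), pullback.snd h g w = u → w ∈ O

/-- An isolated point of a fibre has an affine neighbourhood meeting the fibre only there. -/
theorem exists_affine_nbhd_isolated (h : X ⟶ S) [LocallyOfFiniteType h] (x : X)
    (hx : h.QuasiFiniteAt x) :
    ∃ O : X.Opens, IsAffineOpen O ∧ x ∈ O ∧ ∀ y ∈ O, h y = h x → y = x := by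
  obtain ⟨o, ho, e⟩ := (h.fiberι (h x)).isEmbedding.isOpen_iff.1
    hx.isClopen_singleton_asFiber.isOpen
  have hxo : x ∈ o := by
    have : h.fiberι (h x) (h.asFiber x) ∈ o := e.ge rfl
    rwa [h.fiberι_asFiber x] at this
  obtain ⟨O, hO, hxO, hOo⟩ := exists_isAffineOpen_mem_and_subset (U := ⟨o, ho⟩) hxo
  refine ⟨O, hO, hxO, fun y hy hyx => ?_⟩
  obtain ⟨z, rfl⟩ := (h.range_fiberι (h x)).ge hyx
  have : z = h.asFiber x := e.le (hOo hy)
  rw [this, h.fiberι_asFiber x]

theorem exists_split (h : A ⟶ S) [LocallyOfFiniteType h] [IsSeparated h] (s : S) (a : A)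
    (ha : h a = s) (huniq : ∀ b, h b = s → b = a) (hq : h.QuasiFiniteAt a) :
    ∃ (U : Scheme.{u}) (g : U ⟶ S) (u : U), Etale g ∧ g u = s ∧ Split h g u := by
  obtain ⟨U, g, u, hg, hu, J, hJ, V, v, hcl, -, hV, hall⟩ := Groth.Agent.S9778.result h s
    (ι := Unit) (fun _ => a) (fun _ _ _ => Subsingleton.elim _ _) (fun _ => ha) (fun _ => hq)
  have := hJ ()
  refine ⟨U, g, u, hg, hu, ⨆ j, V () j, ?_, ?_, ?_⟩
  · rw [Opens.coe_iSup]
    exact isClosed_iUnion_of_finite fun j => (hcl () j).isClosed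
  · exact Groth.Flatmor4.isFinite_iSup _ (V ()) fun j => (hV () j).2.1
  · intro w hw
    obtain ⟨j, hj⟩ := hall w () hw (huniq _ (by
      rw [← Scheme.Hom.comp_apply, pullback.condition, Scheme.Hom.comp_apply, hw, hu]))
    exact Opens.mem_iSup.2 ⟨j, hj⟩

theorem Split.baseChange {h : A ⟶ S} {U U' : Scheme.{u}} {g : U ⟶ S} {u : U} (H : Split h g u)
    (c : U' ⟶ U) (u' : U') (hc : c u' = u) (g' : U' ⟶ S) (hg' : g' = c ≫ g) :
    Split h g' u' := by
  obtain ⟨O, hO, hf, hall⟩ := H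
  subst hg'
  let m : pullback h (c ≫ g) ⟶ pullback h g :=
    pullback.lift (pullback.fst h (c ≫ g)) (pullback.snd h (c ≫ g) ≫ c)
      (by rw [Category.assoc]; exact pullback.condition)
  have hm₁ : m ≫ pullback.fst h g = pullback.fst h (c ≫ g) := pullback.lift_fst _ _ _
  have hm₂ : m ≫ pullback.snd h g = pullback.snd h (c ≫ g) ≫ c := pullback.lift_snd _ _ _
  have sq : IsPullback m (pullback.snd h (c ≫ g)) (pullback.snd h g) c :=
    IsPullback.of_right (by rw [hm₁]; exact IsPullback.of_hasPullback _ _) hm₂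
      (IsPullback.of_hasPullback h g)
  refine ⟨m ⁻¹ᵁ O, hO.preimage m.continuous,
    MorphismProperty.of_isPullback ((isPullback_morphismRestrict m O).paste_vert sq) hf,
    fun w hw => hall _ ?_⟩
  rw [← Scheme.Hom.comp_apply, hm₂, Scheme.Hom.comp_apply, hw, hc]

theorem exists_split_family {n : ℕ} (A : Fin n → Scheme.{u}) (h : ∀ i, A i ⟶ S)
    [∀ i, LocallyOfFiniteType (h i)] [∀ i, IsSeparated (h i)] (s : S) (a : ∀ i, A i)
    (ha : ∀ i, h i (a i) = s) (huniq : ∀ i b, h i b = s → b = a i)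
    (hq : ∀ i, (h i).QuasiFiniteAt (a i)) :
    ∃ (U : Scheme.{u}) (g : U ⟶ S) (u : U), Etale g ∧ g u = s ∧ ∀ i, Split (h i) g u := by
  induction n with
  | zero => exact ⟨S, 𝟙 S, s, inferInstance, rfl, fun i => i.elim0⟩
  | succ n ih =>
    obtain ⟨U₁, g₁, u₁, hg₁, hu₁, H₁⟩ := ih (fun i => A i.succ) (fun i => h i.succ)
      (fun i => a i.succ) (fun i => ha i.succ) (fun i => huniq i.succ) (fun i => hq i.succ)
    obtain ⟨U₂, g₂, u₂, hg₂, hu₂, H₂⟩ :=
      exists_split (h 0) s (a 0) (ha 0) (huniq 0) (hq 0)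
    obtain ⟨u, hu₁', hu₂'⟩ :=
      Scheme.Pullback.exists_preimage_pullback (f := g₁) (g := g₂) u₁ u₂ (hu₁.trans hu₂.symm)
    refine ⟨pullback g₁ g₂, pullback.fst g₁ g₂ ≫ g₁, u, inferInstance, ?_, fun i => ?_⟩
    · rw [Scheme.Hom.comp_apply, hu₁', hu₁]
    · refine Fin.cases ?_ (fun j => ?_) i
      · exact H₂.baseChange (pullback.snd g₁ g₂) u hu₂' _ pullback.condition
      · exact (H₁ j).baseChange (pullback.fst g₁ g₂) u hu₁' _ rfl

end Groth.AlgSp2.SplitOff
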