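import Groth.Agent.AlgSp2.ThickTop
import Groth.Agent.AlgSpBasic.LocPInst
import Groth.Agent.FlatMor2.NilBaseChange
import Groth.Agent.FibreDim.BaseChange
import Groth.Agent.AlgSp3.HasAtMor

/-!
# Charts for cartesian squares of thickenings of algebraic spaces
-/

set_option autoImplicit false
set_option backward.isDefEq.respectTransparency.types false
universe u

open CategoryTheory CategoryTheory.Limits AlgebraicGeometry AlgSp TopologicalSpace

namespace Groth.AlgSp2

open Groth.AlgSpBasic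

noncomputable section

variable {S : Scheme.{u}} {X X' Y Y' B B' : Sp S}

/-- A chart of the thickened morphism restricts to a chart of the morphism. -/
theorem exists_thick_chart {i : X ⟶ X'} {j : Y ⟶ Y'} {f : X ⟶ Y} {f' : X' ⟶ Y'}
    (hi : IsThickMor i) (hj : IsThickMor j) (hc : IsPullback i f f' j) {U' V' : Over S}
    {a' : (yon S).obj U' ⟶ X'} {b' : (yon S).obj V' ⟶ Y'} {h' : U' ⟶ V'}
    (comm : a' ≫ f' = (yon S).map h' ≫ b') :
    ∃ (U V : Over S) (a : (yon S).obj U ⟶ X) (b : (yon S).obj V ⟶ Y) (h : U ⟶ V) (iU : U ⟶ U')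
      (iV : V ⟶ V'), IsPullback a ((yon S).map iU) i a' ∧ IsPullback b ((yon S).map iV) j b' ∧
        a ≫ f = (yon S).map h ≫ b ∧ MoreMor.IsThickening iV.left ∧
          IsPullback iU.left h.left h'.left iV.left := by
  obtain ⟨V, iV, b, sV⟩ := hj.rep b'
  obtain ⟨U, iU, a, sU⟩ := hi.rep a'
  obtain ⟨h, hh⟩ := (yon S).map_surjective (sV.lift (a ≫ f) ((yon S).map (iU ≫ h')) (by
    rw [Category.assoc, ← hc.w, reassoc_of% sU.w, comm, Functor.map_comp, Category.assoc]))
  have h1 : (yon S).map h ≫ b = a ≫ f := by rw [hh, sV.lift_fst]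
  have h2 : h ≫ iV = iU ≫ h' := (yon S).map_injective (by rw [Functor.map_comp, hh, sV.lift_snd])
  have sU' : IsPullback ((yon S).map h) ((yon S).map iU) ((yon S).map iV) ((yon S).map h') := by
    refine IsPullback.of_right ?_ (by rw [← Functor.map_comp, ← Functor.map_comp, h2]) sV
    rw [h1, ← comm]
    exact sU.paste_horiz hc.flip
  exact ⟨U, V, a, b, h, iU, iV, sU, sV, h1.symm, hj.property b' b iV sV,
    (isPullback_left (isPullback_of_yon sU')).flip⟩

/-- The ideal of a chart of an order `n` thickening has vanishing `(n+1)`st power. -/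
theorem ker_pow_eq_bot_of_nThick {n : ℕ} {i : X ⟶ X'} (hi : IsNThickMor n i) {U U' : Over S}
    {a : (yon S).obj U ⟶ X} {a' : (yon S).obj U' ⟶ X'} {iU : U ⟶ U'} (ha : RepWith @Etale a')
    (sq : IsPullback a ((yon S).map iU) i a') : iU.left.ker ^ (n + 1) = ⊥ := by
  refine Scheme.IdealSheafData.ext_of_iSup_eq_top (fun O : U'.left.affineOpens => O)
    (iSup_affineOpens_eq_top U'.left) fun O => ?_
  have : IsClosedImmersion iU.left := (hi.1.property a' a iU sq).1
  let V : Over S := Over.mk (O.1.ι ≫ U'.hom)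
  let W : Over S := Over.mk ((iU.left ⁻¹ᵁ O.1).ι ≫ U.hom)
  let ιV : V ⟶ U' := Over.homMk O.1.ι rfl
  let ιW : W ⟶ U := Over.homMk (iU.left ⁻¹ᵁ O.1).ι rfl
  let r : W ⟶ V := Over.homMk (iU.left ∣_ O.1) (by
    change _ ≫ O.1.ι ≫ U'.hom = (iU.left ⁻¹ᵁ O.1).ι ≫ U.hom
    rw [morphismRestrict_ι_assoc, Over.w iU])
  have sW : IsPullback ((yon S).map ιW) ((yon S).map r) ((yon S).map iU) ((yon S).map ιV) :=
    (IsPullback.of_map (Over.forget S) (f := ιW) (g := r) (h := iU) (i := ιV)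
      (Over.OverMorphism.ext (morphismRestrict_ι _ _).symm)
      (isPullback_morphismRestrict iU.left O.1).flip).map (yon S)
  have h := hi.2 ((yon S).map ιV ≫ a') ((yon S).map ιW ≫ a) r O.2
    (repWith_comp ((repWith_yon_map_iff @Etale ιV).2 (inferInstanceAs (Etale O.1.ι))) ha)
    (sW.paste_horiz sq)
  change (iU.left ∣_ O.1).ker ^ (n + 1) = ⊥ at h
  have sO : IsPullback (iU.left ∣_ O.1) (iU.left ⁻¹ᵁ O.1).ι O.1.ι iU.left :=
    isPullback_morphismRestrict iU.left O.1
  have hle : (⊤ : (O.1 : Scheme.{u}).Opens) ≤ O.1.ι ⁻¹ᵁ O.1 := le_of_eq O.1.ι_preimage_self.symm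
  have : IsAffine (O.1 : Scheme.{u}) := O.2
  have hker := Groth.FlatMor2.ker_ideal_eq_map sO O.2 (isAffineOpen_top (O.1 : Scheme.{u})) hle
  have h1 := congr(($h).ideal ⟨⊤, isAffineOpen_top _⟩)
  rw [Scheme.IdealSheafData.ideal_pow, Pi.pow_apply, hker, ← Ideal.map_pow,
    Scheme.IdealSheafData.ideal_bot, Pi.bot_apply] at h1
  have : IsIso (O.1.ι.appLE O.1 ⊤ hle) := by
    rw [Scheme.Opens.ι_appLE, Subsingleton.elim (homOfLE _) (eqToHom O.1.ι_image_top),
      eqToHom_op, eqToHom_map]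
    exact Iso.isIso_hom (eqToIso (congrArg U'.left.presheaf.obj
      (congrArg Opposite.op O.1.ι_image_top.symm)))
  rw [Scheme.IdealSheafData.ideal_pow, Pi.pow_apply, Scheme.IdealSheafData.ideal_bot, Pi.bot_apply]
  exact (Ideal.map_eq_bot_iff_of_injective (ConcreteCategory.bijective_of_isIso _).1).1 h1

/-- Charts of a finite order thickening are finite order thickenings. -/
theorem finiteOrder_chart {i : X ⟶ X'} (hi : IsFinThickMor i) {U U' : Over S}
    {a : (yon S).obj U ⟶ X} {a' : (yon S).obj U' ⟶ X'} {iU : U ⟶ U'} (ha : RepWith @Etale a')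
    (sq : IsPullback a ((yon S).map iU) i a') : MoreMor.IsFiniteOrderThickening iU.left := by
  obtain ⟨n, hn⟩ := hi
  exact ⟨hn.1.property a' a iU sq, n + 1, ker_pow_eq_bot_of_nThick hn ha sq⟩

/-- A single adapted chart of a cartesian thickening square. -/
theorem exists_thick_charts {i : X ⟶ X'} {j : Y ⟶ Y'} {f : X ⟶ Y} {f' : X' ⟶ Y'}
    (hX' : IsAlgSpace X') (hY' : IsAlgSpace Y') (hi : IsThickMor i) (hj : IsThickMor j)
    (hc : IsPullback i f f' j) :
    ∃ (U U' V V' : Over S) (a : (yon S).obj U ⟶ X) (a' : (yon S).obj U' ⟶ X')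
      (b : (yon S).obj V ⟶ Y) (b' : (yon S).obj V' ⟶ Y') (h : U ⟶ V) (h' : U' ⟶ V') (iU : U ⟶ U')
      (iV : V ⟶ V'), (RepWith @Etale a ∧ RepWith @Surjective a) ∧
      (RepWith @Etale a' ∧ RepWith @Surjective a') ∧ RepWith @Etale b ∧ RepWith @Etale b' ∧
      a ≫ f = (yon S).map h ≫ b ∧ a' ≫ f' = (yon S).map h' ≫ b' ∧
      IsPullback a ((yon S).map iU) i a' ∧ IsPullback b ((yon S).map iV) j b' ∧
      MoreMor.IsThickening iV.left ∧ IsPullback iU.left h.left h'.left iV.left := by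
  obtain ⟨U', V', a', b', h', ha', has', hb', hbs', comm'⟩ := exists_charts hX' hY' f'
  obtain ⟨U, V, a, b, h, iU, iV, sU, sV, comm, ht, sq⟩ := exists_thick_chart hi hj hc comm'
  exact ⟨U, U', V, V', a, a', b, b', h, h', iU, iV,
    ⟨repWith_of_isPullback sU.flip ha', repWith_of_isPullback sU.flip has'⟩, ⟨ha', has'⟩,
    repWith_of_isPullback sV.flip hb', hb', comm, comm', sU, sV, ht, sq⟩

/-- An étale local property of morphisms passes between the two sides of a cartesian thickening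
square if it does so for schemes. -/
theorem locP_iff_of_thick {P P' : MorphismProperty Scheme.{u}} [EtaleLocal P] [EtaleLocal P']
    {i : X ⟶ X'} {j : Y ⟶ Y'} {f : X ⟶ Y} {f' : X' ⟶ Y'} (hX : IsAlgSpace X) (hY : IsAlgSpace Y)
    (hX' : IsAlgSpace X') (hY' : IsAlgSpace Y') (hi : IsThickMor i) (hj : IsThickMor j)
    (hc : IsPullback i f f' j)
    (H : ∀ {U U' V V' : Over S} (a : (yon S).obj U ⟶ X) (a' : (yon S).obj U' ⟶ X')
      (b : (yon S).obj V ⟶ Y) (b' : (yon S).obj V' ⟶ Y') (h : U ⟶ V) (h' : U' ⟶ V') (iU : U ⟶ U')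
      (iV : V ⟶ V'), RepWith @Etale a → RepWith @Etale a' → RepWith @Etale b → RepWith @Etale b' →
      a ≫ f = (yon S).map h ≫ b → a' ≫ f' = (yon S).map h' ≫ b' →
      IsPullback a ((yon S).map iU) i a' → MoreMor.IsThickening iV.left →
      IsPullback iU.left h.left h'.left iV.left → (P h.left ↔ P' h'.left)) :
    LocP P f ↔ LocP P' f' := by
  obtain ⟨U, U', V, V', a, a', b, b', h, h', iU, iV, ⟨ha, has⟩, ⟨ha', has'⟩, hb, hb', comm, comm',
    sU, -, ht, sq⟩ := exists_thick_charts hX' hY' hi hj hc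
  have := H a a' b b' h h' iU iV ha ha' hb hb' comm comm' sU ht sq
  exact ⟨fun hf => locP_of_chart hX'.diag hY'.diag ha' has' hb' comm' (this.1 (hf a b h ha hb comm)),
    fun hf => locP_of_chart hX.diag hY.diag ha has hb comm (this.2 (hf a' b' h' ha' hb' comm'))⟩

/-- A single adapted chart of a thickened morphism over a thickened base. -/
theorem exists_deform_charts {iX : X ⟶ X'} {iY : Y ⟶ Y'} {iB : B ⟶ B'} {f : X ⟶ Y} {f' : X' ⟶ Y'}
    {g : Y ⟶ B} {g' : Y' ⟶ B'} (hX' : IsAlgSpace X') (hY' : IsAlgSpace Y') (hB' : IsAlgSpace B')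
    (hB : IsThickMor iB) (hcY : IsPullback iY g g' iB) (hc : IsPullback iX f f' iY) :
    ∃ (U U' V V' W W' : Over S) (a : (yon S).obj U ⟶ X) (a' : (yon S).obj U' ⟶ X')
      (b : (yon S).obj V ⟶ Y) (b' : (yon S).obj V' ⟶ Y') (c : (yon S).obj W ⟶ B)
      (c' : (yon S).obj W' ⟶ B') (h : U ⟶ V) (h' : U' ⟶ V') (k : V ⟶ W) (k' : V' ⟶ W')
      (iU : U ⟶ U') (iV : V ⟶ V') (iW : W ⟶ W'),
      (RepWith @Etale a ∧ RepWith @Surjective a) ∧ (RepWith @Etale a' ∧ RepWith @Surjective a') ∧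
      (RepWith @Etale b ∧ RepWith @Etale b') ∧ RepWith @Etale c' ∧
      a ≫ f = (yon S).map h ≫ b ∧ a' ≫ f' = (yon S).map h' ≫ b' ∧
      b' ≫ g' = (yon S).map k' ≫ c' ∧ a' ≫ f' ≫ g' = (yon S).map (h' ≫ k') ≫ c' ∧
      IsPullback c ((yon S).map iW) iB c' ∧ MoreMor.IsThickening iW.left ∧
      IsPullback iU.left (h.left ≫ k.left) (h'.left ≫ k'.left) iW.left ∧
      IsPullback iV.left k.left k'.left iW.left ∧ iU.left ≫ h'.left = h.left ≫ iV.left := by
  have hY : IsThickMor iY := repWith_of_isPullback hcY.flip hB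
  have hiX : IsThickMor iX := repWith_of_isPullback hc.flip hY
  obtain ⟨V', W', b', c', k', hb', hbs', hc', -, comm₂⟩ := exists_charts hY' hB' g'
  obtain ⟨U', a', h', ha', has', comm₁⟩ := exists_chart_over hX' hY'.diag f' b' hb' hbs'
  obtain ⟨U, V, a, b, h, iU, iV, sU, sV, comm, ht, sq⟩ := exists_thick_chart hiX hY hc comm₁
  obtain ⟨W, iW, c, sW⟩ := hB.rep c'
  obtain ⟨k, hk⟩ := (yon S).map_surjective (sW.lift (b ≫ g) ((yon S).map (iV ≫ k')) (by
    rw [Category.assoc, ← hcY.w, reassoc_of% sV.w, comm₂, Functor.map_comp, Category.assoc]))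
  have h1 : (yon S).map k ≫ c = b ≫ g := by rw [hk, sW.lift_fst]
  have h2 : k ≫ iW = iV ≫ k' := (yon S).map_injective (by rw [Functor.map_comp, hk, sW.lift_snd])
  have sV' : IsPullback ((yon S).map k) ((yon S).map iV) ((yon S).map iW) ((yon S).map k') := by
    refine IsPullback.of_right ?_ (by rw [← Functor.map_comp, ← Functor.map_comp, h2]) sW
    rw [h1, ← comm₂]
    exact sV.paste_horiz hcY.flip
  have sY := (isPullback_left (isPullback_of_yon sV')).flip
  exact ⟨U, U', V, V', W, W', a, a', b, b', c, c', h, h', k, k', iU, iV, iW,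
    ⟨repWith_of_isPullback sU.flip ha', repWith_of_isPullback sU.flip has'⟩, ⟨ha', has'⟩,
    ⟨repWith_of_isPullback sV.flip hb', hb'⟩, hc', comm, comm₁, comm₂,
    by rw [Functor.map_comp, Category.assoc, ← comm₂, ← Category.assoc, comm₁, Category.assoc],
    sW, hB.property c' c iW sW, sq.paste_vert sY, sY, sq.w⟩

/-- An étale local property passes between a morphism over a thickened base and its restriction if it
does so for schemes. -/
theorem locP_iff_of_deform {P : MorphismProperty Scheme.{u}} [EtaleLocal P]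
    {iX : X ⟶ X'} {iY : Y ⟶ Y'} {iB : B ⟶ B'} {f : X ⟶ Y} {f' : X' ⟶ Y'}
    {g : Y ⟶ B} {g' : Y' ⟶ B'} (hX : IsAlgSpace X) (hY : IsAlgSpace Y) (hX' : IsAlgSpace X')
    (hY' : IsAlgSpace Y') (hB' : IsAlgSpace B') (hB : IsThickMor iB)
    (hcY : IsPullback iY g g' iB) (hc : IsPullback iX f f' iY)
    (H : ∀ {U U' V V' W W' : Over S} (a' : (yon S).obj U' ⟶ X') (b' : (yon S).obj V' ⟶ Y')
      (c : (yon S).obj W ⟶ B) (c' : (yon S).obj W' ⟶ B') (h : U ⟶ V) (h' : U' ⟶ V') (k : V ⟶ W)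
      (k' : V' ⟶ W') (iU : U ⟶ U') (iV : V ⟶ V') (iW : W ⟶ W'),
      RepWith @Etale a' → RepWith @Etale b' → RepWith @Etale c' →
      b' ≫ g' = (yon S).map k' ≫ c' → a' ≫ f' ≫ g' = (yon S).map (h' ≫ k') ≫ c' →
      IsPullback c ((yon S).map iW) iB c' → MoreMor.IsThickening iW.left →
      IsPullback iU.left (h.left ≫ k.left) (h'.left ≫ k'.left) iW.left →
      IsPullback iV.left k.left k'.left iW.left → iU.left ≫ h'.left = h.left ≫ iV.left →
      (P h.left ↔ P h'.left)) :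
    LocP P f ↔ LocP P f' := by
  obtain ⟨U, U', V, V', W, W', a, a', b, b', c, c', h, h', k, k', iU, iV, iW, ⟨ha, has⟩,
    ⟨ha', has'⟩, ⟨hb, hb'⟩, hc', comm, comm₁, comm₂, comm₃, sW, ht, s₁, s₂, w⟩ :=
    exists_deform_charts hX' hY' hB' hB hcY hc
  have := H a' b' c c' h h' k k' iU iV iW ha' hb' hc' comm₂ comm₃ sW ht s₁ s₂ w
  exact ⟨fun hf => locP_of_chart hX'.diag hY'.diag ha' has' hb' comm₁ (this.1 (hf a b h ha hb comm)),
    fun hf => locP_of_chart hX.diag hY.diag ha has hb comm (this.2 (hf a' b' h' ha' hb' comm₁))⟩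

/-- The fibre dimension is invariant under cartesian squares. -/
theorem hasAt_fibreDim_iff_of_thick {i : X ⟶ X'} {j : Y ⟶ Y'} {f : X ⟶ Y} {f' : X' ⟶ Y'}
    (hX : IsAlgSpace X) (hY : IsAlgSpace Y) (hX' : IsAlgSpace X') (hY' : IsAlgSpace Y')
    (hi : IsThickMor i) (hj : IsThickMor j) (hc : IsPullback i f f' j)
    (hft' : LocP @LocallyOfFiniteType f') (d : WithBot ℕ∞) :
    (∀ x, HasAtMor (fun _ _ h u => FlatMor.fibreDimAt h u = d) f x) ↔
      (∀ x', HasAtMor (fun _ _ h u => FlatMor.fibreDimAt h u = d) f' x') := by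
  obtain ⟨U, U', V, V', a, a', b, b', h, h', iU, iV, ⟨ha, has⟩, ⟨ha', has'⟩, hb, hb', comm, comm',
    sU, -, ht, sq⟩ := exists_thick_charts hX' hY' hi hj hc
  have : LocallyOfFiniteType h'.left := hft' a' b' h' ha' hb' comm'
  have key : ∀ u : U.left,
      FlatMor.fibreDimAt h.left u = FlatMor.fibreDimAt h'.left (iU.left u) :=
    fun u => Groth.FibreDim.fibreDimAt_baseChange h'.left iV.left h.left iU.left sq u
  have hs : Surjective iU.left :=
    MorphismProperty.of_isPullback (P := @Surjective) sq.flip ht.2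
  constructor
  · intro H x'
    obtain ⟨u', rfl⟩ := surjective_ofPt_of_repWith has' x'
    obtain ⟨u, rfl⟩ := hs.surj u'
    refine (Groth.AlgSp3.hasAtMor_iff_of_chart Groth.AlgSp3.etMor_fibreDimAt (· = d) hX'.diag
      hY'.diag ha' hb' comm' _).2 ?_
    rw [← key]
    exact (Groth.AlgSp3.hasAtMor_iff_of_chart Groth.AlgSp3.etMor_fibreDimAt (· = d) hX.diag
      hY.diag ha hb comm u).1 (H _)
  · intro H x
    obtain ⟨u, rfl⟩ := surjective_ofPt_of_repWith has x
    refine (Groth.AlgSp3.hasAtMor_iff_of_chart Groth.AlgSp3.etMor_fibreDimAt (· = d) hX.diag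
      hY.diag ha hb comm u).2 ?_
    rw [key]
    exact (Groth.AlgSp3.hasAtMor_iff_of_chart Groth.AlgSp3.etMor_fibreDimAt (· = d) hX'.diag
      hY'.diag ha' hb' comm' _).1 (H _)

end

end Groth.AlgSp2
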