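import Groth.Agent.FlatMor2.NilBaseChange

/-!
# Finite type along a cartesian square with nilpotent ideal on the source
-/

set_option autoImplicit false
universe u

open AlgebraicGeometry CategoryTheory Limits

namespace Groth.AlgSp2

/-- Finite type lifts when the extended ideal is nilpotent. -/
theorem finiteType_of_isPushout' {A B C D : CommRingCat.{u}} {φ : A ⟶ B} {π : A ⟶ C} {ρ : B ⟶ D}
    {ψ : C ⟶ D} (H : IsPushout φ π ρ ψ) (hπ : Function.Surjective π)
    (hnil : IsNilpotent (RingHom.ker ρ.hom)) (hψ : ψ.hom.FiniteType) : φ.hom.FiniteType := by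
  classical
  obtain ⟨n, hn⟩ := hnil
  have hker := Groth.FlatMor2.ker_eq_map_of_isPushout H hπ
  let J : Ideal A := RingHom.ker π.hom ^ n
  have hJ : ∀ a ∈ J, φ.hom a = 0 := fun a ha => by
    have h1 : φ.hom a ∈ (RingHom.ker π.hom ^ n).map φ.hom := Ideal.mem_map_of_mem _ ha
    rw [Ideal.map_pow, ← hker, hn] at h1
    exact h1
  by_cases hn0 : n = 0
  · subst hn0
    have : Subsingleton B := subsingleton_of_zero_eq_one (by
      have h1 : (1 : B) ∈ RingHom.ker ρ.hom ^ 0 := by simp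
      rw [hn] at h1; exact ((Ideal.mem_bot).1 h1).symm)
    exact RingHom.FiniteType.of_surjective _ (Function.surjective_to_subsingleton _)
  let A₁ : CommRingCat.{u} := CommRingCat.of (A ⧸ J)
  let q : A ⟶ A₁ := CommRingCat.ofHom (Ideal.Quotient.mk J)
  let φ₁ : A₁ ⟶ B := CommRingCat.ofHom (Ideal.Quotient.lift J φ.hom hJ)
  have hJπ : ∀ a ∈ J, π.hom a = 0 := fun a ha => Ideal.pow_le_self hn0 ha
  let π₁ : A₁ ⟶ C := CommRingCat.ofHom (Ideal.Quotient.lift J π.hom hJπ)
  have hq : q ≫ φ₁ = φ := by ext x; rfl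
  have hqπ : q ≫ π₁ = π := by ext x; rfl
  have H₁ : IsPushout φ₁ π₁ ρ ψ := by
    have : Epi q := ConcreteCategory.epi_of_surjective q Ideal.Quotient.mk_surjective
    have hw : φ₁ ≫ ρ = π₁ ≫ ψ := by
      rw [← cancel_epi q, ← Category.assoc, hq, ← Category.assoc, hqπ, H.w]
    refine ⟨⟨hw⟩, ⟨PushoutCocone.IsColimit.mk _ (fun s => H.desc s.inl s.inr (by
      rw [← hq, ← hqπ, Category.assoc, Category.assoc, s.condition]))
      (fun s => H.inl_desc _ _ _) (fun s => H.inr_desc _ _ _) fun s m h₁ h₂ => H.hom_ext ?_ ?_⟩⟩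
    · rw [H.inl_desc]; exact h₁
    · rw [H.inr_desc]; exact h₂
  have hπ₁ : Function.Surjective π₁ := fun c => by
    obtain ⟨a, rfl⟩ := hπ c
    exact ⟨Ideal.Quotient.mk J a, rfl⟩
  have hnil₁ : IsNilpotent (RingHom.ker π₁.hom) := by
    refine ⟨n, ?_⟩
    rw [show RingHom.ker π₁.hom = (RingHom.ker π.hom).map (Ideal.Quotient.mk J) from
      Ideal.ker_quotient_lift _ _, ← Ideal.map_pow]
    exact Ideal.map_quotient_self J
  have h1 := Groth.FlatMor2.finiteType_of_isPushout H₁ hπ₁ hnil₁ hψ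
  rw [← hq, CommRingCat.hom_comp]
  exact h1.comp (RingHom.FiniteType.of_surjective _ Ideal.Quotient.mk_surjective)

/-- Locally of finite type passes up a cartesian thickening square of finite order on the source. -/
theorem locallyOfFiniteType_iff_of_finThick {X X' Y Y' : Scheme.{u}} {iX : X ⟶ X'} {iY : Y ⟶ Y'}
    {f : X ⟶ Y} {f' : X' ⟶ Y'} (hY : MoreMor.IsThickening iY)
    (hX : MoreMor.IsFiniteOrderThickening iX) (hc : IsPullback iX f f' iY) :
    LocallyOfFiniteType f ↔ LocallyOfFiniteType f' := by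
  refine ⟨fun hf => ?_, fun hf => MorphismProperty.of_isPullback hc inferInstance⟩
  have := hY.1
  have : IsClosedImmersion iX := hX.1.1
  obtain ⟨n, hn⟩ := hX.2
  refine Groth.FlatMor2.of_isPullback_thickening hY hc hf fun V U h ψ H hψ =>
    finiteType_of_isPushout' H (iY.app_surjective V.1 V.2) ⟨n, ?_⟩ hψ
  rw [← Scheme.Hom.ker_apply]
  exact congr(($hn).ideal U)

end Groth.AlgSp2
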