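import Groth.Agent.AlgSp2.ThickLiftScheme
import Groth.Agent.AlgSp2.InfGlue
import Groth.Agent.AlgSpBasic.LocPInst
import Groth.Agent.AlgSpBasic.Diag
import Groth.Agent.AlgSpBasic.AlgSpace

/-!
# Smooth morphisms lift étale locally along thickenings
-/

set_option autoImplicit false
set_option backward.isDefEq.respectTransparency.types false
universe u

open CategoryTheory CategoryTheory.Limits AlgebraicGeometry AlgSp TopologicalSpace

namespace Groth.AlgSp2

open Groth.AlgSpBasic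

noncomputable section

variable {S : Scheme.{u}} {X Y T T' : Sp S}

/-- Étale affine neighbourhoods on which a map lifts to a chart of its target. -/
theorem exists_spec_nbhd {F G : Sp S} (hF : IsAlgSpace F) (b : F ⟶ G)
    (t : Points F) {V : Over S} {v : (yon S).obj V ⟶ G} (hv : RepWith @Etale v)
    (hv' : RepWith @Surjective v) :
    ∃ (A : Type u) (_ : CommRing A) (str : Spec (CommRingCat.of A) ⟶ S)
      (e : (yon S).obj (Over.mk str) ⟶ F) (β : Over.mk str ⟶ V) (z : Spec (CommRingCat.of A)),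
      RepWith @Etale e ∧ Points.ofPt e z = t ∧ (yon S).map β ≫ v = e ≫ b := by
  obtain ⟨W, a, ha, ha'⟩ := hF.atlas
  obtain ⟨x, rfl⟩ := surjective_ofPt_of_repWith ha' t
  obtain ⟨P, snd, fst, sq⟩ := hv.rep (a ≫ b)
  have : Etale snd.left := hv.property _ fst snd sq
  have : Surjective snd.left := hv'.property _ fst snd sq
  obtain ⟨y, rfl⟩ := snd.left.surjective x
  obtain ⟨O, hO, hy, -⟩ := Opens.isBasis_iff_nbhd.mp P.left.isBasis_affineOpens (Opens.mem_top y)
  obtain ⟨z, hz⟩ : y ∈ Set.range hO.fromSpec := by rw [hO.range_fromSpec]; exact hy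
  let str : Spec (CommRingCat.of Γ(P.left, O)) ⟶ S := hO.fromSpec ≫ P.hom
  let j : Over.mk str ⟶ P := Over.homMk hO.fromSpec rfl
  obtain ⟨β, hβ⟩ := (yon S).map_surjective ((yon S).map j ≫ fst)
  refine ⟨Γ(P.left, O), inferInstance, str, (yon S).map (j ≫ snd) ≫ a, β, z, ?_, ?_, ?_⟩
  · exact repWith_comp ((repWith_yon_map_iff _ _).2
      (show Etale (hO.fromSpec ≫ snd.left) from inferInstance)) ha
  · rw [ofPt_comp_yon]
    refine congrArg (Points.ofPt a) ?_
    change (hO.fromSpec ≫ snd.left) z = _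
    rw [Scheme.Hom.comp_apply, hz]
  · rw [hβ, Category.assoc, sq.w, Functor.map_comp, Category.assoc, Category.assoc]

theorem exists_smooth_lift (hX : IsAlgSpace X) (hY : IsAlgSpace Y) (hT' : IsAlgSpace T')
    {f : X ⟶ Y} (hf : LocP @Smooth f) {i : T ⟶ T'} (hi : IsThickMor i) (a : T ⟶ X) (b : T' ⟶ Y)
    (w : a ≫ f = i ≫ b) (t' : Points T') :
    ∃ (V : Over S) (e : (yon S).obj V ⟶ T') (ℓ : (yon S).obj V ⟶ X),
      RepWith @Etale e ∧ t' ∈ Set.range (Points.ofPt e) ∧ ℓ ≫ f = e ≫ b ∧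
      ∀ (P : Sp S) (p₁ : P ⟶ T) (p₂ : P ⟶ (yon S).obj V), IsPullback p₁ p₂ i e →
        p₂ ≫ ℓ = p₁ ≫ a := by
  obtain ⟨V, v, hv, hv'⟩ := hY.atlas
  obtain ⟨A, _, str, e, β, z, he, hz, hβ⟩ := exists_spec_nbhd hT' b t' hv hv'
  -- the thickening over `Spec A`
  obtain ⟨T₁, k₁, fst₁, sq₁⟩ := hi.rep e
  obtain ⟨hk₁, hk₁'⟩ : IsClosedImmersion k₁.left ∧ Surjective k₁.left := hi.property e fst₁ k₁ sq₁
  have : IsAffine (Over.mk str).left := inferInstanceAs (IsAffine (Spec (CommRingCat.of A)))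
  have : IsAffine T₁.left := isAffine_of_isAffineHom k₁.left
  obtain ⟨c, hc⟩ := Spec.map_surjective (T₁.left.isoSpec.inv ≫ k₁.left)
  have : IsClosedImmersion (Spec.map c) := by
    rw [hc]
    exact MorphismProperty.comp_mem @IsClosedImmersion _ _ inferInstance hk₁
  have hcsurj : Surjective (Spec.map c) := by
    rw [hc]
    exact MorphismProperty.comp_mem @Surjective _ _ inferInstance hk₁'
  have hcs : Function.Surjective c.hom := by
    obtain ⟨J, ι, hι⟩ := IsClosedImmersion.Spec_iff.mp (inferInstance : IsClosedImmersion (Spec.map c))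
    obtain ⟨d, hd⟩ := Spec.map_surjective ι.hom
    have hd' : CommRingCat.ofHom (Ideal.Quotient.mk J) ≫ d = c :=
      Spec.map_injective (by rw [Spec.map_comp, hd, ← hι])
    obtain ⟨d', hd'2⟩ := Spec.map_surjective ι.inv
    have hdd : d' ≫ d = 𝟙 _ := Spec.map_injective (by
      rw [Spec.map_comp, hd, hd'2, ι.hom_inv_id, Spec.map_id])
    have hdb : Function.Surjective d.hom := fun x => ⟨d'.hom x, congr(($hdd).hom x)⟩
    rw [← hd', CommRingCat.hom_comp, RingHom.coe_comp]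
    exact hdb.comp Ideal.Quotient.mk_surjective
  let I := RingHom.ker c.hom
  let θ : A ⧸ I ≃+* Γ(T₁.left, ⊤) := RingHom.quotientKerEquivOfSurjective hcs
  let T₁' : Scheme.{u} := Spec (CommRingCat.of (A ⧸ I))
  let ι₁ : T₁' ⟶ T₁.left :=
    (show T₁' ⟶ Spec Γ(T₁.left, ⊤) from Spec.map (CommRingCat.ofHom θ.symm.toRingHom)) ≫
      T₁.left.isoSpec.inv
  have hι₁ : ι₁ ≫ k₁.left = Spec.map (CommRingCat.ofHom (Ideal.Quotient.mk I)) := by
    change (Spec.map _ ≫ T₁.left.isoSpec.inv) ≫ k₁.left = _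
    rw [Category.assoc, ← hc, ← Spec.map_comp]
    refine congrArg Spec.map (CommRingCat.hom_ext (RingHom.ext fun x => θ.injective ?_))
    change θ (θ.symm (c.hom x)) = θ (Ideal.Quotient.mk I x)
    rw [θ.apply_symm_apply]
    rfl
  have hnil : ∀ x ∈ I, IsNilpotent x := by
    intro x hx
    rw [← mem_nilradical, nilradical_eq_sInf, Ideal.mem_sInf]
    intro p hp
    obtain ⟨q, hq⟩ := hcsurj.surj ⟨p, hp⟩
    have := congrArg PrimeSpectrum.asIdeal hq
    change x ∈ (⟨p, hp⟩ : PrimeSpectrum A).asIdeal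
    rw [← this]
    change c.hom x ∈ q.asIdeal
    rw [show c.hom x = 0 from hx]
    exact Submodule.zero_mem _
  -- chart of `X` over the chart of `Y`
  obtain ⟨W, α, hα, hα'⟩ := hX.atlas
  obtain ⟨U, u₁, u₂, hU⟩ := exists_pullback_of_diag hY.diag (α ≫ f) v
  have hu₁ : Etale u₁.left := repWith_fst_of_isPullback hU.flip hv
  have hsm : Smooth u₂.left := hf ((yon S).map u₁ ≫ α) v u₂
    (repWith_comp ((repWith_yon_map_iff _ u₁).2 hu₁) hα) hv (by rw [Category.assoc, hU.w])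
  -- lift the top map to the chart
  let J₁ : Over S := Over.mk (Spec.map (CommRingCat.ofHom (Ideal.Quotient.mk I)) ≫ str)
  let j₁ : J₁ ⟶ Over.mk str := Over.homMk (Spec.map (CommRingCat.ofHom (Ideal.Quotient.mk I))) rfl
  let m₁ : J₁ ⟶ T₁ := Over.homMk ι₁
    ((congrArg (_ ≫ ·) (Over.w k₁).symm).trans
      ((Category.assoc _ _ _).symm.trans (congrArg (· ≫ _) hι₁)))
  have hm₁ : m₁ ≫ k₁ = j₁ := Over.OverMorphism.ext hι₁
  let top : (yon S).obj J₁ ⟶ X := (yon S).map m₁ ≫ fst₁ ≫ a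
  obtain ⟨N, kN, fstN, sqN⟩ := hα.rep top
  have : Etale kN.left := hα.property _ fstN kN sqN
  have : Surjective kN.left := hα'.property _ fstN kN sqN
  obtain ⟨z₀, hz₀⟩ := surjective_specMap_of_nil hnil z
  obtain ⟨n, hn⟩ := kN.left.surjective z₀
  obtain ⟨Q, _, _, m₂, pQ, hQ, hm₂n, hm₂⟩ := exists_nbhd_spec kN.left n
  let IQ := I.map (algebraMap A Q)
  let Z₂ : Over S := Over.mk (Spec.map (CommRingCat.ofHom (algebraMap A Q)) ≫ str)
  let J₂ : Over S := Over.mk (Spec.map (CommRingCat.ofHom (Ideal.Quotient.mk IQ)) ≫ Z₂.hom)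
  let g₂ : Z₂ ⟶ Over.mk str := Over.homMk (Spec.map (CommRingCat.ofHom (algebraMap A Q))) rfl
  let j₂ : J₂ ⟶ Z₂ := Over.homMk (Spec.map (CommRingCat.ofHom (Ideal.Quotient.mk IQ))) rfl
  have sqQ := Inf.isPullback_spec_quot I Q
  let r₂ : J₂ ⟶ J₁ := Over.homMk (Spec.map (CommRingCat.ofHom
      (Ideal.quotientMap IQ (algebraMap A Q) Ideal.le_comap_map))) (by
    change _ ≫ Spec.map _ ≫ str = Spec.map _ ≫ Spec.map _ ≫ str
    rw [← Category.assoc, sqQ.w, Category.assoc])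
  have hr₂ : r₂ ≫ j₁ = j₂ ≫ g₂ := Over.OverMorphism.ext sqQ.w
  let n₂ : J₂ ⟶ N := Over.homMk m₂ ((congrArg (_ ≫ ·) (Over.w kN).symm).trans
      ((Category.assoc _ _ _).symm.trans ((congrArg (· ≫ _) hm₂).trans (Over.w r₂))))
  have hn₂ : n₂ ≫ kN = r₂ := Over.OverMorphism.ext hm₂
  let M := (yon S).map n₂ ≫ fstN
  have hM : M ≫ α = (yon S).map r₂ ≫ top := by
    rw [Category.assoc, sqN.w, ← Functor.map_comp_assoc, hn₂]
  have htop : top ≫ f = (yon S).map j₁ ≫ e ≫ b := by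
    simp only [top, Category.assoc]
    rw [w, reassoc_of% sq₁.w, ← Functor.map_comp_assoc, hm₁]
  obtain ⟨aU, haU⟩ := (yon S).map_surjective (hU.lift M ((yon S).map (j₂ ≫ g₂ ≫ β))
    (by rw [← Category.assoc, hM, Category.assoc, htop, ← Functor.map_comp_assoc, hr₂,
      Functor.map_comp_assoc, Functor.map_comp, Functor.map_comp, Category.assoc, Category.assoc,
      hβ]))
  have haU₁ : (yon S).map (aU ≫ u₁) = M := by rw [Functor.map_comp, haU, hU.lift_fst]
  have haU₂ : aU ≫ u₂ = j₂ ≫ g₂ ≫ β := (yon S).map_injective (by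
    rw [Functor.map_comp, haU, hU.lift_snd])
  obtain ⟨g, l, y, hy, hl, hP⟩ := exists_local_lift_of_smooth u₂.left (nil_map (algebraMap A Q) hnil)
    aU.left (g₂ ≫ β).left (congrArg CommaMorphism.left haU₂) pQ
  let V₃ : Over S := Over.mk (Spec.map (CommRingCat.ofHom (algebraMap Q (Localization.Away g))) ≫ Z₂.hom)
  let g₃ : V₃ ⟶ Z₂ :=
    Over.homMk (Spec.map (CommRingCat.ofHom (algebraMap Q (Localization.Away g)))) rfl
  let lU : V₃ ⟶ U := Over.homMk l ((congrArg (_ ≫ ·) (Over.w u₂).symm).trans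
    ((Category.assoc _ _ _).symm.trans ((congrArg (· ≫ _) hl).trans
      ((Category.assoc _ _ _).trans (congrArg (_ ≫ ·) (Over.w (g₂ ≫ β)))))))
  have hlU : lU ≫ u₂ = g₃ ≫ g₂ ≫ β := Over.OverMorphism.ext hl
  have hg₂ : Etale g₂.left :=
    (HasRingHomProperty.Spec_iff (P := @Etale)).2 (RingHom.etale_algebraMap.2 hQ)
  have hg₃ : Etale g₃.left := (HasRingHomProperty.Spec_iff (P := @Etale)).2
    (RingHom.etale_algebraMap.2 inferInstance)
  have he₃ : RepWith @Etale ((yon S).map (g₃ ≫ g₂) ≫ e) :=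
    repWith_comp ((repWith_yon_map_iff _ _).2
      (MorphismProperty.comp_mem @Etale g₃.left g₂.left hg₃ hg₂)) he
  refine ⟨V₃, (yon S).map (g₃ ≫ g₂) ≫ e, (yon S).map (lU ≫ u₁) ≫ α, he₃, ⟨y, ?_⟩, ?_,
    fun P p₁ p₂ hPP => ?_⟩
  · rw [ofPt_comp_yon, ← hz]
    refine congrArg (Points.ofPt e) ?_
    change g₂.left (g₃.left y) = z
    rw [show g₃.left y = (Spec.map (CommRingCat.ofHom (Ideal.Quotient.mk IQ))) pQ from hy,
      ← Scheme.Hom.comp_apply]
    change (Spec.map _ ≫ Spec.map _) pQ = z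
    rw [← sqQ.w, Scheme.Hom.comp_apply, ← hm₂, Scheme.Hom.comp_apply, hm₂n, hn, hz₀]
  · rw [Functor.map_comp, Category.assoc, Category.assoc, hU.w, ← Functor.map_comp_assoc, hlU,
      ← Category.assoc g₃ g₂ β, Functor.map_comp, Category.assoc, hβ, Category.assoc]
  · refine hom_ext_yon fun R x => ?_
    obtain ⟨q, hq⟩ := (yon S).map_surjective (x ≫ p₂)
    have hw₁ : (x ≫ p₁) ≫ i = (yon S).map (q ≫ g₃ ≫ g₂) ≫ e := by
      rw [Category.assoc, hPP.w, ← Category.assoc, ← hq, ← Functor.map_comp_assoc]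
    obtain ⟨r, hr⟩ := (yon S).map_surjective (sq₁.lift (x ≫ p₁) ((yon S).map (q ≫ g₃ ≫ g₂)) hw₁)
    have hrk : r ≫ k₁ = q ≫ g₃ ≫ g₂ := (yon S).map_injective (by
      rw [Functor.map_comp, hr, sq₁.lift_snd])
    have : IsIso (show T₁' ⟶ T₁.left from ι₁) := by
      have : IsIso (CommRingCat.ofHom θ.symm.toRingHom) :=
        (RingEquiv.toCommRingCatIso θ.symm).isIso_hom
      change IsIso (Spec.map _ ≫ T₁.left.isoSpec.inv)
      infer_instance
    let r₁ : R ⟶ J₁ := Over.homMk (r.left ≫ inv (show T₁' ⟶ T₁.left from ι₁)) (by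
      change (r.left ≫ inv _) ≫ J₁.hom = R.hom
      rw [← Over.w m₁, ← Over.w r]
      simp [m₁])
    have hr₁ : r₁ ≫ m₁ = r := Over.OverMorphism.ext (by simp [r₁, m₁])
    let P₂ : R ⟶ J₂ := Over.homMk (sqQ.lift r₁.left (q ≫ g₃).left (by
      have := congrArg CommaMorphism.left
        (show r₁ ≫ j₁ = (q ≫ g₃) ≫ g₂ by rw [← hm₁, reassoc_of% hr₁, hrk, Category.assoc])
      exact this)) (by
      change sqQ.lift _ _ _ ≫ Spec.map _ ≫ Z₂.hom = R.hom
      rw [sqQ.lift_snd_assoc]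
      exact Over.w (q ≫ g₃))
    have hP₂j : P₂ ≫ j₂ = q ≫ g₃ := Over.OverMorphism.ext (sqQ.lift_snd _ _ _)
    have hP₂r : P₂ ≫ r₂ = r₁ := Over.OverMorphism.ext (sqQ.lift_fst _ _ _)
    have hfin : q ≫ lU = P₂ ≫ aU := Over.OverMorphism.ext
      (hP R.left q.left P₂.left (congrArg CommaMorphism.left hP₂j).symm)
    rw [← Category.assoc, ← hq, ← Functor.map_comp_assoc, ← Category.assoc q, hfin,
      Category.assoc, Functor.map_comp, Category.assoc, haU₁, hM, ← Functor.map_comp_assoc, hP₂r]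
    simp only [top]
    rw [← Functor.map_comp_assoc, hr₁, ← Category.assoc, hr, sq₁.lift_fst, Category.assoc]

end

end Groth.AlgSp2
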