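import Groth.Agent.AlgSp2.ThickCharts
import Groth.Agent.AlgSp2.ThickFiniteType
import Groth.Agent.AlgSp2.FiniteMor
import Groth.Agent.AlgSpBasic.SepLQFScheme
import Groth.Agent.AlgSpBasic.QComp
import Groth.Agent.AlgSpBasic.Unramified
import Mathlib.AlgebraicGeometry.ZariskisMainTheorem

/-!
# Properties of morphisms of thickenings of algebraic spaces
-/

set_option autoImplicit false
set_option backward.isDefEq.respectTransparency.types false
set_option linter.unusedVariables false
universe u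

open CategoryTheory CategoryTheory.Limits AlgebraicGeometry AlgSp TopologicalSpace

namespace Groth.AlgSp2

open Groth.AlgSpBasic

noncomputable section

variable {S : Scheme.{u}} {X X' Y Y' : Sp S} {i : X ⟶ X'} {j : Y ⟶ Y'} {f : X ⟶ Y} {f' : X' ⟶ Y'}

theorem isUnivClosedMor_iff_of_thick (hX : IsAlgSpace X) (hY : IsAlgSpace Y) (hX' : IsAlgSpace X')
    (hY' : IsAlgSpace Y') (hi : IsThickMor i) (hj : IsThickMor j) (w : i ≫ f' = f ≫ j) :
    IsUnivClosedMor f ↔ IsUnivClosedMor f' :=
  univSp_iff_of_thick hi hj hX hX' hY hY' w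
    fun k k' a b ha hb e => isClosedMor_iff_of_homeo k k' a b ha hb e

/-- The self fibre products of a morphism of thickenings form a thickening. -/
theorem exists_thick_diag (hi : IsThickMor i) (hj : IsThickMor j) (w : i ≫ f' = f ≫ j) :
    ∃ φ : pullback f f ⟶ pullback f' f', IsThickMor φ ∧
      i ≫ pullback.diagonal f' = pullback.diagonal f ≫ φ := by
  have := mono_thick hj
  let p₁ := pullback.fst f' f'
  let p₂ := pullback.snd f' f'
  have sA := IsPullback.of_hasPullback f' f'
  have sM := IsPullback.of_hasPullback i p₁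
  have sN := IsPullback.of_hasPullback i (pullback.snd i p₁ ≫ p₂)
  have s₁ : IsPullback (pullback.snd i (pullback.snd i p₁ ≫ p₂) ≫ pullback.fst i p₁)
      (pullback.fst i (pullback.snd i p₁ ≫ p₂)) (f ≫ j) (f ≫ j) :=
    w ▸ sN.flip.paste_horiz (sM.paste_vert sA)
  have s₂ := isPullback_comp_mono j (IsPullback.of_hasPullback f f)
  let e := s₂.isoIsPullback _ _ s₁
  have : (thick.{u}).IsStableUnderComposition :=
    ⟨fun a b ha hb => ⟨@IsClosedImmersion.comp _ _ _ a b ha.1 hb.1,
      MorphismProperty.comp_mem @Surjective a b ha.2 hb.2⟩⟩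
  have : (thick.{u}).RespectsIso := MorphismProperty.IsStableUnderBaseChange.respectsIso
  have : (thick.{u}).ContainsIdentities :=
    ⟨fun Z => ⟨inferInstanceAs (IsClosedImmersion (𝟙 Z)), inferInstanceAs (Surjective (𝟙 Z))⟩⟩
  refine ⟨e.hom ≫ pullback.snd i (pullback.snd i p₁ ≫ p₂) ≫ pullback.snd i p₁, ?_, ?_⟩
  · exact repWith_comp (repWith_isIso e.hom) (repWith_comp (repWith_of_isPullback sN hi)
      (repWith_of_isPullback sM hi))
  · refine pullback.hom_ext ?_ ?_
    · rw [Category.assoc, pullback.diagonal_fst, Category.comp_id, Category.assoc, Category.assoc,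
        Category.assoc, ← sM.w, ← Category.assoc (pullback.snd i _) (pullback.fst i p₁),
        s₂.isoIsPullback_hom_fst_assoc _ _ s₁, pullback.diagonal_fst_assoc]
    · rw [Category.assoc, pullback.diagonal_snd, Category.comp_id, Category.assoc, Category.assoc,
        Category.assoc, ← sN.w, s₂.isoIsPullback_hom_snd_assoc _ _ s₁, pullback.diagonal_snd_assoc]

theorem monoLFT_closed_iff {A B : Scheme.{u}} (φ : A ⟶ B) :
    IsClosedImmersion φ ↔ UniversallyClosed φ ∧ MonoLFT φ := by
  refine ⟨fun h => ⟨inferInstance, ⟨(inferInstance : Mono φ), inferInstance⟩⟩, fun ⟨h, hm, hl⟩ => ?_⟩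
  have : Mono φ := hm
  have : LocallyOfFiniteType φ := hl
  exact (IsClosedImmersion.iff_isProper_and_mono φ).2 ⟨IsProper.mk, ‹_›⟩

/-- Separatedness is universal closedness of the diagonal. -/
theorem isSeparatedMor_iff_univClosed_diagonal (hX : IsAlgSpace X) (f : X ⟶ Y) :
    IsSeparatedMor f ↔ IsUnivClosedMor (pullback.diagonal f) := by
  have hd := monoLFT_diagonal hX f
  rw [← repWith_universallyClosed_iff hd.rep]
  change RepWith @IsClosedImmersion _ ↔ _
  rw [repWith_iff_of_forall (Q := @UniversallyClosed ⊓ MonoLFT) fun _ _ g => monoLFT_closed_iff g,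
    repWith_inf_iff]
  exact and_iff_left hd

/-- Separation conditions for morphisms of thickenings. -/
theorem separated_iff_of_thick (hX : IsAlgSpace X) (hY : IsAlgSpace Y) (hX' : IsAlgSpace X')
    (hY' : IsAlgSpace Y') (hi : IsThickMor i) (hj : IsThickMor j) (w : i ≫ f' = f ≫ j) :
    (IsSeparatedMor f ↔ IsSeparatedMor f') ∧ (IsQuasiSeparatedMor f ↔ IsQuasiSeparatedMor f') := by
  obtain ⟨φ, hφ, e⟩ := exists_thick_diag hi hj w
  have hP : IsAlgSpace (pullback f f) := isAlgSpace_pullback ⟨X, hX⟩ ⟨X, hX⟩ ⟨Y, hY⟩ f f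
  have hP' : IsAlgSpace (pullback f' f') := isAlgSpace_pullback ⟨X', hX'⟩ ⟨X', hX'⟩ ⟨Y', hY'⟩ f' f'
  constructor
  · rw [isSeparatedMor_iff_univClosed_diagonal hX, isSeparatedMor_iff_univClosed_diagonal hX']
    exact isUnivClosedMor_iff_of_thick hX hP hX' hP' hi hφ e
  · have h : ∀ {A B : Sp S} (g : A ⟶ B), IsAlgSpace A → IsAlgSpace (pullback g g) →
        (IsQuasiSeparatedMor g ↔ IsQuasiCompactMor (pullback.diagonal g)) := fun g hA hAA =>
      ⟨isQuasiCompactMor_of_repWith hA hAA,
        repWith_of_isQuasiCompactMor (monoLFT_diagonal hA g).rep⟩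
    rw [h f hX hP, h f' hX' hP']
    exact isQuasiCompactMor_iff_of_thick hi hφ hX hX' hP hP' e

variable (hX : IsAlgSpace X) (hY : IsAlgSpace Y) (hX' : IsAlgSpace X') (hY' : IsAlgSpace Y')

include hX hY hX' hY'

theorem lqf_iff_of_thick (hi : IsThickMor i) (hj : IsThickMor j) (hc : IsPullback i f f' j)
    (hft : LocP @LocallyOfFiniteType f) (hft' : LocP @LocallyOfFiniteType f') :
    LocP (@LocallyQuasiFinite ⊓ @LocallyOfFiniteType) f ↔
      LocP (@LocallyQuasiFinite ⊓ @LocallyOfFiniteType) f' :=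
  locP_iff_of_thick hX hY hX' hY' hi hj hc fun a a' b b' h h' iU iV ha ha' hb hb' comm comm' _ ht sq => by
    have : LocallyOfFiniteType h.left := hft a b h ha hb comm
    have : LocallyOfFiniteType h'.left := hft' a' b' h' ha' hb' comm'
    exact ⟨fun H => ⟨(Groth.FlatMor2.locallyQuasiFinite_iff_of_lft ht sq).1 H.1, ‹_›⟩,
      fun H => ⟨(Groth.FlatMor2.locallyQuasiFinite_iff_of_lft ht sq).2 H.1, ‹_›⟩⟩

theorem unramified_iff_of_thick (hi : IsThickMor i) (hj : IsThickMor j) (hc : IsPullback i f f' j)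
    (hft : LocP @LocallyOfFiniteType f) (hft' : LocP @LocallyOfFiniteType f') :
    LocP (@LocallyOfFiniteType ⊓ @FormallyUnramified) f ↔
      LocP (@LocallyOfFiniteType ⊓ @FormallyUnramified) f' :=
  locP_iff_of_thick hX hY hX' hY' hi hj hc fun a a' b b' h h' iU iV ha ha' hb hb' comm comm' _ ht sq => by
    have : LocallyOfFiniteType h.left := hft a b h ha hb comm
    have : LocallyOfFiniteType h'.left := hft' a' b' h' ha' hb' comm'
    exact ⟨fun H => ⟨‹_›, (Groth.FlatMor2.formallyUnramified_iff_of_lft ht sq).1 H.2⟩,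
      fun H => ⟨‹_›, (Groth.FlatMor2.formallyUnramified_iff_of_lft ht sq).2 H.2⟩⟩

/-- A separated locally quasi-finite morphism has representable thickenings. -/
theorem representable_of_thick (hi : IsThickMor i) (hj : IsThickMor j) (hc : IsPullback i f f' j)
    (hft : LocP @LocallyOfFiniteType f) (hft' : LocP @LocallyOfFiniteType f')
    (hsep : IsSeparatedMor f) (hqf : LocP (@LocallyQuasiFinite ⊓ @LocallyOfFiniteType) f) :
    Representable f' :=
  representable_of_separated_lqf hX' hY' ((lqf_iff_of_thick hX hY hX' hY' hi hj hc hft hft').1 hqf)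
    ((separated_iff_of_thick hX hY hX' hY' hi hj hc.w).1.1 hsep)

omit hX hY hX' hY' in
/-- Transfer of a property of representable morphisms along a cartesian thickening square. -/
theorem repWith_of_thick {P P' Q : MorphismProperty Scheme.{u}} (hi : IsThickMor i) (hj : IsThickMor j)
    (hc : IsPullback i f f' j) (hf' : Representable f') (h : RepWith P f)
    (hl : RepWith Q f')
    (H : ∀ {U U' V V' : Scheme.{u}} {iU : U ⟶ U'} {iV : V ⟶ V'} {k : U ⟶ V} {k' : U' ⟶ V'},
      MoreMor.IsThickening iV → IsPullback iU k k' iV → Q k' → P k → P' k') :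
    RepWith P' f' := by
  refine ⟨hf', fun T U' g fst snd sq => ?_⟩
  obtain ⟨U, V, a, b, k, iU, iV, sU, sV, comm, ht, sq'⟩ := exists_thick_chart hi hj hc sq.w
  have hs : IsPullback a ((yon S).map k) f b := by
    have h1 := sU.paste_vert sq
    have h2 : iU ≫ snd = k ≫ iV := Over.OverMorphism.ext sq'.w
    rw [← Functor.map_comp, h2, Functor.map_comp, hc.w] at h1
    exact IsPullback.of_bot h1 comm sV
  exact H ht sq' (hl.property g fst snd sq) (h.property b a k hs)

omit hX hX' hY' in
theorem separated_lqf_of_repWith (hft : LocP @LocallyOfFiniteType f)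
    {P : MorphismProperty Scheme.{u}}
    (hP : ∀ {A B : Scheme.{u}} (g : A ⟶ B), P g → IsSeparated g ∧ LocallyQuasiFinite g)
    (h : RepWith P f) :
    IsSeparatedMor f ∧ LocP (@LocallyQuasiFinite ⊓ @LocallyOfFiniteType) f := by
  refine ⟨(repWith_isSeparated_iff h.rep).2 (repWith_mono (fun A B g hg => (hP g hg).1) h),
    locP_of_repWith (repWith_inf_iff.2
      ⟨repWith_mono (fun A B g hg => (hP g hg).2) h, repWith_of_locP hY h.rep hft⟩)⟩

theorem closedImmersion_iff_of_thick (hi : IsThickMor i) (hj : IsThickMor j)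
    (hc : IsPullback i f f' j) (hft : LocP @LocallyOfFiniteType f)
    (hft' : LocP @LocallyOfFiniteType f') :
    RepWith @IsClosedImmersion f ↔ RepWith @IsClosedImmersion f' := by
  refine ⟨fun h => ?_, fun h => repWith_of_isPullback hc h⟩
  obtain ⟨hs, hq⟩ := separated_lqf_of_repWith hY hft
    (fun g (_ : IsClosedImmersion g) => ⟨inferInstance, inferInstance⟩) h
  have hr := representable_of_thick hX hY hX' hY' hi hj hc hft hft' hs hq
  exact repWith_of_thick hi hj hc hr h (repWith_of_locP hY' hr hft')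
    fun ht sq (_ : LocallyOfFiniteType _) hk => (Groth.FlatMor2.isClosedImmersion_iff_of_lft ht sq).1 hk

theorem immersion_iff_of_thick (hi : IsThickMor i) (hj : IsThickMor j)
    (hc : IsPullback i f f' j) (hft : LocP @LocallyOfFiniteType f)
    (hft' : LocP @LocallyOfFiniteType f') :
    RepWith @IsImmersion f ↔ RepWith @IsImmersion f' := by
  refine ⟨fun h => ?_, fun h => repWith_of_isPullback hc h⟩
  obtain ⟨hs, hq⟩ := separated_lqf_of_repWith hY hft
    (fun g (_ : IsImmersion g) => ⟨inferInstance, inferInstance⟩) h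
  have hr := representable_of_thick hX hY hX' hY' hi hj hc hft hft' hs hq
  exact repWith_of_thick hi hj hc hr h (repWith_of_locP hY' hr hft')
    fun ht sq (_ : LocallyOfFiniteType _) hk => (Groth.FlatMor2.isImmersion_iff_of_lft ht sq).1 hk

theorem finite_iff_of_thick (hi : IsThickMor i) (hj : IsThickMor j)
    (hc : IsPullback i f f' j) (hft : LocP @LocallyOfFiniteType f)
    (hft' : LocP @LocallyOfFiniteType f') : IsFiniteMor f ↔ IsFiniteMor f' := by
  rw [isFiniteMor_iff hX hY, isFiniteMor_iff hX' hY']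
  refine ⟨fun h => ?_, fun h => repWith_of_isPullback hc h⟩
  obtain ⟨hs, hq⟩ := separated_lqf_of_repWith hY hft
    (fun g (_ : IsFinite g) => ⟨inferInstance, inferInstance⟩) h
  have hr := representable_of_thick hX hY hX' hY' hi hj hc hft hft' hs hq
  refine repWith_of_thick hi hj hc hr h (repWith_of_locP hY' hr hft') fun {_ _ _ _ _ _ k k'} ht sq hl hk => ?_
  have : IsFinite k := hk
  have : IsIntegralHom k' := (Groth.FlatMor2.isIntegralHom_iff_of_thickening
    (Groth.FlatMor2.isThickening_of_isPullback ht sq) ht sq.w).1 inferInstance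
  exact (IsFinite.iff_isIntegralHom_and_locallyOfFiniteType k').2 ⟨‹_›, hl⟩

theorem proper_iff_of_thick (hi : IsThickMor i) (hj : IsThickMor j)
    (hc : IsPullback i f f' j) (hft : LocP @LocallyOfFiniteType f)
    (hft' : LocP @LocallyOfFiniteType f') : IsProperMor f ↔ IsProperMor f' := by
  have h₁ := (separated_iff_of_thick hX hY hX' hY' hi hj hc.w).1
  have h₂ := isQuasiCompactMor_iff_of_thick hi hj hX hX' hY hY' hc.w
  have h₃ := isUnivClosedMor_iff_of_thick hX hY hX' hY' hi hj hc.w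
  exact ⟨fun ⟨a, ⟨_, b⟩, c⟩ => ⟨h₁.1 a, ⟨hft', h₂.1 b⟩, h₃.1 c⟩,
    fun ⟨a, ⟨_, b⟩, c⟩ => ⟨h₁.2 a, ⟨hft, h₂.2 b⟩, h₃.2 c⟩⟩

theorem lft_iff_of_finThick (hi : IsThickMor i) (hj : IsThickMor j) (hc : IsPullback i f f' j)
    (hfo : IsFinThickMor i) : LocP @LocallyOfFiniteType f ↔ LocP @LocallyOfFiniteType f' :=
  locP_iff_of_thick hX hY hX' hY' hi hj hc fun a a' b b' h h' iU iV ha ha' hb hb' comm comm' sU ht sq =>
    locallyOfFiniteType_iff_of_finThick ht (finiteOrder_chart hfo ha' sU) sq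

end

end Groth.AlgSp2

namespace Groth.AlgSp2

open Groth.AlgSpBasic

variable {S : Scheme.{u}} {X X' Y Y' : Sp S} {i : X ⟶ X'} {j : Y ⟶ Y'} {f : X ⟶ Y} {f' : X' ⟶ Y'}
  (hX : IsAlgSpace X) (hY : IsAlgSpace Y) (hX' : IsAlgSpace X') (hY' : IsAlgSpace Y')

include hX hY hX' hY'

omit hX hY hX' hY' in
theorem lft_of_repWith {P : MorphismProperty Scheme.{u}}
    (hP : ∀ {A B : Scheme.{u}} (g : A ⟶ B), P g → LocallyOfFiniteType g) (h : RepWith P f) :
    LocP @LocallyOfFiniteType f :=
  locP_of_repWith (repWith_mono (fun A B g hg => hP g hg) h)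

theorem local_iff_of_lft (hi : IsThickMor i) (hj : IsThickMor j) (hc : IsPullback i f f' j)
    (hl : LocP @LocallyOfFiniteType f ↔ LocP @LocallyOfFiniteType f') (d : WithBot ℕ∞) :
    ((LocP @LocallyOfFiniteType f ∧ ∀ x, HasAtMor (fun _ _ h u => FlatMor.fibreDimAt h u = d) f x) ↔
      (LocP @LocallyOfFiniteType f' ∧
        ∀ x', HasAtMor (fun _ _ h u => FlatMor.fibreDimAt h u = d) f' x')) ∧
    (LocP @LocallyOfFiniteType f ↔ LocP @LocallyOfFiniteType f') ∧
    (LocP (@LocallyQuasiFinite ⊓ @LocallyOfFiniteType) f ↔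
      LocP (@LocallyQuasiFinite ⊓ @LocallyOfFiniteType) f') ∧
    (LocP (@LocallyOfFiniteType ⊓ @FormallyUnramified) f ↔
      LocP (@LocallyOfFiniteType ⊓ @FormallyUnramified) f') := by
  have hd : ∀ h : LocP @LocallyOfFiniteType f', _ :=
    fun h => hasAt_fibreDim_iff_of_thick hX hY hX' hY' hi hj hc h d
  refine ⟨⟨fun h => ⟨hl.1 h.1, (hd (hl.1 h.1)).1 h.2⟩, fun h => ⟨hl.2 h.1, (hd h.1).2 h.2⟩⟩, hl,
    ⟨fun h => ?_, fun h => ?_⟩, ⟨fun h => ?_, fun h => ?_⟩⟩
  · have h' : LocP @LocallyOfFiniteType f := locP_mono (fun _ _ _ h => h.2) h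
    exact (lqf_iff_of_thick hX hY hX' hY' hi hj hc h' (hl.1 h')).1 h
  · have h' : LocP @LocallyOfFiniteType f' := locP_mono (fun _ _ _ h => h.2) h
    exact (lqf_iff_of_thick hX hY hX' hY' hi hj hc (hl.2 h') h').2 h
  · have h' : LocP @LocallyOfFiniteType f := locP_mono (fun _ _ _ h => h.1) h
    exact (unramified_iff_of_thick hX hY hX' hY' hi hj hc h' (hl.1 h')).1 h
  · have h' : LocP @LocallyOfFiniteType f' := locP_mono (fun _ _ _ h => h.1) h
    exact (unramified_iff_of_thick hX hY hX' hY' hi hj hc (hl.2 h') h').2 h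

theorem global_iff_of_lft (hi : IsThickMor i) (hj : IsThickMor j) (hc : IsPullback i f f' j)
    (hl : LocP @LocallyOfFiniteType f ↔ LocP @LocallyOfFiniteType f') :
    (RepWith @IsClosedImmersion f ↔ RepWith @IsClosedImmersion f') ∧
    (IsProperMor f ↔ IsProperMor f') ∧ (IsFiniteMor f ↔ IsFiniteMor f') ∧
    (RepWith @IsImmersion f ↔ RepWith @IsImmersion f') := by
  have key : ∀ {p p' : Prop}, (p → LocP @LocallyOfFiniteType f) → (p' → LocP @LocallyOfFiniteType f') →
      (LocP @LocallyOfFiniteType f → LocP @LocallyOfFiniteType f' → (p ↔ p')) → (p ↔ p') :=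
    fun h1 h2 h3 => ⟨fun h => (h3 (h1 h) (hl.1 (h1 h))).1 h, fun h => (h3 (hl.2 (h2 h)) (h2 h)).2 h⟩
  refine ⟨key (lft_of_repWith fun g (_ : IsClosedImmersion g) => inferInstance)
      (lft_of_repWith fun g (_ : IsClosedImmersion g) => inferInstance)
      (closedImmersion_iff_of_thick hX hY hX' hY' hi hj hc),
    key (fun h => h.2.1.1) (fun h => h.2.1.1) (proper_iff_of_thick hX hY hX' hY' hi hj hc),
    key (fun h => lft_of_repWith (fun g (_ : IsFinite g) => inferInstance)
        ((isFiniteMor_iff hX hY).1 h))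
      (fun h => lft_of_repWith (fun g (_ : IsFinite g) => inferInstance)
        ((isFiniteMor_iff hX' hY').1 h)) (finite_iff_of_thick hX hY hX' hY' hi hj hc),
    key (lft_of_repWith fun g (_ : IsImmersion g) => inferInstance)
      (lft_of_repWith fun g (_ : IsImmersion g) => inferInstance)
      (immersion_iff_of_thick hX hY hX' hY' hi hj hc)⟩

theorem local_iff_of_finThick (hi : IsThickMor i) (hj : IsThickMor j) (hc : IsPullback i f f' j)
    (hfo : IsFinThickMor i) (d : WithBot ℕ∞) :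
    ((LocP @LocallyOfFiniteType f ∧ ∀ x, HasAtMor (fun _ _ h u => FlatMor.fibreDimAt h u = d) f x) ↔
      (LocP @LocallyOfFiniteType f' ∧
        ∀ x', HasAtMor (fun _ _ h u => FlatMor.fibreDimAt h u = d) f' x')) ∧
    (LocP @LocallyOfFiniteType f ↔ LocP @LocallyOfFiniteType f') ∧
    (LocP (@LocallyQuasiFinite ⊓ @LocallyOfFiniteType) f ↔
      LocP (@LocallyQuasiFinite ⊓ @LocallyOfFiniteType) f') ∧
    (LocP (@LocallyOfFiniteType ⊓ @FormallyUnramified) f ↔
      LocP (@LocallyOfFiniteType ⊓ @FormallyUnramified) f') :=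
  local_iff_of_lft hX hY hX' hY' hi hj hc (lft_iff_of_finThick hX hY hX' hY' hi hj hc hfo) d

theorem global_iff_of_finThick (hi : IsThickMor i) (hj : IsThickMor j) (hc : IsPullback i f f' j)
    (hfo : IsFinThickMor i) :
    (RepWith @IsClosedImmersion f ↔ RepWith @IsClosedImmersion f') ∧
    (IsProperMor f ↔ IsProperMor f') ∧ (IsFiniteMor f ↔ IsFiniteMor f') ∧
    (RepWith @IsImmersion f ↔ RepWith @IsImmersion f') :=
  global_iff_of_lft hX hY hX' hY' hi hj hc (lft_iff_of_finThick hX hY hX' hY' hi hj hc hfo)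

end Groth.AlgSp2
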