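import Groth.Agent.AlgSpBasic.Univ
import Groth.Agent.AlgSpBasic.QComp
import Groth.Agent.AlgSpBasic.OpenSub
import Groth.Agent.AlgSpBasic.Immersion
import Groth.Prelude.Def_AlgSpInf

/-!
# Topology of thickenings of algebraic spaces
-/

set_option autoImplicit false
set_option backward.isDefEq.respectTransparency.types false
universe u

open CategoryTheory CategoryTheory.Limits AlgebraicGeometry Opposite AlgSp Topology

namespace Groth.AlgSp2

open Groth.AlgSpBasic

noncomputable section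

variable {S : Scheme.{u}} {X X' Y Y' : Sp S} {i : X ⟶ X'} {j : Y ⟶ Y'} {f : X ⟶ Y} {f' : X' ⟶ Y'}

theorem isHomeomorph_map_of_isThickMor (hi : IsThickMor i) : IsHomeomorph (Points.map i) :=
  isHomeomorph_map_of_repWith (fun _ _ φ (h : thick φ) => by
    obtain ⟨h₁, h₂⟩ := h
    exact isHomeomorph_iff_isEmbedding_surjective.2
      ⟨φ.isClosedEmbedding.isEmbedding, φ.surjective⟩) hi

theorem mono_thick (hi : IsThickMor i) : Mono i :=
  monomorphisms_repWith_mono (repWith_mono (fun _ _ f (hf : thick f) => by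
    have : IsClosedImmersion f := hf.1
    exact (inferInstance : Mono f)) hi)

/-- A base change of `f'` compared with one of `f`. -/
theorem exists_base_change_compare (hi : IsThickMor i) (hj : IsThickMor j) (hX : IsAlgSpace X)
    (hY : IsAlgSpace Y) (hY' : IsAlgSpace Y')
    (w : i ≫ f' = f ≫ j) {Z A : Sp S} (hZ : IsAlgSpace Z) {q : Z ⟶ Y'} {a₁ : A ⟶ X'} {a₂ : A ⟶ Z}
    (sq : IsPullback a₁ a₂ f' q) :
    ∃ (Zy B : Sp S) (t : Zy ⟶ Y) (b₁ : B ⟶ X) (b₂ : B ⟶ Zy) (hz : Zy ⟶ Z) (hb : B ⟶ A),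
      IsAlgSpace Zy ∧ IsAlgSpace B ∧ IsPullback b₁ b₂ f t ∧ IsHomeomorph (Points.map hz) ∧
      IsHomeomorph (Points.map hb) ∧ hb ≫ a₂ = b₂ ≫ hz := by
  have sB : IsPullback (pullback.fst i a₁) (pullback.snd i a₁ ≫ a₂) (f ≫ j) q := by
    rw [← w]; exact (IsPullback.of_hasPullback i a₁).paste_vert sq
  have sZ := IsPullback.of_hasPullback j q
  let b₂ : pullback i a₁ ⟶ pullback j q :=
    sZ.lift (pullback.fst i a₁ ≫ f) (pullback.snd i a₁ ≫ a₂) (by rw [Category.assoc]; exact sB.w)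
  have sF : IsPullback (pullback.fst i a₁) b₂ f (pullback.fst j q) :=
    IsPullback.of_bot (by rw [sZ.lift_snd]; exact sB) (sZ.lift_fst _ _ _).symm sZ
  have hZy : IsAlgSpace (pullback j q) := isAlgSpace_pullback ⟨Y, hY⟩ ⟨Z, hZ⟩ ⟨Y', hY'⟩ j q
  exact ⟨_, _, _, _, b₂, pullback.snd j q, pullback.snd i a₁, hZy,
    isAlgSpace_of_isPullback sF hY.diag hX hZy, sF,
    isHomeomorph_map_of_isThickMor (repWith_of_isPullback sZ hj),
    isHomeomorph_map_of_isThickMor (repWith_of_isPullback (IsPullback.of_hasPullback i a₁) hi),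
    (sZ.lift_snd _ _ _).symm⟩

/-- A base change of `f` compared with one of `f'`. -/
theorem exists_base_change_compare' (hi : IsThickMor i) (hj : IsThickMor j) (hX' : IsAlgSpace X')
    (hY' : IsAlgSpace Y') (w : i ≫ f' = f ≫ j) {Z B : Sp S} (hZ : IsAlgSpace Z) {t : Z ⟶ Y}
    {b₁ : B ⟶ X} {b₂ : B ⟶ Z} (sq : IsPullback b₁ b₂ f t) :
    ∃ (A : Sp S) (a₁ : A ⟶ X') (a₂ : A ⟶ Z) (hb : B ⟶ A),
      IsAlgSpace A ∧ IsPullback a₁ a₂ f' (t ≫ j) ∧
      IsHomeomorph (Points.map hb) ∧ hb ≫ a₂ = b₂ := by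
  have := mono_thick hj
  have sB : IsPullback b₁ b₂ (i ≫ f') (t ≫ j) := by
    refine w ▸ ⟨⟨by rw [← Category.assoc, sq.w, Category.assoc]⟩,
      ⟨PullbackCone.IsLimit.mk _
        (fun s => sq.lift s.fst s.snd ((cancel_mono j).1 (by
          rw [Category.assoc, Category.assoc]; exact s.condition)))
        (fun s => sq.lift_fst _ _ _) (fun s => sq.lift_snd _ _ _)
        fun s m h₁ h₂ => sq.hom_ext (by rw [sq.lift_fst]; exact h₁)
          (by rw [sq.lift_snd]; exact h₂)⟩⟩
  have sA := IsPullback.of_hasPullback f' (t ≫ j)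
  let hb : B ⟶ pullback f' (t ≫ j) := sA.lift (b₁ ≫ i) b₂ (by rw [Category.assoc]; exact sB.w)
  have sI : IsPullback b₁ hb i (pullback.fst f' (t ≫ j)) :=
    IsPullback.of_bot (by rw [sA.lift_snd]; exact sB) (sA.lift_fst _ _ _).symm sA
  exact ⟨_, _, _, hb, isAlgSpace_pullback ⟨X', hX'⟩ ⟨Z, hZ⟩ ⟨Y', hY'⟩ f' (t ≫ j), sA,
    isHomeomorph_map_of_isThickMor (repWith_of_isPullback sI hi), sA.lift_snd _ _ _⟩

/-- A universal property invariant under homeomorphisms is the same for `f` and `f'`. -/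
theorem univSp_iff_of_thick {Q : MorphismProperty (Sp S)} (hi : IsThickMor i) (hj : IsThickMor j)
    (hX : IsAlgSpace X) (hX' : IsAlgSpace X') (hY : IsAlgSpace Y) (hY' : IsAlgSpace Y')
    (w : i ≫ f' = f ≫ j)
    (hQ : ∀ {A B A' B' : Sp S} (k : A ⟶ B) (k' : A' ⟶ B') (a : A' ⟶ A) (b : B' ⟶ B),
      IsHomeomorph (Points.map a) → IsHomeomorph (Points.map b) → a ≫ k = k' ≫ b → (Q k ↔ Q k')) :
    UnivSp Q f ↔ UnivSp Q f' := by
  constructor
  · intro h Z A hZ q a₁ a₂ sq
    obtain ⟨Zy, B, t, b₁, b₂, hz, hb, hZy, -, sF, hz', hb', e⟩ :=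
      exists_base_change_compare hi hj hX hY hY' w hZ sq
    exact (hQ a₂ b₂ hb hz hb' hz' e).2 (h hZy t b₁ b₂ sF)
  · intro h Z B hZ t b₁ b₂ sq
    obtain ⟨A, a₁, a₂, hb, -, sA, hb', e⟩ := exists_base_change_compare' hi hj hX' hY' w hZ sq
    have : IsHomeomorph (Points.map (𝟙 Z)) := by
      rw [show Points.map (𝟙 Z) = id from funext Points.map_id]
      exact (Homeomorph.refl _).isHomeomorph
    exact (hQ a₂ b₂ hb (𝟙 Z) hb' this (by rw [e, Category.comp_id])).1 (h hZ _ _ _ sA)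

theorem points_map_comm {A B A' B' : Sp S} {k : A ⟶ B} {k' : A' ⟶ B'} {a : A' ⟶ A} {b : B' ⟶ B}
    (e : a ≫ k = k' ≫ b) : Points.map k ∘ Points.map a = Points.map b ∘ Points.map k' := by
  funext x
  simp only [Function.comp_apply]
  rw [← Points.map_comp, e, Points.map_comp]

theorem isClosedMor_iff_of_homeo {A B A' B' : Sp S} (k : A ⟶ B) (k' : A' ⟶ B') (a : A' ⟶ A)
    (b : B' ⟶ B) (ha : IsHomeomorph (Points.map a)) (hb : IsHomeomorph (Points.map b))
    (e : a ≫ k = k' ≫ b) : IsClosedMor k ↔ IsClosedMor k' := by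
  have h := points_map_comm e
  refine ⟨fun hk => ?_, fun hk => ?_⟩
  · intro C hC
    have : Points.map b '' (Points.map k' '' C) = Points.map k '' (Points.map a '' C) := by
      rw [← Set.image_comp, ← Set.image_comp, h]
    have h2 := hk _ (ha.isClosedMap _ hC)
    rw [← this] at h2
    rw [← Set.preimage_image_eq (Points.map k' '' C) hb.injective]
    exact h2.preimage hb.continuous
  · intro C hC
    have : Points.map k '' C = Points.map b '' (Points.map k' '' (Points.map a ⁻¹' C)) := by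
      rw [← Set.image_comp, ← h, Set.image_comp, Set.image_preimage_eq C ha.surjective]
    rw [this]
    exact hb.isClosedMap _ (hk _ (hC.preimage ha.continuous))

theorem isOpenMor_iff_of_homeo {A B A' B' : Sp S} (k : A ⟶ B) (k' : A' ⟶ B') (a : A' ⟶ A)
    (b : B' ⟶ B) (ha : IsHomeomorph (Points.map a)) (hb : IsHomeomorph (Points.map b))
    (e : a ≫ k = k' ≫ b) : IsOpenMor k ↔ IsOpenMor k' := by
  have h := points_map_comm e
  refine ⟨fun hk => ?_, fun hk => ?_⟩
  · intro C hC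
    have : Points.map b '' (Points.map k' '' C) = Points.map k '' (Points.map a '' C) := by
      rw [← Set.image_comp, ← Set.image_comp, h]
    have h2 := hk _ (ha.isOpenMap _ hC)
    rw [← this] at h2
    rw [← Set.preimage_image_eq (Points.map k' '' C) hb.injective]
    exact h2.preimage hb.continuous
  · intro C hC
    have : Points.map k '' C = Points.map b '' (Points.map k' '' (Points.map a ⁻¹' C)) := by
      rw [← Set.image_comp, ← h, Set.image_comp, Set.image_preimage_eq C ha.surjective]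
    rw [this]
    exact hb.isOpenMap _ (hk _ (hC.preimage ha.continuous))

theorem injective_iff_of_homeo {A B A' B' : Sp S} (k : A ⟶ B) (k' : A' ⟶ B') (a : A' ⟶ A)
    (b : B' ⟶ B) (ha : IsHomeomorph (Points.map a)) (hb : IsHomeomorph (Points.map b))
    (e : a ≫ k = k' ≫ b) :
    Function.Injective (Points.map k) ↔ Function.Injective (Points.map k') := by
  rw [← Function.Injective.of_comp_iff hb.injective (Points.map k'), ← points_map_comm e,
    Function.Injective.of_comp_iff' _ ha.bijective]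

theorem isSurjectiveMor_iff_of_thick (hi : IsThickMor i) (hj : IsThickMor j)
    (w : i ≫ f' = f ≫ j) : IsSurjectiveMor f ↔ IsSurjectiveMor f' := by
  show Function.Surjective (Points.map f) ↔ Function.Surjective (Points.map f')
  rw [← Function.Surjective.of_comp_iff' (isHomeomorph_map_of_isThickMor hj).bijective,
    ← points_map_comm w, Function.Surjective.of_comp_iff _ (isHomeomorph_map_of_isThickMor hi).surjective]

theorem isQuasiCompactSp_iff_of_homeo {A A' : Sp S} (hA : IsAlgSpace A) (hA' : IsAlgSpace A')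
    {a : A' ⟶ A} (ha : IsHomeomorph (Points.map a)) : IsQuasiCompactSp A ↔ IsQuasiCompactSp A' := by
  rw [isQuasiCompactSp_iff_compactSpace hA, isQuasiCompactSp_iff_compactSpace hA']
  exact ⟨fun _ => (IsHomeomorph.homeomorph _ ha).symm.compactSpace,
    fun _ => (IsHomeomorph.homeomorph _ ha).compactSpace⟩

theorem isQuasiCompactMor_iff_of_thick (hi : IsThickMor i) (hj : IsThickMor j) (hX : IsAlgSpace X)
    (hX' : IsAlgSpace X') (hY : IsAlgSpace Y) (hY' : IsAlgSpace Y') (w : i ≫ f' = f ≫ j) :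
    IsQuasiCompactMor f ↔ IsQuasiCompactMor f' := by
  constructor
  · intro h Z A hZ hZq q a₁ a₂ sq
    obtain ⟨Zy, B, t, b₁, b₂, hz, hb, hZy, hB, sF, hz', hb', -⟩ :=
      exists_base_change_compare hi hj hX hY hY' w hZ sq
    exact (isQuasiCompactSp_iff_of_homeo (isAlgSpace_of_isPullback sq hY'.diag hX' hZ) hB hb').2
      (h hZy ((isQuasiCompactSp_iff_of_homeo hZ hZy hz').1 hZq) t b₁ b₂ sF)
  · intro h Z B hZ hZq t b₁ b₂ sq
    obtain ⟨A, a₁, a₂, hb, hA, sA, hb', -⟩ := exists_base_change_compare' hi hj hX' hY' w hZ sq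
    exact (isQuasiCompactSp_iff_of_homeo hA (isAlgSpace_of_isPullback sq hY.diag hX hZ) hb').1
      (h hZ hZq _ _ _ sA)

theorem mono_of_open {U : Sp S} {u : U ⟶ X} (hu : RepWith @IsOpenImmersion u) : Mono u :=
  monomorphisms_repWith_mono (repWith_mono (fun _ _ f (_ : IsOpenImmersion f) =>
    (inferInstance : Mono f)) hu)

/-- Open subspaces of a thickening correspond to open subspaces of the thickened space. -/
theorem exists_open_of_thick (hi : IsThickMor i) (hX' : IsAlgSpace X') {U : Sp S} (hU : IsAlgSpace U)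
    {u : U ⟶ X} (hu : RepWith @IsOpenImmersion u) :
    ∃ (U' : Sp S) (u' : U' ⟶ X') (k : U ⟶ U'),
      IsAlgSpace U' ∧ RepWith @IsOpenImmersion u' ∧ IsPullback u k i u' := by
  have hE : IsOpen (Points.map i '' Set.range (Points.map u)) :=
    (isHomeomorph_map_of_isThickMor hi).isOpenMap _
      (isOpenMap_map_of_repWith (fun _ _ φ (h : IsOpenImmersion φ) => φ.isOpenEmbedding.isOpenMap)
        hu).isOpen_range
  have hu' := repWith_openSubι hE
  have := mono_of_open hu
  have := mono_of_open hu'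
  obtain ⟨k, hk⟩ := exists_lift_of_range_openImmersion hU hu' (u ≫ i) (by
    rw [range_map_openSubι]
    rintro _ ⟨x, rfl⟩
    exact ⟨_, ⟨x, rfl⟩, (Points.map_comp _ _ x).symm⟩)
  refine ⟨_, openSubι X' _, k, isAlgSpace_openSub hX' hE, hu', ?_⟩
  refine isPullback_of_lifts hk.symm ?_ fun T a a' h₁ _ => (cancel_mono u).1 h₁
  intro T b c hbc
  obtain ⟨a, ha⟩ := exists_lift_of_range_openImmersion (IsAlgSpace.yon_obj T) hu b (by
    rintro _ ⟨t, rfl⟩
    obtain ⟨z, hz, e⟩ : Points.map i (Points.map b t) ∈ Points.map i '' Set.range (Points.map u) := by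
      rw [← Points.map_comp, hbc, Points.map_comp]
      exact range_map_openSubι.le ⟨_, rfl⟩
    rwa [← (isHomeomorph_map_of_isThickMor hi).injective e])
  exact ⟨a, ha, (cancel_mono (openSubι X' _)).1 (by rw [Category.assoc, hk, ← Category.assoc, ha, hbc])⟩

/-- Two such open subspaces agree. -/
theorem exists_iso_of_open_thick (hi : IsThickMor i) {U U₁ U₂ : Sp S} (h₁ : IsAlgSpace U₁)
    (h₂ : IsAlgSpace U₂) {u : U ⟶ X} {u₁ : U₁ ⟶ X'} {u₂ : U₂ ⟶ X'} {k₁ : U ⟶ U₁} {k₂ : U ⟶ U₂}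
    (hu₁ : RepWith @IsOpenImmersion u₁) (s₁ : IsPullback u k₁ i u₁)
    (hu₂ : RepWith @IsOpenImmersion u₂) (s₂ : IsPullback u k₂ i u₂) :
    ∃ e : U₁ ≅ U₂, e.hom ≫ u₂ = u₁ := by
  have := mono_of_open hu₁
  have := mono_of_open hu₂
  have hr : Set.range (Points.map u₁) = Set.range (Points.map u₂) :=
    (isHomeomorph_map_of_isThickMor hi).surjective.preimage_injective
      ((range_map_eq_of_isPullback s₁.flip).symm.trans (range_map_eq_of_isPullback s₂.flip))
  obtain ⟨a, ha⟩ := exists_lift_of_range_openImmersion h₁ hu₂ u₁ hr.le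
  obtain ⟨b, hb⟩ := exists_lift_of_range_openImmersion h₂ hu₁ u₂ hr.ge
  exact ⟨⟨a, b, (cancel_mono u₁).1 (by rw [Category.assoc, hb, ha, Category.id_comp]),
    (cancel_mono u₂).1 (by rw [Category.assoc, ha, hb, Category.id_comp])⟩, ha⟩

end

end Groth.AlgSp2
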