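import Groth.Agent.AlgSp2.DiscreteFibres
import Groth.Agent.AlgSp2.GrpDiagonal
import Groth.Agent.AlgSpBasic.Unramified
import Groth.Agent.AlgSpCartier.NoethFibre

/-!
# Pseudo-torsors under unramified or locally quasi-finite groups
-/

set_option autoImplicit false
set_option backward.isDefEq.respectTransparency.types false
universe u

open CategoryTheory CategoryTheory.Limits MonoidalCategory CartesianMonoidalCategory MonObj
open AlgebraicGeometry AlgSp
open Groth.AlgSpBasic

namespace Groth.AlgSp2.TorsorLocal

noncomputable section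

variable {S : Scheme.{u}}

/-- Discreteness of a fibre descends along field extensions. -/
theorem discrete_descent {Q Q' : Sp S} {l : Q' ⟶ Q}
    (hl : RepWith (@Flat ⊓ @Surjective ⊓ @UniversallyOpen) l) [DiscreteTopology (Points Q')] :
    DiscreteTopology (Points Q) := by
  refine discreteTopology_iff_forall_isOpen.mpr fun s => ?_
  have ho : IsOpenMap (Points.map l) :=
    isOpenMap_map_of_repWith (fun _ _ φ (h : UniversallyOpen φ) => φ.isOpenMap)
      (repWith_inf_iff.1 hl).2
  have hs : Function.Surjective (Points.map l) :=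
    surjective_map_of_repWith (repWith_inf_iff.1 (repWith_inf_iff.1 hl).1).2
  rw [← Set.image_preimage_eq s hs]
  exact ho _ (isOpen_discrete _)

/-- Local quasi-finiteness is inherited from the base change along the map itself. -/
theorem lqf_of_self_baseChange {X Y : Sp S} (hX : IsAlgSpace X) (hY : IsAlgSpace Y) {f : X ⟶ Y}
    (hf : LocP @LocallyOfFiniteType f)
    (h : LocP (@LocallyQuasiFinite ⊓ @LocallyOfFiniteType) (pullback.snd f f)) :
    LocP (@LocallyQuasiFinite ⊓ @LocallyOfFiniteType) f := by
  have hXX : IsAlgSpace (pullback f f) := isAlgSpace_pullback ⟨X, hX⟩ ⟨X, hX⟩ ⟨Y, hY⟩ f f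
  have hl : LocP @LocallyOfFiniteType (pullback.snd f f) :=
    locP_of_isPullback hX hY hX (IsPullback.of_hasPullback f f) hf
  have H := (lqf_iff_discrete_fibres hXX hX hl).1 h
  refine (lqf_iff_discrete_fibres hX hY hf).2 fun k _ str y P fst snd sq => ?_
  rcases isEmpty_or_nonempty (Points P) with he | ⟨⟨x⟩⟩
  · refine discreteTopology_iff_forall_isOpen.mpr fun s => ?_
    rw [Set.eq_empty_of_isEmpty s]
    exact isOpen_empty
  obtain ⟨T, g, t, rfl⟩ := exists_ofPt x
  let K := T.left.residueField t
  let strK : Spec (CommRingCat.of K) ⟶ S := T.left.fromSpecResidueField t ≫ T.hom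
  let z : (yon S).obj (Over.mk strK) ⟶ P :=
    (yon S).map (Over.homMk (T.left.fromSpecResidueField t) rfl : Over.mk strK ⟶ T) ≫ g
  obtain ⟨q, hq⟩ := (yon S).map_surjective (z ≫ snd)
  let y' := (yon S).map q ≫ y
  have hx : (z ≫ fst) ≫ f = y' := by
    rw [Category.assoc, sq.w, ← Category.assoc, ← hq]
  have sq' := IsPullback.of_hasPullback f y'
  let m : pullback f y' ⟶ pullback f f :=
    pullback.lift (pullback.fst f y') (pullback.snd f y' ≫ z ≫ fst)
      (by rw [Category.assoc, hx]; exact pullback.condition)
  have sqm : IsPullback m (pullback.snd f y') (pullback.snd f f) (z ≫ fst) :=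
    IsPullback.of_right (by rw [show m ≫ pullback.fst f f = pullback.fst f y' from
      pullback.lift_fst _ _ _, hx]; exact sq') (pullback.lift_snd _ _ _)
      (IsPullback.of_hasPullback f f)
  have : DiscreteTopology (Points (pullback f y')) := H K strK _ _ _ _ sqm
  let l : pullback f y' ⟶ P :=
    sq.lift (pullback.fst f y') (pullback.snd f y' ≫ (yon S).map q)
      (by rw [pullback.condition, Category.assoc])
  have sql : IsPullback (pullback.snd f y') l ((yon S).map q) snd := by
    refine IsPullback.of_bot ?_ (sq.lift_snd _ _ _).symm sq.flip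
    rw [sq.lift_fst]; exact sq'.flip
  refine discrete_descent (repWith_of_isPullback sql (Groth.AlgSpCartier.repWith_yon_field q ?_ ?_ ?_))
  · exact Groth.AlgSpCartier.flat_of_field _ _ q.left
  · exact ⟨fun y => ⟨IsLocalRing.closedPoint _,
      Subsingleton.elim (α := Spec (CommRingCat.of k)) _ _⟩⟩
  · exact Groth.DescentBase.universallyOpen_of_field _ q.left

variable {B : Sp S} {G X : Over B} [GrpObj G]

theorem isPullback_shear (a : GAction G X) (ha : a.IsPseudoTorsor) :
    ∃ m : pullback X.hom X.hom ⟶ G.left,
      IsPullback m (pullback.snd X.hom X.hom) G.hom X.hom := by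
  have : IsIso (lift a.act (CartesianMonoidalCategory.snd G X)) := ha
  let k : pullback G.hom X.hom ⟶ pullback X.hom X.hom :=
    (lift a.act (CartesianMonoidalCategory.snd G X)).left
  have hk : IsIso k := Functor.map_isIso (Over.forget B) (lift a.act (CartesianMonoidalCategory.snd G X))
  let e : pullback G.hom X.hom ≅ pullback X.hom X.hom := asIso k
  have he : e.hom ≫ pullback.snd X.hom X.hom = pullback.snd G.hom X.hom := by
    have h0 := congrArg (fun k : G ⊗ X ⟶ X => k.left)
      (lift_snd a.act (CartesianMonoidalCategory.snd G X))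
    exact (Over.comp_left _ _ _ _ _).symm.trans h0
  refine ⟨e.inv ≫ pullback.fst G.hom X.hom, ?_⟩
  exact (IsPullback.of_hasPullback G.hom X.hom).of_iso e (Iso.refl _) (Iso.refl _) (Iso.refl _)
    (by simp) (by simp [he]) (by simp) (by simp)

theorem repWith_diagonal_of_pseudoTorsor {P : MorphismProperty Scheme.{u}}
    [P.RespectsIso] [P.IsStableUnderBaseChange] [P.IsStableUnderComposition] [P.ContainsIdentities]
    (a : GAction G X) (ha : a.IsPseudoTorsor) (h : RepWith P (pullback.diagonal G.hom)) :
    RepWith P (pullback.diagonal X.hom) := by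
  have : IsIso (lift a.act (CartesianMonoidalCategory.snd G X)) := ha
  have he : RepWith P (η[G]).left :=
    repWith_of_isPullback (GrpDiagonal.isPullback_unit G) h
  let e₁ : X ⟶ G ⊗ X := lift (toUnit X ≫ η[G]) (𝟙 X)
  have sq : IsPullback (toUnit X) e₁ η[G] (CartesianMonoidalCategory.fst G X) := by
    have w : toUnit X ≫ η[G] = e₁ ≫ CartesianMonoidalCategory.fst G X := (lift_fst _ _).symm
    refine ⟨⟨w⟩, ⟨PullbackCone.IsLimit.mk w
      (fun s => s.snd ≫ CartesianMonoidalCategory.snd G X) (fun s => toUnit_unique _ _)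
      (fun s => ?_) (fun s m _ h₂ => ?_)⟩⟩
    · refine CartesianMonoidalCategory.hom_ext _ _ ?_ ?_
      · rw [Category.assoc, lift_fst, ← Category.assoc, toUnit_unique (_ ≫ toUnit X) s.fst,
          s.condition]
      · rw [Category.assoc, lift_snd, Category.comp_id]
    · rw [← h₂, Category.assoc, lift_snd, Category.comp_id]
  have he₁ : RepWith P e₁.left := repWith_of_isPullback (sq.map (Over.forget B)) he
  have e : e₁ ≫ lift a.act (CartesianMonoidalCategory.snd G X) = lift (𝟙 X) (𝟙 X) := by
    refine CartesianMonoidalCategory.hom_ext _ _ ?_ ?_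
    · rw [Category.assoc, lift_fst, lift_fst]
      have := congrArg (lift (toUnit X) (𝟙 X) ≫ ·) a.one_act
      simpa [e₁] using this
    · rw [Category.assoc, lift_snd, lift_snd, lift_snd]
  have e' := congrArg (fun k => k.left) e
  rw [Over.comp_left] at e'
  have hd : (lift (𝟙 X) (𝟙 X) : X ⟶ X ⊗ X).left = pullback.diagonal X.hom := rfl
  rw [← hd, ← e']
  exact repWith_comp he₁ (repWith_isIso ((Over.forget B).map
    (lift a.act (CartesianMonoidalCategory.snd G X))))

end

end Groth.AlgSp2.TorsorLocal
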