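import Groth.Agent.AlgSp2.UnivThickEtale
import Groth.Agent.AlgSp2.InfNbhdUniv
import Groth.Agent.AlgSp2.InfUniv
import Groth.Agent.AlgSpBasic.ImmersionDescent
import Groth.Agent.AlgSpBasic.Quotient
import Groth.Agent.AlgSpBasic.OpenSub

/-!
# Existence of universal first order thickenings of algebraic spaces
-/

set_option autoImplicit false
set_option backward.isDefEq.respectTransparency.types false
universe u

open CategoryTheory CategoryTheory.Limits AlgebraicGeometry AlgSp
open MoreMor (IsFirstOrderThickening)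

namespace Groth.AlgSp2.UnivExists

open Groth.AlgSpBasic Groth.OmegaSheaf.UnivThick

noncomputable section

variable {S : Scheme.{u}} {X X' Z Z' : Sp S}

/-- First order thickenings are thickenings with square zero ideals on affine test schemes. -/
theorem isFOThickMor_of_quot {i : X ⟶ X'} (hi : IsThickMor i)
    (H : ∀ (A : Type u) [CommRing A] (str : Spec (CommRingCat.of A) ⟶ S)
      (e : (yon S).obj (Over.mk str) ⟶ X') (I : Ideal A) (fst : (yon S).obj (quotObj str I) ⟶ X),
      IsPullback fst ((yon S).map (quotHom str I)) i e → I ^ 2 = ⊥) : IsFOThickMor i := by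
  refine ⟨hi, fun V W b fst snd hV hb sq => ?_⟩
  have : IsAffine V.left := hV
  have : IsClosedImmersion snd.left := (hi.property b fst snd sq).1
  let str : Spec (CommRingCat.of Γ(V.left, ⊤)) ⟶ S := V.left.isoSpec.inv ≫ V.hom
  let ι : Over.mk str ⟶ V := Over.homMk V.left.isoSpec.inv rfl
  obtain ⟨I, fst', -, sq'⟩ := exists_quot_pullback str hi ((yon S).map ι ≫ b)
  have hI := H _ str _ I fst' sq'
  obtain ⟨m, hm⟩ := (yon S).map_surjective
    (sq.lift fst' ((yon S).map (quotHom str I ≫ ι)) (by rw [sq'.w, Functor.map_comp_assoc]))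
  have hm' : m ≫ snd = quotHom str I ≫ ι :=
    (yon S).map_injective (by rw [Functor.map_comp, hm, sq.lift_snd])
  have : IsAffine W.left := isAffine_of_isAffineHom snd.left
  obtain ⟨r, hr⟩ := Spec.map_surjective (m.left ≫ W.left.isoSpec.hom)
  have hsnd : snd.left.appTop ≫ r = CommRingCat.ofHom (Ideal.Quotient.mk I) := by
    refine Spec.map_injective ?_
    have e : m.left ≫ snd.left = Spec.map (CommRingCat.ofHom (Ideal.Quotient.mk I)) ≫
        V.left.isoSpec.inv := congrArg CommaMorphism.left hm'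
    rw [Spec.map_comp, hr, Category.assoc, Scheme.isoSpec_hom_naturality, ← Category.assoc, e,
      Category.assoc, Iso.inv_hom_id, Category.comp_id]
  have hker : RingHom.ker snd.left.appTop.hom ≤ I := fun x hx => by
    have := congr(($hsnd).hom x)
    rw [CommRingCat.hom_comp, RingHom.comp_apply, (hx : snd.left.appTop.hom x = 0), map_zero] at this
    exact Ideal.Quotient.eq_zero_iff_mem.1 this.symm
  change snd.left.ker * snd.left.ker = ⊥
  rw [sqZero_iff, eq_bot_iff, ← hI, pow_two]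
  exact Ideal.mul_mono hker hker

/-- A first order thickening of schemes cuts square zero ideals on affine test schemes. -/
theorem sq_eq_bot_of_isPullback {U U' : Over S} {i : U ⟶ U'} (hi : IsFirstOrderThickening i.left)
    {A : Type u} [CommRing A] {str : Spec (CommRingCat.of A) ⟶ S}
    {e : (yon S).obj (Over.mk str) ⟶ (yon S).obj U'} {I : Ideal A}
    {fst : (yon S).obj (quotObj str I) ⟶ (yon S).obj U}
    (sq : IsPullback fst ((yon S).map (quotHom str I)) ((yon S).map i) e) : I ^ 2 = ⊥ := by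
  obtain ⟨e, rfl⟩ := (yon S).map_surjective e
  obtain ⟨fst, rfl⟩ := (yon S).map_surjective fst
  exact ideal_sq_of_sqZero (fot_baseChange (isPullback_left (isPullback_of_yon sq)).flip hi).2

/-- First order thickenings of schemes give first order thickenings of sheaves. -/
theorem isFOThickMor_yon {U U' : Over S} {i : U ⟶ U'} (hi : IsFirstOrderThickening i.left) :
    IsFOThickMor ((yon S).map i) :=
  isFOThickMor_of_quot ((isThickMor_yon_map_iff i).2 hi.1) fun _ _ _ _ _ _ sq =>
    sq_eq_bot_of_isPullback hi sq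

/-- Universal first order thickenings of schemes are universal among algebraic spaces. -/
theorem isUnivFOThick_yon {U U' W : Over S} {g : U ⟶ W} {i : U ⟶ U'} {g' : U' ⟶ W}
    (hu : OmegaSh.IsUnivThickening g.left i.left g'.left) :
    IsUnivFOThick ((yon S).map g) ((yon S).map i) ((yon S).map g') := by
  have w₀ : i ≫ g' = g := Over.OverMorphism.ext hu.2.1
  refine isUnivFOThick_of_affine (isFOThickMor_yon hu.1) (by rw [← Functor.map_comp, w₀])
    fun A _ str I hI a b w => ?_
  obtain ⟨a, rfl⟩ := (yon S).map_surjective a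
  obtain ⟨b, rfl⟩ := (yon S).map_surjective b
  rw [← Functor.map_comp, ← Functor.map_comp] at w
  obtain ⟨l, ⟨hl₁, hl₂⟩, hlu⟩ := hu.2.2 _ _ _ b.left a.left
    (Groth.FlatmorThree.FormalLift.isFirstOrderThickening_specMap_mk I hI)
    (congrArg CommaMorphism.left ((yon S).map_injective w))
  refine ⟨(yon S).map (Over.homMk l (by
    rw [← Over.w g', reassoc_of% hl₂]; exact Over.w b)), ⟨?_, ?_⟩, fun x hx => ?_⟩
  · rw [← Functor.map_comp, ← Functor.map_comp]
    exact congrArg _ (Over.OverMorphism.ext hl₁)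
  · rw [← Functor.map_comp]
    exact congrArg _ (Over.OverMorphism.ext hl₂)
  · obtain ⟨x, rfl⟩ := (yon S).map_surjective x
    simp only [← Functor.map_comp] at hx
    exact congrArg _ (Over.OverMorphism.ext (hlu x.left
      ⟨congrArg CommaMorphism.left ((yon S).map_injective hx.1),
        congrArg CommaMorphism.left ((yon S).map_injective hx.2)⟩))

/-- Cartesian squares of schemes over the base give cartesian squares of sheaves. -/
theorem isPullback_yon {A B C D : Over S} {f : A ⟶ B} {g : A ⟶ C} {h : B ⟶ D} {k : C ⟶ D}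
    (w : f ≫ h = g ≫ k) (sq : IsPullback f.left g.left h.left k.left) :
    IsPullback ((yon S).map f) ((yon S).map g) ((yon S).map h) ((yon S).map k) :=
  (IsPullback.of_map (Over.forget S) w sq).map (yon S)

/-- Maps into a universal thickening are determined by the restriction and the map to the base. -/
theorem univ_ext {h : Z ⟶ X} {i : Z ⟶ Z'} {h' : Z' ⟶ X} (HU : IsUnivFOThick h i h') {T T' : Over S}
    {j : (yon S).obj T ⟶ (yon S).obj T'} (hj : IsFOThickMor j) (a : (yon S).obj T ⟶ Z)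
    {x y : (yon S).obj T' ⟶ Z'} (hx : j ≫ x = a ≫ i) (hy : j ≫ y = a ≫ i)
    (hxy : x ≫ h' = y ≫ h') : x = y :=
  (HU.2.2 (IsAlgSpace.yon_obj T) (IsAlgSpace.yon_obj T') j a (x ≫ h') hj
    (by rw [reassoc_of% hx, HU.2.1])).unique ⟨hx, rfl⟩ ⟨hy, hxy.symm⟩

/-- Being a first order thickening descends along an étale covering by a scheme. -/
theorem isFOThickMor_of_cover (hX' : IsAlgSpace X') {U U' : Over S} {i : X ⟶ X'} {iU : U ⟶ U'}
    {a : (yon S).obj U ⟶ X} {π : (yon S).obj U' ⟶ X'} (hπ : RepWith @Etale π)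
    (hπs : RepWith @Surjective π) (sq : IsPullback a ((yon S).map iU) i π)
    (hiU : IsFirstOrderThickening iU.left) : IsFOThickMor i := by
  have hUc : RepWith @IsClosedImmersion ((yon S).map iU) := (repWith_yon_map_iff _ _).2 hiU.1.1
  have hc : RepWith @IsClosedImmersion i := repWith_isClosedImmersion_of_cover hX' hπ hπs sq hUc
  have hs : RepWith @Surjective i := repWith_surjective_of_points hc.rep fun y => by
    obtain ⟨u', rfl⟩ := surjective_map_of_repWith hπs y
    obtain ⟨u, rfl⟩ := surjective_map_of_repWith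
      ((repWith_yon_map_iff @Surjective iU).2 hiU.1.2) u'
    exact ⟨Points.map a u, by rw [← Points.map_comp, sq.w, Points.map_comp]⟩
  refine isFOThickMor_of_quot (repWith_inf_iff.2 ⟨hc, hs⟩) fun A _ str e I fst sqI => ?_
  obtain ⟨V, pU, pA, sqV⟩ := exists_pullback_yon hπ.rep e
  have : Etale pA.left := repWith_fst_of_isPullback sqV hπ
  have : Surjective pA.left := repWith_fst_of_isPullback sqV hπs
  have : IsAffine (Over.mk str).left := inferInstanceAs (IsAffine (Spec (CommRingCat.of A)))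
  obtain ⟨Y, φ, hY, he, hsY⟩ := Inf.exists_affine_etale_refinement pA.left
  obtain ⟨χ, hχ⟩ := Spec.map_surjective (Y.isoSpec.inv ≫ φ ≫ pA.left)
  let R := ringObj str χ.hom
  let β : R ⟶ V := Over.homMk (Y.isoSpec.inv ≫ φ) (by
    change _ = Spec.map χ ≫ str
    rw [hχ, Category.assoc, Category.assoc, Category.assoc]
    exact congrArg (fun k => Y.isoSpec.inv ≫ φ ≫ k) (Over.w pA).symm)
  have hβ : β ≫ pA = ringHom str χ.hom := Over.OverMorphism.ext (by
    change (Y.isoSpec.inv ≫ φ) ≫ pA.left = Spec.map χ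
    rw [hχ, Category.assoc])
  obtain ⟨J, g, sqJ⟩ := exists_closed_quot_pullback R.hom hUc ((yon S).map (β ≫ pU))
  have hJ : J ^ 2 = ⊥ := sq_eq_bot_of_isPullback hiU sqJ
  have hle : I.map χ.hom ≤ J.map (RingHom.id _) :=
    map_le_map_of_test sqI (sqJ.paste_horiz sq) χ.hom (RingHom.id _) (ringHom str χ.hom) (𝟙 R) rfl
      (Spec.map_id _).symm (by
        rw [(yon S).map_id, Category.id_comp, Functor.map_comp, Category.assoc, sqV.w,
          ← Functor.map_comp_assoc, hβ])
  rw [Ideal.map_id] at hle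
  refine eq_bot_of_map_etale_cover χ.hom ?_ ?_ (le_bot_iff.1 ?_)
  · rw [CommRingCat.ofHom_hom, hχ]; infer_instance
  · rw [CommRingCat.ofHom_hom, hχ]; infer_instance
  · rw [Ideal.map_pow, ← hJ]
    exact Ideal.pow_right_mono hle 2

/-- The map between universal thickenings induced by an étale morphism is étale. -/
theorem etale_induced {U U' W R R' : Over S} {g : U ⟶ W} {iU : U ⟶ U'} {g' : U' ⟶ W}
    (hu : OmegaSh.IsUnivThickening g.left iU.left g'.left) [FormallyUnramified g.left]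
    {w : (yon S).obj W ⟶ X} (hw : IsFormallyEtaleMor w) (e : R ⟶ U) [Etale e.left] {iR : R ⟶ R'}
    {k : (yon S).obj R' ⟶ X}
    (HR : IsUnivFOThick ((yon S).map e ≫ (yon S).map g ≫ w) ((yon S).map iR) k) {t : R' ⟶ U'}
    (ht : iR ≫ t = e ≫ iU) (ht' : (yon S).map t ≫ (yon S).map g' ≫ w = k) : Etale t.left := by
  have : FormallyUnramified (e.left ≫ g.left) := MorphismProperty.comp_mem @FormallyUnramified e.left g.left inferInstance ‹_›
  obtain ⟨R₀, iR₀, gR₀, hR₀⟩ := exists_isUnivThickening (e.left ≫ g.left)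
  let R₁ : Over S := Over.mk (gR₀ ≫ W.hom)
  let iR₁ : R ⟶ R₁ := Over.homMk iR₀ (by
    change iR₀ ≫ gR₀ ≫ W.hom = R.hom
    rw [reassoc_of% hR₀.2.1, Over.w g, Over.w e])
  let gR₁ : R₁ ⟶ W := Over.homMk gR₀ rfl
  have HR₁ := isUnivFOThick_comp_etale
    (isUnivFOThick_yon (g := e ≫ g) (i := iR₁) (g' := gR₁) hR₀) hw
  rw [Functor.map_comp, Category.assoc] at HR₁
  obtain ⟨s₀, ⟨hs₁, hs₂⟩, -⟩ := hu.2.2 R.left R₀ iR₀ gR₀ e.left hR₀.1 hR₀.2.1
  have hs : Etale s₀ := Groth.AlgSp2.UnivEtale.etale_of_univ hu hR₀ hs₁ hs₂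
  let s₁ : R₁ ⟶ U' := Over.homMk s₀ (by
    change s₀ ≫ U'.hom = gR₀ ≫ W.hom
    rw [← Over.w g', reassoc_of% hs₂])
  have hs₁' : iR₁ ≫ s₁ = e ≫ iU := Over.OverMorphism.ext hs₁
  have hs₂' : s₁ ≫ g' = gR₁ := Over.OverMorphism.ext hs₂
  obtain ⟨x, ⟨hx₁, hx₂⟩, -⟩ := HR₁.2.2 (IsAlgSpace.yon_obj R) (IsAlgSpace.yon_obj R') _ (𝟙 _) k
    HR.1 (by rw [Category.id_comp, HR.2.1])
  obtain ⟨y, ⟨hy₁, hy₂⟩, -⟩ := HR.2.2 (IsAlgSpace.yon_obj R) (IsAlgSpace.yon_obj R₁) _ (𝟙 _) _
    HR₁.1 (by rw [Category.id_comp, HR₁.2.1])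
  rw [Category.id_comp] at hx₁ hy₁
  have hxy : x ≫ y = 𝟙 _ := univ_ext HR HR.1 (𝟙 _)
    (by rw [reassoc_of% hx₁, hy₁, Category.id_comp]) (by rw [Category.comp_id, Category.id_comp])
    (by rw [Category.assoc, hy₂, hx₂, Category.id_comp])
  have hyx : y ≫ x = 𝟙 _ := univ_ext HR₁ HR₁.1 (𝟙 _)
    (by rw [reassoc_of% hy₁, hx₁, Category.id_comp]) (by rw [Category.comp_id, Category.id_comp])
    (by rw [Category.assoc, hx₂, hy₂, Category.id_comp])
  obtain ⟨x, rfl⟩ := (yon S).map_surjective x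
  obtain ⟨y, rfl⟩ := (yon S).map_surjective y
  rw [← Functor.map_comp, ← (yon S).map_id] at hxy hyx
  have : IsIso x := ⟨y, (yon S).map_injective hxy, (yon S).map_injective hyx⟩
  have HU := isUnivFOThick_comp_etale (isUnivFOThick_yon hu) hw
  have key : (yon S).map t = (yon S).map (x ≫ s₁) :=
    univ_ext HU HR.1 ((yon S).map e) (by rw [← Functor.map_comp, ht, Functor.map_comp])
      (by rw [Functor.map_comp, reassoc_of% hx₁, ← Functor.map_comp, hs₁', Functor.map_comp])
      (by rw [ht', Functor.map_comp, Category.assoc, ← (yon S).map_comp_assoc s₁, hs₂', hx₂])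
  rw [(yon S).map_injective key]
  have : IsIso x.left := inferInstanceAs (IsIso ((Over.forget S).map x))
  have : Etale s₁.left := hs
  change Etale (x.left ≫ s₁.left)
  infer_instance

/-- A universal first order thickening built on a given chart. -/
theorem exists_isUnivFOThick_of_chart (hZ : IsAlgSpace Z) (h : Z ⟶ X)
    (hh : IsFormallyUnramifiedMor h) {U W : Over S} {φ : (yon S).obj U ⟶ Z}
    {w : (yon S).obj W ⟶ X} {g : U ⟶ W} (hφ : RepWith @Etale φ) (hφs : RepWith @Surjective φ)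
    (hw : RepWith @Etale w) (comm : φ ≫ h = (yon S).map g ≫ w) :
    ∃ (U' : Over S) (iU : U ⟶ U') (g' : U' ⟶ W) (Z' : Sp S) (i : Z ⟶ Z') (h' : Z' ⟶ X)
      (π : (yon S).obj U' ⟶ Z'), OmegaSh.IsUnivThickening g.left iU.left g'.left ∧
      IsAlgSpace Z' ∧ IsUnivFOThick h i h' ∧ RepWith @Etale π ∧ RepWith @Surjective π ∧
      (yon S).map iU ≫ π = φ ≫ i ∧ π ≫ h' = (yon S).map g' ≫ w := by
  have : FormallyUnramified g.left := Inf.unramified_chart hφ hw comm hh
  have hwe := Inf.etale_of_repWith hw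
  obtain ⟨U₀, iU₀, g₀, hu₀⟩ := exists_isUnivThickening g.left
  let U' : Over S := Over.mk (g₀ ≫ W.hom)
  let iU : U ⟶ U' := Over.homMk iU₀ (by
    change iU₀ ≫ g₀ ≫ W.hom = U.hom
    rw [reassoc_of% hu₀.2.1, Over.w g])
  let g' : U' ⟶ W := Over.homMk g₀ rfl
  have hu : OmegaSh.IsUnivThickening g.left iU.left g'.left := hu₀
  have HX : IsUnivFOThick (φ ≫ h) ((yon S).map iU) ((yon S).map g' ≫ w) :=
    comm ▸ isUnivFOThick_comp_etale (isUnivFOThick_yon hu) hwe
  obtain ⟨R, t, s, sqR⟩ := exists_pullback_yon hφ.rep φ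
  have : Etale s.left := repWith_fst_of_isPullback sqR hφ
  have : Etale t.left := repWith_fst_of_isPullback sqR.flip hφ
  have : FormallyUnramified (s.left ≫ g.left) := MorphismProperty.comp_mem @FormallyUnramified s.left g.left inferInstance ‹_›
  obtain ⟨R₀, iR₀, gR₀, hR₀⟩ := exists_isUnivThickening (s.left ≫ g.left)
  let R' : Over S := Over.mk (gR₀ ≫ W.hom)
  let iR : R ⟶ R' := Over.homMk iR₀ (by
    change iR₀ ≫ gR₀ ≫ W.hom = R.hom
    rw [reassoc_of% hR₀.2.1, Over.w g, Over.w s])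
  let gR : R' ⟶ W := Over.homMk gR₀ rfl
  let k : (yon S).obj R' ⟶ X := (yon S).map gR ≫ w
  have HR : IsUnivFOThick ((yon S).map s ≫ φ ≫ h) ((yon S).map iR) k := by
    have := isUnivFOThick_comp_etale
      (isUnivFOThick_yon (g := s ≫ g) (i := iR) (g' := gR) hR₀) hwe
    rwa [Functor.map_comp, Category.assoc, ← comm] at this
  have hts : (yon S).map t ≫ φ ≫ h = (yon S).map s ≫ φ ≫ h := by rw [reassoc_of% sqR.w]
  -- the two projections
  have proj : ∀ e : R ⟶ U, [Etale e.left] → (yon S).map e ≫ φ ≫ h = (yon S).map s ≫ φ ≫ h →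
      ∃ e' : R' ⟶ U', iR ≫ e' = e ≫ iU ∧ (yon S).map e' ≫ (yon S).map g' ≫ w = k ∧
        Etale e'.left ∧
          IsPullback ((yon S).map e) ((yon S).map iR) ((yon S).map iU) ((yon S).map e') := by
    intro e _ he
    obtain ⟨x, ⟨hx₁, hx₂⟩, -⟩ := HX.2.2 (IsAlgSpace.yon_obj R) (IsAlgSpace.yon_obj R') _
      ((yon S).map e) k HR.1 (by rw [HR.2.1, he])
    obtain ⟨x, rfl⟩ := (yon S).map_surjective x
    have hx₁' : iR ≫ x = e ≫ iU := (yon S).map_injective (by
      rw [Functor.map_comp, Functor.map_comp, hx₁])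
    have hxe : Etale x.left := etale_induced hu hwe e (iR := iR) (k := k)
      (by rw [← comm, he]; exact HR) hx₁' hx₂
    have := isClosedImmersion_of_fot hu₀.1
    have := isClosedImmersion_of_fot hR₀.1
    have := surjective_of_fot hR₀.1
    have : IsClosedImmersion iU.left := ‹IsClosedImmersion iU₀›
    have : IsClosedImmersion iR.left := ‹IsClosedImmersion iR₀›
    have : Surjective iR.left := ‹Surjective iR₀›
    exact ⟨x, hx₁', hx₂, hxe, isPullback_yon hx₁'.symm
      (Groth.AlgSp2.UnivEtale.isPullback_of_etale (congrArg CommaMorphism.left hx₁'))⟩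
  obtain ⟨s', hs'₁, hs'₂, _, sqs⟩ := proj s rfl
  obtain ⟨t', ht'₁, ht'₂, _, sqt⟩ := proj t hts
  have hmU := mono_of_isThickMor HX.1.1
  have hs'₁' : (yon S).map iR ≫ (yon S).map s' = (yon S).map s ≫ (yon S).map iU := sqs.w.symm
  have ht'₁' : (yon S).map iR ≫ (yon S).map t' = (yon S).map t ≫ (yon S).map iU := sqt.w.symm
  -- an equivalence relation
  have hrel : IsEqvRel s' t' := by
    refine ⟨fun T r r' e₁ e₂ => ?_, fun T => ⟨fun a => ?_, fun {a b} => ?_, fun {a b c} => ?_⟩⟩
    · obtain ⟨T₀, j, f, sq₀⟩ := HX.1.1.rep ((yon S).map (r ≫ s'))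
      have hj := isFOThickMor_of_isPullback (IsAlgSpace.yon_obj U') HX.1 sq₀
      let r₀ := sqs.lift f ((yon S).map j ≫ (yon S).map r)
        (by rw [sq₀.w, Functor.map_comp, Category.assoc])
      let r₁ := sqs.lift f ((yon S).map j ≫ (yon S).map r')
        (by rw [sq₀.w, e₂, Functor.map_comp, Category.assoc])
      have h₀ : r₀ ≫ (yon S).map t = r₁ ≫ (yon S).map t := by
        rw [← cancel_mono ((yon S).map iU), Category.assoc, Category.assoc, ← ht'₁',
          sqs.lift_snd_assoc, sqs.lift_snd_assoc, Category.assoc, Category.assoc,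
          ← (yon S).map_comp r, e₁, (yon S).map_comp]
      have h₁ : r₀ = r₁ := sqR.hom_ext h₀ (by rw [sqs.lift_fst, sqs.lift_fst])
      refine (yon S).map_injective (univ_ext HR hj r₀ (sqs.lift_snd _ _ _).symm ?_ ?_)
      · rw [h₁, sqs.lift_snd]
      · rw [← hs'₂, ← (yon S).map_comp_assoc r, ← (yon S).map_comp_assoc r', e₂]
    · obtain ⟨δ, hδ⟩ := (yon S).map_surjective (sqR.lift (𝟙 _) (𝟙 _) rfl)
      obtain ⟨d, ⟨hd₁, hd₂⟩, -⟩ := HR.2.2 (IsAlgSpace.yon_obj U) (IsAlgSpace.yon_obj U') _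
        ((yon S).map δ) ((yon S).map g' ≫ w) HX.1
        (by rw [HX.2.1, hδ, sqR.lift_snd_assoc, Category.id_comp])
      obtain ⟨d, rfl⟩ := (yon S).map_surjective d
      refine ⟨a ≫ d, ?_, ?_⟩
      · rw [Category.assoc]
        refine (congrArg (a ≫ ·) ?_).trans (Category.comp_id a)
        refine (yon S).map_injective (univ_ext HX HX.1 (𝟙 _) ?_ ?_ ?_)
        · rw [Functor.map_comp, reassoc_of% hd₁, ht'₁', hδ, sqR.lift_fst_assoc]
        · rw [(yon S).map_id, Category.comp_id, Category.id_comp]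
        · rw [Functor.map_comp, Category.assoc, ht'₂, hd₂, (yon S).map_id, Category.id_comp]
      · rw [Category.assoc]
        refine (congrArg (a ≫ ·) ?_).trans (Category.comp_id a)
        refine (yon S).map_injective (univ_ext HX HX.1 (𝟙 _) ?_ ?_ ?_)
        · rw [Functor.map_comp, reassoc_of% hd₁, hs'₁', hδ, sqR.lift_snd_assoc]
        · rw [(yon S).map_id, Category.comp_id, Category.id_comp]
        · rw [Functor.map_comp, Category.assoc, hs'₂, hd₂, (yon S).map_id, Category.id_comp]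
    · rintro ⟨r, hra, hrb⟩
      obtain ⟨σ, hσ⟩ := (yon S).map_surjective
        (sqR.lift ((yon S).map s) ((yon S).map t) sqR.w.symm)
      obtain ⟨c, ⟨hc₁, hc₂⟩, -⟩ := HR.2.2 (IsAlgSpace.yon_obj R) (IsAlgSpace.yon_obj R') _
        ((yon S).map σ) k HR.1 (by rw [HR.2.1, hσ, sqR.lift_snd_assoc, hts])
      obtain ⟨c, rfl⟩ := (yon S).map_surjective c
      refine ⟨r ≫ c, ?_, ?_⟩
      · rw [Category.assoc, ← hrb]
        refine congrArg (r ≫ ·) ((yon S).map_injective (univ_ext HX HR.1 ((yon S).map s) ?_ hs'₁' ?_))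
        · rw [Functor.map_comp, reassoc_of% hc₁, ht'₁', hσ, sqR.lift_fst_assoc]
        · rw [Functor.map_comp, Category.assoc, ht'₂, hc₂, hs'₂]
      · rw [Category.assoc, ← hra]
        refine congrArg (r ≫ ·) ((yon S).map_injective (univ_ext HX HR.1 ((yon S).map t) ?_ ht'₁' ?_))
        · rw [Functor.map_comp, reassoc_of% hc₁, hs'₁', hσ, sqR.lift_snd_assoc]
        · rw [Functor.map_comp, Category.assoc, hs'₂, hc₂, ht'₂]
    · rintro ⟨r₁, h1a, h1b⟩ ⟨r₂, h2b, h2c⟩
      have hm : r₁ ≫ s' = r₂ ≫ t' := h1b.trans h2b.symm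
      obtain ⟨T₀, j, f, sq₀⟩ := HX.1.1.rep ((yon S).map (r₁ ≫ s'))
      have hj := isFOThickMor_of_isPullback (IsAlgSpace.yon_obj U') HX.1 sq₀
      let p₁ := sqs.lift f ((yon S).map j ≫ (yon S).map r₁)
        (by rw [sq₀.w, Functor.map_comp, Category.assoc])
      let p₂ := sqt.lift f ((yon S).map j ≫ (yon S).map r₂)
        (by rw [sq₀.w, hm, Functor.map_comp, Category.assoc])
      have hp₁ : p₁ ≫ (yon S).map iR = (yon S).map j ≫ (yon S).map r₁ := sqs.lift_snd _ _ _
      have hp₂ : p₂ ≫ (yon S).map iR = (yon S).map j ≫ (yon S).map r₂ := sqt.lift_snd _ _ _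
      have e₁ : p₁ ≫ (yon S).map s = f := sqs.lift_fst _ _ _
      have e₂ : p₂ ≫ (yon S).map t = f := sqt.lift_fst _ _ _
      obtain ⟨q, hq⟩ := (yon S).map_surjective (sqR.lift (p₁ ≫ (yon S).map t)
        (p₂ ≫ (yon S).map s) (by
          rw [Category.assoc, Category.assoc, sqR.w, ← Category.assoc, e₁, ← e₂, Category.assoc,
            sqR.w]))
      obtain ⟨c', ⟨hc₁, hc₂⟩, -⟩ := HR.2.2 (IsAlgSpace.yon_obj T₀) (IsAlgSpace.yon_obj T) _
        ((yon S).map q) ((yon S).map r₁ ≫ k) hj (by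
          rw [← Category.assoc, ← hp₁, Category.assoc, HR.2.1, hq, sqR.lift_snd_assoc,
            reassoc_of% e₁, Category.assoc, ← reassoc_of% e₂, hts])
      obtain ⟨c', rfl⟩ := (yon S).map_surjective c'
      refine ⟨c', ?_, ?_⟩
      · rw [← h1a]
        refine (yon S).map_injective
          (univ_ext HX hj (p₁ ≫ (yon S).map t) ?_ ?_ ?_)
        · rw [Functor.map_comp, reassoc_of% hc₁, ht'₁', hq, sqR.lift_fst_assoc]
        · rw [Functor.map_comp, ← Category.assoc, ← hp₁, Category.assoc, ht'₁', Category.assoc]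
        · rw [Functor.map_comp, Functor.map_comp, Category.assoc, Category.assoc, ht'₂, hc₂]
      · rw [← h2c]
        refine (yon S).map_injective
          (univ_ext HX hj (p₂ ≫ (yon S).map s) ?_ ?_ ?_)
        · rw [Functor.map_comp, reassoc_of% hc₁, hs'₁', hq, sqR.lift_snd_assoc]
        · rw [Functor.map_comp, ← Category.assoc, ← hp₂, Category.assoc, hs'₁', Category.assoc]
        · rw [Functor.map_comp, Functor.map_comp, Category.assoc, Category.assoc, hs'₂, hc₂,
            ← hs'₂, ← Functor.map_comp_assoc, hm, Functor.map_comp_assoc, ht'₂, hs'₂]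
  -- the quotient
  let π := yonQuotπ s' t'
  have := isLocallySurjective_yonQuotπ s' t'
  have sqQ := isPullback_yonQuot hrel
  obtain ⟨hQ, hπ, hπs⟩ := isAlgSpace_of_kernelPair sqQ
  obtain ⟨i, hi⟩ := exists_desc_of_etale φ hφ hφs ((yon S).map iU ≫ π) fun T p q e => by
    rw [← sqR.lift_fst p q e]
    nth_rw 2 [← sqR.lift_snd p q e]
    rw [Category.assoc, Category.assoc, ← reassoc_of% ht'₁', ← reassoc_of% hs'₁', sqQ.w]
  obtain ⟨h', hh'⟩ := exists_desc_of_etale π hπ hπs ((yon S).map g' ≫ w) fun T p q e => by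
    rw [← sqQ.lift_fst p q e]
    nth_rw 2 [← sqQ.lift_snd p q e]
    rw [Category.assoc, Category.assoc, ht'₂, hs'₂]
  have w' : i ≫ h' = h := hom_ext_of_etale φ hφ hφs (by rw [reassoc_of% hi, hh', HX.2.1])
  have sq : IsPullback φ ((yon S).map iU) i π := by
    refine isPullback_of_lifts hi (fun T x u' hxu => ?_)
      fun T a a' _ e => (cancel_mono ((yon S).map iU)).1 e
    obtain ⟨T₁, c, f, sqT⟩ := hφ.rep x
    have : Etale c.left := hφ.property x f c sqT
    have : Surjective c.left := hφs.property x f c sqT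
    let r := sqQ.lift (f ≫ (yon S).map iU) ((yon S).map c ≫ u') (by
      rw [Category.assoc, ← hi, reassoc_of% sqT.w, hxu, Category.assoc])
    let r₀ := sqt.lift f r (sqQ.lift_fst _ _ _).symm
    have hv : r₀ ≫ (yon S).map s ≫ (yon S).map iU = (yon S).map c ≫ u' := by
      rw [← hs'₁', sqt.lift_snd_assoc, sqQ.lift_snd]
    obtain ⟨y, hy⟩ := exists_glue_of_fppf c (r₀ ≫ (yon S).map s) fun T₂ p q e => by
      rw [← cancel_mono ((yon S).map iU), Category.assoc, Category.assoc, Category.assoc,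
        Category.assoc, hv, ← Functor.map_comp_assoc, e, Functor.map_comp_assoc]
    refine ⟨y, hom_ext_of_fppf c ?_, hom_ext_of_fppf c (by rw [reassoc_of% hy, hv])⟩
    rw [reassoc_of% hy, ← sqR.w, ← Category.assoc, sqt.lift_fst, sqT.w]
  have he : IsEtaleMor φ := isEtaleMor_of_locP hZ (locP_of_repWith hφ)
  have hes : IsSurjectiveMor φ := surjective_map_of_repWith hφs
  have hiY : IsFOThickMor i := isFOThickMor_of_cover hQ hπ hπs sq hu.1
  have hf' : IsEtaleMor π := isEtaleMor_of_locP hQ (locP_of_repWith hπ)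
  have HU : IsUnivFOThick (φ ≫ h) ((yon S).map iU) (π ≫ h') := by rw [hh']; exact HX
  exact ⟨U', iU, g', _, i, h', π, hu, hQ,
    isUnivFOThick_descend (IsAlgSpace.yon_obj U) hQ (IsAlgSpace.yon_obj U') he hes hiY hf' sq.w.symm w' HU, hπ, hπs,
    sq.w.symm, hh'⟩

/-- A formally unramified morphism of algebraic spaces has a universal first order thickening. -/
theorem exists_isUnivFOThick (hZ : IsAlgSpace Z) (hX : IsAlgSpace X) (h : Z ⟶ X)
    (hh : IsFormallyUnramifiedMor h) :
    ∃ (Z' : Sp S) (i : Z ⟶ Z') (h' : Z' ⟶ X), IsAlgSpace Z' ∧ IsUnivFOThick h i h' := by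
  obtain ⟨U, W, φ, w, g, hφ, hφs, hw, -, comm⟩ := exists_charts hZ hX h
  obtain ⟨-, -, -, Z', i, h', -, -, hZ', HU, -⟩ :=
    exists_isUnivFOThick_of_chart hZ h hh hφ hφs hw comm
  exact ⟨Z', i, h', hZ', HU⟩

end

end Groth.AlgSp2.UnivExists
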