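import Groth.Agent.ZetaAn.UnivClosedTest
import Groth.Agent.AlgSp2.UnivThickExists
import Groth.Agent.AlgSpBasic.Compact
import Groth.Agent.AlgSpBasic.SepLocal
import Groth.Agent.AlgSpBasic.UnivTest
import Groth.Agent.AlgSpBasic.LocP
import Groth.Agent.AlgSpBasic.QComp
import Groth.Agent.AlgSpBasic.ClosedQC

/-!
# Testing universal closedness of quasi-compact morphisms of algebraic spaces
-/

set_option autoImplicit false
set_option backward.isDefEq.respectTransparency.types false
set_option linter.unusedVariables false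
universe u

open CategoryTheory CategoryTheory.Limits AlgebraicGeometry AlgSp TensorProduct Topology

namespace Groth.AlgSp2.UnivClosedTest

open Groth.AlgSpBasic

noncomputable section

variable {S : Scheme.{u}} {A : Type u} [CommRing A] (π : Spec (CommRingCat.of A) ⟶ S)

/-- `Spec B` over `S`, for an `A`-algebra `B`. -/
abbrev algOver (B : Type u) [CommRing B] [Algebra A B] : Over S :=
  Over.mk (Spec.map (CommRingCat.ofHom (algebraMap A B)) ≫ π)

/-- The structure map of `Spec B` over `S` to `Spec A`. -/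
abbrev overMap (B : Type u) [CommRing B] [Algebra A B] : algOver π B ⟶ Over.mk π :=
  Over.homMk (Spec.map (CommRingCat.ofHom (algebraMap A B))) rfl

/-- The map `Spec C → Spec B` of an algebra homomorphism. -/
abbrev overHom {B C : Type u} [CommRing B] [CommRing C] [Algebra A B] [Algebra A C] (φ : B →ₐ[A] C) :
    algOver π C ⟶ algOver π B :=
  Over.homMk (Spec.map (CommRingCat.ofHom φ.toRingHom)) (by
    show _ ≫ Spec.map _ ≫ π = Spec.map _ ≫ π
    rw [← Spec.map_comp_assoc, ← CommRingCat.ofHom_comp,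
      show φ.toRingHom.comp (algebraMap A B) = algebraMap A C from φ.comp_algebraMap])

theorem overHom_overMap {B C : Type u} [CommRing B] [CommRing C] [Algebra A B] [Algebra A C]
    (φ : B →ₐ[A] C) : overHom π φ ≫ overMap π B = overMap π C := by
  refine Over.OverMorphism.ext ?_
  show Spec.map _ ≫ Spec.map _ = Spec.map _
  rw [← Spec.map_comp, ← CommRingCat.ofHom_comp,
    show φ.toRingHom.comp (algebraMap A B) = algebraMap A C from φ.comp_algebraMap]

variable {X₀ : Sp S} (s : X₀ ⟶ (yon S).obj (Over.mk π)) (B : Type u) [CommRing B] [Algebra A B]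
  (a : (yon S).obj (algOver π B) ⟶ X₀) (e : a ≫ s = (yon S).map (overMap π B))

/-- The chart of the base change to `Spec P`. -/
def chart (P : Type u) [CommRing P] [Algebra A P] :
    (yon S).obj (algOver π (B ⊗[A] P)) ⟶ pullback s ((yon S).map (overMap π P)) :=
  pullback.lift ((yon S).map (overHom π Algebra.TensorProduct.includeLeft) ≫ a)
    ((yon S).map (overHom π Algebra.TensorProduct.includeRight)) (by
      rw [Category.assoc, e, ← Functor.map_comp, ← Functor.map_comp, overHom_overMap,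
        overHom_overMap])

theorem chart_fst (P : Type u) [CommRing P] [Algebra A P] :
    chart π s B a e P ≫ pullback.fst _ _ =
      (yon S).map (overHom π Algebra.TensorProduct.includeLeft) ≫ a :=
  pullback.lift_fst _ _ _

theorem chart_snd (P : Type u) [CommRing P] [Algebra A P] :
    chart π s B a e P ≫ pullback.snd _ _ =
      (yon S).map (overHom π Algebra.TensorProduct.includeRight) :=
  pullback.lift_snd _ _ _

theorem isPullback_chart (P : Type u) [CommRing P] [Algebra A P] :
    IsPullback ((yon S).map (overHom π (Algebra.TensorProduct.includeLeft (R := A) (A := B) (B := P))))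
      (chart π s B a e P) a (pullback.fst s ((yon S).map (overMap π P))) := by
  refine IsPullback.of_bot ?_ (chart_fst π s B a e P).symm (IsPullback.of_hasPullback s _)
  rw [chart_snd, e]
  refine Groth.AlgSp2.UnivExists.isPullback_yon ((overHom_overMap π _).trans (overHom_overMap π _).symm) ?_
  exact isPullback_SpecMap_of_isPushout _ _ _ _
    (CommRingCat.isPushout_tensorProduct A B P)

theorem chart_natural {P R : Type u} [CommRing P] [Algebra A P] [CommRing R] [Algebra A R]
    (ψ : P →ₐ[A] R) (E : pullback s ((yon S).map (overMap π R)) ⟶ pullback s ((yon S).map (overMap π P)))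
    (h₁ : E ≫ pullback.fst _ _ = pullback.fst _ _) :
    (h₂ : E ≫ pullback.snd _ _ = pullback.snd _ _ ≫ (yon S).map (overHom π ψ)) →
    IsPullback ((yon S).map (overHom π (Algebra.TensorProduct.map (AlgHom.id A B) ψ)))
      (chart π s B a e R) (chart π s B a e P) E := by
  intro h₂
  have hl : overHom π (Algebra.TensorProduct.map (AlgHom.id A B) ψ) ≫
      overHom π (Algebra.TensorProduct.includeLeft (R := A) (A := B) (B := P)) =
      overHom π (Algebra.TensorProduct.includeLeft (R := A) (A := B) (B := R)) := by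
    refine Over.OverMorphism.ext ?_
    show Spec.map _ ≫ Spec.map _ = Spec.map _
    rw [← Spec.map_comp, ← CommRingCat.ofHom_comp]
    congr 2
    ext b
    simp
  have hr : overHom π (Algebra.TensorProduct.map (AlgHom.id A B) ψ) ≫
      overHom π (Algebra.TensorProduct.includeRight (R := A) (A := B) (B := P)) =
      overHom π (Algebra.TensorProduct.includeRight (R := A) (A := B) (B := R)) ≫ overHom π ψ := by
    refine Over.OverMorphism.ext ?_
    show Spec.map _ ≫ Spec.map _ = Spec.map _ ≫ Spec.map _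
    rw [← Spec.map_comp, ← Spec.map_comp, ← CommRingCat.ofHom_comp, ← CommRingCat.ofHom_comp]
    congr 2
  refine IsPullback.of_right ?_ ?_ (isPullback_chart π s B a e P)
  · rw [← Functor.map_comp, hl, h₁]
    exact isPullback_chart π s B a e R
  · refine pullback.hom_ext ?_ ?_
    · rw [Category.assoc, Category.assoc, chart_fst, h₁, chart_fst, ← Category.assoc,
        ← Functor.map_comp, hl]
    · rw [Category.assoc, Category.assoc, chart_snd, h₂, ← Category.assoc, chart_snd,
        ← Functor.map_comp, ← Functor.map_comp, hr]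

include e in
open Algebra.TensorProduct in
/-- A neighbourhood of a point outside the image of a closed subset of a base change. -/
theorem exists_open_disjoint (ha : RepWith @Etale a) (has : RepWith @Surjective a)
    (H : ∀ n : ℕ, IsClosedMap (AlgSp.Points.map
      (pullback.snd s ((yon S).map (overMap π (MvPolynomial (ULift.{u} (Fin n)) A))))))
    (R : Type u) [CommRing R] [Algebra A R]
    (Z : Set (AlgSp.Points (pullback s ((yon S).map (overMap π R))))) (hZ : IsClosed Z)
    (q : Spec (CommRingCat.of R))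
    (hq : ∀ z ∈ Z, AlgSp.Points.map (pullback.snd s _) z ≠ AlgSp.Points.schemeHomeo (algOver π R) q) :
    ∃ O : Set (Spec (CommRingCat.of R)), IsOpen O ∧ q ∈ O ∧
      ∀ z ∈ Z, ∀ o ∈ O,
        AlgSp.Points.map (pullback.snd s _) z ≠ AlgSp.Points.schemeHomeo (algOver π R) o := by
  have hsnd : ∀ (P : Type u) [CommRing P] [Algebra A P] (t : ↥(algOver π (B ⊗[A] P)).left),
      AlgSp.Points.map (pullback.snd s _) (AlgSp.Points.ofPt (chart π s B a e P) t) =
        AlgSp.Points.schemeHomeo (algOver π P)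
          (Spec.map (CommRingCat.ofHom (includeRight (R := A) (A := B) (B := P)).toRingHom) t) := by
    intro P _ _ t
    rw [AlgSp.Points.map_ofPt, chart_snd]
    have := ofPt_comp_yon (overHom π (includeRight (R := A) (A := B) (B := P)))
      (𝟙 ((yon S).obj (algOver π P))) t
    rw [Category.comp_id] at this
    exact this
  -- an element vanishing on `Z` in the chart which is a unit at `q`
  obtain ⟨r, n, b, c, hr, hc, hJ⟩ : ∃ (r : R) (n : ℕ) (b : Fin n → B) (c : Fin n → R),
      r ∉ q.asIdeal ∧ (∀ k, c k ∈ q.asIdeal) ∧ ∀ t : Spec (CommRingCat.of (B ⊗[A] R)),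
        AlgSp.Points.ofPt (chart π s B a e R) t ∈ Z →
          (1 ⊗ₜ r - ∑ k, b k ⊗ₜ c k : B ⊗[A] R) ∈ t.asIdeal := by
    let pre : Set (Spec (CommRingCat.of (B ⊗[A] R))) :=
      AlgSp.Points.ofPt (chart π s B a e R) ⁻¹' Z
    have hpre : IsClosed pre := hZ.preimage (AlgSp.Points.continuous_ofPt _)
    set J : Ideal (B ⊗[A] R) := PrimeSpectrum.vanishingIdeal pre with hJ
    have : q.asIdeal.IsPrime := q.isPrime
    set inr : R →ₐ[A] B ⊗[A] R := includeRight with hinr
    by_contra hcon
    push Not at hcon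
    have hd : Disjoint ((J ⊔ q.asIdeal.map inr : Ideal _) : Set (B ⊗[A] R))
        (q.asIdeal.primeCompl.map inr.toRingHom.toMonoidHom : Set (B ⊗[A] R)) := by
      rw [Set.disjoint_left]
      rintro _ hJe ⟨r, hr, rfl⟩
      obtain ⟨x, hx, y, hy, hxy⟩ := Submodule.mem_sup.1 hJe
      obtain ⟨n, b, c, hc, rfl⟩ := Groth.ZetaAn.exists_sum_tmul_of_mem_map q.asIdeal hy
      obtain ⟨t, ht, hne⟩ := hcon r n b c hr hc
      refine hne ?_
      have hx' : x = 1 ⊗ₜ r - ∑ k, b k ⊗ₜ c k := eq_sub_of_add_eq hxy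
      rw [← hx']
      exact (PrimeSpectrum.mem_vanishingIdeal _ _).1 hx t ht
    obtain ⟨Q, hQ, hle, hdisj⟩ := Ideal.exists_le_prime_disjoint _ _ hd
    let Q' : Spec (CommRingCat.of (B ⊗[A] R)) := ⟨Q, hQ⟩
    have hQZ : Q' ∈ pre := by
      rw [← hpre.closure_eq]
      exact (PrimeSpectrum.zeroLocus_vanishingIdeal_eq_closure _).le
        (fun x hx => hle (Ideal.mem_sup_left hx))
    refine hq _ hQZ ?_
    rw [hsnd]
    congr 1
    refine PrimeSpectrum.ext (le_antisymm (fun r hr => ?_) fun r hr => ?_)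
    · by_contra hrq
      exact Set.disjoint_left.1 hdisj hr ⟨r, hrq, rfl⟩
    · exact hle (Ideal.mem_sup_right (Ideal.mem_map_of_mem _ hr))
  let T := Option (Fin n)
  let σ : ULift.{u} (Fin (Fintype.card T)) ≃ T := Equiv.ulift.trans (Fintype.equivFin T).symm
  let v : T → R := fun t => t.elim r c
  let P := MvPolynomial (ULift.{u} (Fin (Fintype.card T))) A
  let ψ : P →ₐ[A] R := MvPolynomial.aeval (v ∘ σ)
  let X' : T → P := fun t => MvPolynomial.X (σ.symm t)
  have hψ : ∀ t, ψ (X' t) = v t := fun t =>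
    (MvPolynomial.aeval_X (v ∘ σ) _).trans (congrArg v (σ.apply_symm_apply t))
  let E : pullback s ((yon S).map (overMap π R)) ⟶ pullback s ((yon S).map (overMap π P)) :=
    pullback.lift (pullback.fst _ _) (pullback.snd _ _ ≫ (yon S).map (overHom π ψ))
      (by rw [pullback.condition, Category.assoc, ← Functor.map_comp, overHom_overMap])
  let ρ := Spec.map (CommRingCat.ofHom ψ.toRingHom)
  have hE : ∀ z o, AlgSp.Points.map (pullback.snd s _) z = AlgSp.Points.schemeHomeo (algOver π R) o →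
      AlgSp.Points.map (pullback.snd s _) (AlgSp.Points.map E z) =
        AlgSp.Points.schemeHomeo (algOver π P) (ρ o) := fun z o h => by
    rw [← AlgSp.Points.map_comp, pullback.lift_snd, AlgSp.Points.map_comp, h]
    have := ofPt_comp_yon (overHom π ψ) (𝟙 ((yon S).obj (algOver π P))) o
    rw [Category.comp_id] at this
    exact (AlgSp.Points.map_ofPt _ _ _).trans ((congrArg (AlgSp.Points.ofPt · o) (Category.id_comp _)).trans this)
  let M := AlgSp.Points.map (pullback.snd s ((yon S).map (overMap π P))) ''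
    closure (AlgSp.Points.map E '' Z)
  refine ⟨ρ ⁻¹' (AlgSp.Points.schemeHomeo (algOver π P) ⁻¹' Mᶜ),
    ((H _ _ isClosed_closure).isOpen_compl.preimage
      (AlgSp.Points.schemeHomeo (algOver π P)).continuous).preimage ρ.continuous, ?_,
    fun z hz o ho h => ho ⟨_, subset_closure ⟨z, hz, rfl⟩, hE z o h⟩⟩
  rintro ⟨w, hw, hwq⟩
  have hc' : RepWith @Etale (chart π s B a e P) :=
    repWith_of_isPullback (isPullback_chart π s B a e P) ha
  obtain ⟨u, rfl⟩ := surjective_ofPt_of_repWith
    (repWith_of_isPullback (isPullback_chart π s B a e P) has) w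
  rw [hsnd] at hwq
  have hwq' := (AlgSp.Points.schemeHomeo (algOver π P)).injective hwq
  have hmem : ∀ p : P, includeRight (R := A) (A := B) p ∈ u.asIdeal ↔ ψ p ∈ q.asIdeal :=
    fun p => SetLike.ext_iff.1 (congrArg PrimeSpectrum.asIdeal hwq') p
  let j₀ : B ⊗[A] P := 1 ⊗ₜ X' none - ∑ k, b k ⊗ₜ X' (some k)
  have hj₀ : j₀ ∉ u.asIdeal := by
    intro hj
    refine hr ?_
    have := (hmem (X' none)).1 (by
      have h2 : ∑ k, b k ⊗ₜ[A] X' (some k) ∈ u.asIdeal := by
        refine sum_mem fun k _ => ?_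
        have h3 := u.asIdeal.mul_mem_left (b k ⊗ₜ[A] (1 : P))
          ((hmem (X' (some k))).2 (by rw [hψ]; exact hc k))
        rwa [includeRight_apply, tmul_mul_tmul, mul_one, one_mul] at h3
      have h4 := add_mem hj h2
      rwa [sub_add_cancel] at h4)
    rw [hψ] at this
    exact this
  obtain ⟨_, ⟨u', hu', rfl⟩, z, hz, hzu⟩ := mem_closure_iff.1 hw _
    (isOpenMap_ofPt_of_etale hc' _ (PrimeSpectrum.basicOpen j₀).2) ⟨u, hj₀, rfl⟩
  have hu'' : AlgSp.Points.ofPt (chart π s B a e P) u' =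
      AlgSp.Points.map (chart π s B a e P) (AlgSp.Points.schemeHomeo (algOver π (B ⊗[A] P)) u') :=
    ((AlgSp.Points.map_ofPt _ _ _).trans (congrArg (AlgSp.Points.ofPt · u') (Category.id_comp _))).symm
  obtain ⟨t', ht₁, ht₂⟩ := exists_point_of_isPullback
    (chart_natural π s B a e ψ E (pullback.lift_fst _ _ _) (pullback.lift_snd _ _ _))
    (hu''.symm.trans hzu.symm)
  obtain ⟨t, rfl⟩ := (AlgSp.Points.schemeHomeo (algOver π (B ⊗[A] R))).surjective t'
  have ht : Spec.map (CommRingCat.ofHom (map (AlgHom.id A B) ψ).toRingHom) t = u' := by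
    refine (AlgSp.Points.schemeHomeo (algOver π (B ⊗[A] P))).injective (Eq.trans ?_ ht₁)
    have := ofPt_comp_yon (overHom π (map (AlgHom.id A B) ψ)) (𝟙 ((yon S).obj (algOver π (B ⊗[A] P)))) t
    rw [Category.comp_id] at this
    exact (((AlgSp.Points.map_ofPt _ _ _).trans
      (congrArg (AlgSp.Points.ofPt · t) (Category.id_comp _))).trans this).symm
  have htZ : AlgSp.Points.ofPt (chart π s B a e R) t ∈ Z := by
    have : AlgSp.Points.ofPt (chart π s B a e R) t = z :=
      ((congrArg (AlgSp.Points.ofPt · t) (Category.id_comp _)).symm.trans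
        (AlgSp.Points.map_ofPt _ _ _).symm).trans ht₂
    exact this ▸ hz
  refine hu' ?_
  rw [← ht]
  change map (AlgHom.id A B) ψ j₀ ∈ t.asIdeal
  have : map (AlgHom.id A B) ψ j₀ = 1 ⊗ₜ r - ∑ k, b k ⊗ₜ c k := by simp [j₀, hψ, v]
  rw [this]
  exact hJ t htZ

omit [CommRing A] in
/-- Closedness of a base change passes to base changes along open immersions. -/
theorem isClosedMap_of_openImmersion_baseChange {Q Q' C C' : Sp S} {j : Q' ⟶ Q} {b' : Q' ⟶ C'}
    {b : Q ⟶ C} {h : C' ⟶ C} (sq : IsPullback j b' b h) (hh : RepWith @IsOpenImmersion h)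
    (H : IsClosedMap (AlgSp.Points.map b)) : IsClosedMap (AlgSp.Points.map b') := by
  have hj : RepWith @IsOpenImmersion j := repWith_of_isPullback sq.flip hh
  intro Z hZ
  have ho := isOpenMap_map_of_repWith
    (fun A B k (hk : IsOpenImmersion k) => k.isOpenEmbedding.isOpenMap) hj _ hZ.isOpen_compl
  have hinj := injective_map_of_repWith (fun A B k (hk : IsOpenImmersion k) =>
    k.isOpenEmbedding.injective) hj
  have e : AlgSp.Points.map j ⁻¹' (AlgSp.Points.map j '' Zᶜ)ᶜ = Z := by
    rw [Set.preimage_compl, hinj.preimage_image, compl_compl]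
  rw [← e, ← preimage_image_eq_of_isPullback sq]
  exact (H _ ho.isClosed_compl).preimage (AlgSp.Points.continuous_map h)

end

noncomputable section

variable {S : Scheme.{u}}

theorem isUnivClosedMor_of_affineSpace {X₀ : Sp S} {V : Over S} (hX₀ : IsAlgSpace X₀)
    (s : X₀ ⟶ (yon S).obj V) (hqc : IsQuasiCompactMor s)
    (H : ∀ (n : ℕ) (P : Sp S) (fst : P ⟶ X₀)
      (snd : P ⟶ (yon S).obj (Over.mk ((𝔸(ULift.{u} (Fin n); V.left) ↘ V.left) ≫ V.hom))),
      IsPullback fst snd s ((yon S).map (Over.homMk (𝔸(ULift.{u} (Fin n); V.left) ↘ V.left))) →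
        IsClosedMap (AlgSp.Points.map snd)) : IsUnivClosedMor s := by
  refine isUnivClosedMor_of_affine fun T _ g P fst snd sq Z hZ => ?_
  obtain ⟨γ, rfl⟩ := (yon S).map_surjective g
  rw [← isOpen_compl_iff, ← (AlgSp.Points.schemeHomeo T).isOpen_preimage, isOpen_iff_forall_mem_open]
  intro p hp
  obtain ⟨V₀, hV₀, hpV, -⟩ := exists_isAffineOpen_mem_and_subset (X := V.left) (x := γ.left p)
    (U := ⊤) trivial
  obtain ⟨W, hW, hpW, hWV⟩ := exists_isAffineOpen_mem_and_subset (X := T.left) (x := p)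
    (U := γ.left ⁻¹ᵁ V₀) hpV
  let π : Spec Γ(V.left, V₀) ⟶ S := hV₀.fromSpec ≫ V.hom
  let ι₀ : Over.mk π ⟶ V := Over.homMk hV₀.fromSpec rfl
  let X₁ := pullback s ((yon S).map ι₀)
  let s₁ : X₁ ⟶ (yon S).obj (Over.mk π) := pullback.snd s ((yon S).map ι₀)
  have sq₁ := IsPullback.of_hasPullback s ((yon S).map ι₀)
  have hV₀a : IsAlgSpace ((yon S).obj (Over.mk π)) := IsAlgSpace.yon_obj _
  have hX₁ : IsAlgSpace X₁ := isAlgSpace_of_isPullback sq₁ (IsAlgSpace.yon_obj V).diag hX₀ hV₀a
  have hX₁q : IsQuasiCompactSp X₁ := by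
    refine hqc hV₀a ((isQuasiCompactSp_yon_iff _).2 ?_) ((yon S).map ι₀) (pullback.fst _ _) s₁ sq₁
    show CompactSpace ↥(Spec Γ(V.left, V₀))
    infer_instance
  obtain ⟨U, a₀, hU, ha₀, ha₀s⟩ := exists_affine_chart hX₁ hX₁q
  obtain ⟨c₀, hc₀⟩ := (yon S).map_surjective (a₀ ≫ s₁)
  let φB := Spec.preimage (U.left.isoSpec.inv ≫ c₀.left)
  let : Algebra Γ(V.left, V₀) Γ(U.left, ⊤) := φB.hom.toAlgebra
  have hφB : Spec.map (CommRingCat.ofHom (algebraMap Γ(V.left, V₀) Γ(U.left, ⊤))) =
      U.left.isoSpec.inv ≫ c₀.left := Spec.map_preimage _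
  let eU : algOver π Γ(U.left, ⊤) ≅ U := Over.isoMk U.left.isoSpec.symm (by
    show U.left.isoSpec.inv ≫ U.hom = Spec.map _ ≫ π
    rw [hφB, Category.assoc]
    exact congrArg (U.left.isoSpec.inv ≫ ·) (Over.w c₀).symm)
  let a := (yon S).map eU.hom ≫ a₀
  have e : a ≫ s₁ = (yon S).map (overMap π Γ(U.left, ⊤)) := by
    rw [Category.assoc, ← hc₀, ← Functor.map_comp]
    congr 1
    exact Over.OverMorphism.ext hφB.symm
  have ha : RepWith @Etale a := repWith_comp (repWith_isIso _) ha₀
  have has : RepWith @Surjective a := repWith_comp (repWith_isIso _) ha₀s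
  have H₁ : ∀ n : ℕ, IsClosedMap (AlgSp.Points.map (pullback.snd s₁ ((yon S).map
      (overMap π (MvPolynomial (ULift.{u} (Fin n)) Γ(V.left, V₀)))))) := by
    intro n
    let An : Over S := Over.mk ((𝔸(ULift.{u} (Fin n); V.left) ↘ V.left) ≫ V.hom)
    let pr : An ⟶ V := Over.homMk (𝔸(ULift.{u} (Fin n); V.left) ↘ V.left)
    let h₀ : Spec (CommRingCat.of (MvPolynomial (ULift.{u} (Fin n)) Γ(V.left, V₀))) ⟶
        𝔸(ULift.{u} (Fin n); V.left) :=
      (AffineSpace.SpecIso _ Γ(V.left, V₀)).inv ≫ AffineSpace.map _ hV₀.fromSpec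
    have he : h₀ ≫ (𝔸(ULift.{u} (Fin n); V.left) ↘ V.left) =
        Spec.map (CommRingCat.ofHom (algebraMap Γ(V.left, V₀) _)) ≫ hV₀.fromSpec := by
      rw [Category.assoc, AffineSpace.map_over, ← Category.assoc, AffineSpace.SpecIso_inv_over]
      rfl
    let hn : algOver π (MvPolynomial (ULift.{u} (Fin n)) Γ(V.left, V₀)) ⟶ An :=
      Over.homMk h₀ (by
        show h₀ ≫ (𝔸(ULift.{u} (Fin n); V.left) ↘ V.left) ≫ V.hom = Spec.map _ ≫ π
        rw [reassoc_of% he])
    have hhn : hn ≫ pr = overMap π _ ≫ ι₀ := Over.OverMorphism.ext he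
    have : IsOpenImmersion (AffineSpace.map (ULift.{u} (Fin n)) hV₀.fromSpec) :=
      MorphismProperty.of_isPullback (AffineSpace.isPullback_map hV₀.fromSpec).flip inferInstance
    have hopen : RepWith @IsOpenImmersion ((yon S).map hn) :=
      (repWith_yon_map_iff _ hn).2 (inferInstanceAs (IsOpenImmersion h₀))
    have sQ := IsPullback.of_hasPullback s ((yon S).map pr)
    have sP := (IsPullback.of_hasPullback s₁ ((yon S).map
      (overMap π (MvPolynomial (ULift.{u} (Fin n)) Γ(V.left, V₀))))).paste_horiz sq₁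
    let j := sQ.lift (pullback.fst s₁ _ ≫ pullback.fst s ((yon S).map ι₀))
      (pullback.snd s₁ ((yon S).map (overMap π _)) ≫ (yon S).map hn) (by
        rw [sP.w, Category.assoc, ← Functor.map_comp, ← Functor.map_comp, hhn])
    refine isClosedMap_of_openImmersion_baseChange (j := j) ?_ hopen (H n _ _ _ sQ)
    refine IsPullback.of_right ?_ (sQ.lift_snd _ _ _) sQ
    rw [sQ.lift_fst, ← Functor.map_comp, hhn, Functor.map_comp]
    exact sP
  let : Algebra Γ(V.left, V₀) Γ(T.left, W) := (γ.left.appLE V₀ W hWV).hom.toAlgebra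
  have hr' : Spec.map (CommRingCat.ofHom (algebraMap Γ(V.left, V₀) Γ(T.left, W))) ≫ hV₀.fromSpec =
      hW.fromSpec ≫ γ.left := IsAffineOpen.SpecMap_appLE_fromSpec γ.left hV₀ hW hWV
  let r : algOver π Γ(T.left, W) ⟶ T := Over.homMk hW.fromSpec (by
    show hW.fromSpec ≫ T.hom = Spec.map _ ≫ hV₀.fromSpec ≫ V.hom
    rw [reassoc_of% hr', Over.w γ])
  have hr : r ≫ γ = overMap π Γ(T.left, W) ≫ ι₀ := Over.OverMorphism.ext hr'.symm
  have sR := (IsPullback.of_hasPullback s₁ ((yon S).map (overMap π Γ(T.left, W)))).paste_horiz sq₁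
  let E := sq.lift (pullback.fst s₁ _ ≫ pullback.fst s ((yon S).map ι₀))
    (pullback.snd s₁ ((yon S).map (overMap π _)) ≫ (yon S).map r) (by
      rw [sR.w, Category.assoc, ← Functor.map_comp, ← Functor.map_comp, hr])
  have sE : IsPullback E (pullback.snd s₁ ((yon S).map (overMap π _))) snd ((yon S).map r) := by
    refine IsPullback.of_right ?_ (sq.lift_snd _ _ _) sq
    rw [sq.lift_fst, ← Functor.map_comp, hr, Functor.map_comp]
    exact sR
  have hmap : ∀ o, AlgSp.Points.map ((yon S).map r)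
      (AlgSp.Points.schemeHomeo (algOver π Γ(T.left, W)) o) =
        AlgSp.Points.schemeHomeo T (hW.fromSpec o) := fun o => by
    have := ofPt_comp_yon r (𝟙 ((yon S).obj T)) o
    rw [Category.comp_id] at this
    exact ((AlgSp.Points.map_ofPt _ _ _).trans
      (congrArg (AlgSp.Points.ofPt · o) (Category.id_comp _))).trans this
  obtain ⟨q, rfl⟩ : p ∈ Set.range hW.fromSpec := by rw [hW.range_fromSpec]; exact hpW
  obtain ⟨O, hO, hqO, hdis⟩ := exists_open_disjoint π s₁ Γ(U.left, ⊤) a e ha has H₁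
    Γ(T.left, W) (AlgSp.Points.map E ⁻¹' Z) (hZ.preimage (AlgSp.Points.continuous_map E)) q
    (fun z hz h => hp ⟨_, hz, by
      rw [← AlgSp.Points.map_comp, sE.w, AlgSp.Points.map_comp, h, hmap]⟩)
  refine ⟨hW.fromSpec '' O, ?_, hW.fromSpec.isOpenEmbedding.isOpenMap O hO, ⟨q, hqO, rfl⟩⟩
  rintro _ ⟨o, ho, rfl⟩ ⟨z, hz, hzo⟩
  obtain ⟨z₁, hz₁, hz₂⟩ := exists_point_of_isPullback sE (hzo.trans (hmap o).symm)
  exact hdis z₁ (show AlgSp.Points.map E z₁ ∈ Z from hz₁ ▸ hz) o ho hz₂

theorem univClosed_iff {X Y : AlgSp.Space S} (f : X ⟶ Y) (hqc : IsQuasiCompactMor f.hom) :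
    (IsUnivClosedMor f.hom ↔
      ∀ (Z : AlgSp.Space S) (g : Z ⟶ Y), LocP @LocallyOfFinitePresentation g.hom →
        ∀ (P : Sp S) (fst : P ⟶ X.obj) (snd : P ⟶ Z.obj), IsPullback fst snd f.hom g.hom →
          IsClosedMap (AlgSp.Points.map snd)) ∧
    (IsUnivClosedMor f.hom ↔
      ∃ (V : Over S) (p : (yon S).obj V ⟶ Y.obj), RepWith @Etale p ∧ RepWith @Surjective p ∧
        ∀ (n : ℕ) (P : Sp S) (fst : P ⟶ X.obj)
          (snd : P ⟶ (yon S).obj (Over.mk ((𝔸(ULift.{u} (Fin n); V.left) ↘ V.left) ≫ V.hom))),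
          IsPullback fst snd f.hom
              ((yon S).map (Over.homMk (𝔸(ULift.{u} (Fin n); V.left) ↘ V.left)) ≫ p) →
            IsClosedMap (AlgSp.Points.map snd)) := by
  obtain ⟨V, p, hp, hps⟩ := Y.property.atlas
  have key : (∃ (V : Over S) (p : (yon S).obj V ⟶ Y.obj), RepWith @Etale p ∧ RepWith @Surjective p ∧
        ∀ (n : ℕ) (P : Sp S) (fst : P ⟶ X.obj)
          (snd : P ⟶ (yon S).obj (Over.mk ((𝔸(ULift.{u} (Fin n); V.left) ↘ V.left) ≫ V.hom))),
          IsPullback fst snd f.hom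
              ((yon S).map (Over.homMk (𝔸(ULift.{u} (Fin n); V.left) ↘ V.left)) ≫ p) →
            IsClosedMap (AlgSp.Points.map snd)) → IsUnivClosedMor f.hom := by
    rintro ⟨V, p, hp, hps, H⟩
    have sq := IsPullback.of_hasPullback f.hom p
    refine isUnivClosedMor_of_cover Y.property hp hps sq
      (isUnivClosedMor_of_affineSpace
        (isAlgSpace_of_isPullback sq Y.property.diag X.property (IsAlgSpace.yon_obj V)) _
        (isQuasiCompactMor_of_isPullback sq hqc) fun n P fst snd h => ?_)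
    exact H n P _ snd (h.paste_horiz sq)
  refine ⟨⟨fun h Z g _ P fst snd sq => h Z.property g.hom fst snd sq, fun h => key ?_⟩,
    ⟨fun h => ⟨V, p, hp, hps, fun n P fst snd sq => h (IsAlgSpace.yon_obj _) _ fst snd sq⟩, key⟩⟩
  refine ⟨V, p, hp, hps, fun n P fst snd sq => ?_⟩
  let An : AlgSp.Space S := (ofScheme S).obj
    (Over.mk ((𝔸(ULift.{u} (Fin n); V.left) ↘ V.left) ≫ V.hom))
  refine h An (ObjectProperty.homMk
    ((yon S).map (Over.homMk (𝔸(ULift.{u} (Fin n); V.left) ↘ V.left)) ≫ p)) ?_ P fst snd sq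
  exact locP_comp An.property (IsAlgSpace.yon_obj V) Y.property
    (locP_of_repWith ((repWith_yon_map_iff _ _).2 (inferInstanceAs
      (LocallyOfFinitePresentation (𝔸(ULift.{u} (Fin n); V.left) ↘ V.left)))))
    (locP_of_repWith (repWith_mono (fun A B k (hk : Etale k) =>
      (inferInstance : LocallyOfFinitePresentation k)) hp))

end

end Groth.AlgSp2.UnivClosedTest
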