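import Groth.Agent.OmegaSheaf.UnivThick.Exists
import Groth.Agent.OmegaSheaf.UnivThick.BaseChange
import Groth.Agent.FlatmorThree.FormalLift
import Groth.Agent.AlgStBasic.SmoothDescent
import Groth.Agent.Pi1Etale.EqLocus

/-!
# Universal first order thickenings of étale morphisms of schemes
-/

set_option autoImplicit false
set_option backward.isDefEq.respectTransparency.types false
universe u

open CategoryTheory CategoryTheory.Limits AlgebraicGeometry TopologicalSpace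
open MoreMor (IsFirstOrderThickening)

namespace Groth.AlgSp2.UnivEtale

open Groth.OmegaSheaf.UnivThick Groth.FlatmorThree.FormalLift

variable {Z Z' X O O' R R' U U' : Scheme.{u}}

theorem hasEtaleCharts_of_etale (f : O' ⟶ Z') [Etale f] : HasEtaleCharts f :=
  hasEtaleCharts_of_forall fun _ _ hU hV e => (f.etale_appLE hV hU e).formallyEtale

/-- Étale base change preserves universal first order thickenings. -/
theorem isUniv_etale_baseChange {g : Z ⟶ X} {iU : Z ⟶ Z'} {g' : Z' ⟶ X}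
    (hu : OmegaSh.IsUnivThickening g iU g') {e : O ⟶ Z} {iO : O ⟶ O'} {π : O' ⟶ Z'} [Etale π]
    (sq : IsPullback e iO iU π) : OmegaSh.IsUnivThickening (e ≫ g) iO (π ≫ g') := by
  refine ⟨fot_baseChange sq.flip hu.1, by rw [← reassoc_of% sq.w, hu.2.1],
    fun T T' j b a hj w => ?_⟩
  obtain ⟨c, ⟨hc₁, hc₂⟩, hcu⟩ := hu.2.2 T T' j b (a ≫ e) hj (by rw [w, Category.assoc])
  obtain ⟨l, ⟨hl₁, hl₂⟩, hlu⟩ := (hasEtaleCharts_of_etale π).existsUnique_lift j hj (a ≫ iO) c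
    (by rw [hc₁, Category.assoc, Category.assoc, sq.w])
  refine ⟨l, ⟨hl₁, by rw [← Category.assoc, hl₂, hc₂]⟩, fun x hx => hlu x ⟨hx.1, hcu _ ⟨?_, ?_⟩⟩⟩
  · rw [← Category.assoc, hx.1, Category.assoc, ← sq.w, Category.assoc]
  · rw [Category.assoc]; exact hx.2

/-- An étale square on two surjective closed immersions is cartesian. -/
theorem isPullback_of_etale {e : R ⟶ U} {iU : U ⟶ U'} {iR : R ⟶ R'} {s : R' ⟶ U'}
    (w : iR ≫ s = e ≫ iU) [Etale e] [Etale s] [IsClosedImmersion iU] [IsClosedImmersion iR]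
    [Surjective iR] : IsPullback e iR iU s := by
  let l : R ⟶ pullback iU s := pullback.lift e iR w.symm
  have h1 : l ≫ pullback.fst iU s = e := pullback.lift_fst _ _ _
  have h2 : l ≫ pullback.snd iU s = iR := pullback.lift_snd _ _ _
  have : IsClosedImmersion (l ≫ pullback.snd iU s) := h2 ▸ inferInstance
  have : IsClosedImmersion l := IsClosedImmersion.of_comp l (pullback.snd iU s)
  have : Surjective l := ⟨fun p => by
    obtain ⟨r, hr⟩ := iR.surjective (pullback.snd iU s p)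
    refine ⟨r, (pullback.snd iU s).isClosedEmbedding.injective ?_⟩
    rw [← Scheme.Hom.comp_apply, h2, hr]⟩
  have : Etale (l ≫ pullback.fst iU s) := h1 ▸ inferInstance
  have : Etale l := Etale.of_comp l (pullback.fst iU s)
  have : IsOpenImmersion l := IsOpenImmersion.of_flat_of_mono l
  have : IsIso l := (isIso_iff_isOpenImmersion_and_surjective l).2 ⟨inferInstance, inferInstance⟩
  exact IsPullback.of_iso_pullback ⟨w.symm⟩ (asIso l) h1 h2

/-- An étale map of affine schemes lifts along an affine first order thickening. -/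
theorem exists_lift_affine [IsAffine O] [IsAffine Z] [IsAffine Z'] (e : O ⟶ Z) [Etale e]
    {iU : Z ⟶ Z'} (hi : IsFirstOrderThickening iU) :
    ∃ (Q : Scheme.{u}) (π : Q ⟶ Z') (l : O ⟶ Q), Etale π ∧ IsPullback e l iU π := by
  have := isClosedImmersion_of_fot hi
  have hπs : Function.Surjective iU.appTop.hom :=
    iU.app_surjective ⊤ (isAffineOpen_top Z')
  let : Algebra Γ(Z', ⊤) Γ(Z, ⊤) := iU.appTop.hom.toAlgebra
  let : Algebra Γ(Z, ⊤) Γ(O, ⊤) := e.appTop.hom.toAlgebra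
  let : Algebra Γ(Z', ⊤) Γ(O, ⊤) := (iU.appTop ≫ e.appTop).hom.toAlgebra
  have : IsScalarTower Γ(Z', ⊤) Γ(Z, ⊤) Γ(O, ⊤) := .of_algebraMap_eq' rfl
  have : Algebra.Etale Γ(Z, ⊤) Γ(O, ⊤) := by
    rw [← RingHom.etale_algebraMap]
    exact (HasRingHomProperty.iff_of_isAffine (P := @Etale)).1 ‹Etale e›
  obtain ⟨Q, _, _, p, hQ, hps, hker⟩ :=
    Groth.AlgStBasic.SmoothDescent.exists_etale_lift (P := Γ(Z', ⊤)) (B := Γ(Z, ⊤)) (C := Γ(O, ⊤)) hπs
  let π₀ : Spec (CommRingCat.of Q) ⟶ Spec Γ(Z', ⊤) :=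
    Spec.map (CommRingCat.ofHom (algebraMap Γ(Z', ⊤) Q))
  have : Etale π₀ := (HasRingHomProperty.Spec_iff (P := @Etale)).2
    (RingHom.etale_algebraMap.2 hQ)
  let l₀ : Spec (CommRingCat.of Γ(O, ⊤)) ⟶ Spec (CommRingCat.of Q) :=
    Spec.map (CommRingCat.ofHom p.toRingHom)
  have hl₀ : IsClosedImmersion l₀ := IsClosedImmersion.spec_of_surjective _ hps
  have hl₀s : Surjective l₀ := ⟨fun q => by
    have hnil : RingHom.ker p.toRingHom ≤ nilradical Q := by
      rw [hker, Ideal.map_le_iff_le_comap]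
      intro x hx
      have h0 : x * x = 0 := mul_eq_zero_of_app hi (W := ⊤) hx hx
      rw [Ideal.mem_comap, mem_nilradical]
      exact ⟨2, by rw [pow_two, ← map_mul, h0, map_zero]⟩
    change q ∈ Set.range (PrimeSpectrum.comap p.toRingHom)
    rw [range_comap_of_surjective _ _ hps,
      (PrimeSpectrum.zeroLocus_eq_univ_iff _).2 hnil]
    trivial⟩
  let π : Spec (CommRingCat.of Q) ⟶ Z' := π₀ ≫ Z'.isoSpec.inv
  let l : O ⟶ Spec (CommRingCat.of Q) := O.isoSpec.hom ≫ l₀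
  have hp : CommRingCat.ofHom (algebraMap Γ(Z', ⊤) Q) ≫ CommRingCat.ofHom p.toRingHom =
      iU.appTop ≫ e.appTop := CommRingCat.hom_ext (RingHom.ext p.commutes)
  have w : l ≫ π = e ≫ iU := by
    simp only [l, π, π₀, l₀, Category.assoc]
    rw [← Spec.map_comp_assoc, hp, ← Scheme.Hom.comp_appTop, Scheme.isoSpec_hom_naturality_assoc,
      Iso.hom_inv_id, Category.comp_id]
  exact ⟨_, π, l, inferInstance, isPullback_of_etale w⟩

/-- The induced map between the universal thickenings of an étale morphism is étale. -/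
theorem etale_of_univ {g : U ⟶ X} {iU : U ⟶ U'} {g' : U' ⟶ X}
    (hu : OmegaSh.IsUnivThickening g iU g') {e : R ⟶ U} [Etale e] {iR : R ⟶ R'} {gR : R' ⟶ X}
    (hR : OmegaSh.IsUnivThickening (e ≫ g) iR gR) {s : R' ⟶ U'} (w : iR ≫ s = e ≫ iU)
    (w' : s ≫ g' = gR) : Etale s := by
  have := isClosedImmersion_of_fot hu.1
  have := isClosedImmersion_of_fot hR.1
  suffices H : ∀ p : R', ∃ W : R'.Opens, p ∈ W ∧ Etale (W.ι ≫ s) by
    choose W hW hW' using H
    exact IsZariskiLocalAtSource.of_iSup_eq_top (P := @Etale) W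
      (eq_top_iff.2 fun p _ => Opens.mem_iSup.2 ⟨p, hW p⟩) hW'
  intro p
  obtain ⟨V, hV, hpV, -⟩ := Opens.isBasis_iff_nbhd.mp U'.isBasis_affineOpens
    (Opens.mem_top (s p))
  obtain ⟨W, hW, hpW, hWV⟩ := Opens.isBasis_iff_nbhd.mp R'.isBasis_affineOpens
    (show p ∈ s ⁻¹ᵁ V from hpV)
  refine ⟨W, hpW, ?_⟩
  have : IsAffine (V : Scheme.{u}) := hV
  have : IsAffine (W : Scheme.{u}) := hW
  have : IsAffine (iU ⁻¹ᵁ V : Scheme.{u}) := hV.preimage iU
  have : IsAffine (iR ⁻¹ᵁ W : Scheme.{u}) := hW.preimage iR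
  have hle : iR ⁻¹ᵁ W ≤ e ⁻¹ᵁ (iU ⁻¹ᵁ V) := by
    rw [← Scheme.Hom.comp_preimage, ← w, Scheme.Hom.comp_preimage]
    exact iR.preimage_mono hWV
  let e₀ := e.resLE _ _ hle
  have : Etale e₀ := IsZariskiLocalAtSource.resLE hle ‹Etale e›
  obtain ⟨Q, π, l, hπ, sq⟩ := exists_lift_affine e₀ (fot_morphismRestrict hu.1 V)
  have h1 := isUniv_etale_baseChange (isUniv_restrict hu V) sq
  have h2 := isUniv_restrict hR W
  have hg : e₀ ≫ (iU ⁻¹ᵁ V).ι ≫ g = (iR ⁻¹ᵁ W).ι ≫ e ≫ g :=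
    Scheme.Hom.resLE_comp_ι_assoc _ _ _
  rw [hg] at h1
  obtain ⟨ψ, hψ₁, hψ₂⟩ := exists_iso h1 h2
  have key : Scheme.Opens.ι W ≫ s = ψ.hom ≫ π ≫ Scheme.Opens.ι V := by
    refine (hu.2.2 _ _ (iR ∣_ W) (Scheme.Opens.ι W ≫ gR) ((iR ⁻¹ᵁ W).ι ≫ e) h2.1 ?_).unique ⟨?_, ?_⟩ ⟨?_, ?_⟩
    · rw [h2.2.1, Category.assoc]
    · rw [morphismRestrict_ι_assoc, w, Category.assoc]
    · rw [Category.assoc, w']
    · rw [reassoc_of% hψ₁, ← reassoc_of% sq.w, morphismRestrict_ι, Scheme.Hom.resLE_comp_ι_assoc,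
        Category.assoc]
    · simpa [Category.assoc] using hψ₂
  rw [key]
  infer_instance

end Groth.AlgSp2.UnivEtale
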