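import Groth.Agent.AlgSp2.UnivThickExists
import Groth.Agent.AlgSp2.InfCharts
import Groth.Agent.AlgSpBasic.LocPInst

/-!
# Universal first order thickenings and étale localisation
-/

set_option autoImplicit false
set_option backward.isDefEq.respectTransparency.types false
universe u

open CategoryTheory CategoryTheory.Limits AlgebraicGeometry AlgSp

namespace Groth.AlgSp2.UnivExists

open Groth.AlgSpBasic

noncomputable section

variable {S : Scheme.{u}} {X Z Z' : Sp S}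

/-- Universal first order thickenings are unique up to isomorphism. -/
theorem univ_iso {h : Z ⟶ X} {i : Z ⟶ Z'} {h' : Z' ⟶ X} {Z'' : Sp S} {i₂ : Z ⟶ Z''}
    {h₂ : Z'' ⟶ X} (hZ : IsAlgSpace Z) (hZ' : IsAlgSpace Z') (hZ'' : IsAlgSpace Z'')
    (HU : IsUnivFOThick h i h') (HU₂ : IsUnivFOThick h i₂ h₂) :
    ∃ e : Z'' ≅ Z', i₂ ≫ e.hom = i ∧ e.hom ≫ h' = h₂ := by
  obtain ⟨a, ⟨ha₁, ha₂⟩, -⟩ := HU.2.2 hZ hZ'' i₂ (𝟙 Z) h₂ HU₂.1
    (by rw [Category.id_comp, HU₂.2.1])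
  obtain ⟨b, ⟨hb₁, hb₂⟩, -⟩ := HU₂.2.2 hZ hZ' i (𝟙 Z) h' HU.1 (by rw [Category.id_comp, HU.2.1])
  rw [Category.id_comp] at ha₁ hb₁
  refine ⟨⟨a, b, ?_, ?_⟩, ha₁, ha₂⟩
  · refine (HU₂.2.2 hZ hZ'' i₂ (𝟙 Z) h₂ HU₂.1 (by rw [Category.id_comp, HU₂.2.1])).unique
      ⟨by rw [Category.id_comp, reassoc_of% ha₁, hb₁], by rw [Category.assoc, hb₂, ha₂]⟩
      ⟨by rw [Category.id_comp, Category.comp_id], Category.id_comp _⟩
  · refine (HU.2.2 hZ hZ' i (𝟙 Z) h' HU.1 (by rw [Category.id_comp, HU.2.1])).unique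
      ⟨by rw [Category.id_comp, reassoc_of% hb₁, ha₁], by rw [Category.assoc, ha₂, hb₂]⟩
      ⟨by rw [Category.id_comp, Category.comp_id], Category.id_comp _⟩

/-- Formal unramifiedness passes to étale localisations. -/
theorem unramified_localization {V U : Sp S} (hV : IsAlgSpace V) (hZ : IsAlgSpace Z) {h : Z ⟶ X}
    (hh : IsFormallyUnramifiedMor h) {v : V ⟶ Z} {w : U ⟶ X} (hv : IsEtaleMor v) {ψ : V ⟶ U}
    (c : ψ ≫ w = v ≫ h) : IsFormallyUnramifiedMor ψ := by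
  have := unramified_comp (etale_iff.1 (Inf.etale_of_isEtaleMor hV hZ hv)).2 hh
  rw [← c] at this
  exact unramified_of_comp this

/-- The map of universal thickenings induced by an étale localisation is étale. -/
theorem etale_localization {V U V' : Sp S} (hV : IsAlgSpace V) (hZ : IsAlgSpace Z)
    (hZ' : IsAlgSpace Z') (hX : IsAlgSpace X) (hU : IsAlgSpace U) (hV' : IsAlgSpace V')
    {h : Z ⟶ X} (hh : IsFormallyUnramifiedMor h) {iZ : Z ⟶ Z'} {hZ₁ : Z' ⟶ X}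
    (HZ : IsUnivFOThick h iZ hZ₁) {v : V ⟶ Z} {w : U ⟶ X} (hv : IsEtaleMor v)
    (hw : IsEtaleMor w) {ψ : V ⟶ U} (c : ψ ≫ w = v ≫ h) {iV : V ⟶ V'} {hV₁ : V' ⟶ U}
    (HV : IsUnivFOThick ψ iV hV₁) {e : V' ⟶ Z'} (he₁ : iV ≫ e = v ≫ iZ)
    (he₂ : e ≫ hZ₁ = hV₁ ≫ w) : IsEtaleMor e := by
  have HVX : IsUnivFOThick (v ≫ h) iV (hV₁ ≫ w) :=
    c ▸ isUnivFOThick_comp_etale HV (Inf.etale_of_isEtaleMor hU hX hw)
  obtain ⟨W, w₀, hw₀, hw₀s⟩ := hX.atlas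
  obtain ⟨U₀, φ, g, hφ, hφs, comm⟩ := exists_chart_over hZ hX.diag h w₀ hw₀ hw₀s
  obtain ⟨V₁, a, v₁, ha, has, commv⟩ := exists_chart_over hV hZ.diag v φ hφ hφs
  have : Etale v₁.left := etale_of_repWith_comp v₁ hφ (commv ▸ hv a ha)
  have hg : FormallyUnramified g.left := Inf.unramified_chart hφ hw₀ comm hh
  obtain ⟨U₀', iU, g', Z₁, i, h', π, hu, hZ₁', HZ₁, hπ, hπs, hπi, hπh⟩ :=
    exists_isUnivFOThick_of_chart hZ h hh hφ hφs hw₀ comm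
  have comm₁ : a ≫ v ≫ h = (yon S).map (v₁ ≫ g) ≫ w₀ := by
    rw [reassoc_of% commv, comm, Functor.map_comp, Category.assoc]
  have hvh : IsFormallyUnramifiedMor (v ≫ h) :=
    unramified_comp (etale_iff.1 (Inf.etale_of_isEtaleMor hV hZ hv)).2 hh
  obtain ⟨V₁', iV₁, g₁', V₂, i₂, h₂, π₁, hu₁, hV₂, HV₂, hπ₁, hπ₁s, hπi₁, hπh₁⟩ :=
    exists_isUnivFOThick_of_chart hV (v ≫ h) hvh ha has hw₀ comm₁
  obtain ⟨ε, hε₁, hε₂⟩ := univ_iso hZ hZ' hZ₁' HZ HZ₁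
  obtain ⟨δ, hδ₁, hδ₂⟩ := univ_iso hV hV' hV₂ HVX HV₂
  obtain ⟨s₀, ⟨hs₁, hs₂⟩, -⟩ := hu.2.2 _ _ iV₁.left g₁'.left v₁.left hu₁.1
    (by rw [hu₁.2.1]; rfl)
  have hs : Etale s₀ := Groth.AlgSp2.UnivEtale.etale_of_univ hu hu₁ hs₁ hs₂
  let s₁ : V₁' ⟶ U₀' := Over.homMk s₀ (by
    rw [← Over.w g', reassoc_of% hs₂]; exact Over.w g₁')
  have hs₁' : iV₁ ≫ s₁ = v₁ ≫ iU := Over.OverMorphism.ext hs₁
  have hs₂' : s₁ ≫ g' = g₁' := Over.OverMorphism.ext hs₂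
  have key : (π₁ ≫ δ.hom) ≫ e = (yon S).map s₁ ≫ π ≫ ε.hom := by
    refine univ_ext HZ (isFOThickMor_yon hu₁.1) (a ≫ v) ?_ ?_ ?_
    · rw [Category.assoc, reassoc_of% hπi₁, reassoc_of% hδ₁, he₁, Category.assoc]
    · rw [← Functor.map_comp_assoc, hs₁', Functor.map_comp_assoc, reassoc_of% hπi, hε₁,
        ← reassoc_of% commv, Category.assoc]
    · rw [Category.assoc, Category.assoc, Category.assoc, Category.assoc, he₂, hε₂, hπh,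
        ← (yon S).map_comp_assoc s₁, hs₂', hδ₂, hπh₁]
  refine isEtaleMor_of_locP hZ' (locP_of_chart hV'.diag hZ'.diag (a := π₁ ≫ δ.hom)
    (b := π ≫ ε.hom) (h := s₁) ?_ ?_ ?_ key hs)
  · exact repWith_comp hπ₁ (repWith_isIso δ.hom)
  · exact repWith_comp hπ₁s (repWith_isIso δ.hom)
  · exact repWith_comp hπ (repWith_isIso ε.hom)

end

end Groth.AlgSp2.UnivExists
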