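import Groth.Agent.AlgSp2.FiniteMor
import Groth.Agent.AlgSp2.InfCharts
import Groth.Agent.AlgSp2.FpqcRep
import Groth.Agent.AlgSpBasic.SepLQFScheme
import Groth.Agent.AlgSpBasic.Unramified
import Groth.Agent.AlgSpBasic.SepLocal
import Groth.Agent.AlgSpBasic.Compact
import Mathlib.AlgebraicGeometry.ZariskisMainTheorem

/-!
# Unramified monomorphisms and closed immersions of algebraic spaces
-/

set_option autoImplicit false
set_option backward.isDefEq.respectTransparency.types false
universe u

open CategoryTheory CategoryTheory.Limits AlgebraicGeometry AlgSp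

namespace Groth.AlgSp2

open Groth.AlgSpBasic

noncomputable section

variable {S : Scheme.{u}} {X Y : Sp S} {f : X ⟶ Y}

theorem mono_of_unramified_univInjective (hX : IsAlgSpace X) (hY : IsAlgSpace Y)
    (hu : LocP (@LocallyOfFiniteType ⊓ @FormallyUnramified) f) (hi : IsUnivInjectiveMor f) :
    Mono f := by
  have ho := repWith_diagonal_of_unramified hX hY hu
  have hs := repWith_surjective_of_points ho.rep (surjective_diagonal_of_univInjective hX hi)
  rw [← pullback.isIso_diagonal_iff]
  exact isIso_of_repWith (repWith_mono (fun A B k (hk : (@IsOpenImmersion ⊓ @Surjective :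
      MorphismProperty Scheme.{u}) k) => (isIso_iff_isOpenImmersion_and_surjective k).2 ⟨hk.1, hk.2⟩)
    (repWith_inf_iff.2 ⟨ho, hs⟩))

theorem isUnivInjectiveMor_of_mono [Mono f] : IsUnivInjectiveMor f := by
  have : IsIso (pullback.diagonal f) := (pullback.isIso_diagonal_iff f).2 ‹_›
  exact isUnivInjectiveMor_of_diagonal fun z => ⟨Points.map (inv (pullback.diagonal f)) z, by
    rw [← Points.map_comp, IsIso.inv_hom_id, Points.map_id]⟩

theorem unramified_of_mono [Mono f] (hl : LocP @LocallyOfFiniteType f) :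
    LocP (@LocallyOfFiniteType ⊓ @FormallyUnramified) f := by
  have : IsIso (pullback.diagonal f) := (pullback.isIso_diagonal_iff f).2 ‹_›
  exact locP_unramified_of_diagonal hl (repWith_isIso _)

/-- Locally of finite type monomorphisms are representable, separated and locally quasi-finite. -/
theorem representable_of_mono_lft (hX : IsAlgSpace X) (hY : IsAlgSpace Y) [Mono f]
    (hl : LocP @LocallyOfFiniteType f) :
    Representable f ∧ IsSeparatedMor f ∧ LocP (@LocallyQuasiFinite ⊓ @LocallyOfFiniteType) f := by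
  have hs : IsSeparatedMor f :=
    have : IsIso (pullback.diagonal f) := (pullback.isIso_diagonal_iff f).2 ‹_›
    repWith_isIso _
  have hq : LocP (@LocallyQuasiFinite ⊓ @LocallyOfFiniteType) f := by
    intro U V a b k ha hb comm
    obtain ⟨_, _⟩ := unramified_of_mono hl a b k ha hb comm
    exact ⟨Groth.AlgSpBasic.locallyQuasiFinite_of_formallyUnramified _, inferInstance⟩
  exact ⟨representable_of_separated_lqf hX hY hq hs, hs, hq⟩

theorem unramified_mono_iff (hX : IsAlgSpace X) (hY : IsAlgSpace Y) :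
    ((LocP (@LocallyOfFiniteType ⊓ @FormallyUnramified) f ∧ Mono f) ↔
      (LocP (@LocallyOfFiniteType ⊓ @FormallyUnramified) f ∧ IsUnivInjectiveMor f)) ∧
    ((LocP (@LocallyOfFiniteType ⊓ @FormallyUnramified) f ∧ Mono f) ↔
      (LocP @LocallyOfFiniteType f ∧ Mono f)) ∧
    ((LocP (@LocallyOfFiniteType ⊓ @FormallyUnramified) f ∧ Mono f) ↔
      (IsUnivInjectiveMor f ∧ LocP @LocallyOfFiniteType f ∧ IsFormallyUnramifiedMor f)) := by
  rw [Inf.unramified_iff_locP hX hY]
  refine ⟨⟨fun ⟨h, _⟩ => ⟨h, isUnivInjectiveMor_of_mono⟩,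
      fun ⟨h, h'⟩ => ⟨h, mono_of_unramified_univInjective hX hY h h'⟩⟩,
    ⟨fun ⟨h, h'⟩ => ⟨locP_mono inf_le_left h, h'⟩, fun ⟨h, _⟩ => ⟨unramified_of_mono h, ‹_›⟩⟩,
    ⟨fun ⟨h, _⟩ => ⟨isUnivInjectiveMor_of_mono, locP_mono inf_le_left h,
      locP_mono inf_le_right h⟩, fun ⟨h₁, h₂, h₃⟩ => ?_⟩⟩
  have h : LocP (@LocallyOfFiniteType ⊓ @FormallyUnramified) f :=
    fun U V a b k ha hb comm => ⟨h₂ a b k ha hb comm, h₃ a b k ha hb comm⟩
  exact ⟨h, mono_of_unramified_univInjective hX hY h h₁⟩

/-- Closed immersions are the universally closed monomorphisms locally of finite type. -/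
theorem repWith_isClosedImmersion_iff (hX : IsAlgSpace X) (hY : IsAlgSpace Y) :
    RepWith @IsClosedImmersion f ↔ IsUnivClosedMor f ∧ LocP @LocallyOfFiniteType f ∧ Mono f := by
  refine ⟨fun h => ?_, fun ⟨hu, hl, _⟩ => ?_⟩
  · exact ⟨(repWith_universallyClosed_iff h.rep).1
      (repWith_mono (Q := @UniversallyClosed) (fun A B k (_ : IsClosedImmersion k) => inferInstance) h),
      locP_of_repWith (repWith_mono (Q := @LocallyOfFiniteType) (fun A B k (_ : IsClosedImmersion k) => inferInstance) h),
      monomorphisms_repWith_mono (repWith_mono (fun A B k (_ : IsClosedImmersion k) =>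
        (inferInstance : Mono k)) h)⟩
  · obtain ⟨hr, -, -⟩ := representable_of_mono_lft hX hY hl
    refine repWith_mono (fun A B k (hk : (@UniversallyClosed ⊓ MonoLFT : MorphismProperty
        Scheme.{u}) k) => ?_) (repWith_inf_iff.2 ⟨(repWith_universallyClosed_iff hr).2 hu,
          repWith_inf_iff.2 ⟨repWith_monomorphisms_of_mono hr, repWith_of_locP hY hr hl⟩⟩)
    obtain ⟨h1, h2, h3⟩ := hk
    have : UniversallyClosed k := h1
    have : Mono k := h2
    have : LocallyOfFiniteType k := h3
    exact (IsClosedImmersion.iff_isProper_and_mono k).2 ⟨IsProper.mk, ‹_›⟩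

end

end Groth.AlgSp2
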