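import Groth.Agent.AlgSp2.WhereRows
import Groth.Agent.AlgSpCartier.LciLocus

/-!
# The locus of the base over which a morphism is a local complete intersection
-/

set_option autoImplicit false
set_option backward.isDefEq.respectTransparency.types false
set_option linter.style.haveILetI false
universe u

open CategoryTheory CategoryTheory.Limits AlgebraicGeometry AlgSp

namespace Groth.AlgSp2.Where

open Groth.AlgSpBasic Groth.AlgSpCartier.LciLocus

noncomputable section

variable {S : Scheme.{u}}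

theorem isOpen_setOf_locPNear {A B : Sp S} (P : MorphismProperty Scheme.{u}) (f : A ⟶ B) :
    IsOpen {x | LocPNear P f x} := by
  rw [isOpen_iff_forall_mem_open]
  rintro x ⟨W, j, hj, hx, hP⟩
  exact ⟨Set.range (Points.map j), fun y hy => ⟨W, j, hj, hy, hP⟩,
    (isOpenMap_map_of_repWith (fun _ _ k (hk : IsOpenImmersion k) => k.isOpenEmbedding.isOpenMap) hj).isOpen_range,
    hx⟩

theorem isLCIMor_iff_forall {A B : Sp S} (hA : IsAlgSpace A) (hB : IsAlgSpace B) (f : A ⟶ B) :
    IsLCIMor f ↔ ∀ x, LocPNear lci f x := by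
  constructor
  · intro h x
    refine ⟨A, 𝟙 A, repWith_isIso _, ⟨x, Points.map_id _⟩, ?_⟩
    rw [Category.id_comp]
    exact h
  · intro h U V a b k ha hb comm
    exact (Groth.LciSp.lci_iff _).2 (morLCI_of_nearPt _ fun u =>
      (locPNear_iff_of_chart hA hB ha hb comm u).1 (h _))

variable {X Y Z : AlgSp.Space S} {f : X ⟶ Y} {p : X ⟶ Z} {q : Y ⟶ Z}

theorem cutOut_lci (hc : f ≫ q = p) (hp1 : LocP @Flat p.hom) (hp2 : LocP @LocallyOfFinitePresentation p.hom)
    (hp3 : IsClosedMor p.hom) (hq1 : LocP @Flat q.hom) (hq2 : LocP @LocallyOfFinitePresentation q.hom) :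
    CutOut (BC f q fun _ _ h => IsLCIMor h.hom) := by
  have e : p.hom = f.hom ≫ q.hom := congr(($hc.symm).hom)
  rw [e] at hp1 hp2
  refine ⟨Points.map p.hom '' {x | LocPNear lci f.hom x}ᶜ,
    hp3 _ (isOpen_setOf_locPNear lci f.hom).isClosed_compl, fun Z' g => ?_⟩
  have key : ∀ {Y' X' : AlgSp.Space S} {gY : Y' ⟶ Y} {q' : Y' ⟶ Z'} {gX : X' ⟶ X} {f' : X' ⟶ Y'},
      IsPullback gY.hom q'.hom q.hom g.hom → IsPullback gX.hom f'.hom f.hom gY.hom →
      (IsLCIMor f'.hom ↔ ∀ x', Points.map gX.hom x' ∈ {x | LocPNear lci f.hom x}) := by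
    intro Y' X' gY q' gX f' sY sX
    rw [isLCIMor_iff_forall X'.property Y'.property]
    exact forall_congr' fun x' => locPNear_baseChange X.property Y.property Z.property X'.property Y'.property
      Z'.property hp1 hp2 hq1 hq2 sY sX x'
  refine ⟨fun h => ?_, fun h Y' gY q' sY X' gX f' sX => ?_⟩
  · obtain ⟨Y', gY, q', X', gX, f', sY, sX⟩ := exists_baseChange f q g
    exact (forall_mem_iff (outer hc sY sX) _).1 ((key sY sX).1 (h Y' gY q' sY X' gX f' sX))
  · exact (key sY sX).2 ((forall_mem_iff (outer hc sY sX) _).2 h)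

end

end Groth.AlgSp2.Where
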