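import Groth.Agent.AlgSp2.UnramLocus
import Groth.Agent.AlgSp2.UnramMono
import Groth.Agent.AlgSp2.CancelSep
import Groth.Agent.AlgSp2.FlatFibres
import Groth.Agent.AlgSpBasic.OpenSub
import Groth.Agent.SpectralTopology.FpCancel

/-!
# Loci of the base over which a morphism is unramified, flat, a closed immersion, an isomorphism
-/

set_option autoImplicit false
set_option backward.isDefEq.respectTransparency.types false
set_option linter.unusedVariables false
universe u

open CategoryTheory CategoryTheory.Limits AlgebraicGeometry AlgSp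

namespace Groth.AlgSp2.Where

open Groth.AlgSpBasic

noncomputable section

variable {S : Scheme.{u}} {X Y Z : AlgSp.Space S} {f : X ⟶ Y} {p : X ⟶ Z} {q : Y ⟶ Z}

/-- A property of morphisms `g : Z' ⟶ Z` is cut out by a closed set of `Z`. -/
def CutOut (Cond : ∀ ⦃Z' : AlgSp.Space S⦄, (Z' ⟶ Z) → Prop) : Prop :=
  ∃ C : Set (Points Z.obj), IsClosed C ∧
    ∀ ⦃Z' : AlgSp.Space S⦄ (g : Z' ⟶ Z), Cond g ↔ ∀ z, Points.map g.hom z ∉ C

/-- The base change of `f` along `g` has the property `P`. -/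
def BC (f : X ⟶ Y) (q : Y ⟶ Z) (P : ∀ ⦃A B : AlgSp.Space S⦄, (A ⟶ B) → Prop)
    ⦃Z' : AlgSp.Space S⦄ (g : Z' ⟶ Z) : Prop :=
  ∀ (Y' : AlgSp.Space S) (gY : Y' ⟶ Y) (q' : Y' ⟶ Z'),
    IsPullback gY.hom q'.hom q.hom g.hom →
    ∀ (X' : AlgSp.Space S) (gX : X' ⟶ X) (f' : X' ⟶ Y'),
      IsPullback gX.hom f'.hom f.hom gY.hom → P f'

theorem exists_open_of_cutOut {Cond : ∀ ⦃Z' : AlgSp.Space S⦄, (Z' ⟶ Z) → Prop} (h : CutOut Cond) :
    ∃ (W : AlgSp.Space S) (w : W ⟶ Z), RepWith @IsOpenImmersion w.hom ∧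
      ∀ (Z' : AlgSp.Space S) (g : Z' ⟶ Z), (∃ k : Z' ⟶ W, k ≫ w = g) ↔ Cond g := by
  obtain ⟨C, hC, hCond⟩ := h
  let W : AlgSp.Space S := ⟨openSub Z.obj Cᶜ, isAlgSpace_openSub Z.property hC.isOpen_compl⟩
  let w : W ⟶ Z := ObjectProperty.homMk (openSubι Z.obj Cᶜ)
  have hw : RepWith @IsOpenImmersion w.hom := repWith_openSubι hC.isOpen_compl
  refine ⟨W, w, hw, fun Z' g => ?_⟩
  rw [hCond g]
  constructor
  · rintro ⟨k, rfl⟩ z
    rw [show (k ≫ w).hom = k.hom ≫ w.hom from rfl, Points.map_comp]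
    have h' : Points.map w.hom (Points.map k.hom z) ∈
        Set.range (Points.map (openSubι Z.obj Cᶜ)) := ⟨_, rfl⟩
    rw [range_map_openSubι] at h'
    exact h' 
  · intro hg
    have : Mono w.hom := mono_of_repWith (fun A B k (hk : IsOpenImmersion k) => inferInstance) hw
    obtain ⟨k, hk⟩ := exists_lift_of_range_openImmersion Z'.property hw g.hom (by
      rintro _ ⟨z, rfl⟩
      exact range_map_openSubι.ge (hg z))
    exact ⟨ObjectProperty.homMk k, by ext : 1; exact hk⟩

theorem CutOut.inter {C₁ C₂ : ∀ ⦃Z' : AlgSp.Space S⦄, (Z' ⟶ Z) → Prop} (h₁ : CutOut C₁)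
    (h₂ : CutOut C₂) : CutOut fun Z' g => C₁ g ∧ C₂ g := by
  obtain ⟨A, hA, hA'⟩ := h₁
  obtain ⟨B, hB, hB'⟩ := h₂
  refine ⟨A ∪ B, hA.union hB, fun Z' g => ?_⟩
  simp only [hA' g, hB' g, Set.mem_union, not_or, forall_and]

theorem CutOut.congr {C₁ C₂ : ∀ ⦃Z' : AlgSp.Space S⦄, (Z' ⟶ Z) → Prop} (h₁ : CutOut C₁)
    (h : ∀ ⦃Z' : AlgSp.Space S⦄ (g : Z' ⟶ Z), C₂ g ↔ C₁ g) : CutOut C₂ := by
  obtain ⟨A, hA, hA'⟩ := h₁
  exact ⟨A, hA, fun Z' g => (h g).trans (hA' g)⟩

theorem exists_baseChange (f : X ⟶ Y) (q : Y ⟶ Z) {Z' : AlgSp.Space S} (g : Z' ⟶ Z) :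
    ∃ (Y' : AlgSp.Space S) (gY : Y' ⟶ Y) (q' : Y' ⟶ Z') (X' : AlgSp.Space S) (gX : X' ⟶ X)
      (f' : X' ⟶ Y'), IsPullback gY.hom q'.hom q.hom g.hom ∧
        IsPullback gX.hom f'.hom f.hom gY.hom := by
  let Y' : AlgSp.Space S := ⟨pullback q.hom g.hom, isAlgSpace_pullback Y Z' Z q.hom g.hom⟩
  let gY : Y' ⟶ Y := ObjectProperty.homMk (pullback.fst q.hom g.hom)
  let X' : AlgSp.Space S := ⟨pullback f.hom gY.hom, isAlgSpace_pullback X Y' Y f.hom gY.hom⟩
  exact ⟨Y', gY, ObjectProperty.homMk (pullback.snd q.hom g.hom), X',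
    ObjectProperty.homMk (pullback.fst f.hom gY.hom), ObjectProperty.homMk (pullback.snd f.hom gY.hom),
    IsPullback.of_hasPullback q.hom g.hom, IsPullback.of_hasPullback f.hom gY.hom⟩

variable {Z' Y' X' : AlgSp.Space S} {g : Z' ⟶ Z} {gY : Y' ⟶ Y} {q' : Y' ⟶ Z'} {gX : X' ⟶ X}
  {f' : X' ⟶ Y'}

theorem outer (hc : f ≫ q = p) (sY : IsPullback gY.hom q'.hom q.hom g.hom)
    (sX : IsPullback gX.hom f'.hom f.hom gY.hom) :
    IsPullback gX.hom (f'.hom ≫ q'.hom) p.hom g.hom := by
  rw [show p.hom = f.hom ≫ q.hom from congr(($hc.symm).hom)]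
  exact sX.paste_vert sY

/-- Points of the base change lie in `G` iff no point outside `G` lies over the image of `g`. -/
theorem forall_mem_iff {A A' B B' : Sp S} {a : A' ⟶ A} {b : A' ⟶ B'} {p : A ⟶ B} {g : B' ⟶ B}
    (sq : IsPullback a b p g) (G : Set (Points A)) :
    (∀ x', Points.map a x' ∈ G) ↔ ∀ z, Points.map g z ∉ Points.map p '' Gᶜ := by
  constructor
  · rintro h z ⟨x, hx, e⟩
    obtain ⟨x', hx', -⟩ := exists_point_of_isPullback sq e
    exact hx (hx' ▸ h x')
  · intro h x'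
    by_contra hx
    exact h (Points.map b x') ⟨_, hx, by rw [← Points.map_comp, ← Points.map_comp, sq.w]⟩

/-! ### Unramified -/

theorem lft_of_lft_comp (hc : f ≫ q = p) (hp : LocP @LocallyOfFiniteType p.hom) :
    LocP @LocallyOfFiniteType f.hom := by
  rw [show p.hom = f.hom ≫ q.hom from congr(($hc.symm).hom)] at hp
  exact locP_of_comp_of_cancel (fun _ _ _ a b (h : LocallyOfFiniteType (a ≫ b)) =>
    locallyOfFiniteType_of_comp a b) X.property Y.property Z.property hp

theorem cutOut_unramified (hc : f ≫ q = p) (hp1 : LocP @LocallyOfFiniteType p.hom)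
    (hp2 : IsClosedMor p.hom) :
    CutOut (BC f q fun _ _ h => LocP
      (@LocallyOfFiniteType ⊓ @FormallyUnramified : MorphismProperty Scheme.{u}) h.hom) := by
  have hf := lft_of_lft_comp hc hp1
  refine ⟨Points.map p.hom '' {x | UnramAt f.hom x}ᶜ,
    hp2 _ (isOpen_unramAt X.property Y.property f.hom).isClosed_compl, fun Z' g => ⟨fun h => ?_, fun h => ?_⟩⟩
  · obtain ⟨Y', gY, q', X', gX, f', sY, sX⟩ := exists_baseChange f q g
    refine (forall_mem_iff (outer hc sY sX) _).1 fun x' => ?_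
    exact (unramAt_baseChange_iff X.property Y.property X'.property Y'.property hf sX x').1
      ((locP_unramified_iff X'.property Y'.property _).1 (h Y' gY q' sY X' gX f' sX) x')
  · intro Y' gY q' sY X' gX f' sX
    refine (locP_unramified_iff X'.property Y'.property _).2 fun x' => ?_
    exact (unramAt_baseChange_iff X.property Y.property X'.property Y'.property hf sX x').2
      ((forall_mem_iff (outer hc sY sX) _).2 h x')

/-! ### Unramified and universally injective -/

theorem repWith_pullback_map_self {P : MorphismProperty Scheme.{u}} [P.IsStableUnderBaseChange]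
    [P.IsStableUnderComposition] {U X Y : Sp S} (f : X ⟶ Y) {j : U ⟶ X} (hj : RepWith P j) :
    RepWith P (pullback.map (j ≫ f) (j ≫ f) f f j j (𝟙 _) (by simp) (by simp)) := by
  let n₁ : pullback (j ≫ f) f ⟶ pullback f f :=
    pullback.map _ _ _ _ j (𝟙 _) (𝟙 _) (by simp) (by simp)
  let n₂ : pullback (j ≫ f) (j ≫ f) ⟶ pullback (j ≫ f) f :=
    pullback.map _ _ _ _ (𝟙 _) j (𝟙 _) (by simp) (by simp)
  have e₁ : n₁ ≫ pullback.fst f f = pullback.fst (j ≫ f) f ≫ j := pullback.lift_fst _ _ _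
  have e₂ : n₁ ≫ pullback.snd f f = pullback.snd (j ≫ f) f :=
    (pullback.lift_snd _ _ _).trans (Category.comp_id _)
  have e₃ : n₂ ≫ pullback.fst (j ≫ f) f = pullback.fst (j ≫ f) (j ≫ f) :=
    (pullback.lift_fst _ _ _).trans (Category.comp_id _)
  have e₄ : n₂ ≫ pullback.snd (j ≫ f) f = pullback.snd (j ≫ f) (j ≫ f) ≫ j :=
    pullback.lift_snd _ _ _
  have h₁ : IsPullback (pullback.fst (j ≫ f) f) n₁ j (pullback.fst f f) :=
    IsPullback.of_bot (by rw [e₂]; exact IsPullback.of_hasPullback (j ≫ f) f) e₁.symm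
      (IsPullback.of_hasPullback f f)
  have h₂ : IsPullback (pullback.snd (j ≫ f) (j ≫ f)) n₂ j (pullback.snd (j ≫ f) f) :=
    IsPullback.of_bot (by rw [e₃]; exact (IsPullback.of_hasPullback (j ≫ f) (j ≫ f)).flip)
      e₄.symm (IsPullback.of_hasPullback (j ≫ f) f).flip
  rw [show pullback.map (j ≫ f) (j ≫ f) f f j j (𝟙 _) (by simp) (by simp) = n₂ ≫ n₁ by
    apply pullback.hom_ext
    · rw [pullback.map, pullback.lift_fst, Category.assoc, e₁, ← Category.assoc, e₃]
    · rw [pullback.map, pullback.lift_snd, Category.assoc, e₂, e₄]]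
  exact repWith_comp (repWith_of_isPullback h₂ hj) (repWith_of_isPullback h₁ hj)

theorem exists_diagonal_image_isOpen (f : X ⟶ Y) :
    IsOpen (Points.map (pullback.diagonal f.hom) '' {x | UnramAt f.hom x}) := by
  obtain ⟨U, j, hj, hu, hr⟩ := Groth.AlgSp3.exists_openSub_locP
    (@LocallyOfFiniteType ⊓ @FormallyUnramified : MorphismProperty Scheme.{u}) f
  let m : pullback (j.hom ≫ f.hom) (j.hom ≫ f.hom) ⟶ pullback f.hom f.hom :=
    pullback.map _ _ _ _ j.hom j.hom (𝟙 _) (by simp) (by simp)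
  have hm : RepWith @IsOpenImmersion m := by
    exact repWith_pullback_map_self f.hom hj
  have hd : RepWith @IsOpenImmersion (pullback.diagonal (j.hom ≫ f.hom) ≫ m) :=
    repWith_comp (repWith_diagonal_of_unramified U.property Y.property hu) hm
  have he : pullback.diagonal (j.hom ≫ f.hom) ≫ m = j.hom ≫ pullback.diagonal f.hom := by
    apply pullback.hom_ext <;>
      simp [m, pullback.map, pullback.lift_fst, pullback.lift_snd]
  rw [he] at hd
  have : Points.map (pullback.diagonal f.hom) '' {x | UnramAt f.hom x} =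
      Points.map (j.hom ≫ pullback.diagonal f.hom) '' Set.univ := by
    rw [Set.image_univ]
    ext ξ
    constructor
    · rintro ⟨x, hx, rfl⟩
      obtain ⟨x₀, rfl⟩ := hr.ge hx
      exact ⟨x₀, Points.map_comp _ _ _⟩
    · rintro ⟨x₀, rfl⟩
      exact ⟨_, hr.le ⟨x₀, rfl⟩, (Points.map_comp _ _ _).symm⟩
  rw [this]
  exact isOpenMap_map_of_repWith (fun A B k (hk : IsOpenImmersion k) => k.isOpenEmbedding.isOpenMap)
    hd _ isOpen_univ

theorem cutOut_unramified_univInjective {XX : AlgSp.Space S} {pr0 pr1 : XX ⟶ X}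
    (hc : f ≫ q = p) (hXX : IsPullback pr0.hom pr1.hom f.hom f.hom)
    (hp1 : LocP @LocallyOfFiniteType p.hom) (hp2 : IsClosedMor p.hom)
    (hp3 : IsClosedMor (pr1 ≫ p).hom) :
    CutOut (BC f q fun _ _ h => LocP
      (@LocallyOfFiniteType ⊓ @FormallyUnramified : MorphismProperty Scheme.{u}) h.hom ∧
        IsUnivInjectiveMor h.hom) := by
  have hf := lft_of_lft_comp hc hp1
  obtain ⟨C₁, hC₁, h₁⟩ := cutOut_unramified hc hp1 hp2
  let e := hXX.isoPullback
  let D : Set (Points (pullback f.hom f.hom)) :=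
    Points.map (pullback.diagonal f.hom) '' {x | UnramAt f.hom x}
  let C₂ : Set (Points Z.obj) :=
    Points.map (pullback.snd f.hom f.hom ≫ p.hom) '' Dᶜ
  have hC₂ : IsClosed C₂ := by
    have : C₂ = Points.map (pr1 ≫ p).hom '' (Points.map e.hom ⁻¹' Dᶜ) := by
      rw [show (pr1 ≫ p).hom = e.hom ≫ pullback.snd f.hom f.hom ≫ p.hom by
        rw [← Category.assoc, hXX.isoPullback_hom_snd]; rfl]
      ext z
      constructor
      · rintro ⟨ξ, hξ, rfl⟩
        have he : Points.map e.hom (Points.map e.inv ξ) = ξ := by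
          rw [← Points.map_comp, e.inv_hom_id, Points.map_id]
        exact ⟨Points.map e.inv ξ, by rwa [Set.mem_preimage, he], by rw [Points.map_comp e.hom, he]⟩
      · rintro ⟨w, hw, rfl⟩
        exact ⟨_, hw, (Points.map_comp _ _ _).symm⟩
    rw [this]
    exact hp3 _ ((exists_diagonal_image_isOpen f).isClosed_compl.preimage (Points.continuous_map _))
  refine ⟨C₁ ∪ C₂, hC₁.union hC₂, fun Z' g => ?_⟩
  -- the self product of the base change
  have key : ∀ {Y' X' : AlgSp.Space S} {gY : Y' ⟶ Y} {q' : Y' ⟶ Z'} {gX : X' ⟶ X} {f' : X' ⟶ Y'}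
      (sY : IsPullback gY.hom q'.hom q.hom g.hom) (sX : IsPullback gX.hom f'.hom f.hom gY.hom),
      IsPullback (pullback.map f'.hom f'.hom f.hom f.hom gX.hom gX.hom gY.hom sX.w.symm sX.w.symm)
        (pullback.snd f'.hom f'.hom ≫ f'.hom ≫ q'.hom) (pullback.snd f.hom f.hom ≫ p.hom) g.hom := by
    intro Y' X' gY q' gX f' sY sX
    refine IsPullback.paste_vert ?_ (outer hc sY sX)
    refine IsPullback.of_right ?_ (by rw [pullback.map, pullback.lift_snd])
      (IsPullback.of_hasPullback f.hom f.hom)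
    rw [pullback.map, pullback.lift_fst, sX.w]
    exact (IsPullback.of_hasPullback f'.hom f'.hom).paste_horiz sX
  simp only [Set.mem_union, not_or, forall_and, ← h₁ g]
  constructor
  · intro h
    refine ⟨fun Y' gY q' sY X' gX f' sX => (h Y' gY q' sY X' gX f' sX).1, ?_⟩
    obtain ⟨Y', gY, q', X', gX, f', sY, sX⟩ := exists_baseChange f q g
    obtain ⟨hu, hi⟩ := h Y' gY q' sY X' gX f' sX
    refine (forall_mem_iff (key sY sX) D).1 fun ξ => ?_
    obtain ⟨x', rfl⟩ := surjective_diagonal_of_univInjective X'.property hi ξ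
    refine ⟨Points.map gX.hom x', ?_, ?_⟩
    · exact (unramAt_baseChange_iff X.property Y.property X'.property Y'.property hf sX x').1
        ((locP_unramified_iff X'.property Y'.property _).1 hu x')
    · rw [← Points.map_comp, ← Points.map_comp, (isPullback_diagonal_baseChange sX).w]
  · rintro ⟨hu, h₂⟩ Y' gY q' sY X' gX f' sX
    refine ⟨hu Y' gY q' sY X' gX f' sX, isUnivInjectiveMor_of_diagonal fun ξ => ?_⟩
    obtain ⟨x, -, hx⟩ := (forall_mem_iff (key sY sX) D).2 h₂ ξ
    obtain ⟨x', -, hx'⟩ := exists_point_of_isPullback (isPullback_diagonal_baseChange sX) hx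
    exact ⟨x', hx'⟩

/-! ### Closed immersions -/

theorem cutOut_closedImmersion (hc : f ≫ q = p) (hp1 : LocP @LocallyOfFiniteType p.hom)
    (hp2 : IsUnivClosedMor p.hom) (hq : IsSeparatedMor q.hom) :
    CutOut (BC f q fun _ _ h => RepWith @IsClosedImmersion h.hom) := by
  have hf := lft_of_lft_comp hc hp1
  have hfc := (univClosed_of_comp_separated X.property Y.property Z.property
    (congr(($hc).hom)) hq hp2).1
  let XX : AlgSp.Space S := ⟨pullback f.hom f.hom, isAlgSpace_pullback X X Y f.hom f.hom⟩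
  let pr0 : XX ⟶ X := ObjectProperty.homMk (pullback.fst f.hom f.hom)
  let pr1 : XX ⟶ X := ObjectProperty.homMk (pullback.snd f.hom f.hom)
  have hp3 : IsClosedMor (pr1 ≫ p).hom := isClosedMor_of_univClosed Z.property
    (isUnivClosedMor_comp X.property Z.property
      (isUnivClosedMor_of_isPullback (IsPullback.of_hasPullback f.hom f.hom) hfc) hp2)
  refine (cutOut_unramified_univInjective hc (IsPullback.of_hasPullback f.hom f.hom) hp1
    (isClosedMor_of_univClosed Z.property hp2) (pr0 := pr0) (pr1 := pr1) hp3).congr fun Z' g => ?_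
  refine forall_congr' fun Y' => forall_congr' fun gY => forall_congr' fun q' => forall_congr' fun sY =>
    forall_congr' fun X' => forall_congr' fun gX => forall_congr' fun f' => forall_congr' fun sX => ?_
  refine (repWith_isClosedImmersion_iff X'.property Y'.property).trans ?_
  have hfc' : IsUnivClosedMor f'.hom := isUnivClosedMor_of_isPullback sX hfc
  have hf' : LocP @LocallyOfFiniteType f'.hom :=
    locP_of_isPullback X.property Y.property Y'.property sX hf
  constructor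
  · rintro ⟨-, -, hm⟩
    exact ⟨unramified_of_mono hf', isUnivInjectiveMor_of_mono⟩
  · rintro ⟨hu, hi⟩
    exact ⟨hfc', hf', mono_of_unramified_univInjective X'.property Y'.property hu hi⟩

/-! ### Flat, flat and surjective -/

theorem locP_flat_iff_forall {A B : Sp S} (hA : IsAlgSpace A) (hB : IsAlgSpace B) (h : A ⟶ B) :
    LocP @Flat h ↔ ∀ x, IsFlatAtMor h x := by
  refine ⟨fun hh x U V a b k u ha hb comm _ => ?_, fun H => ?_⟩
  · have : Flat k.left := hh a b k ha hb comm
    exact Flat.stalkMap k.left u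
  · obtain ⟨U, V, a, b, k, ha, has, hb, -, comm⟩ := exists_charts hA hB h
    exact locP_of_chart hA.diag hB.diag ha has hb comm
      ((Flat.iff_flat_stalkMap _).2 fun u => H _ a b k u ha hb comm rfl)

theorem lfp_of_lfp_comp (hc : f ≫ q = p) (hp : LocP @LocallyOfFinitePresentation p.hom)
    (hq : LocP @LocallyOfFiniteType q.hom) : LocP @LocallyOfFinitePresentation f.hom := by
  rw [show p.hom = f.hom ≫ q.hom from congr(($hc.symm).hom)] at hp
  exact locP_of_comp_of_cancel' (fun _ _ _ a b (h : LocallyOfFinitePresentation (a ≫ b))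
    (h' : LocallyOfFiniteType b) => Groth.SpectralTopology.lfp_of_comp a b)
      X.property Y.property Z.property hp hq

theorem cutOut_flat (hc : f ≫ q = p) (hp1 : LocP @LocallyOfFinitePresentation p.hom)
    (hp2 : LocP @Flat p.hom) (hp3 : IsClosedMor p.hom) (hq : LocP @LocallyOfFiniteType q.hom) :
    CutOut (BC f q fun _ _ h => LocP @Flat h.hom) := by
  have e : p.hom = f.hom ≫ q.hom := congr(($hc.symm).hom)
  rw [e] at hp1 hp2
  refine ⟨Points.map p.hom '' {x | IsFlatAtMor f.hom x}ᶜ, hp3 _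
    (FlatFib.isOpen_flatLocus_space X.property Y.property Z.property hp1 hp2 hq).isClosed_compl,
    fun Z' g => ?_⟩
  have key : ∀ {Y' X' : AlgSp.Space S} {gY : Y' ⟶ Y} {q' : Y' ⟶ Z'} {gX : X' ⟶ X} {f' : X' ⟶ Y'},
      IsPullback gY.hom q'.hom q.hom g.hom → IsPullback gX.hom f'.hom f.hom gY.hom →
      (LocP @Flat f'.hom ↔ ∀ x', Points.map gX.hom x' ∈ {x | IsFlatAtMor f.hom x}) := by
    intro Y' X' gY q' gX f' sY sX
    rw [locP_flat_iff_forall X'.property Y'.property]
    refine forall_congr' fun x' => ?_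
    exact Set.ext_iff.1 (FlatFib.preimage_flatLocus X.property Y.property Z.property hp1 hp2 hq
      X'.property Y'.property Z'.property sY sX) x'
  refine ⟨fun h => ?_, fun h Y' gY q' sY X' gX f' sX => ?_⟩
  · obtain ⟨Y', gY, q', X', gX, f', sY, sX⟩ := exists_baseChange f q g
    exact (forall_mem_iff (outer hc sY sX) _).1 ((key sY sX).1 (h Y' gY q' sY X' gX f' sX))
  · exact (key sY sX).2 ((forall_mem_iff (outer hc sY sX) _).2 h)

theorem isOpen_image_flatLocus (hc : f ≫ q = p) (hp1 : LocP @LocallyOfFinitePresentation p.hom)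
    (hp2 : LocP @Flat p.hom) (hq : LocP @LocallyOfFiniteType q.hom) :
    IsOpen (Points.map f.hom '' {x | IsFlatAtMor f.hom x}) := by
  have hfp := lfp_of_lfp_comp hc hp1 hq
  have e : p.hom = f.hom ≫ q.hom := congr(($hc.symm).hom)
  rw [e] at hp1 hp2
  have hG := FlatFib.isOpen_flatLocus_space X.property Y.property Z.property hp1 hp2 hq
  obtain ⟨U, V, a, b, k, ha, has, hb, -, comm⟩ := exists_charts X.property Y.property f.hom
  have : LocallyOfFinitePresentation k.left := hfp a b k ha hb comm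
  let O : U.left.Opens := ⟨Points.ofPt a ⁻¹' {x | IsFlatAtMor f.hom x},
    (isQuotientMap_ofPt ha has).isOpen_preimage.2 hG⟩
  have : Flat (O.ι ≫ k.left) := (Flat.iff_flat_stalkMap _).2 fun o => by
    rw [Scheme.Hom.stalkMap_comp]
    exact RingHom.Flat.comp
      ((FlatFib.isFlatAtMor_iff_of_chart X.property Y.property ha hb comm (O.ι o)).1 o.2)
      (Flat.stalkMap O.ι o)
  have : IsOpen ((O.ι ≫ k.left) '' Set.univ) := (O.ι ≫ k.left).isOpenMap _ isOpen_univ
  have hb' := isOpenMap_ofPt_of_etale hb _ this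
  convert hb' using 1
  ext y
  constructor
  · rintro ⟨x, hx, rfl⟩
    obtain ⟨u, rfl⟩ := surjective_ofPt_of_repWith has x
    refine ⟨k.left u, ⟨⟨u, hx⟩, trivial, rfl⟩, ?_⟩
    rw [Points.map_ofPt, comm, ofPt_comp_yon]
  · rintro ⟨-, ⟨o, -, rfl⟩, rfl⟩
    refine ⟨Points.ofPt a (O.ι o), o.2, ?_⟩
    rw [Points.map_ofPt, comm, ofPt_comp_yon]
    rfl

theorem cutOut_surjective_flat (hc : f ≫ q = p) (hp1 : LocP @LocallyOfFinitePresentation p.hom)
    (hp2 : LocP @Flat p.hom) (hp3 : IsClosedMor p.hom) (hq : LocP @LocallyOfFiniteType q.hom)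
    (hq2 : IsClosedMor q.hom) :
    CutOut (BC f q fun _ _ h => IsSurjectiveMor h.hom ∧ LocP @Flat h.hom) := by
  obtain ⟨C₁, hC₁, h₁⟩ := cutOut_flat hc hp1 hp2 hp3 hq
  let G := {x | IsFlatAtMor f.hom x}
  refine ⟨C₁ ∪ Points.map q.hom '' (Points.map f.hom '' G)ᶜ,
    hC₁.union (hq2 _ (isOpen_image_flatLocus hc hp1 hp2 hq).isClosed_compl), fun Z' g => ?_⟩
  simp only [Set.mem_union, not_or, forall_and, ← h₁ g]
  have e : p.hom = f.hom ≫ q.hom := congr(($hc.symm).hom)
  rw [e] at hp1 hp2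
  constructor
  · intro h
    refine ⟨fun Y' gY q' sY X' gX f' sX => (h Y' gY q' sY X' gX f' sX).2, ?_⟩
    obtain ⟨Y', gY, q', X', gX, f', sY, sX⟩ := exists_baseChange f q g
    obtain ⟨hs, hfl⟩ := h Y' gY q' sY X' gX f' sX
    refine (forall_mem_iff sY _).1 fun y' => ?_
    obtain ⟨x', rfl⟩ := hs y'
    refine ⟨Points.map gX.hom x', ?_, by rw [← Points.map_comp, ← Points.map_comp, sX.w]⟩
    exact (Set.ext_iff.1 (FlatFib.preimage_flatLocus X.property Y.property Z.property hp1 hp2 hq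
      X'.property Y'.property Z'.property sY sX) x').1
        ((locP_flat_iff_forall X'.property Y'.property _).1 hfl x')
  · rintro ⟨hfl, h₂⟩ Y' gY q' sY X' gX f' sX
    refine ⟨fun y' => ?_, hfl Y' gY q' sY X' gX f' sX⟩
    obtain ⟨x, -, hx⟩ := (forall_mem_iff sY _).2 h₂ y'
    obtain ⟨x', -, hx'⟩ := exists_point_of_isPullback sX hx
    exact ⟨x', hx'⟩

/-! ### Isomorphisms -/

theorem cutOut_isIso (hc : f ≫ q = p) (hp1 : LocP @LocallyOfFinitePresentation p.hom)
    (hp2 : LocP @Flat p.hom) (hp3 : IsUnivClosedMor p.hom) (hq1 : LocP @LocallyOfFiniteType q.hom)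
    (hq2 : IsClosedMor q.hom) (hq3 : IsSeparatedMor q.hom) :
    CutOut (BC f q fun _ _ h => IsIso h.hom) := by
  refine ((cutOut_closedImmersion hc (locP_mono (fun A B k
    (hk : LocallyOfFinitePresentation k) => (inferInstance : LocallyOfFiniteType k)) hp1) hp3 hq3).inter
    (cutOut_surjective_flat hc hp1 hp2 (isClosedMor_of_univClosed Z.property hp3) hq1 hq2)).congr
    fun Z' g => ⟨fun h => ?_, fun ⟨h₁, h₂⟩ Y' gY q' sY X' gX f' sX => ?_⟩
  · constructor <;> intro Y' gY q' sY X' gX f' sX <;> have := h Y' gY q' sY X' gX f' sX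
    · exact repWith_isIso f'.hom
    · refine ⟨fun y => ⟨Points.map (inv f'.hom) y, ?_⟩, locP_of_repWith (repWith_isIso f'.hom)⟩
      rw [← Points.map_comp, IsIso.inv_hom_id, Points.map_id]
  · have hi := h₁ Y' gY q' sY X' gX f' sX
    obtain ⟨hs, hfl⟩ := h₂ Y' gY q' sY X' gX f' sX
    refine isIso_of_repWith (repWith_mono (fun A B k
      (hk : (@IsClosedImmersion ⊓ (@Surjective ⊓ @Flat) : MorphismProperty Scheme.{u}) k) => ?_)
      (repWith_inf_iff.2 ⟨hi, repWith_inf_iff.2 ⟨repWith_surjective_of_points hi.rep hs,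
        repWith_of_locP Y'.property hi.rep hfl⟩⟩))
    have : IsClosedImmersion k := hk.1
    have : Surjective k := hk.2.1
    have : Flat k := hk.2.2
    exact Flat.isIso_of_surjective_of_mono k

end

end Groth.AlgSp2.Where
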